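import Mathlib

set_option autoImplicit false
set_option linter.style.haveILetI false
set_option linter.unusedVariables false
set_option linter.unusedSectionVars false

open IsLocalRing TensorProduct

/-! helper7: tensor product of a local integral algebra with purely inseparable residue field
with another local algebra is a local ring. -/

namespace Groth.Agent.Helper7.TensorPInsep

universe u

theorem nontrivial_of_ringHoms {R A B W : Type*} [CommRing R] [CommRing A] [CommRing B]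
    [CommRing W] [Nontrivial W] [Algebra R A] [Algebra R B] (f : A →+* W) (g : B →+* W)
    (h : ∀ r, f (algebraMap R A r) = g (algebraMap R B r)) : Nontrivial (A ⊗[R] B) := by
  letI : Algebra R W := (f.comp (algebraMap R A)).toAlgebra
  let F : A ⊗[R] B →ₐ[R] W :=
    Algebra.TensorProduct.lift (⟨f, fun r => rfl⟩ : A →ₐ[R] W)
      (⟨g, fun r => (h r).symm⟩ : B →ₐ[R] W) (fun _ _ => Commute.all _ _)
  exact F.toRingHom.domain_nontrivial

section

variable (R A B : Type u) [CommRing R] [IsLocalRing R]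
    [CommRing A] [IsLocalRing A] [Algebra R A] [IsLocalHom (algebraMap R A)]
    [CommRing B] [IsLocalRing B] [Algebra R B] [IsLocalHom (algebraMap R B)]

/-- The ideal of the tensor product generated by the two maximal ideals. -/
noncomputable def J : Ideal (A ⊗[R] B) :=
  (maximalIdeal A).map (Algebra.TensorProduct.includeLeft : A →ₐ[R] A ⊗[R] B).toRingHom ⊔
    (maximalIdeal B).map (Algebra.TensorProduct.includeRight : B →ₐ[R] A ⊗[R] B).toRingHom

theorem left_mem_J {a : A} (ha : a ∈ maximalIdeal A) (b : B) : a ⊗ₜ[R] b ∈ J R A B := by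
  have h1 : a ⊗ₜ[R] b = (a ⊗ₜ[R] (1 : B)) * ((1 : A) ⊗ₜ[R] b) := by simp
  rw [h1]
  apply Ideal.mul_mem_right
  exact Ideal.mem_sup_left (Ideal.mem_map_of_mem _ ha)

theorem right_mem_J (a : A) {b : B} (hb : b ∈ maximalIdeal B) : a ⊗ₜ[R] b ∈ J R A B := by
  have h1 : a ⊗ₜ[R] b = (a ⊗ₜ[R] (1 : B)) * ((1 : A) ⊗ₜ[R] b) := by simp
  rw [h1]
  apply Ideal.mul_mem_left
  exact Ideal.mem_sup_right (Ideal.mem_map_of_mem _ hb)

theorem isIntegral_includeRight [Algebra.IsIntegral R A] :
    (Algebra.TensorProduct.includeRight : B →ₐ[R] A ⊗[R] B).toRingHom.IsIntegral := by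
  have h1 : (algebraMap B (B ⊗[R] A)).IsIntegral :=
    algebraMap_isIntegral_iff.mpr inferInstance
  have h2 : ((Algebra.TensorProduct.comm R B A : B ⊗[R] A ≃ₐ[R] A ⊗[R] B) :
      B ⊗[R] A →+* A ⊗[R] B).IsIntegral :=
    RingHom.isIntegral_of_surjective _ (Algebra.TensorProduct.comm R B A).surjective
  have h3 := RingHom.IsIntegral.trans _ _ h1 h2
  have e : (Algebra.TensorProduct.includeRight : B →ₐ[R] A ⊗[R] B).toRingHom =
      ((Algebra.TensorProduct.comm R B A : B ⊗[R] A ≃ₐ[R] A ⊗[R] B) :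
        B ⊗[R] A →+* A ⊗[R] B).comp (algebraMap B (B ⊗[R] A)) := by
    ext b
    simp
  rw [e]
  exact h3

theorem nontrivial_tensor : Nontrivial (A ⊗[R] B) := by
  let W := ResidueField A ⊗[ResidueField R] ResidueField B
  haveI : Nontrivial W := inferInstance
  let f : A →+* W :=
    (Algebra.TensorProduct.includeLeft : ResidueField A →ₐ[ResidueField R] W).toRingHom.comp
      (residue A)
  let g : B →+* W :=
    (Algebra.TensorProduct.includeRight : ResidueField B →ₐ[ResidueField R] W).toRingHom.comp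
      (residue B)
  have h : ∀ r : R, f (algebraMap R A r) = g (algebraMap R B r) := by
    intro r
    show (residue A (algebraMap R A r)) ⊗ₜ[ResidueField R] (1 : ResidueField B) =
      (1 : ResidueField A) ⊗ₜ[ResidueField R] (residue B (algebraMap R B r))
    have e1 : residue A (algebraMap R A r) =
        algebraMap (ResidueField R) (ResidueField A) (residue R r) := rfl
    have e2 : residue B (algebraMap R B r) =
        algebraMap (ResidueField R) (ResidueField B) (residue R r) := rfl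
    rw [e1, e2, Algebra.algebraMap_eq_smul_one, Algebra.algebraMap_eq_smul_one,
      TensorProduct.smul_tmul]
  exact nontrivial_of_ringHoms f g h

theorem comap_includeRight_of_isMaximal [Algebra.IsIntegral R A] (M : Ideal (A ⊗[R] B))
    [hM : M.IsMaximal] :
    M.comap (Algebra.TensorProduct.includeRight : B →ₐ[R] A ⊗[R] B).toRingHom =
      maximalIdeal B := by
  have := Ideal.isMaximal_comap_of_isIntegral_of_isMaximal' _ (isIntegral_includeRight R A B) M
  exact IsLocalRing.eq_maximalIdeal this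

theorem comap_includeLeft_of_isMaximal [Algebra.IsIntegral R A] (M : Ideal (A ⊗[R] B))
    [hM : M.IsMaximal] :
    M.comap (Algebra.TensorProduct.includeLeft : A →ₐ[R] A ⊗[R] B).toRingHom =
      maximalIdeal A := by
  have h1 : (M.comap (Algebra.TensorProduct.includeLeft : A →ₐ[R] A ⊗[R] B).toRingHom).comap
      (algebraMap R A) = maximalIdeal R := by
    rw [Ideal.comap_comap]
    have e : ((Algebra.TensorProduct.includeLeft : A →ₐ[R] A ⊗[R] B).toRingHom).comp
        (algebraMap R A) = ((Algebra.TensorProduct.includeRight :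
          B →ₐ[R] A ⊗[R] B).toRingHom).comp (algebraMap R B) := by
      ext r
      simp only [RingHom.comp_apply, AlgHom.toRingHom_eq_coe, RingHom.coe_coe, AlgHom.commutes]
    rw [e, ← Ideal.comap_comap, comap_includeRight_of_isMaximal R A B M]
    have hT := (IsLocalRing.local_hom_TFAE (algebraMap R B)).out 0 4
    exact hT.mp inferInstance
  haveI : (M.comap (Algebra.TensorProduct.includeLeft : A →ₐ[R] A ⊗[R] B).toRingHom).IsPrime :=
    Ideal.comap_isPrime _ _
  have h2 : ((M.comap (Algebra.TensorProduct.includeLeft :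
      A →ₐ[R] A ⊗[R] B).toRingHom).comap (algebraMap R A)).IsMaximal := by
    rw [h1]; infer_instance
  have := Ideal.isMaximal_of_isIntegral_of_isMaximal_comap _ h2
  exact IsLocalRing.eq_maximalIdeal this

theorem J_le_of_isMaximal [Algebra.IsIntegral R A] (M : Ideal (A ⊗[R] B)) [hM : M.IsMaximal] :
    J R A B ≤ M := by
  rw [J, sup_le_iff, Ideal.map_le_iff_le_comap, Ideal.map_le_iff_le_comap,
    comap_includeLeft_of_isMaximal, comap_includeRight_of_isMaximal]
  exact ⟨le_rfl, le_rfl⟩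

theorem natCast_mem_J (P : ℕ) [CharP (ResidueField B) P] : ((P : ℕ) : A ⊗[R] B) ∈ J R A B := by
  have h1 : ((P : ℕ) : B) ∈ maximalIdeal B := by
    rw [← residue_eq_zero_iff, map_natCast]
    exact CharP.cast_eq_zero _ _
  have h2 : ((P : ℕ) : A ⊗[R] B) = (1 : A) ⊗ₜ[R] ((P : ℕ) : B) := by
    have := map_natCast (Algebra.TensorProduct.includeRight : B →ₐ[R] A ⊗[R] B) P
    rw [← this]
    rfl
  rw [h2]
  exact right_mem_J R A B 1 h1

theorem exists_pow_sub_mem_J (P : ℕ) [hP : ExpChar (ResidueField B) P]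
    [IsPurelyInseparable (ResidueField R) (ResidueField A)] (x : A ⊗[R] B) :
    ∃ n₀ : ℕ, ∀ n ≥ n₀, ∃ b : B, x ^ P ^ n - (1 : A) ⊗ₜ[R] b ∈ J R A B := by
  induction x using TensorProduct.induction_on with
  | zero =>
    refine ⟨0, fun n _ => ⟨0, ?_⟩⟩
    have hpos : P ^ n ≠ 0 := pow_ne_zero _ (expChar_ne_zero (ResidueField B) P)
    rw [zero_pow hpos, tmul_zero, sub_zero]
    exact zero_mem _
  | tmul a c =>
    haveI : ExpChar (ResidueField R) P :=
      RingHom.expChar (algebraMap (ResidueField R) (ResidueField B))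
        (algebraMap (ResidueField R) (ResidueField B)).injective P
    obtain ⟨n₀, rbar, hr⟩ := IsPurelyInseparable.pow_mem (ResidueField R) P (residue A a)
    obtain ⟨r, rfl⟩ := residue_surjective rbar
    have h0 : a ^ P ^ n₀ - algebraMap R A r ∈ maximalIdeal A := by
      rw [← residue_eq_zero_iff, map_sub, map_pow, ← hr, sub_eq_zero]
      rfl
    refine ⟨n₀, fun n hn => ?_⟩
    obtain ⟨k, rfl⟩ := Nat.exists_eq_add_of_le hn
    have h1 : a ^ P ^ (n₀ + k) - algebraMap R A (r ^ P ^ k) ∈ maximalIdeal A := by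
      rw [pow_add, pow_mul, map_pow]
      exact Ideal.mem_of_dvd _ (sub_dvd_pow_sub_pow _ _ _) h0
    refine ⟨(r ^ P ^ k) • (c ^ P ^ (n₀ + k)), ?_⟩
    have h2 : (a ⊗ₜ[R] c) ^ P ^ (n₀ + k) - (1 : A) ⊗ₜ[R] ((r ^ P ^ k) • (c ^ P ^ (n₀ + k))) =
        (a ^ P ^ (n₀ + k) - algebraMap R A (r ^ P ^ k)) ⊗ₜ[R] (c ^ P ^ (n₀ + k)) := by
      rw [Algebra.TensorProduct.tmul_pow, sub_tmul, Algebra.algebraMap_eq_smul_one, smul_tmul]
    rw [h2]
    exact left_mem_J R A B h1 _
  | add x y hx hy =>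
    obtain ⟨n₁, h₁⟩ := hx
    obtain ⟨n₂, h₂⟩ := hy
    refine ⟨max n₁ n₂, fun n hn => ?_⟩
    obtain ⟨b₁, hb₁⟩ := h₁ n (le_trans (le_max_left _ _) hn)
    obtain ⟨b₂, hb₂⟩ := h₂ n (le_trans (le_max_right _ _) hn)
    refine ⟨b₁ + b₂, ?_⟩
    cases hP with
    | zero =>
      simp only [one_pow, pow_one] at hb₁ hb₂ ⊢
      have : x + y - (1 : A) ⊗ₜ[R] (b₁ + b₂) = (x - 1 ⊗ₜ[R] b₁) + (y - 1 ⊗ₜ[R] b₂) := by
        rw [tmul_add]; ring
      rw [this]
      exact add_mem hb₁ hb₂
    | prime hprime =>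
      obtain ⟨r, hr⟩ := exists_add_pow_prime_pow_eq hprime x y n
      have : (x + y) ^ P ^ n - (1 : A) ⊗ₜ[R] (b₁ + b₂) =
          (x ^ P ^ n - 1 ⊗ₜ[R] b₁) + (y ^ P ^ n - 1 ⊗ₜ[R] b₂) + (P : A ⊗[R] B) * (x * y * r) := by
        rw [hr, tmul_add]; ring
      rw [this]
      exact add_mem (add_mem hb₁ hb₂) (Ideal.mul_mem_right _ _ (natCast_mem_J R A B P))

section assembly

variable [Algebra.IsIntegral R A] [IsPurelyInseparable (ResidueField R) (ResidueField A)]

theorem exists_pow_mem_J_of_not_isUnit (P : ℕ) [hP : ExpChar (ResidueField B) P]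
    {x : A ⊗[R] B} (hx : ¬ IsUnit x) : ∃ n : ℕ, x ^ P ^ n ∈ J R A B := by
  obtain ⟨M, hM, hxM⟩ := exists_max_ideal_of_mem_nonunits (mem_nonunits_iff.mpr hx)
  obtain ⟨n₀, h⟩ := exists_pow_sub_mem_J R A B P x
  obtain ⟨b, hb⟩ := h n₀ le_rfl
  refine ⟨n₀, ?_⟩
  have h1 : (1 : A) ⊗ₜ[R] b ∈ M := by
    have h2 : x ^ P ^ n₀ ∈ M := Ideal.pow_mem_of_mem _ hxM _
      (Nat.pos_of_ne_zero (pow_ne_zero _ (expChar_ne_zero (ResidueField B) P)))
    have h3 := sub_mem h2 (J_le_of_isMaximal R A B M hb)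
    rwa [sub_sub_cancel] at h3
  have h4 : b ∈ maximalIdeal B := by
    rw [← comap_includeRight_of_isMaximal R A B M]
    exact h1
  have h5 := add_mem hb (right_mem_J R A B 1 h4)
  rwa [sub_add_cancel] at h5

theorem isLocalRing_tensor : IsLocalRing (A ⊗[R] B) := by
  haveI : Nontrivial (A ⊗[R] B) := nontrivial_tensor R A B
  apply IsLocalRing.of_nonunits_add
  intro x y hx hy
  rw [mem_nonunits_iff] at hx hy ⊢
  intro hxy
  obtain ⟨M, hM⟩ := Ideal.exists_maximal (A ⊗[R] B)
  obtain ⟨n, hn⟩ := exists_pow_mem_J_of_not_isUnit R A B (ringExpChar (ResidueField B)) hx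
  obtain ⟨m, hm⟩ := exists_pow_mem_J_of_not_isUnit R A B (ringExpChar (ResidueField B)) hy
  have hxM : x ∈ M := hM.isPrime.mem_of_pow_mem _ (J_le_of_isMaximal R A B M hn)
  have hyM : y ∈ M := hM.isPrime.mem_of_pow_mem _ (J_le_of_isMaximal R A B M hm)
  exact hM.ne_top (Ideal.eq_top_of_isUnit_mem _ (add_mem hxM hyM) hxy)

theorem J_le_maximalIdeal [IsLocalRing (A ⊗[R] B)] : J R A B ≤ maximalIdeal (A ⊗[R] B) :=
  J_le_of_isMaximal R A B _

theorem isLocalHom_includeRight [IsLocalRing (A ⊗[R] B)] :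
    IsLocalHom (Algebra.TensorProduct.includeRight : B →ₐ[R] A ⊗[R] B).toRingHom := by
  constructor
  intro b hb
  by_contra hnb
  have h1 : b ∈ maximalIdeal B := (mem_maximalIdeal b).mpr hnb
  have h2 : (1 : A) ⊗ₜ[R] b ∈ maximalIdeal (A ⊗[R] B) :=
    J_le_maximalIdeal R A B (right_mem_J R A B 1 h1)
  exact ((mem_maximalIdeal _).mp h2) hb

theorem isLocalHom_includeLeft [IsLocalRing (A ⊗[R] B)] :
    IsLocalHom (Algebra.TensorProduct.includeLeft : A →ₐ[R] A ⊗[R] B).toRingHom := by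
  constructor
  intro a ha
  by_contra hna
  have h1 : a ∈ maximalIdeal A := (mem_maximalIdeal a).mpr hna
  have h2 : a ⊗ₜ[R] (1 : B) ∈ maximalIdeal (A ⊗[R] B) :=
    J_le_maximalIdeal R A B (left_mem_J R A B h1 1)
  exact ((mem_maximalIdeal _).mp h2) ha

theorem S13198_main :
    ∃ _ : IsLocalRing (A ⊗[R] B),
      IsLocalHom (Algebra.TensorProduct.includeRight : B →ₐ[R] A ⊗[R] B).toRingHom ∧
      ∀ x : A ⊗[R] B, ∃ (n : ℕ) (b : B),
        x ^ (ringExpChar (IsLocalRing.ResidueField B)) ^ n - (1 : A) ⊗ₜ[R] b ∈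
          IsLocalRing.maximalIdeal (A ⊗[R] B) := by
  haveI hloc : IsLocalRing (A ⊗[R] B) := isLocalRing_tensor R A B
  refine ⟨hloc, isLocalHom_includeRight R A B, fun x => ?_⟩
  obtain ⟨n₀, h⟩ := exists_pow_sub_mem_J R A B (ringExpChar (ResidueField B)) x
  obtain ⟨b, hb⟩ := h n₀ le_rfl
  exact ⟨n₀, b, J_le_maximalIdeal R A B hb⟩

end assembly

end

end Groth.Agent.Helper7.TensorPInsep
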