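import Mathlib

set_option autoImplicit false
open CategoryTheory CategoryTheory.Limits AlgebraicGeometry Opposite TopologicalSpace TensorProduct
universe u

/-! helper7: descent along flat surjective (not necessarily quasi-compact) morphisms: flatness
(stalkwise), surjectivity, monomorphisms, and isomorphisms for quasi-compact morphisms. -/

namespace Groth.Agent.Helper7.FlatDescNQ

theorem flat_of_comp_of_faithfullyFlat (A B C : Type u) [CommRing A] [CommRing B] [CommRing C]
    [Algebra A B] [Algebra B C] [Algebra A C] [IsScalarTower A B C]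
    [Module.FaithfullyFlat B C] [Module.Flat A C] : Module.Flat A B := by
  rw [Module.Flat.iff_lTensor_preserves_injective_linearMap]
  intro N P _ _ _ _ f hf
  have h1 : Function.Injective (f.baseChange B) := by
    rw [← Module.FaithfullyFlat.lTensor_injective_iff_injective B C]
    have h2 : Function.Injective (LinearMap.lTensor C f) :=
      Module.Flat.lTensor_preserves_injective_linearMap f hf
    have h3 : ∀ x, AlgebraTensorModule.cancelBaseChange A B C C P
        (LinearMap.lTensor C (f.baseChange B) x) =
        LinearMap.lTensor C f (AlgebraTensorModule.cancelBaseChange A B C C N x) := by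
      intro x
      induction x using TensorProduct.induction_on with
      | zero => simp
      | add x y hx hy => simp only [map_add, hx, hy]
      | tmul c y =>
        induction y using TensorProduct.induction_on with
        | zero => simp
        | add x y hx hy => simp only [tmul_add, map_add, hx, hy]
        | tmul b n => simp
    intro x y hxy
    have h4 := congrArg (AlgebraTensorModule.cancelBaseChange A B C C P) hxy
    rw [h3, h3] at h4
    exact (AlgebraTensorModule.cancelBaseChange A B C C N).injective (h2 h4)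
  exact h1

theorem ringHom_flat_of_comp {A B C : Type u} [CommRing A] [CommRing B] [CommRing C]
    (φ : A →+* B) (ψ : B →+* C) (hψ : ψ.FaithfullyFlat) (h : (ψ.comp φ).Flat) : φ.Flat := by
  algebraize [φ, ψ, ψ.comp φ]
  exact flat_of_comp_of_faithfullyFlat A B C

theorem flat_comp_cat {R S T : CommRingCat.{u}} (a : R ⟶ S) (b : S ⟶ T) (ha : a.hom.Flat)
    (hb : b.hom.Flat) : (a ≫ b).hom.Flat := RingHom.Flat.comp ha hb

theorem faithfullyFlat_stalkMap {X Y : Scheme.{u}} (f : X ⟶ Y) [Flat f] (x : X) :
    (f.stalkMap x).hom.FaithfullyFlat := by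
  algebraize [(f.stalkMap x).hom]
  exact @Module.FaithfullyFlat.of_flat_of_isLocalHom _ _ _ _ _ _ _
      (Flat.stalkMap f x) (f.toLRSHom.prop x)

theorem flat_of_pullback_snd {X Y Y' : Scheme.{u}} (f : X ⟶ Y) (g : Y' ⟶ Y) [Flat g]
    [Surjective g] [Flat (pullback.snd f g)] : Flat f := by
  rw [Flat.iff_flat_stalkMap]
  intro x
  obtain ⟨y', hy'⟩ := g.surjective (f.base x)
  obtain ⟨z, rfl, rfl⟩ := Scheme.Pullback.exists_preimage_pullback x y' hy'.symm
  have h1 := Scheme.Hom.stalkMap_comp (pullback.fst f g) f z
  have h2 := Scheme.Hom.stalkMap_comp (pullback.snd f g) g z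
  have h3 := Scheme.Hom.stalkMap_congr_hom _ _ (pullback.condition (f := f) (g := g)) z
  rw [h1, h2] at h3
  refine ringHom_flat_of_comp _ ((pullback.fst f g).stalkMap z).hom
    (faithfullyFlat_stalkMap _ z) ?_
  have h4 : ((pullback.fst f g).stalkMap z).hom.comp (f.stalkMap ((pullback.fst f g).base z)).hom =
      (f.stalkMap ((pullback.fst f g).base z) ≫ (pullback.fst f g).stalkMap z).hom := rfl
  rw [h4, h3]
  refine flat_comp_cat _ _ ?_ (flat_comp_cat _ _ (Flat.stalkMap g _) (Flat.stalkMap _ z))
  exact RingHom.Flat.of_bijective (ConcreteCategory.bijective_of_isIso _)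

theorem surjective_of_pullback_snd {X Y Y' : Scheme.{u}} (f : X ⟶ Y) (g : Y' ⟶ Y)
    [Surjective g] [Surjective (pullback.snd f g)] : Surjective f := by
  refine ⟨fun y => ?_⟩
  obtain ⟨y', rfl⟩ := g.surjective y
  obtain ⟨z, rfl⟩ := (pullback.snd f g).surjective y'
  refine ⟨(pullback.fst f g).base z, ?_⟩
  rw [← Scheme.Hom.comp_apply, pullback.condition, Scheme.Hom.comp_apply]

theorem mono_of_pullback_snd {X Y Y' : Scheme.{u}} (f : X ⟶ Y) (g : Y' ⟶ Y) [Flat g]
    [Surjective g] [Mono (pullback.snd f g)] : Mono f := by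
  refine ⟨fun {T} a b hab => ?_⟩
  have : Epi (pullback.fst (a ≫ f) g) := Flat.epi_of_flat_of_surjective _
  rw [← cancel_epi (pullback.fst (a ≫ f) g)]
  let a' : pullback (a ≫ f) g ⟶ pullback f g :=
    pullback.lift (pullback.fst (a ≫ f) g ≫ a) (pullback.snd (a ≫ f) g)
      (by rw [Category.assoc, pullback.condition])
  let b' : pullback (a ≫ f) g ⟶ pullback f g :=
    pullback.lift (pullback.fst (a ≫ f) g ≫ b) (pullback.snd (a ≫ f) g)
      (by rw [Category.assoc, ← hab, pullback.condition])
  have hab' : a' = b' := by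
    rw [← cancel_mono (pullback.snd f g)]
    simp only [a', b', pullback.lift_snd]
  have h1 : a' ≫ pullback.fst f g = pullback.fst (a ≫ f) g ≫ a := pullback.lift_fst _ _ _
  have h2 : b' ≫ pullback.fst f g = pullback.fst (a ≫ f) g ≫ b := pullback.lift_fst _ _ _
  rw [← h1, ← h2, hab']

theorem main13710 {X Y Y' : Scheme.{u}} (f : X ⟶ Y) (g : Y' ⟶ Y) [Flat g] [Surjective g] :
    IsIso f ↔ QuasiCompact f ∧ IsIso (pullback.snd f g) := by
  constructor
  · intro h
    exact ⟨inferInstance, inferInstance⟩
  · rintro ⟨hqc, hiso⟩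
    have h1 : Flat f := flat_of_pullback_snd f g
    have h2 : Surjective f := surjective_of_pullback_snd f g
    have h3 : Mono f := mono_of_pullback_snd f g
    exact Flat.isIso_of_surjective_of_mono f

end Groth.Agent.Helper7.FlatDescNQ
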