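import Mathlib
import Groth.Agent.Lib.Helper7.FlatDescNQ

set_option autoImplicit false
open CategoryTheory CategoryTheory.Limits AlgebraicGeometry Opposite TopologicalSpace
universe u

/-! helper7: descent of affineness of a quasi-compact quasi-separated morphism along a flat
surjective (not necessarily quasi-compact) morphism, via flat base change of global sections
and the canonical morphism to the spectrum of global sections. -/

namespace Groth.Agent.Helper7.AffDesc

theorem isIso_of_openCover {X Z Z' : Scheme.{u}} (c : X ⟶ Z) (g₁ : Z' ⟶ Z) [Flat g₁]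
    [Surjective g₁] [QuasiCompact c] (𝒰 : Z'.OpenCover)
    (h : ∀ i, IsIso (pullback.snd c (𝒰.f i ≫ g₁))) : IsIso c := by
  rw [FlatDescNQ.main13710 c g₁]
  refine ⟨inferInstance, ?_⟩
  change MorphismProperty.isomorphisms Scheme _
  rw [IsZariskiLocalAtTarget.iff_of_openCover (P := MorphismProperty.isomorphisms Scheme) 𝒰]
  intro i
  change IsIso (pullback.snd (pullback.snd c g₁) (𝒰.f i))
  have := h i
  rw [← pullbackLeftPullbackSndIso_hom_snd]
  infer_instance

theorem appLE_top_top {X Y : Scheme.{u}} (f : X ⟶ Y) (h : (⊤ : X.Opens) ≤ f ⁻¹ᵁ ⊤) :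
    f.appLE ⊤ ⊤ h = f.appTop := by
  simp [Scheme.Hom.appLE]

theorem isPushout_appTop_of_flat {X Y V : Scheme.{u}} [IsAffine Y] [IsAffine V] (f : X ⟶ Y)
    (k : V ⟶ Y) [Flat k] [QuasiCompact f] [QuasiSeparated f] :
    IsPushout f.appTop k.appTop (pullback.fst f k).appTop (pullback.snd f k).appTop := by
  have hXc : CompactSpace X := (quasiCompact_iff_compactSpace f).mp inferInstance
  have hXqs : QuasiSeparatedSpace X := quasiSeparatedSpace_of_quasiSeparated f
  have H := IsPullback.of_hasPullback f k
  have h1 : IsIso (pushoutSection H (US := ⊤) (UT := ⊤) (UX := ⊤) (UY := ⊤) le_top le_top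
      (by simp)) :=
    isIso_pushoutSection_of_isQuasiSeparated_of_flat_right H _ _ _ (isAffineOpen_top Y)
      (isAffineOpen_top V) isCompact_univ (isQuasiSeparated_univ_iff.mpr hXqs)
  rw [isIso_pushoutSection_iff] at h1
  simpa only [appLE_top_top] using h1


theorem isIso_map_of_affine {X Y V : Scheme.{u}} [IsAffine Y] [IsAffine V] (f : X ⟶ Y)
    (k : V ⟶ Y) [Flat k] [QuasiCompact f] [QuasiSeparated f] [IsAffine (pullback f k)]
    (h : Spec Γ(X, ⊤) ⟶ Y) (hf : X.toSpecΓ ≫ h = f) :
    IsIso (pullback.map f k h k X.toSpecΓ (𝟙 V) (𝟙 Y) (by rw [hf, Category.comp_id])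
      (by simp)) := by
  have hc : IsIso X.toSpecΓ.appTop := by
    rw [Scheme.toSpecΓ_appTop]; infer_instance
  have P1 := isPushout_appTop_of_flat f k
  have P' := isPushout_appTop_of_isPullback (IsPullback.of_hasPullback h k)
  have hfa : f.appTop = h.appTop ≫ X.toSpecΓ.appTop := by
    rw [← Scheme.Hom.comp_appTop, hf]
  have P2 : IsPushout h.appTop k.appTop (X.toSpecΓ.appTop ≫ (pullback.fst f k).appTop)
      (pullback.snd f k).appTop := by
    refine P1.of_iso (Iso.refl _) (asIso X.toSpecΓ.appTop).symm (Iso.refl _) (Iso.refl _)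
      ?_ ?_ ?_ ?_
    · simp [hfa]
    · simp
    · simp
    · simp
  set b := pullback.map f k h k X.toSpecΓ (𝟙 V) (𝟙 Y) (by rw [hf, Category.comp_id])
      (by simp) with hb
  have hb1 : b ≫ pullback.fst h k = pullback.fst f k ≫ X.toSpecΓ := by
    rw [hb]; exact pullback.lift_fst _ _ _
  have hb2 : b ≫ pullback.snd h k = pullback.snd f k := by
    rw [hb, pullback.map]; rw [pullback.lift_snd, Category.comp_id]
  have heq : b.appTop = (P'.isoIsPushout _ _ P2).hom := by
    apply P'.hom_ext
    · rw [IsPushout.inl_isoIsPushout_hom, ← Scheme.Hom.comp_appTop, hb1,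
        Scheme.Hom.comp_appTop]
    · rw [IsPushout.inr_isoIsPushout_hom, ← Scheme.Hom.comp_appTop, hb2]
  have hbi : IsIso b.appTop := by rw [heq]; infer_instance
  have : MorphismProperty.isomorphisms Scheme b := by
    rw [HasAffineProperty.iff_of_isAffine (P := MorphismProperty.isomorphisms Scheme)]
    exact ⟨inferInstance, hbi⟩
  exact this

theorem isIso_snd_of_affine {X Y V : Scheme.{u}} [IsAffine Y] [IsAffine V] (f : X ⟶ Y)
    (k : V ⟶ Y) [Flat k] [QuasiCompact f] [QuasiSeparated f] [IsAffine (pullback f k)]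
    (h : Spec Γ(X, ⊤) ⟶ Y) (hf : X.toSpecΓ ≫ h = f) :
    IsIso (pullback.snd X.toSpecΓ (pullback.fst h k)) := by
  have hbi := isIso_map_of_affine f k h hf
  set b := pullback.map f k h k X.toSpecΓ (𝟙 V) (𝟙 Y) (by rw [hf, Category.comp_id])
      (by simp) with hb
  have hb1 : b ≫ pullback.fst h k = pullback.fst f k ≫ X.toSpecΓ := by
    rw [hb]; exact pullback.lift_fst _ _ _
  have hb2 : b ≫ pullback.snd h k = pullback.snd f k := by
    rw [hb, pullback.map]; rw [pullback.lift_snd, Category.comp_id]
  have t : IsPullback (pullback.snd h k) (pullback.fst h k) k h :=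
    (IsPullback.of_hasPullback h k).flip
  have o : IsPullback (b ≫ pullback.snd h k) (pullback.fst f k) k (X.toSpecΓ ≫ h) := by
    rw [hb2, hf]
    exact (IsPullback.of_hasPullback f k).flip
  have sq : IsPullback (pullback.fst f k) b X.toSpecΓ (pullback.fst h k) :=
    (IsPullback.of_right o hb1 t).flip
  have : pullback.snd X.toSpecΓ (pullback.fst h k) = sq.isoPullback.inv ≫ b := by
    rw [Iso.eq_inv_comp, IsPullback.isoPullback_hom_snd]
  rw [this]
  infer_instance

theorem isAffine_of_affine_base {X Y Y' : Scheme.{u}} [IsAffine Y] (f : X ⟶ Y) (g : Y' ⟶ Y)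
    [Flat g] [Surjective g] [QuasiCompact f] [QuasiSeparated f]
    [IsAffineHom (pullback.snd f g)] : IsAffine X := by
  let h : Spec Γ(X, ⊤) ⟶ Y := Spec.map f.appTop ≫ Y.isoSpec.inv
  have hf : X.toSpecΓ ≫ h = f := by
    change X.toSpecΓ ≫ Spec.map f.appTop ≫ Y.isoSpec.inv = f
    rw [← Category.assoc, ← Scheme.toSpecΓ_naturality, Category.assoc]
    have : Y.toSpecΓ ≫ Y.isoSpec.inv = 𝟙 Y := Y.isoSpec.hom_inv_id
    rw [this, Category.comp_id]
  have hXc : CompactSpace X := (quasiCompact_iff_compactSpace f).mp inferInstance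
  have hcqc : QuasiCompact X.toSpecΓ := (quasiCompact_iff_compactSpace _).mpr hXc
  have : IsIso X.toSpecΓ := by
    refine isIso_of_openCover X.toSpecΓ (pullback.fst h g)
      (Scheme.Pullback.openCoverOfRight Y'.affineCover h g) ?_
    intro (i : Y'.affineCover.I₀)
    have e1 : (Scheme.Pullback.openCoverOfRight Y'.affineCover h g).f i ≫ pullback.fst h g =
        pullback.fst h (Y'.affineCover.f i ≫ g) := by
      exact (pullback.lift_fst _ _ _).trans (Category.comp_id _)
    rw [e1]
    have : IsAffine (pullback f (Y'.affineCover.f i ≫ g)) :=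
      .of_isIso (pullbackLeftPullbackSndIso f g (Y'.affineCover.f i)).inv
    exact isIso_snd_of_affine f (Y'.affineCover.f i ≫ g) h hf
  exact .of_isIso X.toSpecΓ

set_option backward.isDefEq.respectTransparency false in
theorem isAffineHom_fst_of_cover {X Y Y' U : Scheme.{u}} (c : Y' ⟶ Y) (f : X ⟶ Y) (ι : U ⟶ Y)
    (hf : IsAffineHom (pullback.fst c f)) :
    IsAffineHom (pullback.fst (pullback.snd c ι) (pullback.snd f ι)) := by
  let e : pullback (pullback.snd c ι) (pullback.snd f ι) ≅
      pullback (pullback.fst c f) (pullback.fst c ι) :=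
    pullbackLeftPullbackSndIso c ι (pullback.snd f ι) ≪≫
      pullback.congrHom rfl pullback.condition.symm ≪≫
      (pullbackAssoc c f f ι).symm ≪≫ pullback.congrHom pullback.condition.symm rfl ≪≫
      (pullbackRightPullbackFstIso c ι (pullback.fst c f)).symm
  have heq : e.hom ≫ pullback.snd (pullback.fst c f) (pullback.fst c ι) =
      pullback.fst (pullback.snd c ι) (pullback.snd f ι) := by
    apply pullback.hom_ext <;> simp [e, pullback.condition]
  rw [← heq]
  have : IsAffineHom (pullback.snd (pullback.fst c f) (pullback.fst c ι)) :=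
    MorphismProperty.pullback_snd _ _ hf
  infer_instance

theorem main13711 {X Y Y' : Scheme.{u}} (f : X ⟶ Y) (g : Y' ⟶ Y) [Flat g] [Surjective g] :
    IsAffineHom f ↔ QuasiCompact f ∧ QuasiSeparated f ∧ IsAffineHom (pullback.snd f g) := by
  constructor
  · intro h
    exact ⟨inferInstance, inferInstance, MorphismProperty.pullback_snd _ _ h⟩
  · rintro ⟨h1, h2, h3⟩
    rw [IsZariskiLocalAtTarget.iff_of_openCover (P := @IsAffineHom) Y.affineCover]
    intro i
    change IsAffineHom (pullback.snd f (Y.affineCover.f i))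
    have hfst : IsAffineHom (pullback.fst g f) := by
      rw [← pullbackSymmetry_hom_comp_snd]
      infer_instance
    have h4 := isAffineHom_fst_of_cover g f (Y.affineCover.f i) hfst
    have h5 : IsAffineHom (pullback.snd (pullback.snd f (Y.affineCover.f i))
        (pullback.snd g (Y.affineCover.f i))) := by
      have e5 : pullback.snd (pullback.snd f (Y.affineCover.f i))
          (pullback.snd g (Y.affineCover.f i)) = (pullbackSymmetry _ _).hom ≫
          pullback.fst (pullback.snd g (Y.affineCover.f i))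
            (pullback.snd f (Y.affineCover.f i)) := (pullbackSymmetry_hom_comp_fst _ _).symm
      rw [e5]
      infer_instance
    rw [HasAffineProperty.iff_of_isAffine (P := @IsAffineHom)]
    exact isAffine_of_affine_base (pullback.snd f (Y.affineCover.f i))
      (pullback.snd g (Y.affineCover.f i))

end Groth.Agent.Helper7.AffDesc


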