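import Mathlib
import Groth.Prelude.Def_MeroSh

set_option autoImplicit false
open CategoryTheory CategoryTheory.Limits AlgebraicGeometry Opposite TopologicalSpace
universe u

/-! helper7: regular sections over an affine open are the nonzerodivisors (S12513). -/

namespace Groth.Agent.Helper7.MeroReg

set_option backward.isDefEq.respectTransparency false in
theorem S12513_main (X : Scheme.{u}) (U : X.Opens) (hU : IsAffineOpen U) :
    Mero.regSub X U = nonZeroDivisors Γ(X, U) := by
  ext f
  constructor
  · intro hf
    rw [mem_nonZeroDivisors_iff_right]
    intro g hg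
    apply TopCat.Presheaf.section_ext X.sheaf U
    intro x hx
    have h1 := hf ⟨x, hx⟩
    rw [mem_nonZeroDivisors_iff_right] at h1
    have h2 : X.presheaf.germ U x hx g * X.presheaf.germ U x hx f = 0 := by
      rw [← map_mul, hg, map_zero]
    have h3 := h1 _ h2
    change X.presheaf.germ U x hx g = X.presheaf.germ U x hx 0
    rw [h3, map_zero]
  · intro hf x
    have hloc := hU.isLocalization_stalk x
    have := IsLocalization.map_nonZeroDivisors_le (hU.primeIdealOf x).asIdeal.primeCompl
      (X.presheaf.stalk x.1)
    exact this ⟨f, hf, rfl⟩

end Groth.Agent.Helper7.MeroReg
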