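import Mathlib
import Groth.Prelude.Def_MeroSh
import Groth.Agent.Lib.Helper7.MeroReg

set_option autoImplicit false
open CategoryTheory CategoryTheory.Limits AlgebraicGeometry Opposite TopologicalSpace
universe u

/-! helper7: meromorphic functions (S5085, S5092, S5093): restriction to a schematically dense
open is injective; pullbacks of regular sections along morphisms respecting associated or
maximal points. -/

namespace Groth.Agent.Helper7.MeroK

/-- a fraction with regular denominator vanishes only if its numerator does. -/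
theorem mk_eq_zero {X : Scheme.{u}} (x : X) (m : X.presheaf.stalk x) (s : Mero.regStalk X x)
    (h : (LocalizedModule.mk m s : Mero.KStalk X x) = 0) : m = 0 := by
  rw [← LocalizedModule.zero_mk s, LocalizedModule.mk_eq] at h
  obtain ⟨c, hc⟩ := h
  have hc' : (c : X.presheaf.stalk x) * ((s : X.presheaf.stalk x) * m) = 0 := by
    simpa [Submonoid.smul_def] using hc
  have h1 := Mero.regStalk_le_nonZeroDivisors x c.2
  have h2 := Mero.regStalk_le_nonZeroDivisors x s.2
  rw [mem_nonZeroDivisors_iff_left] at h1 h2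
  exact h2 _ (h1 _ hc')

set_option backward.isDefEq.respectTransparency false in
theorem S5085_main (X : Scheme.{u}) (U V : X.Opens) (hVU : V ≤ U)
    (hV : ∀ W : X.Opens, W ≤ U →
      Function.Injective ⇑(X.presheaf.map (homOfLE (inf_le_left : W ⊓ V ≤ W)).op)) :
    Function.Injective ⇑((Mero.kmod X).presheaf.map (homOfLE hVU).op) := by
  refine (injective_iff_map_eq_zero ((Mero.kmod X).presheaf.map (homOfLE hVU).op).hom).mpr ?_
  intro t ht
  apply Subtype.ext
  funext x
  change t.1 x = 0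
  have ht0 : ∀ y : V, t.1 ⟨y.1, hVU y.2⟩ = 0 := by
    intro y
    exact congrArg (fun r : Γ(Mero.kmod X, V) => r.1 y) ht
  obtain ⟨W, hxW, i, a, b, h⟩ := t.2 x
  have hWU : W ≤ U := i.le
  have ha : X.presheaf.map (homOfLE (inf_le_left : W ⊓ V ≤ W)).op a = 0 := by
    apply TopCat.Presheaf.section_ext X.sheaf (W ⊓ V)
    intro y hy
    change X.presheaf.germ (W ⊓ V) y hy _ = X.presheaf.germ (W ⊓ V) y hy 0
    rw [map_zero, TopCat.Presheaf.germ_res_apply]
    have h1 : t.1 (i ⟨y, hy.1⟩) = _ := h ⟨y, hy.1⟩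
    have h2 : t.1 (i ⟨y, hy.1⟩) = 0 := ht0 ⟨y, hy.2⟩
    exact mk_eq_zero y _ _ (h1.symm.trans h2)
  have ha0 : a = 0 := by
    apply hV W hWU
    rw [ha, map_zero]
  have h3 : t.1 (i ⟨x.1, hxW⟩) = _ := h ⟨x.1, hxW⟩
  have h4 : t.1 x = t.1 (i ⟨x.1, hxW⟩) := rfl
  refine h4.trans (h3.trans ?_)
  rw [ha0, map_zero, LocalizedModule.zero_mk]

section Pull

variable {X : Scheme.{u}}

theorem fromSpec_mem {W : X.Opens} (hW : IsAffineOpen W) (q : PrimeSpectrum Γ(X, W)) :
    hW.fromSpec q ∈ W := by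
  have := hW.range_fromSpec
  rw [← SetLike.mem_coe, ← this]
  exact ⟨q, rfl⟩

set_option backward.isDefEq.respectTransparency false in
/-- the germ at the point of a prime is a unit exactly outside the prime. -/
theorem isUnit_germ_iff {W : X.Opens} (hW : IsAffineOpen W) (q : PrimeSpectrum Γ(X, W))
    (a : Γ(X, W)) :
    IsUnit (X.presheaf.germ W (hW.fromSpec q) (fromSpec_mem hW q) a) ↔ a ∉ q.asIdeal := by
  have hloc := hW.isLocalization_stalk' q (fromSpec_mem hW q)
  exact @IsLocalization.AtPrime.isUnit_to_map_iff Γ(X, W) _ (X.presheaf.stalk (hW.fromSpec q)) _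
    (TopCat.Presheaf.algebra_section_stalk X.presheaf ⟨hW.fromSpec q, fromSpec_mem hW q⟩)
    q.asIdeal _ hloc a

set_option backward.isDefEq.respectTransparency false in
/-- a section is regular as soon as it restricts to nonzerodivisors on affine opens around every
point. -/
theorem mem_regSub_of_forall_affine (U' : X.Opens) (g : Γ(X, U'))
    (h : ∀ x ∈ U', ∃ (W : X.Opens) (hWU : W ≤ U'), IsAffineOpen W ∧ x ∈ W ∧
      X.presheaf.map (homOfLE hWU).op g ∈ nonZeroDivisors Γ(X, W)) :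
    g ∈ Mero.regSub X U' := by
  intro x
  obtain ⟨W, hWU, hW, hxW, hg⟩ := h x.1 x.2
  rw [← MeroReg.S12513_main X W hW] at hg
  have := hg ⟨x.1, hxW⟩
  change X.presheaf.germ W x.1 hxW (X.presheaf.map (homOfLE hWU).op g) ∈ _ at this
  rwa [TopCat.Presheaf.germ_res_apply] at this

set_option backward.isDefEq.respectTransparency false in
/-- the pullback of a regular section is regular as soon as, on affine opens of the source, every
prime containing a zero divisor can be shrunk to a prime at whose point the image germ is a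
unit. -/
theorem pull_mem_regSub {Y : Scheme.{u}} (f : X ⟶ Y) (U : Y.Opens) (s : Γ(Y, U))
    (H : ∀ (W : X.Opens) (hW : IsAffineOpen W) (_ : W ≤ f ⁻¹ᵁ U) (a : Γ(X, W)),
      a ∉ nonZeroDivisors Γ(X, W) → ∃ q : PrimeSpectrum Γ(X, W), a ∈ q.asIdeal ∧
        ∀ hq : f (hW.fromSpec q) ∈ U, IsUnit (Y.presheaf.germ U (f (hW.fromSpec q)) hq s)) :
    f.app U s ∈ Mero.regSub X (f ⁻¹ᵁ U) := by
  apply mem_regSub_of_forall_affine
  intro x hx
  obtain ⟨_, ⟨W, hW, rfl⟩, hxW, hWU⟩ := X.isBasis_affineOpens.exists_subset_of_mem_open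
    (show x ∈ ((f ⁻¹ᵁ U : X.Opens) : Set X) from hx) (f ⁻¹ᵁ U).2
  have hWU' : W ≤ f ⁻¹ᵁ U := hWU
  refine ⟨W, hWU', hW, hxW, ?_⟩
  by_contra hnot
  obtain ⟨q, haq, hunit⟩ := H W hW hWU' _ hnot
  have hξ : hW.fromSpec q ∈ f ⁻¹ᵁ U := hWU' (fromSpec_mem hW q)
  have h1 := hunit hξ
  have h2 : IsUnit (f.stalkMap (hW.fromSpec q) (Y.presheaf.germ U (f (hW.fromSpec q)) hξ s)) :=
    h1.map (f.stalkMap (hW.fromSpec q)).hom
  rw [Scheme.Hom.germ_stalkMap_apply] at h2
  rw [← TopCat.Presheaf.germ_res_apply X.presheaf (homOfLE hWU') (hW.fromSpec q)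
    (fromSpec_mem hW q)] at h2
  exact ((isUnit_germ_iff hW q _).mp h2) haq

end Pull

set_option backward.isDefEq.respectTransparency false in
/-- at the point of an associated prime of an affine open the maximal ideal of the local ring is
associated. -/
theorem isAssociatedPrime_maximalIdeal_stalk {X : Scheme.{u}} {W : X.Opens} (hW : IsAffineOpen W)
    (q : PrimeSpectrum Γ(X, W)) (hq : IsAssociatedPrime q.asIdeal Γ(X, W)) :
    IsAssociatedPrime (IsLocalRing.maximalIdeal (X.presheaf.stalk (hW.fromSpec q)))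
      (X.presheaf.stalk (hW.fromSpec q)) := by
  have hloc := hW.isLocalization_stalk' q (fromSpec_mem hW q)
  let alg : Algebra Γ(X, W) (X.presheaf.stalk (hW.fromSpec q)) :=
    TopCat.Presheaf.algebra_section_stalk X.presheaf ⟨hW.fromSpec q, fromSpec_mem hW q⟩
  have hloc' : IsLocalization q.asIdeal.primeCompl (X.presheaf.stalk (hW.fromSpec q)) := hloc
  have hlm : IsLocalizedModule q.asIdeal.primeCompl
      (Algebra.linearMap Γ(X, W) (X.presheaf.stalk (hW.fromSpec q))) :=
    (isLocalizedModule_iff_isLocalization' q.asIdeal.primeCompl _).mpr hloc'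
  have := Module.associatedPrimes.mem_associatedPrimes_of_comap_mem_associatedPrimes_of_isLocalizedModule
    (S := q.asIdeal.primeCompl) (R' := X.presheaf.stalk (hW.fromSpec q))
    (f := Algebra.linearMap Γ(X, W) (X.presheaf.stalk (hW.fromSpec q)))
    (IsLocalRing.maximalIdeal (X.presheaf.stalk (hW.fromSpec q))) (by
      have h1 : (IsLocalRing.maximalIdeal (X.presheaf.stalk (hW.fromSpec q))).comap
          (algebraMap Γ(X, W) (X.presheaf.stalk (hW.fromSpec q))) = q.asIdeal :=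
        IsLocalization.AtPrime.under_maximalIdeal _ q.asIdeal
      rw [h1]
      exact hq)
  exact this

set_option backward.isDefEq.respectTransparency false in
theorem S5092_main {X Y : Scheme.{u}} [IsLocallyNoetherian X] [IsLocallyNoetherian Y]
    (f : X ⟶ Y)
    (hf : ∀ x : ↥X, IsAssociatedPrime (IsLocalRing.maximalIdeal ↑(X.presheaf.stalk x))
        ↑(X.presheaf.stalk x) →
      IsAssociatedPrime (IsLocalRing.maximalIdeal ↑(Y.presheaf.stalk (f x)))
        ↑(Y.presheaf.stalk (f x))) :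
    ∀ (U : Y.Opens) (s : Γ(Y, U)), s ∈ Mero.regSub Y U →
      f.app U s ∈ Mero.regSub X (f ⁻¹ᵁ U) := by
  intro U s hs
  apply pull_mem_regSub
  intro W hW hWU a ha
  have hN : IsNoetherianRing Γ(X, W) := IsLocallyNoetherian.component_noetherian ⟨W, hW⟩
  have h1 : a ∈ ((nonZeroDivisors Γ(X, W) : Set Γ(X, W)))ᶜ := ha
  rw [← biUnion_associatedPrimes_eq_compl_nonZeroDivisors] at h1
  simp only [Set.mem_iUnion] at h1
  obtain ⟨q, hq, haq⟩ := h1
  have hq' : IsAssociatedPrime q Γ(X, W) := hq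
  have hqp : q.IsPrime := hq'.isPrime
  refine ⟨⟨q, hqp⟩, haq, fun hξ => ?_⟩
  have h2 := hf _ (isAssociatedPrime_maximalIdeal_stalk hW ⟨q, hqp⟩ hq')
  have h3 := hs ⟨_, hξ⟩
  rw [← IsLocalRing.notMem_maximalIdeal]
  intro hmem
  have h4 : Y.presheaf.germ U (f (hW.fromSpec ⟨q, hqp⟩)) hξ s ∈
      ⋃ p ∈ associatedPrimes (Y.presheaf.stalk (f (hW.fromSpec ⟨q, hqp⟩)))
        (Y.presheaf.stalk (f (hW.fromSpec ⟨q, hqp⟩))), (p : Set _) := by
    simp only [Set.mem_iUnion]
    exact ⟨_, h2, hmem⟩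
  rw [biUnion_associatedPrimes_eq_compl_nonZeroDivisors] at h4
  exact h4 h3

set_option backward.isDefEq.respectTransparency false in
/-- the local ring at a point without proper generizations has a single prime. -/
theorem stalk_prime_unique {Y : Scheme.{u}} (y : Y) (hy : ∀ z : Y, z ⤳ y → z = y)
    (p q : PrimeSpectrum (Y.presheaf.stalk y)) : p = q := by
  have hinj : Function.Injective (Y.fromSpecStalk y) :=
    (Y.fromSpecStalk y).isEmbedding.injective
  apply hinj
  have key : ∀ r : PrimeSpectrum (Y.presheaf.stalk y), (Y.fromSpecStalk y) r = y := by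
    intro r
    have h2 : (Y.fromSpecStalk y) r ∈ Set.range (Y.fromSpecStalk y) := ⟨r, rfl⟩
    rw [Scheme.range_fromSpecStalk] at h2
    exact hy _ h2
  rw [key p, key q]

/-- a nonzerodivisor of a local ring with a single prime is a unit. -/
theorem isUnit_of_mem_nonZeroDivisors_of_prime_unique {R : Type u} [CommRing R] [IsLocalRing R]
    (h : ∀ p q : PrimeSpectrum R, p = q) (a : R) (ha : a ∈ nonZeroDivisors R) : IsUnit a := by
  rw [← IsLocalRing.notMem_maximalIdeal]
  intro hmem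
  have hnil : IsNilpotent a := by
    rw [nilpotent_iff_mem_prime]
    intro J hJ
    have := h ⟨J, hJ⟩ ⟨IsLocalRing.maximalIdeal R, inferInstance⟩
    have hJ' : J = IsLocalRing.maximalIdeal R := congrArg PrimeSpectrum.asIdeal this
    rw [hJ']
    exact hmem
  obtain ⟨n, hn⟩ := hnil
  have h1 : a ^ n ∈ nonZeroDivisors R := pow_mem ha n
  rw [hn] at h1
  exact zero_notMem_nonZeroDivisors h1

set_option backward.isDefEq.respectTransparency false in
theorem S5093_main {X Y : Scheme.{u}} [IsReduced X] (f : X ⟶ Y)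
    (hf : ∀ ξ : ↥X, (∀ z : ↥X, z ⤳ ξ → z = ξ) → ∀ z : ↥Y, z ⤳ f ξ → z = f ξ) :
    ∀ (U : Y.Opens) (s : Γ(Y, U)), s ∈ Mero.regSub Y U →
      f.app U s ∈ Mero.regSub X (f ⁻¹ᵁ U) := by
  intro U s hs
  apply pull_mem_regSub
  intro W hW hWU a ha
  rw [mem_nonZeroDivisors_iff_right] at ha
  simp only [not_forall] at ha
  obtain ⟨t, hta, ht⟩ := ha
  have htn : ¬ IsNilpotent t := fun h => ht h.eq_zero
  rw [nilpotent_iff_mem_prime] at htn
  simp only [not_forall] at htn
  obtain ⟨p, hp, htp⟩ := htn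
  obtain ⟨q, hq, hqp⟩ := Ideal.exists_minimalPrimes_le (I := ⊥) (J := p) bot_le
  have hqp' : q.IsPrime := hq.1.1
  have htq : t ∉ q := fun h => htp (hqp h)
  have haq : a ∈ q := by
    have h0 : t * a ∈ q := by rw [hta]; exact q.zero_mem
    exact (hqp'.mem_or_mem h0).resolve_left htq
  refine ⟨⟨q, hqp'⟩, haq, fun hξ => ?_⟩
  have hmax : ∀ z : X, z ⤳ hW.fromSpec ⟨q, hqp'⟩ → z = hW.fromSpec ⟨q, hqp'⟩ := by
    intro z hz
    have hzW : z ∈ W := hz.mem_open W.2 (fromSpec_mem hW _)
    have h1 : hW.fromSpec (hW.primeIdealOf ⟨z, hzW⟩) = z := hW.fromSpec_primeIdealOf ⟨z, hzW⟩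
    rw [← h1] at hz ⊢
    have h2 := (hW.fromSpec.isOpenEmbedding.isInducing.specializes_iff).mp hz
    have h3 : (hW.primeIdealOf ⟨z, hzW⟩) ≤ (⟨q, hqp'⟩ : PrimeSpectrum Γ(X, W)) :=
      (PrimeSpectrum.le_iff_specializes _ _).mpr h2
    have h4 : q ≤ (hW.primeIdealOf ⟨z, hzW⟩).asIdeal :=
      hq.2 ⟨(hW.primeIdealOf ⟨z, hzW⟩).isPrime, bot_le⟩ h3
    have h5 : hW.primeIdealOf ⟨z, hzW⟩ = ⟨q, hqp'⟩ := PrimeSpectrum.ext (le_antisymm h3 h4)
    rw [h5]
  have h6 := hf _ hmax
  exact isUnit_of_mem_nonZeroDivisors_of_prime_unique (stalk_prime_unique _ h6) _ (hs ⟨_, hξ⟩)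

end Groth.Agent.Helper7.MeroK
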