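import Mathlib
import Groth.Prelude.Def_MeroDiv
import Groth.Agent.Lib.Helper7.MeroK

set_option autoImplicit false
open CategoryTheory CategoryTheory.Limits AlgebraicGeometry Opposite TopologicalSpace
universe u

/-! helper7: divisors and fractional ideals (S5097, S5083, S10856): a divisor is determined by
its fractional ideal, linearly equivalent divisors have isomorphic fractional ideals, the domain
of definition of a meromorphic function is a schematically dense open. -/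

namespace Groth.Agent.Helper7.MeroD

variable {X : Scheme.{u}}

/-- the inverse of a local equation of a divisor satisfies the condition cutting out its
fractional ideal. -/
theorem divCond_inv {D : Mero.Divisor X} {U : X.Opens} (f : (Γ(Mero.kmod X, U))ˣ)
    (hf : ∀ y : U, D.1 y.1 = Mero.germOf f y) (y : U) :
    Mero.DivCond D y.1 ((f⁻¹ : (Γ(Mero.kmod X, U))ˣ).1.1 y) := by
  intro g hg
  rw [hf y] at hg
  have h1 := QuotientGroup.eq.mp hg
  obtain ⟨u, hu⟩ := h1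
  have h2 : ((Units.map (Mero.evalK X U y).toMonoidHom f)⁻¹ * g : (Mero.KStalk X y.1)ˣ) =
      Units.map (algebraMap (X.presheaf.stalk y.1) (Mero.KStalk X y.1)).toMonoidHom u := hu.symm
  have h3 := congrArg (fun w : (Mero.KStalk X y.1)ˣ => (w : Mero.KStalk X y.1)) h2
  refine ⟨(u : X.presheaf.stalk y.1), ?_⟩
  refine Eq.trans ?_ h3.symm
  rfl

theorem S5097_main (X : Scheme.{u}) (D D' : Mero.Divisor X)
    (h : ∀ (U : X.Opens) (t : Γ(Mero.kmod X, U)),
      (∀ x : ↥U, Mero.DivCond D x.1 (t.1 x)) ↔ (∀ x : ↥U, Mero.DivCond D' x.1 (t.1 x))) :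
    D = D' := by
  apply Subtype.ext
  funext x
  obtain ⟨U, hx, f, hU⟩ := D.2 x
  obtain ⟨U', hx', f', hU'⟩ := D'.2 x
  have h1 := (h U (f⁻¹ : (Γ(Mero.kmod X, U))ˣ).1).mp (fun y => divCond_inv f hU y) ⟨x, hx⟩
  have h2 := (h U' (f'⁻¹ : (Γ(Mero.kmod X, U'))ˣ).1).mpr (fun y => divCond_inv f' hU' y) ⟨x, hx'⟩
  obtain ⟨a, ha⟩ := h1 (Units.map (Mero.evalK X U' ⟨x, hx'⟩).toMonoidHom f') (hU' ⟨x, hx'⟩)
  obtain ⟨b, hb⟩ := h2 (Units.map (Mero.evalK X U ⟨x, hx⟩).toMonoidHom f) (hU ⟨x, hx⟩)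
  set F : (Mero.KStalk X x)ˣ := Units.map (Mero.evalK X U ⟨x, hx⟩).toMonoidHom f with hF
  set F' : (Mero.KStalk X x)ˣ := Units.map (Mero.evalK X U' ⟨x, hx'⟩).toMonoidHom f' with hF'
  have ha' : algebraMap (X.presheaf.stalk x) (Mero.KStalk X x) a =
      ((F⁻¹ * F' : (Mero.KStalk X x)ˣ) : Mero.KStalk X x) := by
    rw [ha]; rfl
  have hb' : algebraMap (X.presheaf.stalk x) (Mero.KStalk X x) b =
      ((F'⁻¹ * F : (Mero.KStalk X x)ˣ) : Mero.KStalk X x) := by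
    rw [hb]; rfl
  have hab : a * b = 1 := by
    apply Mero.algebraMap_KStalk_injective x
    rw [map_mul, ha', hb', map_one, ← Units.val_mul]
    have : (F⁻¹ * F' * (F'⁻¹ * F) : (Mero.KStalk X x)ˣ) = 1 := by group
    rw [this]; rfl
  have hD : D.1 x = QuotientGroup.mk F := hU ⟨x, hx⟩
  have hD' : D'.1 x = QuotientGroup.mk F' := hU' ⟨x, hx'⟩
  rw [hD, hD']
  rw [QuotientGroup.eq]
  refine ⟨Units.mkOfMulEqOne a b hab, ?_⟩
  apply Units.ext
  exact ha'

/-- the restriction to an open of a global unit meromorphic function. -/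
noncomputable def resTop (F : Γ(Mero.kmod X, ⊤)) (U : X.Opens) : Γ(Mero.kmod X, U) :=
  (Mero.kmod X).presheaf.map (homOfLE (le_top : U ≤ ⊤)).op F

theorem resTop_apply (F : Γ(Mero.kmod X, ⊤)) (U : X.Opens) (x : U) :
    (resTop F U).1 x = F.1 ⟨x.1, Opens.mem_top x.1⟩ := rfl

theorem divCond_mul {D D' : Mero.Divisor X} (F : (Γ(Mero.kmod X, ⊤))ˣ)
    (h : D * D'⁻¹ = Mero.div F) (x : X) (t : Mero.KStalk X x) (ht : Mero.DivCond D x t) :
    Mero.DivCond D' x (t * F.1.1 ⟨x, Opens.mem_top x⟩) := by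
  intro g' hg'
  have h1 : D.1 x * (D'.1 x)⁻¹ = Mero.germOf F ⟨x, Opens.mem_top x⟩ :=
    congrArg (fun E : Mero.Divisor X => E.1 x) h
  have h2 : D.1 x = QuotientGroup.mk
      (Units.map (Mero.evalK X ⊤ ⟨x, Opens.mem_top x⟩).toMonoidHom F * g') := by
    rw [QuotientGroup.mk_mul, ← hg']
    have h1' : (QuotientGroup.mk (Units.map (Mero.evalK X ⊤ ⟨x, Opens.mem_top x⟩).toMonoidHom F) :
        Mero.Germ X x) = D.1 x * (D'.1 x)⁻¹ := h1.symm
    rw [h1']
    group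
  have h3 := ht _ h2
  have h4 : t * F.1.1 ⟨x, Opens.mem_top x⟩ * (g' : Mero.KStalk X x) =
      t * ((Units.map (Mero.evalK X ⊤ ⟨x, Opens.mem_top x⟩).toMonoidHom F * g' :
        (Mero.KStalk X x)ˣ) : Mero.KStalk X x) := by
    rw [mul_assoc]; rfl
  rw [h4]
  exact h3

/-- multiplication by a unit meromorphic function between fractional ideals, on sections. -/
noncomputable def mulFun {D D' : Mero.Divisor X} (F : (Γ(Mero.kmod X, ⊤))ˣ)
    (h : D * D'⁻¹ = Mero.div F) (U : X.Opens) :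
    Γ(Mero.divMod D, U) →+ Γ(Mero.divMod D', U) where
  toFun t := ⟨fun x => t.1 x * F.1.1 ⟨x.1, Opens.mem_top x.1⟩,
    ⟨Mero.kLoc_mul X U t.1 (resTop F.1 U).1 t.2.1 (resTop F.1 U).2,
      fun x => divCond_mul F h x.1 _ (t.2.2 x)⟩⟩
  map_zero' := Subtype.ext (funext fun _ => zero_mul _)
  map_add' _ _ := Subtype.ext (funext fun _ => add_mul _ _ _)

/-- multiplication by a unit meromorphic function between fractional ideals. -/
noncomputable def mulHom {D D' : Mero.Divisor X} (F : (Γ(Mero.kmod X, ⊤))ˣ)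
    (h : D * D'⁻¹ = Mero.div F) : Mero.divMod D ⟶ Mero.divMod D' :=
  ⟨PresheafOfModules.homMk (M₁ := (Mero.divMod D).val) (M₂ := (Mero.divMod D').val)
    { app := fun U => AddCommGrpCat.ofHom (mulFun F h U.unop)
      naturality := by intros; rfl }
    (fun U r m => Subtype.ext <| funext fun x => smul_mul_assoc _ _ _)⟩

theorem mulHom_comp {D D' : Mero.Divisor X} (F : (Γ(Mero.kmod X, ⊤))ˣ)
    (h : D * D'⁻¹ = Mero.div F) (h' : D' * D⁻¹ = Mero.div F⁻¹) :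
    mulHom F h ≫ mulHom F⁻¹ h' = 𝟙 _ := by
  apply Scheme.Modules.hom_ext
  intro U
  ext t
  apply Subtype.ext
  funext x
  change t.1 x * F.1.1 ⟨x.1, Opens.mem_top x.1⟩ * (F⁻¹ : (Γ(Mero.kmod X, ⊤))ˣ).1.1
    ⟨x.1, Opens.mem_top x.1⟩ = t.1 x
  rw [mul_assoc]
  have : F.1.1 ⟨x.1, Opens.mem_top x.1⟩ * (F⁻¹ : (Γ(Mero.kmod X, ⊤))ˣ).1.1
      ⟨x.1, Opens.mem_top x.1⟩ = 1 := by
    have h1 : (F.1 * (F⁻¹ : (Γ(Mero.kmod X, ⊤))ˣ).1) = 1 := F.mul_inv
    exact congrArg (fun r : Γ(Mero.kmod X, ⊤) => r.1 ⟨x.1, Opens.mem_top x.1⟩) h1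
  rw [this, mul_one]

theorem div_inv (F : (Γ(Mero.kmod X, ⊤))ˣ) : Mero.div F⁻¹ = (Mero.div F)⁻¹ := by
  apply Subtype.ext
  funext x
  change Mero.germOf F⁻¹ ⟨x, Opens.mem_top x⟩ = (Mero.germOf F ⟨x, Opens.mem_top x⟩)⁻¹
  rw [Mero.germOf, Mero.germOf, map_inv, QuotientGroup.mk_inv]

theorem mulHom_congr {D D' : Mero.Divisor X} (F F' : (Γ(Mero.kmod X, ⊤))ˣ) (e : F = F')
    (h : D * D'⁻¹ = Mero.div F) (h' : D * D'⁻¹ = Mero.div F') : mulHom F h = mulHom F' h' := by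
  subst e
  rfl

theorem S5083_main (X : Scheme.{u}) (D D' : Mero.Divisor X) (h : Mero.LinEquiv D D') :
    Nonempty (Mero.divMod D ≅ Mero.divMod D') := by
  obtain ⟨F, hF⟩ := h
  have hF' : D' * D⁻¹ = Mero.div F⁻¹ := by
    rw [div_inv, ← hF]
    group
  have hF'' : D * D'⁻¹ = Mero.div (F⁻¹)⁻¹ := by rw [inv_inv]; exact hF
  refine ⟨⟨mulHom F hF, mulHom F⁻¹ hF', mulHom_comp F hF hF', ?_⟩⟩
  have := mulHom_comp F⁻¹ hF' hF''
  convert this using 2
  exact mulHom_congr _ _ (inv_inv F).symm _ _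

/-- a fraction with regular denominator comes from the local ring exactly when the denominator
divides the numerator. -/
theorem mk_mem_range_iff (x : X) (m : X.presheaf.stalk x) (s : Mero.regStalk X x) :
    (LocalizedModule.mk m s : Mero.KStalk X x) ∈
      (algebraMap (X.presheaf.stalk x) (Mero.KStalk X x)).range ↔
      ∃ c : X.presheaf.stalk x, m = (s : X.presheaf.stalk x) * c := by
  constructor
  · rintro ⟨c, hc⟩
    refine ⟨c, ?_⟩
    have h1 : (LocalizedModule.mk c 1 : Mero.KStalk X x) = LocalizedModule.mk m s := hc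
    rw [LocalizedModule.mk_eq] at h1
    obtain ⟨u, hu⟩ := h1
    have hu' : (u : X.presheaf.stalk x) * ((s : X.presheaf.stalk x) * c) =
        (u : X.presheaf.stalk x) * (1 * m) := by
      simpa [Submonoid.smul_def] using hu
    have h2 := Mero.regStalk_le_nonZeroDivisors x u.2
    rw [mem_nonZeroDivisors_iff_left] at h2
    have h3 : (u : X.presheaf.stalk x) * ((s : X.presheaf.stalk x) * c - m) = 0 := by
      rw [mul_sub, hu', one_mul, sub_self]
    have h4 := h2 _ h3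
    exact (sub_eq_zero.mp h4).symm
  · rintro ⟨c, rfl⟩
    refine ⟨c, ?_⟩
    change (LocalizedModule.mk c 1 : Mero.KStalk X x) = _
    rw [LocalizedModule.mk_eq]
    refine ⟨1, ?_⟩
    simp [Submonoid.smul_def]

/-- the set of points where a meromorphic function is defined. -/
def defSet (f : Γ(Mero.kmod X, ⊤)) : Set X :=
  {x | f.1 ⟨x, Opens.mem_top x⟩ ∈ (algebraMap (X.presheaf.stalk x) (Mero.KStalk X x)).range}

set_option backward.isDefEq.respectTransparency false in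
theorem isOpen_defSet (f : Γ(Mero.kmod X, ⊤)) : IsOpen (defSet f) := by
  rw [isOpen_iff_forall_mem_open]
  intro x hx
  obtain ⟨W, hxW, i, a, b, h⟩ := f.2 ⟨x, Opens.mem_top x⟩
  have hfx : f.1 ⟨x, Opens.mem_top x⟩ =
      LocalizedModule.mk (X.presheaf.germ W x hxW a) (Mero.regGerm ⟨x, hxW⟩ b) := h ⟨x, hxW⟩
  have hx' : (LocalizedModule.mk (X.presheaf.germ W x hxW a) (Mero.regGerm ⟨x, hxW⟩ b) :
      Mero.KStalk X x) ∈ (algebraMap (X.presheaf.stalk x) (Mero.KStalk X x)).range := by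
    rw [← hfx]; exact hx
  obtain ⟨c, hc⟩ := (mk_mem_range_iff x _ _).mp hx'
  obtain ⟨W', hxW', c', rfl⟩ := TopCat.Presheaf.exists_germ_eq X.presheaf c
  have hxWW' : x ∈ W ⊓ W' := ⟨hxW, hxW'⟩
  let t : Γ(X, W ⊓ W') := X.presheaf.map (homOfLE (inf_le_left : W ⊓ W' ≤ W)).op b.1 *
    X.presheaf.map (homOfLE (inf_le_right : W ⊓ W' ≤ W')).op c'
  have ht : X.presheaf.germ W x hxW a = X.presheaf.germ (W ⊓ W') x hxWW' t := by
    rw [hc, map_mul, TopCat.Presheaf.germ_res_apply, TopCat.Presheaf.germ_res_apply]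
  obtain ⟨W'', hxW'', iU, iV, hUV⟩ := TopCat.Presheaf.germ_eq X.presheaf x hxW hxWW' a t ht
  refine ⟨W'', ?_, W''.2, hxW''⟩
  intro y hy
  have hyW : y ∈ W := iU.le hy
  have hyWW' : y ∈ W ⊓ W' := iV.le hy
  have hfy : f.1 ⟨y, Opens.mem_top y⟩ =
      LocalizedModule.mk (X.presheaf.germ W y hyW a) (Mero.regGerm ⟨y, hyW⟩ b) := h ⟨y, hyW⟩
  change f.1 ⟨y, Opens.mem_top y⟩ ∈
    (algebraMap (X.presheaf.stalk y) (Mero.KStalk X y)).range
  rw [hfy, mk_mem_range_iff]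
  refine ⟨X.presheaf.germ W' y hyWW'.2 c', ?_⟩
  have h1 : X.presheaf.germ W y hyW a = X.presheaf.germ W'' y hy (X.presheaf.map iU.op a) :=
    (TopCat.Presheaf.germ_res_apply X.presheaf iU y hy a).symm
  rw [h1, hUV, TopCat.Presheaf.germ_res_apply, map_mul, TopCat.Presheaf.germ_res_apply,
    TopCat.Presheaf.germ_res_apply]

set_option backward.isDefEq.respectTransparency false in
theorem S10856_main {X : Scheme.{u}} (f : Γ(Mero.kmod X, ⊤)) :
    ∃ D : X.Opens,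
      (D : Set X) = {x | f.1 ⟨x, Opens.mem_top x⟩ ∈
        (algebraMap (X.presheaf.stalk x) (Mero.KStalk X x)).range} ∧
        ∀ V : X.Opens, Function.Injective
          (X.presheaf.map (homOfLE (inf_le_left : V ⊓ D ≤ V)).op) := by
  refine ⟨⟨defSet f, isOpen_defSet f⟩, rfl, ?_⟩
  intro V
  rw [injective_iff_map_eq_zero]
  intro r hr
  apply TopCat.Presheaf.section_ext X.sheaf V
  intro x hxV
  change X.presheaf.germ V x hxV r = X.presheaf.germ V x hxV 0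
  rw [map_zero]
  obtain ⟨W, hxW, i, a, b, h⟩ := f.2 ⟨x, Opens.mem_top x⟩
  obtain ⟨_, ⟨W₁, hW₁, rfl⟩, hxW₁, hW₁sub⟩ := X.isBasis_affineOpens.exists_subset_of_mem_open
    (show x ∈ ((W ⊓ V : X.Opens) : Set X) from ⟨hxW, hxV⟩) (W ⊓ V).2
  have hW₁W : W₁ ≤ W := fun y hy => (hW₁sub hy).1
  have hW₁V : W₁ ≤ V := fun y hy => (hW₁sub hy).2
  let b₁ : Γ(X, W₁) := X.presheaf.map (homOfLE hW₁W).op b.1
  have hb₁ : b₁ ∈ Mero.regSub X W₁ := Mero.regSub_res (homOfLE hW₁W) b.2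
  have hb₁' : b₁ ∈ nonZeroDivisors Γ(X, W₁) := by
    rw [← MeroReg.S12513_main X W₁ hW₁]; exact hb₁
  let r₁ : Γ(X, W₁) := X.presheaf.map (homOfLE hW₁V).op r
  have hsub : X.basicOpen b₁ ≤ V ⊓ ⟨defSet f, isOpen_defSet f⟩ := by
    intro y hy
    have hyW₁ : y ∈ W₁ := X.basicOpen_le b₁ hy
    refine ⟨hW₁V hyW₁, ?_⟩
    have hu : IsUnit (X.presheaf.germ W₁ y hyW₁ b₁) := (X.mem_basicOpen b₁ y hyW₁).mp hy
    have hu' : IsUnit (X.presheaf.germ W y (hW₁W hyW₁) b.1) := by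
      rw [← TopCat.Presheaf.germ_res_apply X.presheaf (homOfLE hW₁W) y hyW₁]
      exact hu
    have hfy : f.1 ⟨y, Opens.mem_top y⟩ =
        LocalizedModule.mk (X.presheaf.germ W y (hW₁W hyW₁) a)
          (Mero.regGerm ⟨y, hW₁W hyW₁⟩ b) := h ⟨y, hW₁W hyW₁⟩
    change f.1 ⟨y, Opens.mem_top y⟩ ∈
      (algebraMap (X.presheaf.stalk y) (Mero.KStalk X y)).range
    rw [hfy, mk_mem_range_iff]
    obtain ⟨v, hv⟩ := hu'
    refine ⟨(v⁻¹ : (X.presheaf.stalk y)ˣ) * X.presheaf.germ W y (hW₁W hyW₁) a, ?_⟩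
    change _ = X.presheaf.germ W y (hW₁W hyW₁) b.1 * _
    rw [← hv, ← mul_assoc, Units.mul_inv, one_mul]
  have hr₁ : X.presheaf.map (homOfLE (X.basicOpen_le b₁)).op r₁ = 0 := by
    have h1 : X.presheaf.map (homOfLE (X.basicOpen_le b₁)).op r₁ =
        X.presheaf.map (homOfLE hsub).op
          (X.presheaf.map (homOfLE (inf_le_left : V ⊓ ⟨defSet f, isOpen_defSet f⟩ ≤ V)).op r) := by
      change (X.presheaf.map _ ≫ X.presheaf.map _).hom r =
        (X.presheaf.map _ ≫ X.presheaf.map _).hom r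
      rw [← Functor.map_comp, ← Functor.map_comp]
      rfl
    rw [h1, hr, map_zero]
  obtain ⟨n, hn⟩ := exists_pow_mul_eq_zero_of_res_basicOpen_eq_zero_of_isAffineOpen X hW₁ r₁ b₁ hr₁
  have hbn : b₁ ^ n ∈ nonZeroDivisors Γ(X, W₁) := pow_mem hb₁' n
  rw [mem_nonZeroDivisors_iff_left] at hbn
  have hr₁0 : r₁ = 0 := hbn _ hn
  have : X.presheaf.germ V x hxV r = X.presheaf.germ W₁ x hxW₁ r₁ :=
    (TopCat.Presheaf.germ_res_apply X.presheaf (homOfLE hW₁V) x hxW₁ r).symm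
  rw [this, hr₁0, map_zero]

end Groth.Agent.Helper7.MeroD
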