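import Mathlib

set_option autoImplicit false
open CategoryTheory CategoryTheory.Limits AlgebraicGeometry Opposite TopologicalSpace
universe u

/-! helper7: sections over preimages of affine opens of a stage of a cofiltered limit of schemes
with affine transition maps come from a later stage; finitely many eventual properties hold
eventually together. -/

namespace Groth.Agent.Helper7.LimSec

section cat

variable {I : Type u} [Category.{u} I] [IsCofiltered I]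

/-- finitely many properties of objects over `i₀` which hold eventually hold eventually together. -/
theorem eventually_forall_finite (i₀ : I) {α : Type*} (s : Finset α)
    (C : α → ∀ (k : I), (k ⟶ i₀) → Prop)
    (h : ∀ a ∈ s, ∃ (j : I) (φ : j ⟶ i₀), ∀ (k : I) (ψ : k ⟶ j), C a k (ψ ≫ φ)) :
    ∃ (j : I) (φ : j ⟶ i₀), ∀ (k : I) (ψ : k ⟶ j), ∀ a ∈ s, C a k (ψ ≫ φ) := by
  classical
  induction s using Finset.induction_on with
  | empty => exact ⟨i₀, 𝟙 i₀, fun k ψ a ha => absurd ha (Finset.notMem_empty a)⟩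
  | insert y s hy ih =>
    obtain ⟨j, φ, hj⟩ := ih fun a ha => h a (Finset.mem_insert_of_mem ha)
    obtain ⟨j', φ', hj'⟩ := h y (Finset.mem_insert_self y s)
    obtain ⟨k, ψ, ψ', e⟩ := IsCofiltered.cospan φ φ'
    refine ⟨k, ψ ≫ φ, fun l θ a ha => ?_⟩
    rcases Finset.mem_insert.mp ha with rfl | ha
    · rw [e, ← Category.assoc]
      exact hj' l (θ ≫ ψ')
    · rw [← Category.assoc]
      exact hj l (θ ≫ ψ) a ha

end cat

variable {I : Type u} [Category.{u} I] [IsCofiltered I] (D : I ⥤ Scheme.{u}) (c : Cone D)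
  (hc : IsLimit c) [∀ {i j : I} (f : i ⟶ j), IsAffineHom (D.map f)]

omit [IsCofiltered I] [∀ {i j : I} (f : i ⟶ j), IsAffineHom (D.map f)] in
theorem preimage_le {i₀ k : I} (θ : k ⟶ i₀) (U : (D.obj i₀).Opens) :
    c.π.app i₀ ⁻¹ᵁ U ≤ c.π.app k ⁻¹ᵁ (D.map θ ⁻¹ᵁ U) := by
  rw [← Scheme.Hom.comp_preimage, c.w]

set_option backward.isDefEq.respectTransparency false in
include hc in
/-- sections over the preimage of an affine open of a stage come from a later stage. -/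
theorem exists_appLE_π_eq (i₀ : I) (U : (D.obj i₀).Opens) (hU : IsAffineOpen U)
    (a : Γ(c.pt, c.π.app i₀ ⁻¹ᵁ U)) :
    ∃ (j : I) (φ : j ⟶ i₀) (a' : Γ(D.obj j, D.map φ ⁻¹ᵁ U)),
      (c.π.app j).appLE (D.map φ ⁻¹ᵁ U) (c.π.app i₀ ⁻¹ᵁ U) (preimage_le D c φ U) a' = a := by
  have (j : Over i₀) : IsAffine ((opensDiagram D i₀ U).obj j) := hU.preimage (D.map _)
  obtain ⟨j, t, hj⟩ := exists_appTop_π_eq_of_isAffine_of_isLimit _ _
    (isLimitOpensCone D c hc i₀ U) ((c.π.app i₀ ⁻¹ᵁ U).topIso.inv a)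
  refine ⟨j.left, j.hom, (D.map j.hom ⁻¹ᵁ U).topIso.hom t, ?_⟩
  have e1 : ((opensCone D c i₀ U).π.app j).appTop =
      (D.map j.hom ⁻¹ᵁ U).topIso.hom ≫ (c.π.app j.left).appLE (D.map j.hom ⁻¹ᵁ U)
        (c.π.app i₀ ⁻¹ᵁ U) (preimage_le D c j.hom U) ≫ (c.π.app i₀ ⁻¹ᵁ U).topIso.inv :=
    Scheme.Hom.resLE_app_top _ _
  rw [e1] at hj
  have h2 := congrArg (c.π.app i₀ ⁻¹ᵁ U).topIso.hom hj
  simp only [CommRingCat.comp_apply] at h2
  exact (((c.π.app i₀ ⁻¹ᵁ U).topIso.inv_hom_id_apply _).symm.trans h2).trans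
    ((c.π.app i₀ ⁻¹ᵁ U).topIso.inv_hom_id_apply a)

theorem appLE_congr_hom {X Y : Scheme.{u}} {f f' : X ⟶ Y} (h : f = f') (U : Y.Opens)
    (V : X.Opens) (e : V ≤ f ⁻¹ᵁ U) : f.appLE U V e = f'.appLE U V (h ▸ e) := by
  subst h; rfl

set_option backward.isDefEq.respectTransparency false in
include hc in
/-- sections over the preimage of an affine open of a stage come from all sufficiently late
stages. -/
theorem eventually_mem_range_appLE (i₀ : I) (U : (D.obj i₀).Opens) (hU : IsAffineOpen U)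
    (a : Γ(c.pt, c.π.app i₀ ⁻¹ᵁ U)) :
    ∃ (j : I) (φ : j ⟶ i₀), ∀ (k : I) (ψ : k ⟶ j), ∃ a' : Γ(D.obj k, D.map (ψ ≫ φ) ⁻¹ᵁ U),
      (c.π.app k).appLE (D.map (ψ ≫ φ) ⁻¹ᵁ U) (c.π.app i₀ ⁻¹ᵁ U)
        (preimage_le D c (ψ ≫ φ) U) a' = a := by
  obtain ⟨j, φ, a', ha'⟩ := exists_appLE_π_eq D c hc i₀ U hU a
  refine ⟨j, φ, fun k ψ => ?_⟩
  have e0 : D.map (ψ ≫ φ) ⁻¹ᵁ U ≤ D.map ψ ⁻¹ᵁ (D.map φ ⁻¹ᵁ U) := by
    rw [← Scheme.Hom.comp_preimage, ← D.map_comp]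
  refine ⟨(D.map ψ).appLE (D.map φ ⁻¹ᵁ U) (D.map (ψ ≫ φ) ⁻¹ᵁ U) e0 a', ?_⟩
  rw [← CommRingCat.comp_apply, Scheme.Hom.appLE_comp_appLE,
    appLE_congr_hom (c.w ψ) (D.map φ ⁻¹ᵁ U) (c.π.app i₀ ⁻¹ᵁ U)]
  exact ha'

end Groth.Agent.Helper7.LimSec
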