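import Mathlib

set_option autoImplicit false
open CategoryTheory CategoryTheory.Limits AlgebraicGeometry Opposite TopologicalSpace
universe u

/-! helper7: base change of cofiltered limits of schemes with affine transition maps: the diagram
of base changes of a morphism `T ⟶ D.obj i₀` to the stages over `i₀`, its limit cone, and descent
of emptiness, affineness and quasi-affineness to a finite stage. -/

namespace Groth.Agent.Helper7.LimBC

variable {I : Type u} [Category.{u} I] (D : I ⥤ Scheme.{u}) (c : Cone D)

set_option backward.isDefEq.respectTransparency false in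
/-- the diagram of base changes of `a : T ⟶ D.obj i₀` to the stages over `i₀`. -/
noncomputable def bcDiagram (i₀ : I) {T : Scheme.{u}} (a : T ⟶ D.obj i₀) :
    Over i₀ ⥤ Scheme.{u} where
  obj j := pullback a (D.map j.hom)
  map {j k} f := pullback.map a (D.map j.hom) a (D.map k.hom) (𝟙 T) (D.map f.left) (𝟙 _)
    (by simp) (by rw [Category.comp_id, ← D.map_comp, Over.w f])
  map_id j := by
    apply pullback.hom_ext <;> simp [pullback.map]
  map_comp f g := by
    apply pullback.hom_ext <;> simp [pullback.map]

variable (i₀ : I) {T : Scheme.{u}} (a : T ⟶ D.obj i₀)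

set_option backward.isDefEq.respectTransparency false in
@[simp]
theorem bcDiagram_obj (j : Over i₀) : (bcDiagram D i₀ a).obj j = pullback a (D.map j.hom) := rfl

set_option backward.isDefEq.respectTransparency false in
@[reassoc (attr := simp)]
theorem bcDiagram_map_fst {j k : Over i₀} (f : j ⟶ k) :
    (bcDiagram D i₀ a).map f ≫ pullback.fst a (D.map k.hom) = pullback.fst a (D.map j.hom) := by
  simp [bcDiagram, pullback.map]

set_option backward.isDefEq.respectTransparency false in
@[reassoc (attr := simp)]
theorem bcDiagram_map_snd {j k : Over i₀} (f : j ⟶ k) :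
    (bcDiagram D i₀ a).map f ≫ pullback.snd a (D.map k.hom) =
      pullback.snd a (D.map j.hom) ≫ D.map f.left := by
  simp [bcDiagram, pullback.map]

set_option backward.isDefEq.respectTransparency false in
/-- the projection to the original diagram. -/
noncomputable def bcDiagramπ : bcDiagram D i₀ a ⟶ Over.forget i₀ ⋙ D where
  app j := pullback.snd a (D.map j.hom)
  naturality j k f := by simp

set_option backward.isDefEq.respectTransparency false in
@[simp]
theorem bcDiagramπ_app (j : Over i₀) :
    (bcDiagramπ D i₀ a).app j = pullback.snd a (D.map j.hom) := rfl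

set_option backward.isDefEq.respectTransparency false in
/-- each transition map of the base-changed diagram is a base change of the original one. -/
theorem isPullback_bcDiagram_map {j k : Over i₀} (f : j ⟶ k) :
    IsPullback ((bcDiagram D i₀ a).map f) (pullback.snd a (D.map j.hom))
      (pullback.snd a (D.map k.hom)) (D.map f.left) := by
  refine IsPullback.of_right (h₁₂ := pullback.fst a (D.map k.hom)) (h₂₂ := D.map k.hom)
    (v₁₃ := a) ?_ (bcDiagram_map_snd D i₀ a f) (IsPullback.of_hasPullback _ _)
  rw [bcDiagram_map_fst, ← D.map_comp, Over.w f]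
  exact (IsPullback.of_hasPullback _ _)

set_option backward.isDefEq.respectTransparency false in
instance [∀ {i j : I} (f : i ⟶ j), IsAffineHom (D.map f)] {j k : Over i₀} (f : j ⟶ k) :
    IsAffineHom ((bcDiagram D i₀ a).map f) :=
  MorphismProperty.of_isPullback (isPullback_bcDiagram_map D i₀ a f).flip inferInstance

set_option backward.isDefEq.respectTransparency false in
instance [∀ {i j : I} (f : i ⟶ j), IsAffineHom (D.map f)] [CompactSpace T] (j : Over i₀) :
    CompactSpace ((bcDiagram D i₀ a).obj j) :=
  have : QuasiCompact (pullback.fst a (D.map j.hom)) :=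
    MorphismProperty.pullback_fst _ _ (inferInstance : QuasiCompact (D.map j.hom))
  QuasiCompact.compactSpace_of_compactSpace (pullback.fst a (D.map j.hom))

set_option backward.isDefEq.respectTransparency false in
instance [∀ {i j : I} (f : i ⟶ j), IsAffineHom (D.map f)] [QuasiSeparatedSpace T] (j : Over i₀) :
    QuasiSeparatedSpace ((bcDiagram D i₀ a).obj j) :=
  have : QuasiSeparated (pullback.fst a (D.map j.hom)) :=
    MorphismProperty.pullback_fst _ _ (inferInstance : QuasiSeparated (D.map j.hom))
  quasiSeparatedSpace_of_quasiSeparated (pullback.fst a (D.map j.hom))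

variable {D c i₀ a}

set_option backward.isDefEq.respectTransparency false in
/-- the cone over the base-changed diagram with apex a base change of the limit. -/
noncomputable def bcCone {Y : Scheme.{u}} {qY : Y ⟶ T} {g : Y ⟶ c.pt}
    (hY : IsPullback qY g a (c.π.app i₀)) : Cone (bcDiagram D i₀ a) where
  pt := Y
  π :=
    { app j := pullback.lift qY (g ≫ c.π.app j.left) (by rw [hY.w, Category.assoc, c.w])
      naturality j k f := by
        apply pullback.hom_ext
        · simp
        · simp [c.w] }

set_option backward.isDefEq.respectTransparency false in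
@[reassoc (attr := simp)]
theorem bcCone_π_fst {Y : Scheme.{u}} {qY : Y ⟶ T} {g : Y ⟶ c.pt}
    (hY : IsPullback qY g a (c.π.app i₀)) (j : Over i₀) :
    (bcCone hY).π.app j ≫ pullback.fst a (D.map j.hom) = qY := by
  simp [bcCone]

set_option backward.isDefEq.respectTransparency false in
@[reassoc (attr := simp)]
theorem bcCone_π_snd {Y : Scheme.{u}} {qY : Y ⟶ T} {g : Y ⟶ c.pt}
    (hY : IsPullback qY g a (c.π.app i₀)) (j : Over i₀) :
    (bcCone hY).π.app j ≫ pullback.snd a (D.map j.hom) = g ≫ c.π.app j.left := by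
  simp [bcCone]

set_option backward.isDefEq.respectTransparency false in
theorem isPullback_bcCone_π {Y : Scheme.{u}} {qY : Y ⟶ T} {g : Y ⟶ c.pt}
    (hY : IsPullback qY g a (c.π.app i₀)) (j : Over i₀) :
    IsPullback ((bcCone hY).π.app j) g (pullback.snd a (D.map j.hom)) (c.π.app j.left) := by
  refine IsPullback.of_right (h₁₂ := pullback.fst a (D.map j.hom)) (h₂₂ := D.map j.hom)
    (v₁₃ := a) ?_ (bcCone_π_snd hY j) (IsPullback.of_hasPullback _ _)
  rw [bcCone_π_fst, c.w]
  exact hY

attribute [local instance] CategoryTheory.isConnected_of_hasTerminal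

set_option backward.isDefEq.respectTransparency false in
/-- the base change of a limit cone is a limit cone. -/
noncomputable def isLimitBcCone [IsCofiltered I] (hc : IsLimit c) {Y : Scheme.{u}} {qY : Y ⟶ T}
    {g : Y ⟶ c.pt} (hY : IsPullback qY g a (c.π.app i₀)) : IsLimit (bcCone hY) :=
  isLimitOfIsPullbackOfIsConnected (bcDiagramπ D i₀ a) _ _
    (by exact { hom := g, w := fun j => (bcCone_π_snd hY j).symm })
    (fun j ↦ isPullback_bcCone_π hY j)
    ((Functor.Initial.isLimitWhiskerEquiv (Over.forget i₀) c).symm hc)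

variable (D c i₀ a)

set_option backward.isDefEq.respectTransparency false in
/-- emptiness of the base change of the limit is attained at a finite stage. -/
theorem exists_isEmpty_pullback [IsCofiltered I] [∀ {i j : I} (f : i ⟶ j), IsAffineHom (D.map f)]
    (hc : IsLimit c) [CompactSpace T] {Y : Scheme.{u}} {qY : Y ⟶ T} {g : Y ⟶ c.pt}
    (hY : IsPullback qY g a (c.π.app i₀)) [IsEmpty Y] :
    ∃ (j : I) (φ : j ⟶ i₀), IsEmpty ↥(pullback a (D.map φ)) := by
  by_contra! H
  have hne : ∀ j : Over i₀, Nonempty ((bcDiagram D i₀ a).obj j) :=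
    fun j => H j.left j.hom
  have := Scheme.nonempty_of_isLimit (bcDiagram D i₀ a) (bcCone hY) (isLimitBcCone hc hY)
  exact (IsEmpty.false (α := Y)) this.some

set_option backward.isDefEq.respectTransparency false in
/-- affineness of the base change of the limit is attained at a finite stage. -/
theorem exists_isAffine_pullback [IsCofiltered I] [∀ {i j : I} (f : i ⟶ j), IsAffineHom (D.map f)]
    (hc : IsLimit c) [CompactSpace T] [QuasiSeparatedSpace T] {Y : Scheme.{u}} {qY : Y ⟶ T}
    {g : Y ⟶ c.pt} (hY : IsPullback qY g a (c.π.app i₀)) [IsAffine Y] :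
    ∃ (j : I) (φ : j ⟶ i₀), IsAffine (pullback a (D.map φ)) := by
  have : IsAffine (bcCone hY).pt := ‹IsAffine Y›
  obtain ⟨j, hj⟩ := Scheme.exists_isAffine_of_isLimit (bcDiagram D i₀ a) (bcCone hY)
    (isLimitBcCone hc hY)
  exact ⟨j.left, j.hom, hj⟩

set_option backward.isDefEq.respectTransparency false in
/-- quasi-affineness of the base change of the limit is attained at a finite stage. -/
theorem exists_isQuasiAffine_pullback [IsCofiltered I]
    [∀ {i j : I} (f : i ⟶ j), IsAffineHom (D.map f)]
    (hc : IsLimit c) [CompactSpace T] [QuasiSeparatedSpace T] {Y : Scheme.{u}} {qY : Y ⟶ T}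
    {g : Y ⟶ c.pt} (hY : IsPullback qY g a (c.π.app i₀)) [Y.IsQuasiAffine] :
    ∃ (j : I) (φ : j ⟶ i₀), (pullback a (D.map φ)).IsQuasiAffine := by
  have : (bcCone hY).pt.IsQuasiAffine := ‹Y.IsQuasiAffine›
  obtain ⟨j, hj⟩ := Scheme.exists_isQuasiAffine_of_isLimit (bcDiagram D i₀ a) (bcCone hY)
    (isLimitBcCone hc hY)
  exact ⟨j.left, j.hom, hj⟩

/-- the transition map between two stages of the base change. -/
noncomputable def stageMap {j k : I} (φ : j ⟶ i₀) (ψ : k ⟶ j) :
    pullback a (D.map (ψ ≫ φ)) ⟶ pullback a (D.map φ) :=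
  pullback.map a (D.map (ψ ≫ φ)) a (D.map φ) (𝟙 T) (D.map ψ) (𝟙 _)
    (by simp) (by rw [Category.comp_id, ← D.map_comp])

set_option backward.isDefEq.respectTransparency false in
@[reassoc (attr := simp)]
theorem stageMap_fst {j k : I} (φ : j ⟶ i₀) (ψ : k ⟶ j) :
    stageMap D i₀ a φ ψ ≫ pullback.fst a (D.map φ) = pullback.fst a (D.map (ψ ≫ φ)) := by
  simp [stageMap, pullback.map]

set_option backward.isDefEq.respectTransparency false in
@[reassoc (attr := simp)]
theorem stageMap_snd {j k : I} (φ : j ⟶ i₀) (ψ : k ⟶ j) :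
    stageMap D i₀ a φ ψ ≫ pullback.snd a (D.map φ) = pullback.snd a (D.map (ψ ≫ φ)) ≫ D.map ψ := by
  simp [stageMap, pullback.map]

theorem isPullback_stageMap {j k : I} (φ : j ⟶ i₀) (ψ : k ⟶ j) :
    IsPullback (stageMap D i₀ a φ ψ) (pullback.snd a (D.map (ψ ≫ φ)))
      (pullback.snd a (D.map φ)) (D.map ψ) := by
  refine IsPullback.of_right (h₁₂ := pullback.fst a (D.map φ)) (h₂₂ := D.map φ)
    (v₁₃ := a) ?_ (stageMap_snd D i₀ a φ ψ) (IsPullback.of_hasPullback _ _)
  rw [stageMap_fst, ← D.map_comp]
  exact (IsPullback.of_hasPullback _ _)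

instance [∀ {i j : I} (f : i ⟶ j), IsAffineHom (D.map f)] {j k : I} (φ : j ⟶ i₀) (ψ : k ⟶ j) :
    IsAffineHom (stageMap D i₀ a φ ψ) :=
  MorphismProperty.of_isPullback (isPullback_stageMap D i₀ a φ ψ).flip inferInstance

theorem isAffine_stage_of_isAffine [∀ {i j : I} (f : i ⟶ j), IsAffineHom (D.map f)]
    {j k : I} (φ : j ⟶ i₀) (ψ : k ⟶ j) [IsAffine (pullback a (D.map φ))] :
    IsAffine (pullback a (D.map (ψ ≫ φ))) :=
  isAffine_of_isAffineHom (stageMap D i₀ a φ ψ)

theorem isEmpty_stage_of_isEmpty {j k : I} (φ : j ⟶ i₀) (ψ : k ⟶ j)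
    [IsEmpty ↥(pullback a (D.map φ))] : IsEmpty ↥(pullback a (D.map (ψ ≫ φ))) :=
  Function.isEmpty (stageMap D i₀ a φ ψ).base

end Groth.Agent.Helper7.LimBC
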