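import Mathlib
import Groth.Agent.Lib.Helper7.LimBC

set_option autoImplicit false
open CategoryTheory CategoryTheory.Limits AlgebraicGeometry Opposite TopologicalSpace
universe u

/-! helper7: stages of a morphism over a cofiltered limit of schemes: the principle that two base
changes of the same morphism along factoring maps form a cartesian square, the canonical base
change `bcHom`, and the reduction of "some stage has property P" statements to an affine base. -/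

namespace Groth.Agent.Helper7.LimStage

open Groth.Agent.Helper7.LimBC

section Principle

variable {X₀ Y₀ : Scheme.{u}} (f₀ : X₀ ⟶ Y₀)

/-- `u` is a base change of `f₀` along `b`. -/
def IsBC {A B : Scheme.{u}} (u : A ⟶ B) (b : B ⟶ Y₀) : Prop :=
  ∃ pA : A ⟶ X₀, IsPullback pA u f₀ b

variable {f₀}

theorem IsBC.of_isPullback {A B : Scheme.{u}} {u : A ⟶ B} {b : B ⟶ Y₀} {pA : A ⟶ X₀}
    (h : IsPullback pA u f₀ b) : IsBC f₀ u b := ⟨pA, h⟩

/-- the principle: between two base changes of the same morphism, along maps one of which factors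
through the other, the induced square is cartesian; so base-change-stable properties transfer. -/
theorem IsBC.isBC_of_fac {A B A' B' : Scheme.{u}} {u : A ⟶ B} {b : B ⟶ Y₀} {u' : A' ⟶ B'}
    {b' : B' ⟶ Y₀} (h : IsBC f₀ u b) (h' : IsBC f₀ u' b') (t : B' ⟶ B) (ht : t ≫ b = b') :
    IsBC u u' t := by
  obtain ⟨pA, hA⟩ := h
  obtain ⟨pA', hA'⟩ := h'
  subst ht
  refine ⟨hA.lift pA' (u' ≫ t) (by rw [hA'.w, Category.assoc]), ?_⟩
  exact IsPullback.of_right (by simpa using hA') (by simp) hA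

theorem IsBC.of_fac (P : MorphismProperty Scheme.{u}) [P.IsStableUnderBaseChange]
    {A B A' B' : Scheme.{u}} {u : A ⟶ B} {b : B ⟶ Y₀} {u' : A' ⟶ B'}
    {b' : B' ⟶ Y₀} (h : IsBC f₀ u b) (h' : IsBC f₀ u' b') (t : B' ⟶ B) (ht : t ≫ b = b')
    (hu : P u) : P u' := by
  obtain ⟨s, hs⟩ := h.isBC_of_fac h' t ht
  exact MorphismProperty.of_isPullback hs hu

theorem IsBC.comp {A B A' B' : Scheme.{u}} {u : A ⟶ B} {b : B ⟶ Y₀} {u' : A' ⟶ B'}
    {t : B' ⟶ B} (h : IsBC f₀ u b) (h' : IsBC u u' t) : IsBC f₀ u' (t ≫ b) := by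
  obtain ⟨pA, hA⟩ := h
  obtain ⟨s, hs⟩ := h'
  exact ⟨s ≫ pA, hs.paste_horiz hA⟩

end Principle

section BcHom

variable {X₀ Y₀ Z₀ : Scheme.{u}} (f₀ : X₀ ⟶ Y₀) (g₀ : Y₀ ⟶ Z₀)

/-- the base change of `f₀` (viewed over `Z₀` through `g₀`) along `s : Z ⟶ Z₀`. -/
noncomputable def bcHom {Z : Scheme.{u}} (s : Z ⟶ Z₀) :
    pullback (f₀ ≫ g₀) s ⟶ pullback g₀ s :=
  pullback.map (f₀ ≫ g₀) s g₀ s f₀ (𝟙 _) (𝟙 _) (by simp) (by simp)

set_option backward.isDefEq.respectTransparency false in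
@[reassoc (attr := simp)]
theorem bcHom_fst {Z : Scheme.{u}} (s : Z ⟶ Z₀) :
    bcHom f₀ g₀ s ≫ pullback.fst g₀ s = pullback.fst (f₀ ≫ g₀) s ≫ f₀ := by
  simp [bcHom, pullback.map]

set_option backward.isDefEq.respectTransparency false in
@[reassoc (attr := simp)]
theorem bcHom_snd {Z : Scheme.{u}} (s : Z ⟶ Z₀) :
    bcHom f₀ g₀ s ≫ pullback.snd g₀ s = pullback.snd (f₀ ≫ g₀) s := by
  simp [bcHom, pullback.map]

theorem isPullback_bcHom {Z : Scheme.{u}} (s : Z ⟶ Z₀) :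
    IsPullback (pullback.fst (f₀ ≫ g₀) s) (bcHom f₀ g₀ s) f₀ (pullback.fst g₀ s) := by
  refine (IsPullback.of_right (h₁₂ := pullback.snd g₀ s) (h₂₂ := g₀) (v₁₃ := s) ?_
    (bcHom_fst f₀ g₀ s) (IsPullback.of_hasPullback g₀ s).flip).flip
  rw [bcHom_snd]
  exact (IsPullback.of_hasPullback (f₀ ≫ g₀) s).flip

theorem isBC_bcHom {Z : Scheme.{u}} (s : Z ⟶ Z₀) :
    IsBC f₀ (bcHom f₀ g₀ s) (pullback.fst g₀ s) :=
  ⟨_, isPullback_bcHom f₀ g₀ s⟩

set_option backward.isDefEq.respectTransparency false in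
/-- the base change along a composite `r ≫ s` is a base change of the base change along `s`. -/
theorem bcHom_of_comp (P : MorphismProperty Scheme.{u}) [P.IsStableUnderBaseChange]
    {Z Z' : Scheme.{u}} (s : Z ⟶ Z₀) (r : Z' ⟶ Z) (h : P (bcHom f₀ g₀ s)) :
    P (bcHom f₀ g₀ (r ≫ s)) := by
  refine IsBC.of_fac P (isBC_bcHom f₀ g₀ s) (isBC_bcHom f₀ g₀ (r ≫ s))
    (pullback.map g₀ (r ≫ s) g₀ s (𝟙 _) r (𝟙 _) (by simp) (by simp)) ?_ h
  simp [pullback.map]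

set_option backward.isDefEq.respectTransparency false in
/-- transfer from an arbitrary presentation of the base change. -/
theorem bcHom_of_isPullback (P : MorphismProperty Scheme.{u}) [P.IsStableUnderBaseChange]
    {Z X Y : Scheme.{u}} (s : Z ⟶ Z₀) {f : X ⟶ Y} {g : Y ⟶ Z} {qY : Y ⟶ Y₀} {qX : X ⟶ X₀}
    (hY : IsPullback qY g g₀ s) (hX : IsPullback qX f f₀ qY) (h : P f) :
    P (bcHom f₀ g₀ s) := by
  refine IsBC.of_fac P ⟨qX, hX⟩ (isBC_bcHom f₀ g₀ s)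
    (hY.lift (pullback.fst g₀ s) (pullback.snd g₀ s) pullback.condition) ?_ h
  simp

set_option backward.isDefEq.respectTransparency false in
theorem of_bcHom_of_isPullback (P : MorphismProperty Scheme.{u}) [P.IsStableUnderBaseChange]
    {Z X Y : Scheme.{u}} (s : Z ⟶ Z₀) {f : X ⟶ Y} {g : Y ⟶ Z} {qY : Y ⟶ Y₀} {qX : X ⟶ X₀}
    (hY : IsPullback qY g g₀ s) (hX : IsPullback qX f f₀ qY) (h : P (bcHom f₀ g₀ s)) :
    P f := by
  refine IsBC.of_fac P (isBC_bcHom f₀ g₀ s) ⟨qX, hX⟩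
    (pullback.lift qY g hY.w) ?_ h
  simp

set_option backward.isDefEq.respectTransparency false in
/-- restricting to an open (or any) `v : V ⟶ Y₀`. -/
theorem bcHom_restrict (P : MorphismProperty Scheme.{u}) [P.IsStableUnderBaseChange]
    {Z V : Scheme.{u}} (s : Z ⟶ Z₀) (v : V ⟶ Y₀) (h : P (bcHom f₀ g₀ s)) :
    P (bcHom (pullback.snd f₀ v) (v ≫ g₀) s) := by
  have hbc1 : IsBC f₀ (bcHom (pullback.snd f₀ v) (v ≫ g₀) s) (pullback.fst (v ≫ g₀) s ≫ v) :=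
    IsBC.comp ⟨_, IsPullback.of_hasPullback f₀ v⟩ (isBC_bcHom _ _ _)
  refine IsBC.of_fac P (isBC_bcHom f₀ g₀ s) hbc1
    (pullback.map (v ≫ g₀) s g₀ s v (𝟙 _) (𝟙 _) (by simp) (by simp)) ?_ h
  simp [pullback.map]

end BcHom

section Stage

variable {I : Type u} [Category.{u} I] (D : I ⥤ Scheme.{u}) {i₀ : I}
  {X₀ Y₀ : Scheme.{u}} (f₀ : X₀ ⟶ Y₀) (g₀ : Y₀ ⟶ D.obj i₀)

/-- packaging the conclusion in the form used by the statements. -/
theorem exists_of_stage (P : MorphismProperty Scheme.{u}) {j : I} (φ : j ⟶ i₀)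
    (h : P (bcHom f₀ g₀ (D.map φ))) :
    ∃ (i : I) (φ : i ⟶ i₀) (Xi Yi : Scheme.{u}) (fi : Xi ⟶ Yi) (gi : Yi ⟶ D.obj i) (pY : Yi ⟶ Y₀)
      (pX : Xi ⟶ X₀), IsPullback pY gi g₀ (D.map φ) ∧ IsPullback pX fi f₀ pY ∧ P fi :=
  ⟨j, φ, _, _, bcHom f₀ g₀ (D.map φ), pullback.snd g₀ (D.map φ), pullback.fst g₀ (D.map φ),
    pullback.fst (f₀ ≫ g₀) (D.map φ), IsPullback.of_hasPullback _ _, isPullback_bcHom _ _ _, h⟩

theorem stage_mono (P : MorphismProperty Scheme.{u}) [P.IsStableUnderBaseChange] {j k : I}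
    (φ : j ⟶ i₀) (ψ : k ⟶ j) (h : P (bcHom f₀ g₀ (D.map φ))) :
    P (bcHom f₀ g₀ (D.map (ψ ≫ φ))) := by
  rw [D.map_comp]
  exact bcHom_of_comp f₀ g₀ P _ _ h

set_option backward.isDefEq.respectTransparency false in
/-- reduction of stage statements to an affine base `Y₀`, for properties local on the target. -/
theorem exists_stage_of_affine [IsCofiltered I] (P : MorphismProperty Scheme.{u})
    [P.IsStableUnderBaseChange] [IsZariskiLocalAtTarget P] [CompactSpace Y₀]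
    (H : ∀ (V : Scheme.{u}) [IsAffine V] (v : V ⟶ Y₀) [IsOpenImmersion v],
       ∃ (j : I) (φ : j ⟶ i₀), P (bcHom (pullback.snd f₀ v) (v ≫ g₀) (D.map φ))) :
    ∃ (j : I) (φ : j ⟶ i₀), P (bcHom f₀ g₀ (D.map φ)) := by
  let 𝒰 := Y₀.affineCover.finiteSubcover
  have hfin : Finite 𝒰.I₀ := inferInstance
  choose j φ hφ using fun k : 𝒰.I₀ => H (𝒰.X k) (𝒰.f k)
  obtain ⟨i₁, φ₁, ψ, hψ⟩ := IsCofiltered.wideCospan φ
  refine ⟨i₁, φ₁, ?_⟩
  rw [IsZariskiLocalAtTarget.iff_of_openCover (P := P)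
    (𝒰.pullback₁ (pullback.fst g₀ (D.map φ₁)))]
  intro (k : 𝒰.I₀)
  have h1 : P (bcHom (pullback.snd f₀ (𝒰.f k)) (𝒰.f k ≫ g₀) (D.map φ₁)) := by
    rw [← hψ k]
    exact stage_mono D _ _ P (φ k) (ψ k) (hφ k)
  have hbc1 : IsBC f₀ (bcHom (pullback.snd f₀ (𝒰.f k)) (𝒰.f k ≫ g₀) (D.map φ₁))
      (pullback.fst (𝒰.f k ≫ g₀) (D.map φ₁) ≫ 𝒰.f k) :=
    IsBC.comp ⟨_, IsPullback.of_hasPullback f₀ (𝒰.f k)⟩ (isBC_bcHom _ _ _)
  have hbc2 : IsBC f₀ (pullback.snd (bcHom f₀ g₀ (D.map φ₁))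
      (pullback.fst (pullback.fst g₀ (D.map φ₁)) (𝒰.f k)))
      (pullback.fst (pullback.fst g₀ (D.map φ₁)) (𝒰.f k) ≫ pullback.fst g₀ (D.map φ₁)) :=
    IsBC.comp (isBC_bcHom f₀ g₀ (D.map φ₁)) ⟨_, IsPullback.of_hasPullback _ _⟩
  refine IsBC.of_fac P hbc1 hbc2
    (pullback.lift (pullback.snd _ _) (pullback.fst _ _ ≫ pullback.snd g₀ (D.map φ₁)) ?_) ?_ h1
  · rw [Category.assoc, ← pullback.condition, ← pullback.condition_assoc]
  · rw [pullback.lift_fst_assoc, pullback.condition]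

end Stage

end Groth.Agent.Helper7.LimStage
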