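import Mathlib
import Groth.Agent.Lib.Helper7.LimBC

set_option autoImplicit false
open CategoryTheory CategoryTheory.Limits AlgebraicGeometry Opposite TopologicalSpace
universe u

/-! helper7: structure maps of the stages of a cofiltered limit of schemes over a base `S`:
affineness of the structure map of the limit descends to all sufficiently late stages. -/

namespace Groth.Agent.Helper7.LimStruct

variable {I : Type u} [Category.{u} I] [IsCofiltered I] (D : I ⥤ Scheme.{u}) (c : Cone D)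
  (hc : IsLimit c)

set_option backward.isDefEq.respectTransparency false in
include hc in
/-- if the preimage in the limit of a quasi-compact open of a stage is affine, so is the preimage
at some later stage. -/
theorem exists_isAffineOpen_preimage [∀ {i j : I} (f : i ⟶ j), IsAffineHom (D.map f)]
    [∀ i, QuasiSeparatedSpace (D.obj i)] (i₀ : I) (W : (D.obj i₀).Opens)
    (hWc : IsCompact (W : Set (D.obj i₀))) (hW : IsAffineOpen (c.π.app i₀ ⁻¹ᵁ W)) :
    ∃ (j : I) (φ : j ⟶ i₀), IsAffineOpen (D.map φ ⁻¹ᵁ W) := by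
  have (j : Over i₀) : CompactSpace ((opensDiagram D i₀ W).obj j) :=
    isCompact_iff_compactSpace.mp (QuasiCompact.isCompact_preimage _ W.2 hWc)
  have (j : Over i₀) : QuasiSeparatedSpace ((opensDiagram D i₀ W).obj j) :=
    (isQuasiSeparated_iff_quasiSeparatedSpace _ (D.map _ ⁻¹ᵁ _).2).mp (.of_quasiSeparatedSpace _)
  have : IsAffine (opensCone D c i₀ W).pt := hW
  obtain ⟨j, hj⟩ := Scheme.exists_isAffine_of_isLimit _ _ (isLimitOpensCone D c hc i₀ W)
  exact ⟨j.left, j.hom, hj⟩

set_option backward.isDefEq.respectTransparency false in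
include hc in
theorem main9200 (S : Scheme.{u}) [CompactSpace S] [QuasiSeparatedSpace S]
    (t : D ⟶ (Functor.const I).obj S)
    [∀ {i j : I} (a : i ⟶ j), IsAffineHom (D.map a)]
    [∀ i, CompactSpace (D.obj i)] [∀ i, QuasiSeparatedSpace (D.obj i)] (i₀ : I)
    [IsAffineHom (c.π.app i₀ ≫ t.app i₀)] :
    ∃ i₁ : I, ∀ (i : I) (_ : i ⟶ i₁), IsAffineHom (t.app i) := by
  classical
  have hnat : ∀ {i j : I} (θ : i ⟶ j), D.map θ ≫ t.app j = t.app i := by
    intro i j θ
    have := t.naturality θ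
    simp only [Functor.const_obj_obj, Functor.const_obj_map, Category.comp_id] at this
    exact this
  let 𝒰 := S.affineCover.finiteSubcover
  have hU : ∀ k : 𝒰.I₀, IsAffineOpen (𝒰.f k).opensRange := fun k => isAffineOpen_opensRange _
  have key : ∀ k : 𝒰.I₀, ∃ (j : I) (φ : j ⟶ i₀),
      IsAffineOpen (D.map φ ⁻¹ᵁ (t.app i₀ ⁻¹ᵁ (𝒰.f k).opensRange)) := by
    intro k
    refine exists_isAffineOpen_preimage D c hc i₀ _ ?_ ?_
    · exact QuasiCompact.isCompact_preimage _ (Opens.isOpen _) (hU k).isCompact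
    · exact (hU k).preimage (c.π.app i₀ ≫ t.app i₀)
  choose j φ hj using key
  obtain ⟨i₁, hi₁⟩ := IsCofiltered.inf_objs_exists (Finset.univ.image j)
  have ψ : ∀ k, i₁ ⟶ j k := fun k => (hi₁ (Finset.mem_image_of_mem j (Finset.mem_univ k))).some
  refine ⟨i₁, fun i θ => isAffineHom_of_forall_exists_isAffineOpen _ ?_⟩
  intro x
  obtain ⟨k, y, hy⟩ := 𝒰.exists_eq x
  refine ⟨(𝒰.f k).opensRange, ⟨y, hy⟩, hU k, ?_⟩
  have e : t.app i ⁻¹ᵁ (𝒰.f k).opensRange =
      D.map (θ ≫ ψ k) ⁻¹ᵁ (D.map (φ k) ⁻¹ᵁ (t.app i₀ ⁻¹ᵁ (𝒰.f k).opensRange)) := by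
    rw [← Scheme.Hom.comp_preimage, ← Scheme.Hom.comp_preimage, ← D.map_comp, hnat]
  rw [e]
  exact (hj k).preimage _

end Groth.Agent.Helper7.LimStruct
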