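import Mathlib
import Groth.Agent.Lib.Helper7.LimBC

set_option autoImplicit false
open CategoryTheory CategoryTheory.Limits AlgebraicGeometry Opposite TopologicalSpace
universe u

/-! helper7: morphisms between schemes of finite presentation over a cofiltered limit with affine
transition maps come from a finite stage (EGA IV 8.8.2, fullness). -/

namespace Groth.Agent.Helper7.LimHom

open Groth.Agent.Helper7.LimBC

variable {I : Type u} [Category.{u} I] [IsCofiltered I] (D : I ⥤ Scheme.{u}) (c : Cone D)
  (hc : IsLimit c) [∀ {i j : I} (f : i ⟶ j), IsAffineHom (D.map f)] (i : I)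
  {Xi Yi : Scheme.{u}} (xi : Xi ⟶ D.obj i) (yi : Yi ⟶ D.obj i)

/-- the structure transformation of the stages to the base stage. -/
noncomputable def tBase : bcDiagram D i xi ⟶ (Functor.const (Over i)).obj (D.obj i) where
  app j := pullback.fst xi (D.map j.hom) ≫ xi
  naturality j k ψ := by
    simp only [Functor.const_obj_obj, Functor.const_obj_map, Category.comp_id]
    rw [← Category.assoc, bcDiagram_map_fst]

set_option backward.isDefEq.respectTransparency false in
include hc in
theorem exists_hom_descend [CompactSpace Xi] [QuasiSeparatedSpace Xi]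
    [LocallyOfFinitePresentation yi]
    {X Y : Scheme.{u}} {qX : X ⟶ Xi} {pX : X ⟶ c.pt} (hX : IsPullback qX pX xi (c.π.app i))
    {qY : Y ⟶ Yi} {pY : Y ⟶ c.pt} (hY : IsPullback qY pY yi (c.π.app i))
    (f : X ⟶ Y) (hf : f ≫ pY = pX) :
    ∃ (j : I) (φ : j ⟶ i) (fj : pullback xi (D.map φ) ⟶ pullback yi (D.map φ))
      (sX : X ⟶ pullback xi (D.map φ)) (sY : Y ⟶ pullback yi (D.map φ)),
      fj ≫ pullback.snd yi (D.map φ) = pullback.snd xi (D.map φ) ∧
      sX ≫ pullback.fst xi (D.map φ) = qX ∧ sX ≫ pullback.snd xi (D.map φ) = pX ≫ c.π.app j ∧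
      sY ≫ pullback.fst yi (D.map φ) = qY ∧ sY ≫ pullback.snd yi (D.map φ) = pY ≫ c.π.app j ∧
      sX ≫ fj = f ≫ sY := by
  obtain ⟨j, g, hg1, hg2⟩ := Scheme.exists_π_app_comp_eq_of_locallyOfFinitePresentation
    (bcDiagram D i xi) (tBase D i xi) yi (bcCone hX) (isLimitBcCone hc hX) (f ≫ qY)
    (by
      ext j : 2
      simp only [NatTrans.comp_app, Functor.const_obj_obj, Functor.const_map_app, tBase]
      rw [← Category.assoc, bcCone_π_fst, hX.w, Category.assoc, hY.w, ← Category.assoc, hf])
  have hg2' : g ≫ yi = pullback.fst xi (D.map j.hom) ≫ xi := hg2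
  refine ⟨j.left, j.hom, pullback.lift g (pullback.snd xi (D.map j.hom))
    (by rw [hg2', pullback.condition]),
    (bcCone hX).π.app j, (bcCone hY).π.app j, ?_, ?_, ?_, ?_, ?_, ?_⟩
  · simp
  · exact bcCone_π_fst hX j
  · exact bcCone_π_snd hX j
  · exact bcCone_π_fst hY j
  · exact bcCone_π_snd hY j
  · apply pullback.hom_ext
    · rw [Category.assoc, pullback.lift_fst, hg1, Category.assoc, bcCone_π_fst]
    · rw [Category.assoc, pullback.lift_snd, Category.assoc, bcCone_π_snd, bcCone_π_snd,
        ← Category.assoc, hf]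

end Groth.Agent.Helper7.LimHom
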