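import Mathlib

set_option autoImplicit false
open CategoryTheory CategoryTheory.Limits AlgebraicGeometry Opposite
universe u

/-! helper7: an algebra is the filtered colimit of its finitely generated subalgebras; the spectrum as a limit of spectra of finite type over the base. -/

namespace Groth.Agent.Helper7.RelFGSub

variable (R : Type u) (B : Type u) [CommRing R] [CommRing B] [Algebra R B]

/-- finitely generated `R`-subalgebras of `B`. -/
abbrev Idx : Type u := {B₀ : Subalgebra R B // B₀.FG}

instance : Nonempty (Idx R B) := ⟨⟨⊥, Subalgebra.fg_bot⟩⟩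

instance : IsDirected (Idx R B) (· ≤ ·) :=
  ⟨fun a b => ⟨⟨a.1 ⊔ b.1, a.2.sup b.2⟩, (le_sup_left : a.1 ≤ a.1 ⊔ b.1),
    (le_sup_right : b.1 ≤ a.1 ⊔ b.1)⟩⟩

instance : IsFiltered (Idx R B) := inferInstance

/-- the diagram of finitely generated subalgebras. -/
noncomputable def ringDiag : Idx R B ⥤ CommRingCat.{u} where
  obj B₀ := CommRingCat.of B₀.1
  map {X Y} f := CommRingCat.ofHom (Subalgebra.inclusion (leOfHom f)).toRingHom
  map_id X := by ext x; rfl
  map_comp f g := by ext x; rfl

/-- the cocone of inclusions. -/
noncomputable def ringCocone : Cocone (ringDiag R B) where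
  pt := CommRingCat.of B
  ι := { app := fun B₀ => CommRingCat.ofHom (algebraMap B₀.1 B)
         naturality := fun X Y f => by ext x; rfl }

theorem isColimit_ringCocone : Nonempty (IsColimit (ringCocone R B)) := by
  let G : CommRingCat.{u} ⥤ Type u := forget CommRingCat
  have : G.ReflectsIsomorphisms := inferInstance
  have : HasColimit (ringDiag R B) := inferInstance
  have : PreservesColimit (ringDiag R B) G := inferInstance
  have : ReflectsColimit (ringDiag R B) G := reflectsColimit_of_reflectsIsomorphisms _ G
  refine ⟨isColimitOfReflects G ?_⟩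
  refine Types.FilteredColimit.isColimitOf' (ringDiag R B ⋙ G) (G.mapCocone (ringCocone R B)) ?_ ?_
  · intro x
    exact ⟨⟨Algebra.adjoin R ↑({x} : Finset B), Subalgebra.fg_adjoin_finset _⟩,
      ⟨x, Algebra.subset_adjoin (Finset.mem_singleton_self x)⟩, rfl⟩
  · intro j y y' h
    exact ⟨j, 𝟙 j, by
      have : y = y' := Subtype.ext h
      rw [this]⟩

/-- the diagram of spectra of finitely generated subalgebras. -/
noncomputable def specDiag : (Idx R B)ᵒᵖ ⥤ Scheme.{u} := (ringDiag R B).op ⋙ Scheme.Spec

/-- the cone over it with vertex the spectrum of `B`. -/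
noncomputable def specCone : Cone (specDiag R B) := Scheme.Spec.mapCone (ringCocone R B).op

theorem isLimit_specCone : Nonempty (IsLimit (specCone R B)) :=
  ⟨isLimitOfPreserves Scheme.Spec (isColimit_ringCocone R B).some.op⟩

instance {i j : (Idx R B)ᵒᵖ} (f : i ⟶ j) : IsAffineHom ((specDiag R B).map f) := by
  show IsAffineHom (Spec.map _)
  infer_instance

/-- the structure morphism of a stage to the spectrum of the base ring. -/
noncomputable def toBase (j : (Idx R B)ᵒᵖ) : (specDiag R B).obj j ⟶ Spec (CommRingCat.of R) :=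
  Spec.map (CommRingCat.ofHom (algebraMap R j.unop.1))

theorem map_toBase {i j : (Idx R B)ᵒᵖ} (f : i ⟶ j) :
    (specDiag R B).map f ≫ toBase R B j = toBase R B i := by
  change Spec.map _ ≫ Spec.map _ = Spec.map _
  rw [← Spec.map_comp]
  congr 1

theorem π_toBase (j : (Idx R B)ᵒᵖ) :
    (specCone R B).π.app j ≫ toBase R B j = Spec.map (CommRingCat.ofHom (algebraMap R B)) := by
  change Spec.map _ ≫ Spec.map _ = Spec.map _
  rw [← Spec.map_comp]
  congr 1

instance (j : (Idx R B)ᵒᵖ) : LocallyOfFiniteType (toBase R B j) := by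
  have h : LocallyOfFiniteType (Spec.map (CommRingCat.ofHom (algebraMap R j.unop.1))) := by
    rw [HasRingHomProperty.Spec_iff (P := @LocallyOfFiniteType)]
    have : Algebra.FiniteType R j.unop.1 := (Subalgebra.fg_iff_finiteType _).mp j.unop.2
    exact (RingHom.finiteType_algebraMap (A := R) (B := j.unop.1)).mpr this
  exact h

end Groth.Agent.Helper7.RelFGSub
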