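import Mathlib

set_option autoImplicit false
open CategoryTheory CategoryTheory.Limits AlgebraicGeometry Opposite
universe u

/-! helper7: a commutative ring is the filtered colimit of its finitely generated subrings. -/

namespace Groth.Agent.Helper7.FGSub

variable (A : Type u) [CommRing A]

/-- finitely generated subrings (subalgebras over the integers) of `A`. -/
abbrev Idx : Type u := {A₀ : Subalgebra ℤ A // A₀.FG}

instance : Nonempty (Idx A) := ⟨⟨⊥, Subalgebra.fg_bot⟩⟩

instance : IsDirected (Idx A) (· ≤ ·) :=
  ⟨fun a b => ⟨⟨a.1 ⊔ b.1, a.2.sup b.2⟩, (le_sup_left : a.1 ≤ a.1 ⊔ b.1),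
    (le_sup_right : b.1 ≤ a.1 ⊔ b.1)⟩⟩

instance : IsFiltered (Idx A) := inferInstance

/-- the diagram of finitely generated subrings. -/
noncomputable def ringDiag : Idx A ⥤ CommRingCat.{u} where
  obj A₀ := CommRingCat.of A₀.1
  map {X Y} f := CommRingCat.ofHom (Subalgebra.inclusion (leOfHom f)).toRingHom
  map_id X := by ext x; rfl
  map_comp f g := by ext x; rfl

/-- the cocone of inclusions. -/
noncomputable def ringCocone : Cocone (ringDiag A) where
  pt := CommRingCat.of A
  ι := { app := fun A₀ => CommRingCat.ofHom (algebraMap A₀.1 A)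
         naturality := fun X Y f => by ext x; rfl }

theorem isColimit_ringCocone : Nonempty (IsColimit (ringCocone A)) := by
  let G : CommRingCat.{u} ⥤ Type u := forget CommRingCat
  have : G.ReflectsIsomorphisms := inferInstance
  have : HasColimit (ringDiag A) := inferInstance
  have : PreservesColimit (ringDiag A) G := inferInstance
  have : ReflectsColimit (ringDiag A) G := reflectsColimit_of_reflectsIsomorphisms _ G
  refine ⟨isColimitOfReflects G ?_⟩
  refine Types.FilteredColimit.isColimitOf' (ringDiag A ⋙ G) (G.mapCocone (ringCocone A)) ?_ ?_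
  · intro x
    exact ⟨⟨Algebra.adjoin ℤ ↑({x} : Finset A), Subalgebra.fg_adjoin_finset _⟩,
      ⟨x, Algebra.subset_adjoin (Finset.mem_singleton_self x)⟩, rfl⟩
  · intro j y y' h
    exact ⟨j, 𝟙 j, by
      have : y = y' := Subtype.ext h
      rw [this]⟩

end Groth.Agent.Helper7.FGSub
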