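import Mathlib

set_option autoImplicit false
open CategoryTheory CategoryTheory.Limits AlgebraicGeometry Opposite TopologicalSpace
universe u

/-! helper7: pushouts of schemes along two open immersions: points -/

namespace Groth.Agent.Helper7.Glue2

variable {W X Y : Scheme.{u}} (f : W ⟶ X) (g : W ⟶ Y) [IsOpenImmersion f] [IsOpenImmersion g]

instance isOpenImmersion_inl : IsOpenImmersion (pushout.inl f g) :=
  inferInstanceAs (IsOpenImmersion (colimit.ι (span f g) WalkingSpan.left))

instance isOpenImmersion_inr : IsOpenImmersion (pushout.inr f g) :=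
  inferInstanceAs (IsOpenImmersion (colimit.ι (span f g) WalkingSpan.right))

theorem inl_or_inr_surjective (x : ↥(pushout f g)) :
    (∃ a : X, pushout.inl f g a = x) ∨ (∃ b : Y, pushout.inr f g b = x) := by
  obtain ⟨i, xi, hxi⟩ := Scheme.IsLocallyDirected.ι_jointly_surjective (span f g) x
  rcases i with _ | _ | _
  · left
    refine ⟨f xi, ?_⟩
    have hw : f ≫ pushout.inl f g = colimit.ι (span f g) none :=
      colimit.w (span f g) (WidePushoutShape.Hom.init WalkingPair.left)
    rw [← hxi, ← hw]
    rfl
  · left; exact ⟨xi, hxi⟩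
  · right; exact ⟨xi, hxi⟩

theorem inl_eq_inr_iff {a : X} {b : Y} :
    pushout.inl f g a = pushout.inr f g b ↔ ∃ w : W, f w = a ∧ g w = b := by
  constructor
  · intro h
    obtain ⟨k, fi, fj, x, hx1, hx2⟩ :=
      (Scheme.IsLocallyDirected.ι_eq_ι_iff (F := span f g) (i := WalkingSpan.left)
        (j := WalkingSpan.right) (xi := a) (xj := b)).mp h
    rcases k with _ | _ | _
    · have h1 : fi = WidePushoutShape.Hom.init WalkingPair.left := Subsingleton.elim _ _
      have h2 : fj = WidePushoutShape.Hom.init WalkingPair.right := Subsingleton.elim _ _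
      subst h1 h2
      exact ⟨x, hx1, hx2⟩
    · have h3 : WidePushoutShape.Hom (some WalkingPair.left) (some WalkingPair.right) := fj
      cases h3
    · have h3 : WidePushoutShape.Hom (some WalkingPair.right) (some WalkingPair.left) := fi
      cases h3
  · rintro ⟨w, rfl, rfl⟩
    rw [← Scheme.Hom.comp_apply, ← Scheme.Hom.comp_apply, pushout.condition]

end Groth.Agent.Helper7.Glue2
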