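import Mathlib
import Groth.Agent.Lib.Helper7.Glue2A

set_option autoImplicit false
open CategoryTheory CategoryTheory.Limits AlgebraicGeometry Opposite TopologicalSpace
universe u

/-! helper7: pushouts of schemes along two open immersions: properties of the induced morphism, compactness and quasi-separatedness -/

namespace Groth.Agent.Helper7.Glue2

variable {W X Y : Scheme.{u}} (f : W ⟶ X) (g : W ⟶ Y) [IsOpenImmersion f] [IsOpenImmersion g]

set_option backward.isDefEq.respectTransparency false in
theorem property_desc (P : MorphismProperty Scheme.{u}) [IsZariskiLocalAtSource P]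
    {B : Scheme.{u}} (a : X ⟶ B) (b : Y ⟶ B) (hab : f ≫ a = g ≫ b) (ha : P a) (hb : P b) :
    P (pushout.desc a b hab) := by
  refine IsZariskiLocalAtSource.of_openCover (Scheme.IsLocallyDirected.openCover (span f g))
    fun i => ?_
  rcases i with _ | _ | _
  · have hw : f ≫ pushout.inl f g = colimit.ι (span f g) none :=
      colimit.w (span f g) (WidePushoutShape.Hom.init WalkingPair.left)
    have h1 : colimit.ι (span f g) none ≫ pushout.desc a b hab = f ≫ a := by
      rw [← hw, Category.assoc, pushout.inl_desc]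
    have h2 : P (f ≫ a) := IsZariskiLocalAtSource.comp ha f
    rw [← h1] at h2
    exact h2
  · change P (pushout.inl f g ≫ pushout.desc a b hab)
    rwa [pushout.inl_desc]
  · change P (pushout.inr f g ≫ pushout.desc a b hab)
    rwa [pushout.inr_desc]

instance compactSpace_pushout [CompactSpace X] [CompactSpace Y] : CompactSpace ↥(pushout f g) := by
  rw [← isCompact_univ_iff]
  have h : (Set.univ : Set ↥(pushout f g)) =
      Set.range (pushout.inl f g) ∪ Set.range (pushout.inr f g) := by
    ext x
    simp only [Set.mem_univ, Set.mem_union, Set.mem_range, true_iff]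
    exact inl_or_inr_surjective f g x
  rw [h]
  exact (isCompact_range (pushout.inl f g).continuous).union
    (isCompact_range (pushout.inr f g).continuous)

theorem exists_affineOpen_mem (X : Scheme.{u}) (x : X) : ∃ A : X.affineOpens, x ∈ A.1 := by
  obtain ⟨_, ⟨A, hA, rfl⟩, hxA, -⟩ :=
    X.isBasis_affineOpens.exists_subset_of_mem_open (Set.mem_univ x) isOpen_univ
  exact ⟨⟨A, hA⟩, hxA⟩

set_option backward.isDefEq.respectTransparency false in
theorem quasiSeparatedSpace_pushout [QuasiSeparatedSpace X] [QuasiSeparatedSpace Y]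
    [CompactSpace W] : QuasiSeparatedSpace ↥(pushout f g) := by
  have hWqs : QuasiSeparatedSpace W :=
    quasiSeparatedSpace_of_quasiSeparated f
  let U : X.affineOpens ⊕ Y.affineOpens → (pushout f g).Opens :=
    Sum.elim (fun A => pushout.inl f g ''ᵁ A.1) (fun A => pushout.inr f g ''ᵁ A.1)
  have hinl : Function.Injective (pushout.inl f g) := (pushout.inl f g).isOpenEmbedding.injective
  have hinr : Function.Injective (pushout.inr f g) := (pushout.inr f g).isOpenEmbedding.injective
  -- the mixed intersections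
  have hmix : ∀ (A : X.affineOpens) (A' : Y.affineOpens),
      IsCompact ((pushout.inl f g ''ᵁ A.1 : (pushout f g).Opens) ∩
        (pushout.inr f g ''ᵁ A'.1 : (pushout f g).Opens) : Set ↥(pushout f g)) := by
    intro A A'
    have h1 : IsCompact (f ⁻¹' (A.1 : Set X)) :=
      QuasiCompact.isCompact_preimage (f := f) _ A.1.2 A.2.isCompact
    have h2 : IsCompact (g ⁻¹' (A'.1 : Set Y)) :=
      QuasiCompact.isCompact_preimage (f := g) _ A'.1.2 A'.2.isCompact
    have h3 : IsCompact (f ⁻¹' (A.1 : Set X) ∩ g ⁻¹' (A'.1 : Set Y)) :=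
      QuasiSeparatedSpace.inter_isCompact _ _ (A.1.2.preimage f.continuous) h1
        (A'.1.2.preimage g.continuous) h2
    have h4 : ((pushout.inl f g ''ᵁ A.1 : (pushout f g).Opens) ∩
        (pushout.inr f g ''ᵁ A'.1 : (pushout f g).Opens) : Set ↥(pushout f g)) =
        (f ≫ pushout.inl f g) '' (f ⁻¹' (A.1 : Set X) ∩ g ⁻¹' (A'.1 : Set Y)) := by
      ext x
      simp only [Scheme.Hom.coe_image, Set.mem_inter_iff, Set.mem_image, SetLike.mem_coe,
        Set.mem_preimage]
      constructor
      · rintro ⟨⟨a, ha, rfl⟩, ⟨b, hb, hab⟩⟩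
        obtain ⟨w, rfl, rfl⟩ := (inl_eq_inr_iff f g).mp hab.symm
        exact ⟨w, ⟨ha, hb⟩, rfl⟩
      · rintro ⟨w, ⟨ha, hb⟩, rfl⟩
        refine ⟨⟨f w, ha, rfl⟩, ⟨g w, hb, ?_⟩⟩
        rw [← Scheme.Hom.comp_apply, pushout.condition]
    rw [h4]
    exact h3.image (f ≫ pushout.inl f g).continuous
  refine Scheme.quasiSeparatedSpace_of_isOpenCover U ?_ ?_ ?_
  · refine IsOpenCover.mk (eq_top_iff.mpr fun x _ => ?_)
    rw [Opens.mem_iSup]
    rcases inl_or_inr_surjective f g x with ⟨a, rfl⟩ | ⟨b, rfl⟩
    · obtain ⟨A, hA⟩ := exists_affineOpen_mem X a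
      exact ⟨Sum.inl A, ⟨a, hA, rfl⟩⟩
    · obtain ⟨A, hA⟩ := exists_affineOpen_mem Y b
      exact ⟨Sum.inr A, ⟨b, hA, rfl⟩⟩
  · rintro (A | A)
    · exact A.2.image_of_isOpenImmersion _
    · exact A.2.image_of_isOpenImmersion _
  · rintro (A | A) (A' | A')
    · have : ((U (Sum.inl A) : (pushout f g).Opens) : Set ↥(pushout f g)) ∩ (U (Sum.inl A')) =
          pushout.inl f g '' ((A.1 : Set X) ∩ A'.1) := by
        simp only [U, Sum.elim_inl, Scheme.Hom.coe_image]
        rw [Set.image_inter hinl]
      rw [this]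
      exact (QuasiSeparatedSpace.inter_isCompact _ _ A.1.2 A.2.isCompact A'.1.2
        A'.2.isCompact).image (pushout.inl f g).continuous
    · exact hmix A A'
    · rw [Set.inter_comm]
      exact hmix A' A
    · have : ((U (Sum.inr A) : (pushout f g).Opens) : Set ↥(pushout f g)) ∩ (U (Sum.inr A')) =
          pushout.inr f g '' ((A.1 : Set Y) ∩ A'.1) := by
        simp only [U, Sum.elim_inr, Scheme.Hom.coe_image]
        rw [Set.image_inter hinr]
      rw [this]
      exact (QuasiSeparatedSpace.inter_isCompact _ _ A.1.2 A.2.isCompact A'.1.2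
        A'.2.isCompact).image (pushout.inr f g).continuous

end Groth.Agent.Helper7.Glue2
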