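import Mathlib
import Groth.Agent.Lib.Helper7.Glue2B

set_option autoImplicit false
open CategoryTheory CategoryTheory.Limits AlgebraicGeometry Opposite TopologicalSpace
universe u

/-! helper7: glueing morphisms along a cover by two open immersions; a scheme glued from two base changes is the base change of the glued scheme -/

namespace Groth.Agent.Helper7.Glue2

section TwoCover

variable {Z V U : Scheme.{u}} (iV : V ⟶ Z) (iU : U ⟶ Z) [IsOpenImmersion iV] [IsOpenImmersion iU]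

/-- the open cover given by two jointly surjective open immersions. -/
noncomputable def twoCover (hcov : ∀ z : Z, z ∈ Set.range iV ∨ z ∈ Set.range iU) : Z.OpenCover :=
  ⟨⟨Bool, fun t => Bool.rec U V t, fun t => Bool.rec iU iV t⟩,
    ⟨by
      simp
      intro x
      rcases hcov x with h | h
      · exact Or.inr h
      · exact Or.inl h, by
      simp
      exact ⟨inferInstance, inferInstance⟩⟩⟩

set_option backward.isDefEq.respectTransparency false in
/-- glueing two morphisms along two open immersions. -/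
theorem exists_glue (hcov : ∀ z : Z, z ∈ Set.range iV ∨ z ∈ Set.range iU) {T : Scheme.{u}}
    (φV : V ⟶ T) (φU : U ⟶ T)
    (h : pullback.fst iV iU ≫ φV = pullback.snd iV iU ≫ φU) :
    ∃ G : Z ⟶ T, iV ≫ G = φV ∧ iU ≫ G = φU := by
  let 𝒰 := twoCover iV iU hcov
  let φ : ∀ t : 𝒰.I₀, 𝒰.X t ⟶ T := fun t => Bool.rec φU φV t
  have hφ : ∀ s t : 𝒰.I₀, pullback.fst (𝒰.f s) (𝒰.f t) ≫ φ s = pullback.snd (𝒰.f s) (𝒰.f t) ≫ φ t := by
    intro s t
    rcases s with _ | _ <;> rcases t with _ | _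
    · change pullback.fst iU iU ≫ φU = pullback.snd iU iU ≫ φU
      rw [fst_eq_snd_of_mono_eq]
    · change pullback.fst iU iV ≫ φU = pullback.snd iU iV ≫ φV
      have h1 : pullback.fst iU iV = (pullbackSymmetry iU iV).hom ≫ pullback.snd iV iU := by simp
      have h2 : pullback.snd iU iV = (pullbackSymmetry iU iV).hom ≫ pullback.fst iV iU := by simp
      rw [h1, h2, Category.assoc, Category.assoc, h]
    · exact h
    · change pullback.fst iV iV ≫ φV = pullback.snd iV iV ≫ φV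
      rw [fst_eq_snd_of_mono_eq]
  refine ⟨𝒰.glueMorphisms φ hφ, ?_, ?_⟩
  · exact 𝒰.ι_glueMorphisms φ hφ true
  · exact 𝒰.ι_glueMorphisms φ hφ false

include iV iU in
theorem hom_ext_two (hcov : ∀ z : Z, z ∈ Set.range iV ∨ z ∈ Set.range iU) {T : Scheme.{u}}
    (φ ψ : Z ⟶ T) (hV : iV ≫ φ = iV ≫ ψ) (hU : iU ≫ φ = iU ≫ ψ) : φ = ψ := by
  refine (twoCover iV iU hcov).hom_ext _ _ fun t => ?_
  rcases t with _ | _
  · exact hU
  · exact hV

end TwoCover

section Verify

variable {W X Y : Scheme.{u}} (f : W ⟶ X) (g : W ⟶ Y) [IsOpenImmersion f] [IsOpenImmersion g]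
  {B S Z V U : Scheme.{u}} (π : S ⟶ B) (a : X ⟶ B) (b : Y ⟶ B) (hab : f ≫ a = g ≫ b)
  (h : Z ⟶ S) (iV : V ⟶ Z) (iU : U ⟶ Z) [IsOpenImmersion iV] [IsOpenImmersion iU]

set_option backward.isDefEq.respectTransparency false in
/-- a scheme glued from two base changes is the base change of the glued scheme. -/
theorem isPullback_of_glue (hcov : ∀ z : Z, z ∈ Set.range iV ∨ z ∈ Set.range iU)
    (gV : V ⟶ X) (gU : U ⟶ Y) (hV : IsPullback gV (iV ≫ h) a π) (hU : IsPullback gU (iU ≫ h) b π)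
    (G : Z ⟶ pushout f g) (hGV : iV ≫ G = gV ≫ pushout.inl f g)
    (hGU : iU ≫ G = gU ≫ pushout.inr f g)
    (hK : ∀ u : U, gU u ∈ Set.range g → iU u ∈ Set.range iV) :
    IsPullback G h (pushout.desc a b hab) π := by
  have hcomm : G ≫ pushout.desc a b hab = h ≫ π := by
    refine hom_ext_two iV iU hcov _ _ ?_ ?_
    · rw [← Category.assoc, hGV, Category.assoc, pushout.inl_desc, hV.w, Category.assoc]
    · rw [← Category.assoc, hGU, Category.assoc, pushout.inr_desc, hU.w, Category.assoc]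
  obtain ⟨ℓ, hℓ⟩ : ∃ ℓ : Z ⟶ pullback (pushout.desc a b hab) π, ℓ = pullback.lift G h hcomm :=
    ⟨_, rfl⟩
  have hℓ1 : ℓ ≫ pullback.fst _ _ = G := by rw [hℓ, pullback.lift_fst]
  have hℓ2 : ℓ ≫ pullback.snd _ _ = h := by rw [hℓ, pullback.lift_snd]
  -- the two pieces
  obtain ⟨mV, hmV⟩ : ∃ mV : pullback a π ⟶ pullback (pushout.desc a b hab) π,
      mV = pullback.map a π (pushout.desc a b hab) π (pushout.inl f g) (𝟙 S) (𝟙 B)
        (by simp) (by simp) := ⟨_, rfl⟩
  obtain ⟨mU, hmU⟩ : ∃ mU : pullback b π ⟶ pullback (pushout.desc a b hab) π,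
      mU = pullback.map b π (pushout.desc a b hab) π (pushout.inr f g) (𝟙 S) (𝟙 B)
        (by simp) (by simp) := ⟨_, rfl⟩
  have hmVo : IsOpenImmersion mV := by rw [hmV]; infer_instance
  have hmUo : IsOpenImmersion mU := by rw [hmU]; infer_instance
  have hmVr : Set.range mV = pullback.fst (pushout.desc a b hab) π ⁻¹'
      Set.range (pushout.inl f g) := by
    rw [hmV, Scheme.Pullback.range_map]
    simp
  have hmUr : Set.range mU = pullback.fst (pushout.desc a b hab) π ⁻¹'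
      Set.range (pushout.inr f g) := by
    rw [hmU, Scheme.Pullback.range_map]
    simp
  have hVℓ : iV ≫ ℓ = hV.isoPullback.hom ≫ mV := by
    apply pullback.hom_ext
    · rw [Category.assoc, hℓ1, hGV, Category.assoc, hmV, pullback.lift_fst,
        IsPullback.isoPullback_hom_fst_assoc]
    · rw [Category.assoc, hℓ2, Category.assoc, hmV, pullback.lift_snd, Category.comp_id,
        IsPullback.isoPullback_hom_snd]
  have hUℓ : iU ≫ ℓ = hU.isoPullback.hom ≫ mU := by
    apply pullback.hom_ext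
    · rw [Category.assoc, hℓ1, hGU, Category.assoc, hmU, pullback.lift_fst,
        IsPullback.isoPullback_hom_fst_assoc]
    · rw [Category.assoc, hℓ2, Category.assoc, hmU, pullback.lift_snd, Category.comp_id,
        IsPullback.isoPullback_hom_snd]
  have hVo : IsOpenImmersion (iV ≫ ℓ) := by rw [hVℓ]; infer_instance
  have hUo : IsOpenImmersion (iU ≫ ℓ) := by rw [hUℓ]; infer_instance
  -- injectivity
  have hVV : ∀ v₁ v₂ : V, ℓ (iV v₁) = ℓ (iV v₂) → iV v₁ = iV v₂ := by
    intro v₁ v₂ h12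
    have : (iV ≫ ℓ) v₁ = (iV ≫ ℓ) v₂ := h12
    rw [(iV ≫ ℓ).isOpenEmbedding.injective this]
  have hUU : ∀ u₁ u₂ : U, ℓ (iU u₁) = ℓ (iU u₂) → iU u₁ = iU u₂ := by
    intro u₁ u₂ h12
    have : (iU ≫ ℓ) u₁ = (iU ≫ ℓ) u₂ := h12
    rw [(iU ≫ ℓ).isOpenEmbedding.injective this]
  have hVU : ∀ (v : V) (u : U), ℓ (iV v) = ℓ (iU u) → iV v = iU u := by
    intro v u hvu
    have h1 : G (iV v) = G (iU u) := by
      rw [← hℓ1, Scheme.Hom.comp_apply, Scheme.Hom.comp_apply, hvu]
    have h2 : pushout.inl f g (gV v) = pushout.inr f g (gU u) := by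
      have e1 : G (iV v) = pushout.inl f g (gV v) := by
        rw [← Scheme.Hom.comp_apply, hGV, Scheme.Hom.comp_apply]
      have e2 : G (iU u) = pushout.inr f g (gU u) := by
        rw [← Scheme.Hom.comp_apply, hGU, Scheme.Hom.comp_apply]
      rw [← e1, ← e2, h1]
    obtain ⟨w, -, hw⟩ := (inl_eq_inr_iff f g).mp h2
    obtain ⟨v', hv'⟩ := hK u ⟨w, hw⟩
    rw [← hv'] at hvu ⊢
    exact hVV v v' hvu
  have hinj : Function.Injective ℓ := by
    intro z₁ z₂ h12
    rcases hcov z₁ with ⟨v₁, rfl⟩ | ⟨u₁, rfl⟩ <;> rcases hcov z₂ with ⟨v₂, rfl⟩ | ⟨u₂, rfl⟩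
    · exact hVV v₁ v₂ h12
    · exact hVU v₁ u₂ h12
    · exact (hVU v₂ u₁ h12.symm).symm
    · exact hUU u₁ u₂ h12
  have hopen : IsOpenImmersion ℓ := by
    refine IsOpenImmersion.of_forall_source_exists ℓ hinj fun z => ?_
    rcases hcov z with hz | hz
    · exact ⟨V, iV, inferInstance, hz, hVo⟩
    · exact ⟨U, iU, inferInstance, hz, hUo⟩
  have hsurj : Surjective ℓ := by
    refine ⟨fun y => ?_⟩
    rcases inl_or_inr_surjective f g (pullback.fst (pushout.desc a b hab) π y) with ⟨x, hx⟩ | ⟨x, hx⟩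
    · have hy : y ∈ Set.range mV := by rw [hmVr]; exact ⟨x, hx⟩
      obtain ⟨y', rfl⟩ := hy
      refine ⟨iV (hV.isoPullback.inv y'), ?_⟩
      rw [← Scheme.Hom.comp_apply, ← Scheme.Hom.comp_apply, hVℓ, Iso.inv_hom_id_assoc]
    · have hy : y ∈ Set.range mU := by rw [hmUr]; exact ⟨x, hx⟩
      obtain ⟨y', rfl⟩ := hy
      refine ⟨iU (hU.isoPullback.inv y'), ?_⟩
      rw [← Scheme.Hom.comp_apply, ← Scheme.Hom.comp_apply, hUℓ, Iso.inv_hom_id_assoc]
  have hiso : IsIso ℓ := (isIso_iff_isOpenImmersion_and_surjective ℓ).mpr ⟨hopen, hsurj⟩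
  exact IsPullback.of_iso_pullback ⟨hcomm⟩ (asIso ℓ) hℓ1 hℓ2

set_option backward.isDefEq.respectTransparency false in
/-- the union step: two base changes glued along a common open piece. -/
theorem exists_glued (hcov : ∀ z : Z, z ∈ Set.range iV ∨ z ∈ Set.range iU)
    (gV : V ⟶ X) (gU : U ⟶ Y) (hV : IsPullback gV (iV ≫ h) a π) (hU : IsPullback gU (iU ≫ h) b π)
    (r : pullback iV iU ⟶ W) (hr1 : r ≫ f = pullback.fst iV iU ≫ gV)
    (hr2 : IsPullback r (pullback.snd iV iU) g gU) :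
    ∃ G : Z ⟶ pushout f g, IsPullback G h (pushout.desc a b hab) π := by
  have hcompat : pullback.fst iV iU ≫ gV ≫ pushout.inl f g =
      pullback.snd iV iU ≫ gU ≫ pushout.inr f g := by
    rw [← Category.assoc, ← hr1, Category.assoc, pushout.condition, ← Category.assoc, hr2.w,
      Category.assoc]
  obtain ⟨G, hGV, hGU⟩ := exists_glue iV iU hcov (gV ≫ pushout.inl f g) (gU ≫ pushout.inr f g)
    hcompat
  refine ⟨G, isPullback_of_glue f g π a b hab h iV iU hcov gV gU hV hU G hGV hGU ?_⟩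
  rintro u ⟨w, hw⟩
  obtain ⟨z, -, hz2⟩ := Scheme.Pullback.exists_preimage_pullback (f := g) (g := gU) w u hw
  refine ⟨pullback.fst iV iU (hr2.isoPullback.inv z), ?_⟩
  rw [← Scheme.Hom.comp_apply, pullback.condition, Scheme.Hom.comp_apply]
  congr 1
  rw [← Scheme.Hom.comp_apply, IsPullback.isoPullback_inv_snd, hz2]

end Verify

end Groth.Agent.Helper7.Glue2
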