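import Mathlib
import Groth.Agent.Lib.Helper7.LimStage

set_option autoImplicit false
open CategoryTheory CategoryTheory.Limits AlgebraicGeometry Opposite TopologicalSpace
universe u

/-! helper7: descent of affineness of a morphism to a finite stage of a cofiltered limit of
schemes with affine transition maps. -/

namespace Groth.Agent.Helper7.LimProps

open Groth.Agent.Helper7.LimBC Groth.Agent.Helper7.LimStage

variable {I : Type u} [Category.{u} I] [IsCofiltered I] (D : I ⥤ Scheme.{u}) (c : Cone D)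
  (hc : IsLimit c) [∀ {i j : I} (f : i ⟶ j), IsAffineHom (D.map f)] {i₀ : I}
  {X₀ Y₀ : Scheme.{u}} (f₀ : X₀ ⟶ Y₀) (g₀ : Y₀ ⟶ D.obj i₀)

include hc in
theorem isAffine_pullback_lim [IsAffine Y₀] : IsAffine (pullback g₀ (c.π.app i₀)) := by
  have := isAffineHom_π_app D c hc i₀
  infer_instance

set_option backward.isDefEq.respectTransparency false in
include hc in
theorem affineBase_isAffineHom [IsAffine Y₀] [CompactSpace X₀] [QuasiSeparatedSpace X₀]
    (h : IsAffineHom (bcHom f₀ g₀ (c.π.app i₀))) :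
    ∃ (j : I) (φ : j ⟶ i₀), IsAffineHom (bcHom f₀ g₀ (D.map φ)) := by
  have h1 := isAffine_pullback_lim D c hc g₀
  have h2 : IsAffine (pullback (f₀ ≫ g₀) (c.π.app i₀)) :=
    isAffine_of_isAffineHom (bcHom f₀ g₀ (c.π.app i₀))
  obtain ⟨j, φ, hj⟩ := exists_isAffine_pullback D c i₀ (f₀ ≫ g₀) hc
    (IsPullback.of_hasPullback (f₀ ≫ g₀) (c.π.app i₀))
  exact ⟨j, φ, inferInstance⟩

set_option backward.isDefEq.respectTransparency false in
include hc in
theorem exists_stage_isAffineHom [CompactSpace X₀] [QuasiSeparatedSpace X₀] [CompactSpace Y₀]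
    [QuasiSeparatedSpace Y₀] (h : IsAffineHom (bcHom f₀ g₀ (c.π.app i₀))) :
    ∃ (j : I) (φ : j ⟶ i₀), IsAffineHom (bcHom f₀ g₀ (D.map φ)) := by
  apply exists_stage_of_affine D f₀ g₀ @IsAffineHom
  intro V _ v _
  have : CompactSpace ↥(pullback f₀ v) :=
    QuasiCompact.compactSpace_of_compactSpace (pullback.snd f₀ v)
  have : QuasiSeparatedSpace ↥(pullback f₀ v) :=
    quasiSeparatedSpace_of_quasiSeparated (pullback.fst f₀ v)
  exact affineBase_isAffineHom D c hc (pullback.snd f₀ v) (v ≫ g₀)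
    (bcHom_restrict f₀ g₀ @IsAffineHom _ v h)

end Groth.Agent.Helper7.LimProps
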