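import Mathlib

set_option autoImplicit false
open CategoryTheory CategoryTheory.Limits
universe u

/-! helper7: ring-level lemmas for finite-stage arguments: generators of a finite type algebra
generate its pushouts; surjectivity and finiteness of a pushout from conditions on generators. -/

namespace Groth.Agent.Helper7.LimRing

variable {B₀ A₀ Bφ Aφ : CommRingCat.{u}} {β₀ : B₀ ⟶ A₀} {ι : B₀ ⟶ Bφ} {α : A₀ ⟶ Aφ}
  {βφ : Bφ ⟶ Aφ}

/-- generators of `A₀` over `B₀` generate the pushout over `Bφ`. -/
theorem closure_eq_top_of_isPushout (H : IsPushout β₀ ι α βφ) (s : Set A₀)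
    (hs : Subring.closure (Set.range β₀.hom ∪ s) = ⊤) :
    Subring.closure (Set.range βφ.hom ∪ α.hom '' s) = ⊤ := by
  set T := Subring.closure (Set.range βφ.hom ∪ α.hom '' s) with hT
  have h1 : Set.range βφ.hom ⊆ T := fun x hx => Subring.subset_closure (Or.inl hx)
  have h2 : (⊤ : Subring A₀) ≤ T.comap α.hom := by
    rw [← hs, Subring.closure_le]
    rintro x (⟨b, rfl⟩ | hx)
    · change α.hom (β₀.hom b) ∈ T
      have e : α.hom (β₀.hom b) = βφ.hom (ι.hom b) := by
        have := congr($(H.w).hom b)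
        simpa using this
      rw [e]
      exact h1 ⟨_, rfl⟩
    · exact Subring.subset_closure (Or.inr ⟨x, hx, rfl⟩)
  have h3 : Set.range α.hom ⊆ T := by
    rintro _ ⟨a, rfl⟩
    exact h2 (Subring.mem_top a)
  rw [← top_le_iff, ← CommRingCat.closure_range_union_range_eq_top_of_isPushout H,
    Subring.closure_le]
  rintro x (hx | hx)
  · exact h3 hx
  · exact h1 hx

theorem exists_finset_closure_eq_top (h : β₀.hom.FiniteType) :
    ∃ s : Finset A₀, Subring.closure (Set.range β₀.hom ∪ (s : Set A₀)) = ⊤ := by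
  algebraize [β₀.hom]
  have hft : Algebra.FiniteType B₀ A₀ := h
  obtain ⟨s, hs⟩ := hft.out
  refine ⟨s, ?_⟩
  have := Algebra.adjoin_eq_ring_closure (R := B₀) (s : Set A₀)
  rw [hs] at this
  exact this.symm

theorem surjective_of_isPushout (H : IsPushout β₀ ι α βφ) (s : Set A₀)
    (hs : Subring.closure (Set.range β₀.hom ∪ s) = ⊤)
    (h : ∀ x ∈ s, α.hom x ∈ Set.range βφ.hom) : Function.Surjective βφ.hom := by
  have h1 := closure_eq_top_of_isPushout H s hs
  have h2 : Subring.closure (Set.range βφ.hom ∪ α.hom '' s) ≤ βφ.hom.range := by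
    rw [Subring.closure_le]
    rintro x (hx | ⟨y, hy, rfl⟩)
    · exact hx
    · exact h y hy
  rw [h1, top_le_iff] at h2
  exact RingHom.range_eq_top.mp h2

theorem finite_of_isPushout (H : IsPushout β₀ ι α βφ) (s : Finset A₀)
    (hs : Subring.closure (Set.range β₀.hom ∪ (s : Set A₀)) = ⊤)
    (h : ∀ x ∈ s, βφ.hom.IsIntegralElem (α.hom x)) : βφ.hom.Finite := by
  have h1 := closure_eq_top_of_isPushout H s hs
  algebraize [βφ.hom]
  have h2 : Subring.closure (Set.range βφ.hom ∪ α.hom '' (s : Set A₀)) ≤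
      (integralClosure Bφ Aφ).toSubring := by
    rw [Subring.closure_le]
    rintro x (⟨b, rfl⟩ | ⟨y, hy, rfl⟩)
    · exact (integralClosure Bφ Aφ).algebraMap_mem b
    · exact h y hy
  rw [h1, top_le_iff] at h2
  have hint : Algebra.IsIntegral Bφ Aφ := by
    refine ⟨fun x => ?_⟩
    have : x ∈ (integralClosure Bφ Aφ).toSubring := by rw [h2]; trivial
    exact this
  have hft : Algebra.FiniteType Bφ Aφ := by
    classical
    refine ⟨⟨s.image α.hom, ?_⟩⟩
    apply Subalgebra.toSubring_injective
    rw [Algebra.adjoin_eq_ring_closure]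
    simp only [Finset.coe_image, Algebra.top_toSubring]
    exact h1
  have : Module.Finite Bφ Aφ := Algebra.IsIntegral.finite
  exact this

end Groth.Agent.Helper7.LimRing
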