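import Mathlib
import Groth.Agent.Lib.Helper7.LimStage
import Groth.Agent.Lib.Helper7.LimRing
import Groth.Agent.Lib.Helper7.LimProps

set_option autoImplicit false
open CategoryTheory CategoryTheory.Limits AlgebraicGeometry Opposite TopologicalSpace
universe u

/-! helper7: descent of finite / closed immersion / separated morphisms through cofiltered limits
with affine transition maps (Stacks 01ZO, 081B and the diagonal trick). -/

namespace Groth.Agent.Helper7.LimFin

open Groth.Agent.Helper7.LimBC Groth.Agent.Helper7.LimStage Groth.Agent.Helper7.LimRing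

variable {I : Type u} [Category.{u} I] (D : I ⥤ Scheme.{u}) (c : Cone D) {i₀ : I}
  {X₀ Y₀ : Scheme.{u}} (f₀ : X₀ ⟶ Y₀) (g₀ : Y₀ ⟶ D.obj i₀)

/-- the limit cone of the stages of `X₀`. -/
noncomputable abbrev cX : Cone (bcDiagram D i₀ (f₀ ≫ g₀)) :=
  bcCone (IsPullback.of_hasPullback (f₀ ≫ g₀) (c.π.app i₀))

/-- the limit cone of the stages of `Y₀`. -/
noncomputable abbrev cY : Cone (bcDiagram D i₀ g₀) :=
  bcCone (IsPullback.of_hasPullback g₀ (c.π.app i₀))

/-- the stage of `f₀`, typed through the diagrams. -/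
noncomputable def stF (j : Over i₀) :
    (bcDiagram D i₀ (f₀ ≫ g₀)).obj j ⟶ (bcDiagram D i₀ g₀).obj j :=
  bcHom f₀ g₀ (D.map j.hom)

/-- the projection of a stage to `X₀`. -/
noncomputable def stFst (j : Over i₀) : (bcDiagram D i₀ (f₀ ≫ g₀)).obj j ⟶ X₀ :=
  pullback.fst (f₀ ≫ g₀) (D.map j.hom)

/-- the projection of a stage of `Y₀`. -/
noncomputable def stFstY (j : Over i₀) : (bcDiagram D i₀ g₀).obj j ⟶ Y₀ :=
  pullback.fst g₀ (D.map j.hom)

/-- the limit of `f₀`. -/
noncomputable def limF : (cX D c f₀ g₀).pt ⟶ (cY D c g₀).pt :=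
  bcHom f₀ g₀ (c.π.app i₀)

/-- the projection of the limit to `X₀`. -/
noncomputable def limFst : (cX D c f₀ g₀).pt ⟶ X₀ :=
  pullback.fst (f₀ ≫ g₀) (c.π.app i₀)

set_option backward.isDefEq.respectTransparency false in
theorem cX_π_stF (j : Over i₀) :
    (cX D c f₀ g₀).π.app j ≫ stF D f₀ g₀ j = limF D c f₀ g₀ ≫ (cY D c g₀).π.app j := by
  apply pullback.hom_ext
  · simp [stF, limF]
  · simp [stF, limF]

set_option backward.isDefEq.respectTransparency false in
theorem cX_π_stFst (j : Over i₀) :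
    (cX D c f₀ g₀).π.app j ≫ stFst D f₀ g₀ j = limFst D c f₀ g₀ := by
  simp [stFst, limFst]

set_option backward.isDefEq.respectTransparency false in
theorem map_stF {j k : Over i₀} (ψ : j ⟶ k) :
    (bcDiagram D i₀ (f₀ ≫ g₀)).map ψ ≫ stF D f₀ g₀ k =
      stF D f₀ g₀ j ≫ (bcDiagram D i₀ g₀).map ψ := by
  apply pullback.hom_ext
  · simp [stF]
  · simp [stF]

set_option backward.isDefEq.respectTransparency false in
theorem map_stFst {j k : Over i₀} (ψ : j ⟶ k) :
    (bcDiagram D i₀ (f₀ ≫ g₀)).map ψ ≫ stFst D f₀ g₀ k = stFst D f₀ g₀ j := by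
  simp [stFst]

theorem isPullback_stF (j : Over i₀) :
    IsPullback (stFst D f₀ g₀ j) (stF D f₀ g₀ j) f₀ (stFstY D g₀ j) :=
  isPullback_bcHom f₀ g₀ (D.map j.hom)

theorem comp_appTop_apply {X Y Z : Scheme.{u}} (f : X ⟶ Y) (g : Y ⟶ Z) (b : Γ(Z, ⊤)) :
    (f ≫ g).appTop b = f.appTop (g.appTop b) := by
  rw [Scheme.Hom.comp_appTop, CommRingCat.comp_apply]

/-- membership in the range passes to later stages. -/
theorem range_mono {j k : Over i₀} (ψ : j ⟶ k) (x : Γ(X₀, ⊤))
    (h : (stFst D f₀ g₀ k).appTop x ∈ Set.range (stF D f₀ g₀ k).appTop) :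
    (stFst D f₀ g₀ j).appTop x ∈ Set.range (stF D f₀ g₀ j).appTop := by
  obtain ⟨b, hb⟩ := h
  refine ⟨((bcDiagram D i₀ g₀).map ψ).appTop b, ?_⟩
  rw [← comp_appTop_apply, ← map_stF, comp_appTop_apply, hb, ← comp_appTop_apply, map_stFst]

section

variable [IsCofiltered I] [∀ {i j : I} (f : i ⟶ j), IsAffineHom (D.map f)] (hc : IsLimit c)

set_option backward.isDefEq.respectTransparency false in
include hc in
/-- a global section of `X₀` whose pullback to the limit comes from the limit of `Y₀` already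
comes from `Y₀` at a finite stage. -/
theorem exists_stage_mem_range [CompactSpace X₀] [QuasiSeparatedSpace X₀] [CompactSpace Y₀]
    [QuasiSeparatedSpace Y₀] (x : Γ(X₀, ⊤))
    (h : (limFst D c f₀ g₀).appTop x ∈ Set.range (limF D c f₀ g₀).appTop) :
    ∃ j : Over i₀, (stFst D f₀ g₀ j).appTop x ∈ Set.range (stF D f₀ g₀ j).appTop := by
  obtain ⟨b, hb⟩ := h
  obtain ⟨j, b', hb'⟩ := exists_appTop_π_eq_of_isLimit (bcDiagram D i₀ g₀) (cY D c g₀)
    (isLimitBcCone hc _) b
  have e : ((cX D c f₀ g₀).π.app j).appTop ((stFst D f₀ g₀ j).appTop x) =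
      ((cX D c f₀ g₀).π.app j).appTop ((stF D f₀ g₀ j).appTop b') := by
    subst hb'
    rw [← comp_appTop_apply, cX_π_stFst, ← comp_appTop_apply, cX_π_stF, comp_appTop_apply]
    exact hb.symm
  obtain ⟨k, ψ, hk⟩ := exists_app_map_eq_map_of_isLimit (bcDiagram D i₀ (f₀ ≫ g₀))
    (cX D c f₀ g₀) (isLimitBcCone hc _) (U := ⊤) isCompact_univ _ _ e
  refine ⟨k, ((bcDiagram D i₀ g₀).map ψ).appTop b', ?_⟩
  rw [← comp_appTop_apply, ← map_stF, comp_appTop_apply]
  refine Eq.trans hk.symm ?_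
  change ((bcDiagram D i₀ (f₀ ≫ g₀)).map ψ).appTop ((stFst D f₀ g₀ j).appTop x) = _
  rw [← comp_appTop_apply, map_stFst]

omit [IsCofiltered I] [∀ {i j : I} (f : i ⟶ j), IsAffineHom (D.map f)] in
theorem appTop_hom_comp {X Y Z : Scheme.{u}} (f : X ⟶ Y) (g : Y ⟶ Z) :
    (f ≫ g).appTop.hom = f.appTop.hom.comp g.appTop.hom := by
  rw [Scheme.Hom.comp_appTop, CommRingCat.hom_comp]

omit [IsCofiltered I] [∀ {i j : I} (f : i ⟶ j), IsAffineHom (D.map f)] in
/-- integrality of a section passes to later stages. -/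
theorem isIntegralElem_mono {j k : Over i₀} (ψ : j ⟶ k) (x : Γ(X₀, ⊤))
    (h : (stF D f₀ g₀ k).appTop.hom.IsIntegralElem ((stFst D f₀ g₀ k).appTop x)) :
    (stF D f₀ g₀ j).appTop.hom.IsIntegralElem ((stFst D f₀ g₀ j).appTop x) := by
  obtain ⟨q, hqm, hq⟩ := h
  refine ⟨q.map ((bcDiagram D i₀ g₀).map ψ).appTop.hom, hqm.map _, ?_⟩
  rw [Polynomial.eval₂_map, ← appTop_hom_comp, ← map_stF, appTop_hom_comp, ← map_stFst D f₀ g₀ ψ,
    comp_appTop_apply]
  have := congrArg ((bcDiagram D i₀ (f₀ ≫ g₀)).map ψ).appTop.hom hq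
  rw [Polynomial.hom_eval₂, map_zero] at this
  exact this

set_option backward.isDefEq.respectTransparency false in
include hc in
/-- a global section of `X₀` whose pullback to the limit is integral over the limit of `Y₀` is
already integral at a finite stage. -/
theorem exists_stage_isIntegralElem [CompactSpace X₀] [QuasiSeparatedSpace X₀] [CompactSpace Y₀]
    [QuasiSeparatedSpace Y₀] (x : Γ(X₀, ⊤))
    (h : (limF D c f₀ g₀).appTop.hom.IsIntegralElem ((limFst D c f₀ g₀).appTop x)) :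
    ∃ j : Over i₀, (stF D f₀ g₀ j).appTop.hom.IsIntegralElem ((stFst D f₀ g₀ j).appTop x) := by
  classical
  obtain ⟨p, hp, hpx⟩ := h
  have hcoef : ∀ n : ℕ, ∃ (j : Over i₀) (b : Γ((bcDiagram D i₀ g₀).obj j, ⊤)),
      p.coeff n = ((cY D c g₀).π.app j).appTop b := fun n =>
    exists_appTop_π_eq_of_isLimit _ _ (isLimitBcCone hc _) (p.coeff n)
  choose jn bn hbn using hcoef
  obtain ⟨j, hj⟩ := IsCofiltered.inf_objs_exists (p.support.image jn)
  have ψ : ∀ n ∈ p.support, j ⟶ jn n := fun n hn => (hj (Finset.mem_image_of_mem jn hn)).some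
  have hlift : p ∈ Polynomial.lifts ((cY D c g₀).π.app j).appTop.hom := by
    rw [Polynomial.lifts_iff_coeff_lifts]
    intro n
    by_cases hn : n ∈ p.support
    · refine ⟨((bcDiagram D i₀ g₀).map (ψ n hn)).appTop (bn n), ?_⟩
      change ((cY D c g₀).π.app j).appTop _ = _
      rw [← comp_appTop_apply, Cone.w]
      exact (hbn n).symm
    · rw [Polynomial.notMem_support_iff.mp hn]
      exact ⟨0, map_zero _⟩
  obtain ⟨q, hq, -, hqm⟩ := Polynomial.lifts_and_natDegree_eq_and_monic hlift hp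
  have e0 : ((cX D c f₀ g₀).π.app j).appTop
      (Polynomial.eval₂ (stF D f₀ g₀ j).appTop.hom ((stFst D f₀ g₀ j).appTop x) q) = 0 := by
    change ((cX D c f₀ g₀).π.app j).appTop.hom _ = 0
    rw [Polynomial.hom_eval₂, ← appTop_hom_comp, cX_π_stF, appTop_hom_comp, ← Polynomial.eval₂_map,
      hq]
    change Polynomial.eval₂ _ (((cX D c f₀ g₀).π.app j).appTop ((stFst D f₀ g₀ j).appTop x)) p = 0
    rw [← comp_appTop_apply, cX_π_stFst]
    exact hpx
  obtain ⟨k, ψ', hk⟩ := exists_app_map_eq_map_of_isLimit (bcDiagram D i₀ (f₀ ≫ g₀))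
    (cX D c f₀ g₀) (isLimitBcCone hc _) (U := ⊤) isCompact_univ _ 0
    (e0.trans (map_zero _).symm)
  refine ⟨k, q.map ((bcDiagram D i₀ g₀).map ψ').appTop.hom, hqm.map _, ?_⟩
  rw [Polynomial.eval₂_map, ← appTop_hom_comp, ← map_stF, appTop_hom_comp,
    ← map_stFst D f₀ g₀ ψ', comp_appTop_apply, ← Polynomial.hom_eval₂]
  exact hk.trans (map_zero _)

omit [∀ {i j : I} (f : i ⟶ j), IsAffineHom (D.map f)] in
/-- common stage for finitely many sections, for a predicate stable under later stages. -/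
theorem exists_common_stage (Q : Over i₀ → Γ(X₀, ⊤) → Prop)
    (hmono : ∀ {j k : Over i₀} (_ : j ⟶ k) (x : Γ(X₀, ⊤)), Q k x → Q j x)
    (s : Finset Γ(X₀, ⊤)) (h : ∀ x ∈ s, ∃ j : Over i₀, Q j x) :
    ∃ j : Over i₀, ∀ x ∈ s, Q j x := by
  classical
  have : Nonempty (Over i₀) := ⟨Over.mk (𝟙 i₀)⟩
  choose! jx hjx using h
  obtain ⟨j, hj⟩ := IsCofiltered.inf_objs_exists (s.image jx)
  refine ⟨j, fun x hx => ?_⟩
  exact hmono (hj (Finset.mem_image_of_mem jx hx)).some x (hjx x hx)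

set_option backward.isDefEq.respectTransparency false in
include hc in
theorem affineAffine_isClosedImmersion [IsAffine X₀] [IsAffine Y₀] [LocallyOfFiniteType f₀]
    (h : IsClosedImmersion (bcHom f₀ g₀ (c.π.app i₀))) :
    ∃ (j : I) (φ : j ⟶ i₀), IsClosedImmersion (bcHom f₀ g₀ (D.map φ)) := by
  have hπ := isAffineHom_π_app D c hc i₀
  have hYlim : IsAffine (pullback g₀ (c.π.app i₀)) := inferInstance
  have hft : RingHom.FiniteType f₀.appTop.hom :=
    (HasRingHomProperty.iff_of_isAffine (P := @LocallyOfFiniteType)).mp inferInstance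
  obtain ⟨s, hs⟩ := exists_finset_closure_eq_top hft
  have hsurj : Function.Surjective (limF D c f₀ g₀).appTop :=
    ((HasAffineProperty.iff_of_isAffine (P := @IsClosedImmersion)).mp h).2
  obtain ⟨j, hj⟩ := exists_common_stage
    (fun j x => (stFst D f₀ g₀ j).appTop x ∈ Set.range (stF D f₀ g₀ j).appTop)
    (fun ψ x hx => range_mono D f₀ g₀ ψ x hx) s
    (fun x _ => exists_stage_mem_range D c f₀ g₀ hc x (hsurj _))
  refine ⟨j.left, j.hom, ?_⟩
  have hYj : IsAffine (pullback g₀ (D.map j.hom)) := inferInstance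
  have hXj : IsAffine (pullback (f₀ ≫ g₀) (D.map j.hom)) := inferInstance
  have hYj' : IsAffine ((bcDiagram D i₀ g₀).obj j) := hYj
  have hpo := isPushout_appTop_of_isPullback (isPullback_stF D f₀ g₀ j)
  have := surjective_of_isPushout hpo s hs hj
  exact (HasAffineProperty.iff_of_isAffine (P := @IsClosedImmersion)).mpr ⟨hXj, this⟩

set_option backward.isDefEq.respectTransparency false in
include hc in
theorem affineAffine_isFinite [IsAffine X₀] [IsAffine Y₀] [LocallyOfFiniteType f₀]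
    (h : IsFinite (bcHom f₀ g₀ (c.π.app i₀))) :
    ∃ (j : I) (φ : j ⟶ i₀), IsFinite (bcHom f₀ g₀ (D.map φ)) := by
  have hπ := isAffineHom_π_app D c hc i₀
  have hYlim : IsAffine (pullback g₀ (c.π.app i₀)) := inferInstance
  have hft : RingHom.FiniteType f₀.appTop.hom :=
    (HasRingHomProperty.iff_of_isAffine (P := @LocallyOfFiniteType)).mp inferInstance
  obtain ⟨s, hs⟩ := exists_finset_closure_eq_top hft
  have hfin : (limF D c f₀ g₀).appTop.hom.Finite :=
    ((HasAffineProperty.iff_of_isAffine (P := @IsFinite)).mp h).2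
  obtain ⟨j, hj⟩ := exists_common_stage
    (fun j x => (stF D f₀ g₀ j).appTop.hom.IsIntegralElem ((stFst D f₀ g₀ j).appTop x))
    (fun ψ x hx => isIntegralElem_mono D f₀ g₀ ψ x hx) s
    (fun x _ => exists_stage_isIntegralElem D c f₀ g₀ hc x (hfin.to_isIntegral _))
  refine ⟨j.left, j.hom, ?_⟩
  have hYj : IsAffine (pullback g₀ (D.map j.hom)) := inferInstance
  have hXj : IsAffine (pullback (f₀ ≫ g₀) (D.map j.hom)) := inferInstance
  have hYj' : IsAffine ((bcDiagram D i₀ g₀).obj j) := hYj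
  have hpo := isPushout_appTop_of_isPullback (isPullback_stF D f₀ g₀ j)
  have := finite_of_isPushout hpo s hs hj
  exact (HasAffineProperty.iff_of_isAffine (P := @IsFinite)).mpr ⟨hXj, this⟩

end

section Rebase

variable {X₀ Y₀ Z₀ Z₁ Z : Scheme.{u}} (f₀ : X₀ ⟶ Y₀) (g₀ : Y₀ ⟶ Z₀) (r : Z₁ ⟶ Z₀) (s' : Z ⟶ Z₁)

set_option backward.isDefEq.respectTransparency false in
/-- changing the base stage: the base change of the `r`-stage along `s'` has `P` iff the base
change along `s' ≫ r` has it. -/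
theorem rebase_iff (P : MorphismProperty Scheme.{u}) [P.IsStableUnderBaseChange] :
    P (bcHom (bcHom f₀ g₀ r) (pullback.snd g₀ r) s') ↔ P (bcHom f₀ g₀ (s' ≫ r)) := by
  have hbc1 : IsBC f₀ (bcHom (bcHom f₀ g₀ r) (pullback.snd g₀ r) s')
      (pullback.fst (pullback.snd g₀ r) s' ≫ pullback.fst g₀ r) :=
    IsBC.comp (isBC_bcHom f₀ g₀ r) (isBC_bcHom _ _ s')
  have hbc2 := isBC_bcHom f₀ g₀ (s' ≫ r)
  constructor
  · intro h
    refine IsBC.of_fac P hbc1 hbc2
      (pullback.lift (pullback.lift (pullback.fst _ _) (pullback.snd _ _ ≫ s')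
        (by rw [pullback.condition, Category.assoc])) (pullback.snd _ _) (by simp)) ?_ h
    simp
  · intro h
    refine IsBC.of_fac P hbc2 hbc1
      (pullback.lift (pullback.fst _ _ ≫ pullback.fst _ _) (pullback.snd _ _) ?_) ?_ h
    · rw [Category.assoc, pullback.condition, ← Category.assoc, pullback.condition, Category.assoc]
    · simp

end Rebase

section Diagonal

variable {X₀ Y₀ Z₀ Z : Scheme.{u}} (f₀ : X₀ ⟶ Y₀) (g₀ : Y₀ ⟶ Z₀) (s : Z ⟶ Z₀)

set_option backward.isDefEq.respectTransparency false in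
/-- the diagonal of a base change is a base change of the diagonal. -/
theorem isPullback_diagonal {X Y : Scheme.{u}} {f : X ⟶ Y} {qX : X ⟶ X₀} {qY : Y ⟶ Y₀}
    (hX : IsPullback qX f f₀ qY) :
    IsPullback qX (pullback.diagonal f) (pullback.diagonal f₀)
      (pullback.map f f f₀ f₀ qX qX qY hX.w.symm hX.w.symm) := by
  refine ⟨⟨?_⟩, ⟨PullbackCone.IsLimit.mk _ (fun t => t.snd ≫ pullback.fst f f) ?_ ?_ ?_⟩⟩
  · apply pullback.hom_ext <;> simp [pullback.map]
  · intro t
    have := congr($(t.condition) ≫ pullback.fst f₀ f₀)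
    simpa [pullback.map] using this.symm
  · intro t
    have h1 : t.snd ≫ pullback.fst f f = t.snd ≫ pullback.snd f f := by
      apply hX.hom_ext
      · have e1 := congr($(t.condition) ≫ pullback.fst f₀ f₀)
        have e2 := congr($(t.condition) ≫ pullback.snd f₀ f₀)
        simp only [Category.assoc, pullback.diagonal_fst, pullback.diagonal_snd, Category.comp_id,
          pullback.map, pullback.lift_fst, pullback.lift_snd] at e1 e2
        rw [Category.assoc, Category.assoc, ← e1, ← e2]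
      · rw [Category.assoc, Category.assoc, pullback.condition]
    apply pullback.hom_ext
    · simp
    · simp [h1]
  · intro t m _ hm
    rw [← hm]
    simp

set_option backward.isDefEq.respectTransparency false in
/-- the stage of the diagonal versus the diagonal of the stage. -/
theorem diagonal_stage_iff (P : MorphismProperty Scheme.{u}) [P.IsStableUnderBaseChange] :
    P (bcHom (pullback.diagonal f₀) (pullback.fst f₀ f₀ ≫ f₀ ≫ g₀) s) ↔
      P (pullback.diagonal (bcHom f₀ g₀ s)) := by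
  have hbc1 := isBC_bcHom (pullback.diagonal f₀) (pullback.fst f₀ f₀ ≫ f₀ ≫ g₀) s
  have hbc2 : IsBC (pullback.diagonal f₀) (pullback.diagonal (bcHom f₀ g₀ s))
      (pullback.map _ _ f₀ f₀ _ _ _ (isPullback_bcHom f₀ g₀ s).w.symm (isPullback_bcHom f₀ g₀ s).w.symm) :=
    ⟨_, isPullback_diagonal f₀ (isPullback_bcHom f₀ g₀ s)⟩
  constructor
  · intro h
    refine IsBC.of_fac P hbc1 hbc2 (pullback.lift (pullback.map _ _ f₀ f₀ _ _ _
      (isPullback_bcHom f₀ g₀ s).w.symm (isPullback_bcHom f₀ g₀ s).w.symm)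
      (pullback.fst _ _ ≫ pullback.snd _ _) ?_) ?_ h
    · simp [pullback.map, pullback.condition]
    · simp
  · intro h
    refine IsBC.of_fac P hbc2 hbc1 (pullback.lift
      (pullback.lift (pullback.fst _ _ ≫ pullback.fst f₀ f₀) (pullback.snd _ _)
        (by simp [pullback.condition]))
      (pullback.lift (pullback.fst _ _ ≫ pullback.snd f₀ f₀) (pullback.snd _ _)
        (by rw [Category.assoc, ← pullback.condition_assoc]; simp [pullback.condition])) ?_) ?_ h
    · apply pullback.hom_ext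
      · simp [pullback.condition]
      · simp
    · apply pullback.hom_ext <;> simp [pullback.map]

end Diagonal

section Wrap

open Groth.Agent.Helper7.LimProps

variable {I : Type u} [Category.{u} I] [IsCofiltered I] (D : I ⥤ Scheme.{u}) (c : Cone D)
  (hc : IsLimit c) [∀ {i j : I} (f : i ⟶ j), IsAffineHom (D.map f)] {i₀ : I}
  {X₀ Y₀ : Scheme.{u}} (f₀ : X₀ ⟶ Y₀) (g₀ : Y₀ ⟶ D.obj i₀)

set_option backward.isDefEq.respectTransparency false in
include hc in
/-- from the case of affine source and target to the case of affine target, for properties of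
finite type morphisms that imply affineness. -/
theorem affineBase_of_affineAffine (P : MorphismProperty Scheme.{u}) [P.IsStableUnderBaseChange]
    (hPaff : ∀ {A B : Scheme.{u}} (u : A ⟶ B), P u → IsAffineHom u)
    (H : ∀ (i₁ : I) {X₁ Y₁ : Scheme.{u}} (f₁ : X₁ ⟶ Y₁) (g₁ : Y₁ ⟶ D.obj i₁) [IsAffine X₁]
      [IsAffine Y₁] [LocallyOfFiniteType f₁], P (bcHom f₁ g₁ (c.π.app i₁)) →
      ∃ (j : I) (φ : j ⟶ i₁), P (bcHom f₁ g₁ (D.map φ)))
    [IsAffine Y₀] [CompactSpace X₀] [QuasiSeparatedSpace X₀] [LocallyOfFiniteType f₀]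
    (h : P (bcHom f₀ g₀ (c.π.app i₀))) :
    ∃ (j : I) (φ : j ⟶ i₀), P (bcHom f₀ g₀ (D.map φ)) := by
  obtain ⟨j₁, φ₁, h₁⟩ := affineBase_isAffineHom D c hc f₀ g₀ (hPaff _ h)
  have hY₁ : IsAffine (pullback g₀ (D.map φ₁)) := inferInstance
  have hX₁ : IsAffine (pullback (f₀ ≫ g₀) (D.map φ₁)) :=
    isAffine_of_isAffineHom (bcHom f₀ g₀ (D.map φ₁))
  have hlft : LocallyOfFiniteType (bcHom f₀ g₀ (D.map φ₁)) :=
    MorphismProperty.of_isPullback (isPullback_bcHom f₀ g₀ (D.map φ₁)) inferInstance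
  have h2 : P (bcHom (bcHom f₀ g₀ (D.map φ₁)) (pullback.snd g₀ (D.map φ₁)) (c.π.app j₁)) := by
    refine (rebase_iff f₀ g₀ (D.map φ₁) (c.π.app j₁) P).mpr ?_
    rw [c.w]
    exact h
  obtain ⟨k, ψ, hk⟩ := H j₁ _ _ h2
  refine ⟨k, ψ ≫ φ₁, ?_⟩
  rw [D.map_comp]
  exact (rebase_iff f₀ g₀ (D.map φ₁) (D.map ψ) P).mp hk

set_option backward.isDefEq.respectTransparency false in
include hc in
/-- the general statement for properties of finite type morphisms that are local on the target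
and imply affineness. -/
theorem exists_stage_of_affineAffine (P : MorphismProperty Scheme.{u}) [P.IsStableUnderBaseChange]
    [IsZariskiLocalAtTarget P]
    (hPaff : ∀ {A B : Scheme.{u}} (u : A ⟶ B), P u → IsAffineHom u)
    (H : ∀ (i₁ : I) {X₁ Y₁ : Scheme.{u}} (f₁ : X₁ ⟶ Y₁) (g₁ : Y₁ ⟶ D.obj i₁) [IsAffine X₁]
      [IsAffine Y₁] [LocallyOfFiniteType f₁], P (bcHom f₁ g₁ (c.π.app i₁)) →
      ∃ (j : I) (φ : j ⟶ i₁), P (bcHom f₁ g₁ (D.map φ)))
    [CompactSpace X₀] [QuasiSeparatedSpace X₀] [CompactSpace Y₀] [QuasiSeparatedSpace Y₀]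
    [LocallyOfFiniteType f₀] (h : P (bcHom f₀ g₀ (c.π.app i₀))) :
    ∃ (j : I) (φ : j ⟶ i₀), P (bcHom f₀ g₀ (D.map φ)) := by
  apply exists_stage_of_affine D f₀ g₀ P
  intro V _ v _
  have : CompactSpace ↥(pullback f₀ v) :=
    QuasiCompact.compactSpace_of_compactSpace (pullback.snd f₀ v)
  have : QuasiSeparatedSpace ↥(pullback f₀ v) :=
    quasiSeparatedSpace_of_quasiSeparated (pullback.fst f₀ v)
  exact affineBase_of_affineAffine D c hc (pullback.snd f₀ v) (v ≫ g₀) P hPaff H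
    (bcHom_restrict f₀ g₀ P _ v h)

include hc in
theorem exists_stage_isClosedImmersion
    [CompactSpace X₀] [QuasiSeparatedSpace X₀] [CompactSpace Y₀] [QuasiSeparatedSpace Y₀]
    [LocallyOfFiniteType f₀] (h : IsClosedImmersion (bcHom f₀ g₀ (c.π.app i₀))) :
    ∃ (j : I) (φ : j ⟶ i₀), IsClosedImmersion (bcHom f₀ g₀ (D.map φ)) :=
  exists_stage_of_affineAffine D c hc f₀ g₀ @IsClosedImmersion
    (fun _ hu => have := hu; inferInstance)
    (fun _ {_ _} f₁ g₁ _ _ _ h₁ => affineAffine_isClosedImmersion D c f₁ g₁ hc h₁) h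

include hc in
theorem exists_stage_isFinite
    [CompactSpace X₀] [QuasiSeparatedSpace X₀] [CompactSpace Y₀] [QuasiSeparatedSpace Y₀]
    [LocallyOfFiniteType f₀] (h : IsFinite (bcHom f₀ g₀ (c.π.app i₀))) :
    ∃ (j : I) (φ : j ⟶ i₀), IsFinite (bcHom f₀ g₀ (D.map φ)) :=
  exists_stage_of_affineAffine D c hc f₀ g₀ @IsFinite
    (fun _ hu => have := hu; inferInstance)
    (fun _ {_ _} f₁ g₁ _ _ _ h₁ => affineAffine_isFinite D c f₁ g₁ hc h₁) h

include hc in
theorem exists_stage_isSeparated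
    [CompactSpace X₀] [QuasiSeparatedSpace X₀] [CompactSpace Y₀] [QuasiSeparatedSpace Y₀]
    (h : IsSeparated (bcHom f₀ g₀ (c.π.app i₀))) :
    ∃ (j : I) (φ : j ⟶ i₀), IsSeparated (bcHom f₀ g₀ (D.map φ)) := by
  have : QuasiCompact f₀ := inferInstance
  have : QuasiSeparated f₀ := inferInstance
  have : CompactSpace ↥(pullback f₀ f₀) :=
    QuasiCompact.compactSpace_of_compactSpace (pullback.fst f₀ f₀)
  have : QuasiSeparatedSpace ↥(pullback f₀ f₀) :=
    quasiSeparatedSpace_of_quasiSeparated (pullback.fst f₀ f₀)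
  have h1 : IsClosedImmersion (bcHom (pullback.diagonal f₀) (pullback.fst f₀ f₀ ≫ f₀ ≫ g₀)
      (c.π.app i₀)) :=
    (diagonal_stage_iff f₀ g₀ (c.π.app i₀) @IsClosedImmersion).mpr h.1
  obtain ⟨j, φ, hj⟩ := exists_stage_isClosedImmersion D c hc (pullback.diagonal f₀)
    (pullback.fst f₀ f₀ ≫ f₀ ≫ g₀) h1
  exact ⟨j, φ, ⟨(diagonal_stage_iff f₀ g₀ (D.map φ) @IsClosedImmersion).mp hj⟩⟩

end Wrap

end Groth.Agent.Helper7.LimFin
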