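import Mathlib
import Groth.Agent.Lib.Helper7.LimFin
import Groth.Agent.Lib.Helper2.LfpOfComp

set_option autoImplicit false
open CategoryTheory CategoryTheory.Limits AlgebraicGeometry Opposite TopologicalSpace
universe u

/-! helper7: descent of isomorphisms and monomorphisms through cofiltered limits with affine
transition maps (EGA IV 8.10.5 (i), (ii)), together with the reduction to an affine target. -/

namespace Groth.Agent.Helper7.LimGen

open Groth.Agent.Helper7.LimBC Groth.Agent.Helper7.LimStage Groth.Agent.Helper7.LimFin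

variable {I : Type u} [Category.{u} I] [IsCofiltered I] (D : I ⥤ Scheme.{u}) (c : Cone D)
  (hc : IsLimit c) [∀ {i j : I} (f : i ⟶ j), IsAffineHom (D.map f)] {i₀ : I}
  {X₀ Y₀ : Scheme.{u}} (f₀ : X₀ ⟶ Y₀) (g₀ : Y₀ ⟶ D.obj i₀)

set_option backward.isDefEq.respectTransparency false in
omit [∀ {i j : I} (f : i ⟶ j), IsAffineHom (D.map f)] in
/-- reduction to an affine target with quasi-compact quasi-separated source. -/
theorem exists_stage_of_affineTarget (P Q : MorphismProperty Scheme.{u})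
    [P.IsStableUnderBaseChange] [IsZariskiLocalAtTarget P] [Q.IsStableUnderBaseChange]
    (H : ∀ {X₁ Y₁ : Scheme.{u}} (f₁ : X₁ ⟶ Y₁) (g₁ : Y₁ ⟶ D.obj i₀) [IsAffine Y₁]
      [CompactSpace X₁] [QuasiSeparatedSpace X₁], Q f₁ → P (bcHom f₁ g₁ (c.π.app i₀)) →
      ∃ (j : I) (φ : j ⟶ i₀), P (bcHom f₁ g₁ (D.map φ)))
    [CompactSpace Y₀] [QuasiCompact f₀] [QuasiSeparated f₀] (hQ : Q f₀)
    (h : P (bcHom f₀ g₀ (c.π.app i₀))) :
    ∃ (j : I) (φ : j ⟶ i₀), P (bcHom f₀ g₀ (D.map φ)) := by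
  apply exists_stage_of_affine D f₀ g₀ P
  intro V _ v _
  have : CompactSpace ↥(pullback f₀ v) :=
    QuasiCompact.compactSpace_of_compactSpace (pullback.snd f₀ v)
  have : QuasiSeparatedSpace ↥(pullback f₀ v) :=
    quasiSeparatedSpace_of_quasiSeparated (pullback.snd f₀ v)
  exact H (pullback.snd f₀ v) (v ≫ g₀) (Q.pullback_snd _ _ hQ) (bcHom_restrict f₀ g₀ P _ v h)

/-- the structure transformation of the stages of `Y₀` to `Y₀`. -/
noncomputable def tY : bcDiagram D i₀ g₀ ⟶ (Functor.const (Over i₀)).obj Y₀ where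
  app j := stFstY D g₀ j
  naturality j k ψ := by
    simp only [Functor.const_obj_obj, Functor.const_obj_map, Category.comp_id]
    exact bcDiagram_map_fst D i₀ g₀ ψ

/-- the structure transformation of the stages of `X₀` to `Y₀`. -/
noncomputable def tX : bcDiagram D i₀ (f₀ ≫ g₀) ⟶ (Functor.const (Over i₀)).obj Y₀ where
  app j := stFst D f₀ g₀ j ≫ f₀
  naturality j k ψ := by
    simp only [Functor.const_obj_obj, Functor.const_obj_map, Category.comp_id]
    rw [← Category.assoc, map_stFst]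

set_option backward.isDefEq.respectTransparency false in
include hc in
theorem affineTarget_isIso [IsAffine Y₀] [CompactSpace X₀] [LocallyOfFinitePresentation f₀]
    (h : IsIso (bcHom f₀ g₀ (c.π.app i₀))) :
    ∃ (j : I) (φ : j ⟶ i₀), IsIso (bcHom f₀ g₀ (D.map φ)) := by
  have hIso : IsIso (limF D c f₀ g₀) := h
  have hcY : IsLimit (cY D c g₀) := isLimitBcCone hc _
  have hcX : IsLimit (cX D c f₀ g₀) := isLimitBcCone hc _
  have hlim : limF D c f₀ g₀ ≫ pullback.fst g₀ (c.π.app i₀) = limFst D c f₀ g₀ ≫ f₀ :=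
    (isPullback_bcHom f₀ g₀ (c.π.app i₀)).w.symm
  have hπY : ∀ j : Over i₀, (cY D c g₀).π.app j ≫ stFstY D g₀ j =
      pullback.fst g₀ (c.π.app i₀) := fun j => by simp [stFstY]
  obtain ⟨j, g', hg1, hg2⟩ := Scheme.exists_π_app_comp_eq_of_locallyOfFinitePresentation
    (bcDiagram D i₀ g₀) (tY D g₀) f₀ (cY D c g₀) hcY (inv (limF D c f₀ g₀) ≫ limFst D c f₀ g₀)
    (by
      ext j : 2
      simp only [NatTrans.comp_app, Functor.const_obj_obj, Functor.const_map_app, tY]
      rw [hπY, Category.assoc, ← hlim, IsIso.inv_hom_id_assoc])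
  obtain ⟨k, ψ, hk⟩ := Scheme.exists_hom_comp_eq_comp_of_locallyOfFiniteType
    (bcDiagram D i₀ (f₀ ≫ g₀)) (tX D f₀ g₀) f₀ (cX D c f₀ g₀) hcX (i := j)
    (stF D f₀ g₀ j ≫ g') (stFst D f₀ g₀ j)
    (by
      simp only [tX, Category.assoc, hg2, tY]
      exact (isPullback_stF D f₀ g₀ j).w)
    (by simp only [tX])
    (by
      rw [← Category.assoc, cX_π_stF, Category.assoc, hg1, IsIso.hom_inv_id_assoc, cX_π_stFst])
  refine ⟨k.left, k.hom, ?_⟩
  have hnat : (bcDiagram D i₀ g₀).map ψ ≫ stFstY D g₀ j = stFstY D g₀ k :=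
    bcDiagram_map_fst D i₀ g₀ ψ
  change IsIso (stF D f₀ g₀ k)
  refine ⟨(isPullback_stF D f₀ g₀ k).lift ((bcDiagram D i₀ g₀).map ψ ≫ g') (𝟙 _) ?_, ?_, ?_⟩
  · rw [Category.assoc, hg2, Category.id_comp]
    exact hnat
  · apply (isPullback_stF D f₀ g₀ k).hom_ext
    · rw [Category.assoc, IsPullback.lift_fst, Category.id_comp, ← Category.assoc, ← map_stF,
        Category.assoc, hk, map_stFst]
    · rw [Category.assoc, IsPullback.lift_snd, Category.id_comp, Category.comp_id]
  · rw [IsPullback.lift_snd]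

include hc in
/-- isomorphisms descend to a finite stage. -/
theorem exists_stage_isIso [CompactSpace Y₀] [QuasiCompact f₀] [QuasiSeparated f₀]
    [LocallyOfFinitePresentation f₀] (h : IsIso (bcHom f₀ g₀ (c.π.app i₀))) :
    ∃ (j : I) (φ : j ⟶ i₀), IsIso (bcHom f₀ g₀ (D.map φ)) :=
  exists_stage_of_affineTarget D c f₀ g₀ (MorphismProperty.isomorphisms Scheme.{u})
    @LocallyOfFinitePresentation
    (fun f₁ g₁ _ _ _ hQ h₁ => have := hQ; affineTarget_isIso D c hc f₁ g₁ h₁) inferInstance h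

theorem lfp_diagonal [LocallyOfFiniteType f₀] :
    LocallyOfFinitePresentation (pullback.diagonal f₀) := by
  apply Groth.Agent.Helper2.locallyOfFinitePresentation_of_comp (pullback.diagonal f₀)
    (pullback.fst f₀ f₀) inferInstance
  rw [pullback.diagonal_fst]
  infer_instance

include hc in
/-- monomorphisms descend to a finite stage. -/
theorem exists_stage_mono [CompactSpace Y₀] [QuasiCompact f₀] [QuasiSeparated f₀]
    [LocallyOfFiniteType f₀] (h : Mono (bcHom f₀ g₀ (c.π.app i₀))) :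
    ∃ (j : I) (φ : j ⟶ i₀), Mono (bcHom f₀ g₀ (D.map φ)) := by
  have : CompactSpace X₀ := QuasiCompact.compactSpace_of_compactSpace f₀
  have : CompactSpace ↥(pullback f₀ f₀) :=
    QuasiCompact.compactSpace_of_compactSpace (pullback.fst f₀ f₀)
  have := lfp_diagonal f₀
  have h1 : IsIso (bcHom (pullback.diagonal f₀) (pullback.fst f₀ f₀ ≫ f₀ ≫ g₀) (c.π.app i₀)) :=
    (diagonal_stage_iff f₀ g₀ (c.π.app i₀) (MorphismProperty.isomorphisms Scheme.{u})).mpr
      ((pullback.isIso_diagonal_iff _).mpr h)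
  obtain ⟨j, φ, hj⟩ := exists_stage_isIso D c hc (pullback.diagonal f₀)
    (pullback.fst f₀ f₀ ≫ f₀ ≫ g₀) h1
  exact ⟨j, φ, (pullback.isIso_diagonal_iff _).mp
    ((diagonal_stage_iff f₀ g₀ (D.map φ) (MorphismProperty.isomorphisms Scheme.{u})).mp hj)⟩

end Groth.Agent.Helper7.LimGen
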