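import Mathlib
import Groth.Agent.Lib.Helper7.LimHom
import Groth.Agent.Lib.Helper7.LimGen

set_option autoImplicit false
open CategoryTheory CategoryTheory.Limits AlgebraicGeometry Opposite TopologicalSpace
universe u

/-! helper7: schemes of finite presentation over a stage of a cofiltered limit with affine
transition maps which become isomorphic over the limit are isomorphic over a later stage
(EGA IV 8.8.2.5), and conversely. -/

namespace Groth.Agent.Helper7.LimIso

open Groth.Agent.Helper7.LimBC Groth.Agent.Helper7.LimStage Groth.Agent.Helper7.LimHom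
  Groth.Agent.Helper7.LimGen

section General

variable {T S Sj Si Y : Scheme.{u}} (yi : T ⟶ Si) (φ' : Sj ⟶ Si) (π : S ⟶ Sj)

/-- a base change to the limit is also a base change of the intermediate stage. -/
theorem isPullback_of_stage {qY : Y ⟶ T} {pY : Y ⟶ S} {π' : S ⟶ Si} (hπ : π ≫ φ' = π')
    (hY : IsPullback qY pY yi π') (sY : Y ⟶ pullback yi φ')
    (h1 : sY ≫ pullback.fst yi φ' = qY) (h2 : sY ≫ pullback.snd yi φ' = pY ≫ π) :
    IsPullback sY pY (pullback.snd yi φ') π := by
  subst hπ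
  refine IsPullback.of_right (h₁₂ := pullback.fst yi φ') (h₂₂ := φ') (v₁₃ := yi) ?_ h2
    (IsPullback.of_hasPullback _ _)
  rw [h1]
  exact hY

omit yi in
/-- an isomorphism over a stage induces an isomorphism of the base changes. -/
theorem exists_iso_of_stage {X₀ Y₀ Xj Yj X : Scheme.{u}} {a₀ : X₀ ⟶ Si} {b₀ : Y₀ ⟶ Si}
    {aj : Xj ⟶ Sj} {bj : Yj ⟶ Sj} {pX : Xj ⟶ X₀} {pY : Yj ⟶ Y₀}
    (hXj : IsPullback pX aj a₀ φ') (hYj : IsPullback pY bj b₀ φ')
    (e : Xj ≅ Yj) (he : e.hom ≫ bj = aj) {π' : S ⟶ Si} (hπ : π ≫ φ' = π')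
    {a : X ⟶ S} {b : Y ⟶ S} {qX : X ⟶ X₀} {qY : Y ⟶ Y₀}
    (hX : IsPullback qX a a₀ π') (hY : IsPullback qY b b₀ π') :
    ∃ e' : X ≅ Y, e'.hom ≫ b = a := by
  subst hπ
  have hX' : IsPullback (hXj.lift qX (a ≫ π) (by rw [hX.w, Category.assoc])) a aj π :=
    IsPullback.of_right (by simpa using hX) (by simp) hXj
  have hY' : IsPullback (hYj.lift qY (b ≫ π) (by rw [hY.w, Category.assoc])) b bj π :=
    IsPullback.of_right (by simpa using hY) (by simp) hYj
  have hX'' : IsPullback (hXj.lift qX (a ≫ π) (by rw [hX.w, Category.assoc]) ≫ e.hom) a bj π :=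
    IsPullback.of_iso hX' (Iso.refl _) e (Iso.refl _) (Iso.refl _) (by simp) (by simp)
      (by simp [he]) (by simp)
  exact ⟨hX''.isoIsPullback _ _ hY', IsPullback.isoIsPullback_hom_snd _ _ _ _⟩

end General

variable {I : Type u} [Category.{u} I] [IsCofiltered I] (D : I ⥤ Scheme.{u}) (c : Cone D)
  (hc : IsLimit c) [∀ {i j : I} (f : i ⟶ j), IsAffineHom (D.map f)] (i : I)
  {Xi Yi : Scheme.{u}} (xi : Xi ⟶ D.obj i) (yi : Yi ⟶ D.obj i)

set_option backward.isDefEq.respectTransparency false in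
include hc in
/-- two schemes of finite presentation over a stage whose base changes to the limit are isomorphic
over the limit become isomorphic over a later stage (EGA IV 8.8.2.5). -/
theorem exists_iso_descend [CompactSpace (D.obj i)] [QuasiSeparatedSpace (D.obj i)]
    [QuasiCompact xi] [QuasiSeparated xi] [LocallyOfFinitePresentation xi]
    [QuasiCompact yi] [QuasiSeparated yi] [LocallyOfFinitePresentation yi]
    {X Y : Scheme.{u}} {qX : X ⟶ Xi} {pX : X ⟶ c.pt} (hX : IsPullback qX pX xi (c.π.app i))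
    {qY : Y ⟶ Yi} {pY : Y ⟶ c.pt} (hY : IsPullback qY pY yi (c.π.app i))
    (e : X ⟶ Y) [IsIso e] (he : e ≫ pY = pX) :
    ∃ (m : I) (θ : m ⟶ i) (fm : pullback xi (D.map θ) ⟶ pullback yi (D.map θ)),
      IsIso fm ∧ fm ≫ pullback.snd yi (D.map θ) = pullback.snd xi (D.map θ) := by
  have : CompactSpace Xi := QuasiCompact.compactSpace_of_compactSpace xi
  have : QuasiSeparatedSpace Xi := quasiSeparatedSpace_of_quasiSeparated xi
  have : CompactSpace Yi := QuasiCompact.compactSpace_of_compactSpace yi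
  obtain ⟨j, φ, fj, sX, sY, hfj, hsX1, hsX2, hsY1, hsY2, hsq⟩ :=
    exists_hom_descend D c hc i xi yi hX hY e he
  have hY' : IsPullback sY pY (pullback.snd yi (D.map φ)) (c.π.app j) :=
    isPullback_of_stage yi (D.map φ) (c.π.app j) (c.w φ) hY sY hsY1 hsY2
  have hX'' : IsPullback sX pX (pullback.snd xi (D.map φ)) (c.π.app j) :=
    isPullback_of_stage xi (D.map φ) (c.π.app j) (c.w φ) hX sX hsX1 hsX2
  have hX' : IsPullback sX e fj sY := by
    refine (IsPullback.of_right (h₁₂ := pY) (h₂₂ := pullback.snd yi (D.map φ))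
      (v₁₃ := c.π.app j) ?_ hsq.symm hY'.flip).flip
    rw [he, hfj]
    exact hX''.flip
  have hiso : IsIso (bcHom fj (pullback.snd yi (D.map φ)) (c.π.app j)) :=
    bcHom_of_isPullback fj (pullback.snd yi (D.map φ)) (MorphismProperty.isomorphisms Scheme.{u})
      (c.π.app j) hY' hX' (inferInstance : IsIso e)
  have : CompactSpace ↥(pullback yi (D.map φ)) :=
    inferInstanceAs (CompactSpace ((bcDiagram D i yi).obj (Over.mk φ)))
  have hqc : QuasiCompact (fj ≫ pullback.snd yi (D.map φ)) := by rw [hfj]; infer_instance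
  have hqs : QuasiSeparated (fj ≫ pullback.snd yi (D.map φ)) := by rw [hfj]; infer_instance
  have hfp : LocallyOfFinitePresentation (fj ≫ pullback.snd yi (D.map φ)) := by
    rw [hfj]; infer_instance
  have : QuasiCompact fj := QuasiCompact.of_comp fj (pullback.snd yi (D.map φ))
  have : QuasiSeparated fj := QuasiSeparated.of_comp fj (pullback.snd yi (D.map φ))
  have : LocallyOfFinitePresentation fj :=
    Groth.Agent.Helper2.locallyOfFinitePresentation_of_comp fj (pullback.snd yi (D.map φ))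
      inferInstance hfp
  obtain ⟨m, ψ, hm⟩ := exists_stage_isIso D c hc fj (pullback.snd yi (D.map φ)) hiso
  -- the base change of `fj` to the stage `m`
  have hcomm : (stageMap D i xi φ ψ ≫ fj ≫ pullback.fst yi (D.map φ)) ≫ yi =
      pullback.snd xi (D.map (ψ ≫ φ)) ≫ D.map (ψ ≫ φ) := by
    rw [Category.assoc, Category.assoc, pullback.condition, ← Category.assoc fj, hfj,
      stageMap_snd_assoc, D.map_comp]
  obtain ⟨fm, hfm⟩ : ∃ fm : pullback xi (D.map (ψ ≫ φ)) ⟶ pullback yi (D.map (ψ ≫ φ)),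
      fm = pullback.lift (stageMap D i xi φ ψ ≫ fj ≫ pullback.fst yi (D.map φ))
        (pullback.snd xi (D.map (ψ ≫ φ))) hcomm := ⟨_, rfl⟩
  have hfm1 : fm ≫ pullback.fst yi (D.map (ψ ≫ φ)) =
      stageMap D i xi φ ψ ≫ fj ≫ pullback.fst yi (D.map φ) := by
    rw [hfm, pullback.lift_fst]
  have hfm2 : fm ≫ pullback.snd yi (D.map (ψ ≫ φ)) = pullback.snd xi (D.map (ψ ≫ φ)) := by
    rw [hfm, pullback.lift_snd]
  have hsq2 : fm ≫ stageMap D i yi φ ψ = stageMap D i xi φ ψ ≫ fj := by
    apply pullback.hom_ext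
    · rw [Category.assoc, stageMap_fst, hfm1, Category.assoc]
    · rw [Category.assoc, stageMap_snd, ← Category.assoc, hfm2, Category.assoc, hfj, stageMap_snd]
  have hpb : IsPullback fm (stageMap D i xi φ ψ) (stageMap D i yi φ ψ) fj := by
    refine IsPullback.of_right (h₁₂ := pullback.snd yi (D.map (ψ ≫ φ)))
      (h₂₂ := pullback.snd yi (D.map φ)) (v₁₃ := D.map ψ) ?_ hsq2
      (isPullback_stageMap D i yi φ ψ).flip
    rw [hfm2, hfj]
    exact (isPullback_stageMap D i xi φ ψ).flip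
  refine ⟨m, ψ ≫ φ, fm, ?_, hfm2⟩
  exact IsBC.of_fac (MorphismProperty.isomorphisms Scheme.{u})
    (isBC_bcHom fj (pullback.snd yi (D.map φ)) (D.map ψ)) ⟨_, hpb.flip⟩
    (pullback.lift (stageMap D i yi φ ψ) (pullback.snd yi (D.map (ψ ≫ φ)))
      (stageMap_snd D i yi φ ψ)) (pullback.lift_fst _ _ _) hm

end Groth.Agent.Helper7.LimIso
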