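import Mathlib
import Groth.Agent.Lib.Helper7.LimIso

set_option autoImplicit false
open CategoryTheory CategoryTheory.Limits AlgebraicGeometry Opposite TopologicalSpace
universe u

/-! helper7: descent of an isomorphism over a cofiltered limit to a finite stage, recording the compatibility with the given isomorphism -/

namespace Groth.Agent.Helper7.LimIso

open Groth.Agent.Helper7.LimBC Groth.Agent.Helper7.LimStage Groth.Agent.Helper7.LimHom
  Groth.Agent.Helper7.LimGen

variable {I : Type u} [Category.{u} I] [IsCofiltered I] (D : I ⥤ Scheme.{u}) (c : Cone D)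
  (hc : IsLimit c) [∀ {i j : I} (f : i ⟶ j), IsAffineHom (D.map f)] (i : I)
  {Xi Yi : Scheme.{u}} (xi : Xi ⟶ D.obj i) (yi : Yi ⟶ D.obj i)

set_option backward.isDefEq.respectTransparency false in
include hc in
/-- two schemes of finite presentation over a stage whose base changes to the limit are isomorphic
over the limit become isomorphic over a later stage, compatibly with the given isomorphism. -/
theorem exists_iso_descend' [CompactSpace (D.obj i)] [QuasiSeparatedSpace (D.obj i)]
    [QuasiCompact xi] [QuasiSeparated xi] [LocallyOfFinitePresentation xi]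
    [QuasiCompact yi] [QuasiSeparated yi] [LocallyOfFinitePresentation yi]
    {X Y : Scheme.{u}} {qX : X ⟶ Xi} {pX : X ⟶ c.pt} (hX : IsPullback qX pX xi (c.π.app i))
    {qY : Y ⟶ Yi} {pY : Y ⟶ c.pt} (hY : IsPullback qY pY yi (c.π.app i))
    (e : X ⟶ Y) [IsIso e] (he : e ≫ pY = pX) :
    ∃ (m : I) (θ : m ⟶ i) (fm : pullback xi (D.map θ) ⟶ pullback yi (D.map θ)),
      IsIso fm ∧ fm ≫ pullback.snd yi (D.map θ) = pullback.snd xi (D.map θ) ∧
      ∀ (tX : X ⟶ pullback xi (D.map θ)) (tY : Y ⟶ pullback yi (D.map θ)),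
        tX ≫ pullback.fst xi (D.map θ) = qX → tX ≫ pullback.snd xi (D.map θ) = pX ≫ c.π.app m →
        tY ≫ pullback.fst yi (D.map θ) = qY → tY ≫ pullback.snd yi (D.map θ) = pY ≫ c.π.app m →
        tX ≫ fm = e ≫ tY := by
  have : CompactSpace Xi := QuasiCompact.compactSpace_of_compactSpace xi
  have : QuasiSeparatedSpace Xi := quasiSeparatedSpace_of_quasiSeparated xi
  have : CompactSpace Yi := QuasiCompact.compactSpace_of_compactSpace yi
  obtain ⟨j, φ, fj, sX, sY, hfj, hsX1, hsX2, hsY1, hsY2, hsq⟩ :=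
    exists_hom_descend D c hc i xi yi hX hY e he
  have hY' : IsPullback sY pY (pullback.snd yi (D.map φ)) (c.π.app j) :=
    isPullback_of_stage yi (D.map φ) (c.π.app j) (c.w φ) hY sY hsY1 hsY2
  have hX'' : IsPullback sX pX (pullback.snd xi (D.map φ)) (c.π.app j) :=
    isPullback_of_stage xi (D.map φ) (c.π.app j) (c.w φ) hX sX hsX1 hsX2
  have hX' : IsPullback sX e fj sY := by
    refine (IsPullback.of_right (h₁₂ := pY) (h₂₂ := pullback.snd yi (D.map φ))
      (v₁₃ := c.π.app j) ?_ hsq.symm hY'.flip).flip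
    rw [he, hfj]
    exact hX''.flip
  have hiso : IsIso (bcHom fj (pullback.snd yi (D.map φ)) (c.π.app j)) :=
    bcHom_of_isPullback fj (pullback.snd yi (D.map φ)) (MorphismProperty.isomorphisms Scheme.{u})
      (c.π.app j) hY' hX' (inferInstance : IsIso e)
  have : CompactSpace ↥(pullback yi (D.map φ)) :=
    inferInstanceAs (CompactSpace ((bcDiagram D i yi).obj (Over.mk φ)))
  have hqc : QuasiCompact (fj ≫ pullback.snd yi (D.map φ)) := by rw [hfj]; infer_instance
  have hqs : QuasiSeparated (fj ≫ pullback.snd yi (D.map φ)) := by rw [hfj]; infer_instance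
  have hfp : LocallyOfFinitePresentation (fj ≫ pullback.snd yi (D.map φ)) := by
    rw [hfj]; infer_instance
  have : QuasiCompact fj := QuasiCompact.of_comp fj (pullback.snd yi (D.map φ))
  have : QuasiSeparated fj := QuasiSeparated.of_comp fj (pullback.snd yi (D.map φ))
  have : LocallyOfFinitePresentation fj :=
    Groth.Agent.Helper2.locallyOfFinitePresentation_of_comp fj (pullback.snd yi (D.map φ))
      inferInstance hfp
  obtain ⟨m, ψ, hm⟩ := exists_stage_isIso D c hc fj (pullback.snd yi (D.map φ)) hiso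
  -- the base change of `fj` to the stage `m`
  have hcomm : (stageMap D i xi φ ψ ≫ fj ≫ pullback.fst yi (D.map φ)) ≫ yi =
      pullback.snd xi (D.map (ψ ≫ φ)) ≫ D.map (ψ ≫ φ) := by
    rw [Category.assoc, Category.assoc, pullback.condition, ← Category.assoc fj, hfj,
      stageMap_snd_assoc, D.map_comp]
  obtain ⟨fm, hfm⟩ : ∃ fm : pullback xi (D.map (ψ ≫ φ)) ⟶ pullback yi (D.map (ψ ≫ φ)),
      fm = pullback.lift (stageMap D i xi φ ψ ≫ fj ≫ pullback.fst yi (D.map φ))
        (pullback.snd xi (D.map (ψ ≫ φ))) hcomm := ⟨_, rfl⟩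
  have hfm1 : fm ≫ pullback.fst yi (D.map (ψ ≫ φ)) =
      stageMap D i xi φ ψ ≫ fj ≫ pullback.fst yi (D.map φ) := by
    rw [hfm, pullback.lift_fst]
  have hfm2 : fm ≫ pullback.snd yi (D.map (ψ ≫ φ)) = pullback.snd xi (D.map (ψ ≫ φ)) := by
    rw [hfm, pullback.lift_snd]
  have hsq2 : fm ≫ stageMap D i yi φ ψ = stageMap D i xi φ ψ ≫ fj := by
    apply pullback.hom_ext
    · rw [Category.assoc, stageMap_fst, hfm1, Category.assoc]
    · rw [Category.assoc, stageMap_snd, ← Category.assoc, hfm2, Category.assoc, hfj, stageMap_snd]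
  have hpb : IsPullback fm (stageMap D i xi φ ψ) (stageMap D i yi φ ψ) fj := by
    refine IsPullback.of_right (h₁₂ := pullback.snd yi (D.map (ψ ≫ φ)))
      (h₂₂ := pullback.snd yi (D.map φ)) (v₁₃ := D.map ψ) ?_ hsq2
      (isPullback_stageMap D i yi φ ψ).flip
    rw [hfm2, hfj]
    exact (isPullback_stageMap D i xi φ ψ).flip
  refine ⟨m, ψ ≫ φ, fm, ?_, hfm2, ?_⟩
  swap
  · intro tX tY h1 h2 h3 h4
    have hst : tX ≫ stageMap D i xi φ ψ = sX := by
      apply pullback.hom_ext
      · rw [Category.assoc, stageMap_fst, h1, hsX1]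
      · rw [Category.assoc, stageMap_snd, ← Category.assoc, h2, Category.assoc, c.w, hsX2]
    apply pullback.hom_ext
    · rw [Category.assoc, hfm1, ← Category.assoc, hst, ← Category.assoc, hsq, Category.assoc,
        hsY1, Category.assoc, h3]
    · rw [Category.assoc, hfm2, h2, Category.assoc, h4, ← Category.assoc, he]
  exact IsBC.of_fac (MorphismProperty.isomorphisms Scheme.{u})
    (isBC_bcHom fj (pullback.snd yi (D.map φ)) (D.map ψ)) ⟨_, hpb.flip⟩
    (pullback.lift (stageMap D i yi φ ψ) (pullback.snd yi (D.map (ψ ≫ φ)))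
      (stageMap_snd D i yi φ ψ)) (pullback.lift_fst _ _ _) hm

end Groth.Agent.Helper7.LimIso
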