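import Mathlib
import Groth.Agent.Lib.Helper7.LimIso2
import Groth.Agent.Lib.Helper7.Glue2C

set_option autoImplicit false
open CategoryTheory CategoryTheory.Limits AlgebraicGeometry Opposite TopologicalSpace
universe u

set_option linter.unusedSectionVars false

/-! helper7: models of a morphism to a cofiltered limit over a finite stage; change of stage; descent of quasi-compact opens -/

namespace Groth.Agent.Helper7.LimDesc

open Groth.Agent.Helper7.LimBC Groth.Agent.Helper7.LimIso

variable {I : Type u} [Category.{u} I] [IsCofiltered I] (D : I ⥤ Scheme.{u}) (c : Cone D)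
  (hc : IsLimit c) [∀ {i j : I} (f : i ⟶ j), IsAffineHom (D.map f)]

/-- data exhibiting `h` as a base change of a morphism of finite presentation over the stage `j`. -/
structure Model {Z : Scheme.{u}} (h : Z ⟶ c.pt) (j : I) where
  Zj : Scheme.{u}
  zj : Zj ⟶ D.obj j
  q : Z ⟶ Zj
  lfp : LocallyOfFinitePresentation zj
  qc : QuasiCompact zj
  qs : QuasiSeparated zj
  isPullback : IsPullback q h zj (c.π.app j)

/-- `h` descends to a finite stage. -/
def Desc {Z : Scheme.{u}} (h : Z ⟶ c.pt) : Prop := ∃ j : I, Nonempty (Model D c h j)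

variable {D c}

namespace Model

variable {Z : Scheme.{u}} {h : Z ⟶ c.pt} {j : I} (M : Model D c h j)

attribute [instance] Model.lfp Model.qc Model.qs

/-- passing to a later stage. -/
noncomputable def stage {j' : I} (φ : j' ⟶ j) : Model D c h j' where
  Zj := pullback M.zj (D.map φ)
  zj := pullback.snd M.zj (D.map φ)
  q := pullback.lift M.q (h ≫ c.π.app j') (by rw [M.isPullback.w, Category.assoc, c.w])
  lfp := inferInstance
  qc := inferInstance
  qs := inferInstance
  isPullback := isPullback_of_stage M.zj (D.map φ) (c.π.app j') (c.w φ) M.isPullback _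
    (pullback.lift_fst _ _ _) (pullback.lift_snd _ _ _)

@[simp] theorem stage_q_fst {j' : I} (φ : j' ⟶ j) :
    (M.stage φ).q ≫ pullback.fst M.zj (D.map φ) = M.q := pullback.lift_fst _ _ _

@[simp] theorem stage_q_snd {j' : I} (φ : j' ⟶ j) :
    (M.stage φ).q ≫ pullback.snd M.zj (D.map φ) = h ≫ c.π.app j' := pullback.lift_snd _ _ _

set_option backward.isDefEq.respectTransparency false in
include hc in
/-- a quasi-compact open of the source comes from a quasi-compact open of every sufficiently
late stage of the model. -/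
theorem exists_open (R : Z.Opens) (hR : IsCompact (R : Set Z)) :
    ∃ k : Over j, ∀ (k' : Over j) (_ : k' ⟶ k),
      ∃ O : (pullback M.zj (D.map k'.hom)).Opens,
        IsCompact (O : Set ↥(pullback M.zj (D.map k'.hom))) ∧ (M.stage k'.hom).q ⁻¹ᵁ O = R := by
  obtain ⟨k, O, hO, hOR⟩ := exists_preimage_eq (bcDiagram D j M.zj) (bcCone M.isPullback)
    (isLimitBcCone hc M.isPullback) R hR
  refine ⟨k, fun k' f => ⟨(bcDiagram D j M.zj).map f ⁻¹ᵁ O, ?_, ?_⟩⟩
  · exact QuasiCompact.isCompact_preimage (f := (bcDiagram D j M.zj).map f) _ O.2 hO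
  · have h1 : (M.stage k'.hom).q = (bcCone M.isPullback).π.app k' := rfl
    rw [h1, ← Scheme.Hom.comp_preimage, (bcCone M.isPullback).w f, hOR]

end Model

section Range

variable {V Vj VU : Scheme.{u}}

set_option backward.isDefEq.respectTransparency false in
/-- an open immersion whose range is the preimage of an open is a base change of the inclusion
of that open. -/
theorem exists_isPullback_of_range (q : V ⟶ Vj) (O : Vj.Opens) (p : VU ⟶ V) [IsOpenImmersion p]
    (hR : q ⁻¹ᵁ O = p.opensRange) : ∃ r : VU ⟶ O.toScheme, IsPullback r p O.ι q := by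
  have hrange : Set.range p = Set.range (q ⁻¹ᵁ O).ι := by
    rw [Scheme.Opens.range_ι, hR]; rfl
  let e : VU ≅ (q ⁻¹ᵁ O).toScheme := IsOpenImmersion.isoOfRangeEq p (q ⁻¹ᵁ O).ι hrange
  have he : e.hom ≫ (q ⁻¹ᵁ O).ι = p := IsOpenImmersion.isoOfRangeEq_hom_fac _ _ _
  refine ⟨e.hom ≫ (q ∣_ O), ?_⟩
  refine (isPullback_morphismRestrict q O).of_iso e.symm (Iso.refl _) (Iso.refl _) (Iso.refl _)
    ?_ ?_ ?_ ?_
  · simp
  · simp [← he]
  · simp
  · simp

end Range

end Groth.Agent.Helper7.LimDesc
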