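import Mathlib
import Groth.Agent.Lib.Helper7.LimDesc1

set_option autoImplicit false
open CategoryTheory CategoryTheory.Limits AlgebraicGeometry Opposite TopologicalSpace
universe u

set_option linter.unusedSectionVars false

/-! helper7: the union step for descending morphisms of finite presentation to a finite stage of a cofiltered limit (EGA IV 8.9.1) -/

namespace Groth.Agent.Helper7.LimDesc

open Groth.Agent.Helper7.LimBC Groth.Agent.Helper7.LimIso Groth.Agent.Helper7.Glue2

variable {I : Type u} [Category.{u} I] [IsCofiltered I] {D : I ⥤ Scheme.{u}} {c : Cone D}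
  (hc : IsLimit c) [∀ {i j : I} (f : i ⟶ j), IsAffineHom (D.map f)]
  [∀ i, CompactSpace (D.obj i)] [∀ i, QuasiSeparatedSpace (D.obj i)]
  {Z V U : Scheme.{u}} (h : Z ⟶ c.pt) (iV : V ⟶ Z) (iU : U ⟶ Z)
  [IsOpenImmersion iV] [IsOpenImmersion iU]

section BaseChangeOpen

variable {A A' B B' : Scheme.{u}} (O : A.Opens) (a : A ⟶ B) (θ : B' ⟶ B)

set_option backward.isDefEq.respectTransparency false in
/-- the base change of an open subscheme is an open subscheme of the base change. -/
theorem isPullback_map_opens :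
    IsPullback (pullback.fst (O.ι ≫ a) θ)
      (pullback.map (O.ι ≫ a) θ a θ O.ι (𝟙 _) (𝟙 _) (by simp) (by simp))
      O.ι (pullback.fst a θ) := by
  refine (IsPullback.of_right (h₁₂ := pullback.snd a θ) (h₂₂ := a) (v₁₃ := θ) ?_ ?_
    (IsPullback.of_hasPullback a θ).flip).flip
  · have : pullback.map (O.ι ≫ a) θ a θ O.ι (𝟙 _) (𝟙 _) (by simp) (by simp) ≫ pullback.snd a θ =
        pullback.snd (O.ι ≫ a) θ := by simp
    rw [this]
    exact (IsPullback.of_hasPullback (O.ι ≫ a) θ).flip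
  · simp

end BaseChangeOpen

set_option backward.isDefEq.respectTransparency false in
include hc in
/-- the union step, both models living over the same stage and the overlap being cut out by
quasi-compact opens of the models. -/
theorem desc_union_same_stage (hcov : ∀ z : Z, z ∈ Set.range iV ∨ z ∈ Set.range iU) {j : I}
    (MV : Model D c (iV ≫ h) j) (MU : Model D c (iU ≫ h) j)
    (OV : MV.Zj.Opens) (hOV : IsCompact (OV : Set MV.Zj))
    (hOVR : MV.q ⁻¹ᵁ OV = (pullback.fst iV iU).opensRange)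
    (OU : MU.Zj.Opens) (hOU : IsCompact (OU : Set MU.Zj))
    (hOUR : MU.q ⁻¹ᵁ OU = (pullback.snd iV iU).opensRange) :
    Desc D c h := by
  obtain ⟨rV, hrV⟩ := exists_isPullback_of_range MV.q OV (pullback.fst iV iU) hOVR
  obtain ⟨rU, hrU⟩ := exists_isPullback_of_range MU.q OU (pullback.snd iV iU) hOUR
  have hcV : CompactSpace ↥OV.toScheme := isCompact_iff_compactSpace.mp hOV
  have hcU : CompactSpace ↥OU.toScheme := isCompact_iff_compactSpace.mp hOU
  have hX : IsPullback rV (pullback.fst iV iU ≫ iV ≫ h) (OV.ι ≫ MV.zj) (c.π.app j) :=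
    hrV.paste_vert MV.isPullback
  have hY : IsPullback rU (pullback.snd iV iU ≫ iU ≫ h) (OU.ι ≫ MU.zj) (c.π.app j) :=
    hrU.paste_vert MU.isPullback
  have he : 𝟙 _ ≫ (pullback.snd iV iU ≫ iU ≫ h) = pullback.fst iV iU ≫ iV ≫ h := by
    rw [Category.id_comp, ← Category.assoc, ← pullback.condition, Category.assoc]
  obtain ⟨m, θ, fm, hfmiso, hfm, hcompat⟩ :=
    exists_iso_descend' D c hc j (OV.ι ≫ MV.zj) (OU.ι ≫ MU.zj) hX hY (𝟙 _) he
  -- the glueing data over the stage `m`
  obtain ⟨f, hf⟩ : ∃ f : pullback (OV.ι ≫ MV.zj) (D.map θ) ⟶ pullback MV.zj (D.map θ),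
      f = pullback.map (OV.ι ≫ MV.zj) (D.map θ) MV.zj (D.map θ) OV.ι (𝟙 _) (𝟙 _)
        (by simp) (by simp) := ⟨_, rfl⟩
  obtain ⟨g', hg'⟩ : ∃ g' : pullback (OU.ι ≫ MU.zj) (D.map θ) ⟶ pullback MU.zj (D.map θ),
      g' = pullback.map (OU.ι ≫ MU.zj) (D.map θ) MU.zj (D.map θ) OU.ι (𝟙 _) (𝟙 _)
        (by simp) (by simp) := ⟨_, rfl⟩
  have hfo : IsOpenImmersion f := by rw [hf]; infer_instance
  have hg'o : IsOpenImmersion g' := by rw [hg']; infer_instance
  have hgo : IsOpenImmersion (fm ≫ g') := inferInstance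
  have hf1 : f ≫ pullback.fst MV.zj (D.map θ) = pullback.fst (OV.ι ≫ MV.zj) (D.map θ) ≫ OV.ι := by
    rw [hf]; simp
  have hf2 : f ≫ pullback.snd MV.zj (D.map θ) = pullback.snd (OV.ι ≫ MV.zj) (D.map θ) := by
    rw [hf]; simp
  have hg1 : g' ≫ pullback.fst MU.zj (D.map θ) = pullback.fst (OU.ι ≫ MU.zj) (D.map θ) ≫ OU.ι := by
    rw [hg']; simp
  have hg2 : g' ≫ pullback.snd MU.zj (D.map θ) = pullback.snd (OU.ι ≫ MU.zj) (D.map θ) := by
    rw [hg']; simp
  have hab : f ≫ pullback.snd MV.zj (D.map θ) = (fm ≫ g') ≫ pullback.snd MU.zj (D.map θ) := by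
    rw [hf2, Category.assoc, hg2, hfm]
  -- the maps from the overlap
  obtain ⟨tX, htX⟩ : ∃ tX : pullback iV iU ⟶ pullback (OV.ι ≫ MV.zj) (D.map θ),
      tX = pullback.lift rV ((pullback.fst iV iU ≫ iV ≫ h) ≫ c.π.app m)
        (by rw [hX.w]; simp only [Category.assoc, Cone.w]) := ⟨_, rfl⟩
  obtain ⟨tY, htY⟩ : ∃ tY : pullback iV iU ⟶ pullback (OU.ι ≫ MU.zj) (D.map θ),
      tY = pullback.lift rU ((pullback.snd iV iU ≫ iU ≫ h) ≫ c.π.app m)
        (by rw [hY.w]; simp only [Category.assoc, Cone.w]) := ⟨_, rfl⟩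
  have htX1 : tX ≫ pullback.fst _ _ = rV := by rw [htX, pullback.lift_fst]
  have htX2 : tX ≫ pullback.snd _ _ = (pullback.fst iV iU ≫ iV ≫ h) ≫ c.π.app m := by
    rw [htX, pullback.lift_snd]
  have htY1 : tY ≫ pullback.fst _ _ = rU := by rw [htY, pullback.lift_fst]
  have htY2 : tY ≫ pullback.snd _ _ = (pullback.snd iV iU ≫ iU ≫ h) ≫ c.π.app m := by
    rw [htY, pullback.lift_snd]
  have hXY : tX ≫ fm = tY := by
    rw [hcompat tX tY htX1 htX2 htY1 htY2, Category.id_comp]
  obtain ⟨qV', hqV'⟩ : ∃ qV' : V ⟶ pullback MV.zj (D.map θ), qV' = (MV.stage θ).q := ⟨_, rfl⟩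
  have hqV1 : qV' ≫ pullback.fst MV.zj (D.map θ) = MV.q := by
    rw [hqV']; exact MV.stage_q_fst θ
  have hqV2 : qV' ≫ pullback.snd MV.zj (D.map θ) = (iV ≫ h) ≫ c.π.app m := by
    rw [hqV']; exact MV.stage_q_snd θ
  have hVpb : IsPullback qV' (iV ≫ h) (pullback.snd MV.zj (D.map θ)) (c.π.app m) := by
    rw [hqV']; exact (MV.stage θ).isPullback
  obtain ⟨qU', hqU'⟩ : ∃ qU' : U ⟶ pullback MU.zj (D.map θ), qU' = (MU.stage θ).q := ⟨_, rfl⟩
  have hqU1 : qU' ≫ pullback.fst MU.zj (D.map θ) = MU.q := by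
    rw [hqU']; exact MU.stage_q_fst θ
  have hqU2 : qU' ≫ pullback.snd MU.zj (D.map θ) = (iU ≫ h) ≫ c.π.app m := by
    rw [hqU']; exact MU.stage_q_snd θ
  have hUpb : IsPullback qU' (iU ≫ h) (pullback.snd MU.zj (D.map θ)) (c.π.app m) := by
    rw [hqU']; exact (MU.stage θ).isPullback
  have hr1 : tX ≫ f = pullback.fst iV iU ≫ qV' := by
    apply pullback.hom_ext
    · rw [Category.assoc, hf1, ← Category.assoc, htX1, hrV.w, Category.assoc, hqV1]
    · rw [Category.assoc, hf2, htX2]
      simp only [Category.assoc, hqV2]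
  have hpbU : IsPullback tY (pullback.snd iV iU) g' qU' := by
    refine IsPullback.of_right (h₁₂ := pullback.fst (OU.ι ≫ MU.zj) (D.map θ))
      (h₂₂ := pullback.fst MU.zj (D.map θ)) (v₁₃ := OU.ι) ?_ ?_
      (by rw [hg']; exact isPullback_map_opens OU MU.zj (D.map θ))
    · rw [htY1, hqU1]
      exact hrU
    · apply pullback.hom_ext
      · rw [Category.assoc, hg1, ← Category.assoc, htY1, hrU.w, Category.assoc, hqU1]
      · rw [Category.assoc, hg2, htY2]
        simp only [Category.assoc, hqU2]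
  have hr2 : IsPullback tX (pullback.snd iV iU) (fm ≫ g') qU' := by
    refine hpbU.of_iso (Iso.refl _) (asIso fm).symm (Iso.refl _) (Iso.refl _) ?_ ?_ ?_ ?_
    · simp [← hXY]
    · simp
    · simp
    · simp
  obtain ⟨G, hG⟩ := exists_glued f (fm ≫ g') (c.π.app m) (pullback.snd MV.zj (D.map θ))
    (pullback.snd MU.zj (D.map θ)) hab h iV iU hcov qV' qU' hVpb hUpb tX hr1 hr2
  -- properties of the glued morphism
  have hqcX : QuasiCompact (OV.ι ≫ MV.zj) := inferInstance
  have hcW : CompactSpace ↥(pullback (OV.ι ≫ MV.zj) (D.map θ)) := inferInstance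
  have hcVm : CompactSpace ↥(pullback MV.zj (D.map θ)) := inferInstance
  have hcUm : CompactSpace ↥(pullback MU.zj (D.map θ)) := inferInstance
  have hsVm : QuasiSeparatedSpace ↥(pullback MV.zj (D.map θ)) :=
    quasiSeparatedSpace_of_quasiSeparated (pullback.snd MV.zj (D.map θ))
  have hsUm : QuasiSeparatedSpace ↥(pullback MU.zj (D.map θ)) :=
    quasiSeparatedSpace_of_quasiSeparated (pullback.snd MU.zj (D.map θ))
  have hcP : CompactSpace ↥(pushout f (fm ≫ g')) := compactSpace_pushout f (fm ≫ g')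
  have hsP : QuasiSeparatedSpace ↥(pushout f (fm ≫ g')) := quasiSeparatedSpace_pushout f (fm ≫ g')
  refine ⟨m, ⟨{ Zj := pushout f (fm ≫ g')
                zj := pushout.desc (pullback.snd MV.zj (D.map θ)) (pullback.snd MU.zj (D.map θ)) hab
                q := G
                lfp := property_desc f (fm ≫ g') @LocallyOfFinitePresentation _ _ hab
                  inferInstance inferInstance
                qc := inferInstance
                qs := inferInstance
                isPullback := hG }⟩⟩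

set_option backward.isDefEq.respectTransparency false in
include hc in
/-- the union step: if the restrictions of `h` to two open subschemes covering the source, with
quasi-compact overlap, descend to a finite stage, then so does `h`. -/
theorem desc_union (hcov : ∀ z : Z, z ∈ Set.range iV ∨ z ∈ Set.range iU)
    [CompactSpace ↥(pullback iV iU)]
    (hV : Desc D c (iV ≫ h)) (hU : Desc D c (iU ≫ h)) : Desc D c h := by
  obtain ⟨jV, ⟨MV₀⟩⟩ := hV
  obtain ⟨jU, ⟨MU₀⟩⟩ := hU
  let MV := MV₀.stage (IsCofiltered.minToLeft jV jU)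
  let MU := MU₀.stage (IsCofiltered.minToRight jV jU)
  have hRV : IsCompact ((pullback.fst iV iU).opensRange : Set V) := by
    rw [Scheme.Hom.coe_opensRange]
    exact isCompact_range (pullback.fst iV iU).continuous
  have hRU : IsCompact ((pullback.snd iV iU).opensRange : Set U) := by
    rw [Scheme.Hom.coe_opensRange]
    exact isCompact_range (pullback.snd iV iU).continuous
  obtain ⟨kV, hkV⟩ := MV.exists_open hc _ hRV
  obtain ⟨kU, hkU⟩ := MU.exists_open hc _ hRU
  obtain ⟨OV, hOV, hOVR⟩ := hkV (IsCofiltered.min kV kU) (IsCofiltered.minToLeft kV kU)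
  obtain ⟨OU, hOU, hOUR⟩ := hkU (IsCofiltered.min kV kU) (IsCofiltered.minToRight kV kU)
  exact desc_union_same_stage hc h iV iU hcov (MV.stage (IsCofiltered.min kV kU).hom)
    (MU.stage (IsCofiltered.min kV kU).hom) OV hOV hOVR OU hOU hOUR

end Groth.Agent.Helper7.LimDesc
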