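import Mathlib
import Groth.Agent.Lib.Helper7.LimStage
import Groth.Agent.Lib.Helper7.LimSec

set_option autoImplicit false
open CategoryTheory CategoryTheory.Limits AlgebraicGeometry Opposite TopologicalSpace
universe u

/-! helper7: reduction of finite-stage statements for properties of morphisms which are local on
the source, to the case of morphisms between affine schemes; only the source is assumed
quasi-compact. -/

namespace Groth.Agent.Helper7.LimLoc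

open Groth.Agent.Helper7.LimBC Groth.Agent.Helper7.LimStage Groth.Agent.Helper7.LimSec

section square

variable {X₀ Y₀ Z₀ : Scheme.{u}} (f₀ : X₀ ⟶ Y₀) (g₀ : Y₀ ⟶ Z₀)
  {U V : Scheme.{u}} (u : U ⟶ X₀) (v : V ⟶ Y₀) (f' : U ⟶ V) (e : f' ≫ v = u ≫ f₀)
  {T : Scheme.{u}} (s : T ⟶ Z₀)

include e in
theorem comp_eq : f' ≫ v ≫ g₀ = u ≫ f₀ ≫ g₀ := by
  rw [← Category.assoc, e, Category.assoc]

/-- the base change of `v`. -/
noncomputable def vT : pullback (v ≫ g₀) s ⟶ pullback g₀ s :=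
  pullback.map (v ≫ g₀) s g₀ s v (𝟙 T) (𝟙 Z₀) (by simp) (by simp)

instance [IsOpenImmersion v] : IsOpenImmersion (vT g₀ v s) := by
  delta vT; infer_instance

/-- the base change of `u`, in the form given by `Scheme.Pullback.openCoverOfLeft`. -/
noncomputable def uT : pullback (u ≫ f₀ ≫ g₀) s ⟶ pullback (f₀ ≫ g₀) s :=
  pullback.map (u ≫ f₀ ≫ g₀) s (f₀ ≫ g₀) s u (𝟙 T) (𝟙 Z₀) (by simp) (by simp)

set_option backward.isDefEq.respectTransparency false in
include e in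
theorem square_eq :
    (pullback.congrHom (comp_eq f₀ g₀ u v f' e) rfl).inv ≫ bcHom f' (v ≫ g₀) s ≫ vT g₀ v s =
      uT f₀ g₀ u s ≫ bcHom f₀ g₀ s := by
  apply pullback.hom_ext
  · simp [uT, vT, bcHom, pullback.map, e]
  · simp [uT, vT, bcHom, pullback.map]

instance [IsOpenImmersion u] : IsOpenImmersion (uT f₀ g₀ u s) := by
  delta uT; infer_instance

variable (P : MorphismProperty Scheme.{u}) [P.IsStableUnderBaseChange] [IsZariskiLocalAtSource P]

omit [P.IsStableUnderBaseChange] in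
include e in
theorem restrict_of (hcancel : ∀ {A B C : Scheme.{u}} (f : A ⟶ B) (j : B ⟶ C) [IsOpenImmersion j],
      P (f ≫ j) → P f) [IsOpenImmersion u] [IsOpenImmersion v]
    (h : P (bcHom f₀ g₀ s)) : P (bcHom f' (v ≫ g₀) s) := by
  have h1 : P (uT f₀ g₀ u s ≫ bcHom f₀ g₀ s) := IsZariskiLocalAtSource.comp h _
  rw [← square_eq f₀ g₀ u v f' e s, P.cancel_left_of_respectsIso] at h1
  exact hcancel _ _ h1

omit [P.IsStableUnderBaseChange] in
include e in
theorem of_restrict (hpost : ∀ {A B C : Scheme.{u}} (f : A ⟶ B) (j : B ⟶ C) [IsOpenImmersion j],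
      P f → P (f ≫ j)) [IsOpenImmersion v]
    (h : P (bcHom f' (v ≫ g₀) s)) : P (uT f₀ g₀ u s ≫ bcHom f₀ g₀ s) := by
  rw [← square_eq f₀ g₀ u v f' e s, P.cancel_left_of_respectsIso]
  exact hpost _ _ h

end square

variable {I : Type u} [Category.{u} I] [IsCofiltered I] (D : I ⥤ Scheme.{u}) (c : Cone D)
  {i₀ : I} {X₀ Y₀ : Scheme.{u}} (f₀ : X₀ ⟶ Y₀) (g₀ : Y₀ ⟶ D.obj i₀)

set_option backward.isDefEq.respectTransparency false in
/-- reduction of stage statements, for properties local on the source and on the target, to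
morphisms between affine schemes; only the source `X₀` is assumed quasi-compact. -/
theorem exists_stage_of_sourceLocal (P : MorphismProperty Scheme.{u}) [P.IsStableUnderBaseChange]
    [IsZariskiLocalAtSource P]
    (hcancel : ∀ {A B C : Scheme.{u}} (f : A ⟶ B) (j : B ⟶ C) [IsOpenImmersion j],
      P (f ≫ j) → P f)
    (hpost : ∀ {A B C : Scheme.{u}} (f : A ⟶ B) (j : B ⟶ C) [IsOpenImmersion j],
      P f → P (f ≫ j))
    [CompactSpace X₀]
    (H : ∀ {U V : Scheme.{u}} [IsAffine U] [IsAffine V] (u : U ⟶ X₀) (v : V ⟶ Y₀)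
      [IsOpenImmersion u] [IsOpenImmersion v] (f' : U ⟶ V) (_ : f' ≫ v = u ≫ f₀),
      P (bcHom f' (v ≫ g₀) (c.π.app i₀)) →
        ∃ (j : I) (φ : j ⟶ i₀), P (bcHom f' (v ≫ g₀) (D.map φ)))
    (h : P (bcHom f₀ g₀ (c.π.app i₀))) :
    ∃ (j : I) (φ : j ⟶ i₀), P (bcHom f₀ g₀ (D.map φ)) := by
  classical
  have hcover : ∀ x : X₀, ∃ (V : Y₀.Opens) (U : X₀.Opens), IsAffineOpen V ∧
      IsAffineOpen U ∧ x ∈ U ∧ U ≤ f₀ ⁻¹ᵁ V := by
    intro x
    obtain ⟨_, ⟨V, hV, rfl⟩, hxV, -⟩ := Y₀.isBasis_affineOpens.exists_subset_of_mem_open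
      (Set.mem_univ (f₀ x)) isOpen_univ
    obtain ⟨_, ⟨U, hU, rfl⟩, hxU, hUV⟩ := X₀.isBasis_affineOpens.exists_subset_of_mem_open
      (show x ∈ (f₀ ⁻¹ᵁ V : Set X₀) from hxV) (f₀ ⁻¹ᵁ V).2
    exact ⟨V, U, hV, hU, hxU, hUV⟩
  choose V U hV hU hxU hUV using hcover
  obtain ⟨F, hF⟩ := isCompact_univ.elim_finite_subcover (fun x => (U x : Set X₀))
    (fun x => (U x).2) (fun x _ => Set.mem_iUnion.mpr ⟨x, hxU x⟩)
  have he : ∀ x, f₀.resLE (V x) (U x) (hUV x) ≫ (V x).ι = (U x).ι ≫ f₀ := fun x =>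
    Scheme.Hom.resLE_comp_ι _ _
  obtain ⟨j, φ, hj⟩ := eventually_forall_finite i₀ F
    (fun (x : X₀) (k : I) (θ : k ⟶ i₀) =>
      P (bcHom (f₀.resLE (V x) (U x) (hUV x)) ((V x).ι ≫ g₀) (D.map θ)))
    (fun x _ => by
      have : IsAffine (U x).toScheme := hU x
      have : IsAffine (V x).toScheme := hV x
      obtain ⟨j, φ, hj⟩ := H (U x).ι (V x).ι (f₀.resLE (V x) (U x) (hUV x)) (he x)
        (restrict_of f₀ g₀ (U x).ι (V x).ι _ (he x) (c.π.app i₀) P hcancel h)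
      exact ⟨j, φ, fun k ψ => stage_mono D _ _ P φ ψ hj⟩)
  refine ⟨j, 𝟙 j ≫ φ, ?_⟩
  have hcov : IsOpenCover (fun x : F => U x.1) := by
    rw [IsOpenCover, eq_top_iff]
    intro y _
    have hy := hF (Set.mem_univ y)
    simp only [Set.mem_iUnion] at hy
    obtain ⟨x, hx, hyx⟩ := hy
    exact Opens.mem_iSup.mpr ⟨⟨x, hx⟩, hyx⟩
  rw [IsZariskiLocalAtSource.iff_of_openCover (P := P)
    (Scheme.Pullback.openCoverOfLeft (X₀.openCoverOfIsOpenCover _ hcov) (f₀ ≫ g₀)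
      (D.map (𝟙 j ≫ φ)))]
  intro x
  exact of_restrict f₀ g₀ (U x.1).ι (V x.1).ι _ (he x.1) (D.map (𝟙 j ≫ φ)) P hpost
    (hj j (𝟙 j) x.1 x.2)

end Groth.Agent.Helper7.LimLoc
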