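import Mathlib
import Groth.Agent.Lib.Helper7.LimIso
import Groth.Agent.Lib.Helper7.LimLoc

set_option autoImplicit false
open CategoryTheory CategoryTheory.Limits AlgebraicGeometry Opposite TopologicalSpace TensorProduct
universe u

/-! helper7: smooth and etale morphisms descend to a finite stage of a cofiltered limit of schemes
with affine transition maps (EGA IV 17.7.8), through models of finite type over the integers
(Mathlib: `Algebra.Smooth.exists_subalgebra_fg`). -/

namespace Groth.Agent.Helper7.LimModel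

section Ring

variable (A₀ A B₀ B : Type u) [CommRing A₀] [CommRing A] [CommRing B₀] [CommRing B]
  [Algebra A₀ A] [Algebra A₀ B₀] [Algebra A B]

set_option backward.isDefEq.respectTransparency false in
/-- a tensor product presentation gives a pushout square of commutative rings. -/
theorem exists_isPushout_of_algEquiv (e : B ≃ₐ[A] A ⊗[A₀] B₀) :
    ∃ inr : CommRingCat.of B₀ ⟶ CommRingCat.of B,
      IsPushout (CommRingCat.ofHom (algebraMap A₀ A)) (CommRingCat.ofHom (algebraMap A₀ B₀))
        (CommRingCat.ofHom (algebraMap A B)) inr := by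
  refine ⟨CommRingCat.ofHom ((e.symm : A ⊗[A₀] B₀ →+* B).comp
    (Algebra.TensorProduct.includeRight (R := A₀) (A := A) (B := B₀)).toRingHom), ?_⟩
  refine (CommRingCat.isPushout_tensorProduct A₀ A B₀).of_iso (Iso.refl _) (Iso.refl _)
    (Iso.refl _) e.symm.toRingEquiv.toCommRingCatIso (by simp) (by simp) ?_ ?_
  · ext x
    have h1 : (x ⊗ₜ[A₀] (1 : B₀) : A ⊗[A₀] B₀) = algebraMap A (A ⊗[A₀] B₀) x := rfl
    have h2 : e.symm (x ⊗ₜ[A₀] (1 : B₀)) = algebraMap A B x := by rw [h1, AlgEquiv.commutes]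
    simpa using h2
  · ext x
    simp

end Ring

section Model

/-- a property of morphisms of schemes has models of finite type over the integers: every
morphism between affine schemes with the property is a base change of such a morphism between
spectra, the base being of finite type over the integers. -/
def HasModels (P : MorphismProperty Scheme.{u}) : Prop :=
  ∀ {X Y : Scheme.{u}} [IsAffine X] [IsAffine Y] (f : X ⟶ Y), P f →
    ∃ (A₀ B₀ : CommRingCat.{u}) (φ₀ : A₀ ⟶ B₀) (a : Y ⟶ Spec A₀) (b : X ⟶ Spec B₀),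
      Algebra.FiniteType ℤ A₀ ∧ P (Spec.map φ₀) ∧ IsPullback b f (Spec.map φ₀) a

set_option backward.isDefEq.respectTransparency false in
theorem exists_isPullback_of_algEquiv {X Y : Scheme.{u}} [IsAffine X] [IsAffine Y] (f : X ⟶ Y)
    [Algebra Γ(Y, ⊤) Γ(X, ⊤)] (hf : algebraMap Γ(Y, ⊤) Γ(X, ⊤) = f.appTop.hom)
    (A₀ B₀ : Type u) [CommRing A₀] [CommRing B₀] [Algebra A₀ Γ(Y, ⊤)] [Algebra A₀ B₀]
    (e : Γ(X, ⊤) ≃ₐ[Γ(Y, ⊤)] Γ(Y, ⊤) ⊗[A₀] B₀) :
    ∃ (a : Y ⟶ Spec (.of A₀)) (b : X ⟶ Spec (.of B₀)),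
      IsPullback b f (Spec.map (CommRingCat.ofHom (algebraMap A₀ B₀))) a := by
  obtain ⟨inr, hpo⟩ := exists_isPushout_of_algEquiv A₀ Γ(Y, ⊤) B₀ Γ(X, ⊤) e
  have h1 := isPullback_SpecMap_of_isPushout _ _ _ _ hpo
  have h0 : CommRingCat.ofHom (algebraMap Γ(Y, ⊤) Γ(X, ⊤)) = f.appTop := by
    rw [hf]; rfl
  rw [h0] at h1
  have h2 : IsPullback X.toSpecΓ f (Spec.map f.appTop) Y.toSpecΓ :=
    IsPullback.of_horiz_isIso ⟨(Scheme.toSpecΓ_naturality f).symm⟩
  exact ⟨_, _, h2.paste_horiz h1.flip⟩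

theorem hasModels_smooth : HasModels @Smooth.{u} := by
  intro X Y _ _ f hf
  have hf' : RingHom.Smooth f.appTop.hom :=
    (HasRingHomProperty.iff_of_isAffine (P := @Smooth)).mp hf
  algebraize [f.appTop.hom]
  obtain ⟨A₀, B₀, _, _, hfg, hsm, ⟨e⟩⟩ :=
    Algebra.Smooth.exists_subalgebra_fg ℤ Γ(Y, ⊤) Γ(X, ⊤)
  obtain ⟨a, b, hab⟩ := exists_isPullback_of_algEquiv f rfl A₀ B₀ e
  refine ⟨.of A₀, .of B₀, CommRingCat.ofHom (algebraMap A₀ B₀), a, b,
    (Subalgebra.fg_iff_finiteType A₀).mp hfg, ?_, hab⟩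
  exact HasRingHomProperty.Spec_iff.mpr (RingHom.smooth_algebraMap.mpr hsm)

theorem hasModels_etale : HasModels @Etale.{u} := by
  intro X Y _ _ f hf
  have hf' : RingHom.Etale f.appTop.hom :=
    (HasRingHomProperty.iff_of_isAffine (P := @Etale)).mp hf
  algebraize [f.appTop.hom]
  obtain ⟨A₀, B₀, _, _, hfg, hsm, ⟨e⟩⟩ :=
    Algebra.Etale.exists_subalgebra_fg ℤ Γ(Y, ⊤) Γ(X, ⊤)
  obtain ⟨a, b, hab⟩ := exists_isPullback_of_algEquiv f rfl A₀ B₀ e
  refine ⟨.of A₀, .of B₀, CommRingCat.ofHom (algebraMap A₀ B₀), a, b,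
    (Subalgebra.fg_iff_finiteType A₀).mp hfg, ?_, hab⟩
  exact HasRingHomProperty.Spec_iff.mpr (RingHom.etale_algebraMap.mpr hsm)

end Model

section Stage

open Groth.Agent.Helper7.LimBC Groth.Agent.Helper7.LimStage Groth.Agent.Helper7.LimIso

/-- the spectrum of a ring of finite type over the integers is locally of finite presentation
over the terminal scheme. -/
theorem lfp_of_finiteType (A₀ : CommRingCat.{u}) (hfin : Algebra.FiniteType ℤ A₀)
    (t₀ : Spec A₀ ⟶ Spec (.of (ULift.{u} ℤ))) : LocallyOfFinitePresentation t₀ := by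
  have hfp : Algebra.FinitePresentation ℤ A₀ := Algebra.FinitePresentation.of_finiteType.mp hfin
  have h1 : (algebraMap ℤ A₀).FinitePresentation := RingHom.finitePresentation_algebraMap.mpr hfp
  have h2 : ((algebraMap ℤ A₀).comp (ULift.ringEquiv : ULift.{u} ℤ ≃+* ℤ).toRingHom).FinitePresentation :=
    h1.comp (RingHom.FinitePresentation.of_bijective
      (ULift.ringEquiv : ULift.{u} ℤ ≃+* ℤ).bijective)
  have h3 : t₀ = Spec.map (CommRingCat.ofHom
      ((algebraMap ℤ A₀).comp (ULift.ringEquiv : ULift.{u} ℤ ≃+* ℤ).toRingHom)) :=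
    specULiftZIsTerminal.hom_ext _ _
  rw [h3]
  exact HasRingHomProperty.Spec_iff.mpr h2

variable {I : Type u} [Category.{u} I] [IsCofiltered I] (D : I ⥤ Scheme.{u}) (c : Cone D)
  (hc : IsLimit c) [∀ {i j : I} (f : i ⟶ j), IsAffineHom (D.map f)] {i₀ : I}

set_option backward.isDefEq.respectTransparency false in
include hc in
/-- a property of morphisms with models of finite type over the integers, implying local finite
presentation, descends to a finite stage, for morphisms between affine schemes. -/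
theorem exists_stage_of_hasModels (P : MorphismProperty Scheme.{u}) [P.IsStableUnderBaseChange]
    (hM : HasModels P) (hfp : P ≤ @LocallyOfFinitePresentation)
    {U V : Scheme.{u}} [IsAffine U] [IsAffine V] (f' : U ⟶ V) (w : V ⟶ D.obj i₀)
    [LocallyOfFinitePresentation f'] (h : P (bcHom f' w (c.π.app i₀))) :
    ∃ (j : I) (φ : j ⟶ i₀), P (bcHom f' w (D.map φ)) := by
  have hπ : IsAffineHom (c.π.app i₀) := isAffineHom_π_app D c hc i₀
  have haff1 : ∀ {Z : Scheme.{u}} (s : Z ⟶ D.obj i₀) [IsAffineHom s], IsAffine (pullback w s) :=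
    fun s _ => isAffine_of_isAffineHom (pullback.fst w s)
  have haff2 : ∀ {Z : Scheme.{u}} (s : Z ⟶ D.obj i₀) [IsAffineHom s],
      IsAffine (pullback (f' ≫ w) s) :=
    fun s _ => isAffine_of_isAffineHom (pullback.fst (f' ≫ w) s)
  have : IsAffine (pullback w (c.π.app i₀)) := haff1 _
  have : IsAffine (pullback (f' ≫ w) (c.π.app i₀)) := haff2 _
  obtain ⟨A₀, B₀, φ₀, a, b, hfin, hP₀, hpb⟩ := hM (bcHom f' w (c.π.app i₀)) h
  have hpbV := IsPullback.of_hasPullback w (c.π.app i₀)
  have hcE : IsLimit (bcCone hpbV) := isLimitBcCone hc hpbV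
  have hlfp : LocallyOfFinitePresentation (specULiftZIsTerminal.from (Spec A₀)) :=
    lfp_of_finiteType A₀ hfin _
  obtain ⟨k, gk, hg1, -⟩ := Scheme.exists_π_app_comp_eq_of_locallyOfFinitePresentation
    (bcDiagram D i₀ w)
    { app := fun _ => specULiftZIsTerminal.from _
      naturality := fun _ _ _ => specULiftZIsTerminal.hom_ext _ _ }
    (specULiftZIsTerminal.from (Spec A₀)) (bcCone hpbV) hcE a
    (by ext j : 2; exact specULiftZIsTerminal.hom_ext _ _)
  have hg1' : (bcCone hpbV).π.app k ≫ gk = a := hg1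
  have : IsAffine (pullback w (D.map k.hom)) := haff1 _
  have : IsAffine (pullback (f' ≫ w) (D.map k.hom)) := haff2 _
  have hPyi : P (pullback.fst gk (Spec.map φ₀)) := P.pullback_fst _ _ hP₀
  have hlfp0 : LocallyOfFinitePresentation (Spec.map φ₀) := hfp _ hP₀
  have hlfpx : LocallyOfFinitePresentation (bcHom f' w (D.map k.hom)) :=
    MorphismProperty.of_isPullback (isPullback_bcHom f' w (D.map k.hom)) inferInstance
  obtain ⟨qX, hX⟩ := (isBC_bcHom f' w (D.map k.hom)).isBC_of_fac
    (isBC_bcHom f' w (c.π.app i₀)) ((bcCone hpbV).π.app k) (bcCone_π_fst hpbV k)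
  have hY : IsPullback (pullback.lift (bcHom f' w (c.π.app i₀) ≫ (bcCone hpbV).π.app k) b
      (by rw [Category.assoc, hg1', hpb.w])) (bcHom f' w (c.π.app i₀))
      (pullback.fst gk (Spec.map φ₀)) ((bcCone hpbV).π.app k) := by
    refine IsPullback.of_right (h₁₂ := pullback.snd gk (Spec.map φ₀)) (h₂₂ := gk)
      (v₁₃ := Spec.map φ₀) ?_ (pullback.lift_fst _ _ _) (IsPullback.of_hasPullback _ _).flip
    rw [pullback.lift_snd, hg1']
    exact hpb
  obtain ⟨m, θ, fm, hiso, hfm⟩ := exists_iso_descend (bcDiagram D i₀ w) (bcCone hpbV) hcE k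
    (bcHom f' w (D.map k.hom)) (pullback.fst gk (Spec.map φ₀)) hX hY (𝟙 _) (Category.id_comp _)
  have hP1 : P (pullback.snd (bcHom f' w (D.map k.hom)) ((bcDiagram D i₀ w).map θ)) := by
    rw [← hfm]
    exact (P.cancel_left_of_respectsIso fm _).mpr (P.pullback_snd _ _ hPyi)
  refine ⟨m.left, m.hom, ?_⟩
  exact IsBC.of_fac P ⟨_, IsPullback.of_hasPullback _ _⟩
    ((isBC_bcHom f' w (D.map k.hom)).isBC_of_fac (isBC_bcHom f' w (D.map m.hom))
      ((bcDiagram D i₀ w).map θ) (bcDiagram_map_fst D i₀ w θ)) (𝟙 _) (Category.id_comp _) hP1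

variable {X₀ Y₀ : Scheme.{u}} (f₀ : X₀ ⟶ Y₀) (g₀ : Y₀ ⟶ D.obj i₀)

include hc in
/-- descent to a finite stage for a property with models of finite type over the integers which is
local on the source; only the source is assumed quasi-compact. -/
theorem exists_stage_of_hasModels' (P : MorphismProperty Scheme.{u}) [P.IsStableUnderBaseChange]
    [IsZariskiLocalAtSource P] (hM : HasModels P) (hfp : P ≤ @LocallyOfFinitePresentation)
    (hpost : ∀ {A B C : Scheme.{u}} (f : A ⟶ B) (j : B ⟶ C) [IsOpenImmersion j],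
      P f → P (f ≫ j))
    [CompactSpace X₀] [LocallyOfFinitePresentation f₀]
    (h : P (bcHom f₀ g₀ (c.π.app i₀))) :
    ∃ (j : I) (φ : j ⟶ i₀), P (bcHom f₀ g₀ (D.map φ)) := by
  refine Groth.Agent.Helper7.LimLoc.exists_stage_of_sourceLocal D c f₀ g₀ P
    (fun f j _ hfj => MorphismProperty.of_postcomp (W := P)
      (W' := MorphismProperty.monomorphisms Scheme.{u}) f j
      (MorphismProperty.monomorphisms.infer_property j) hfj) hpost ?_ h
  intro U V _ _ u v _ _ f' e h'
  have h1 : LocallyOfFinitePresentation (f' ≫ v) := by rw [e]; infer_instance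
  have h2 : LocallyOfFinitePresentation f' :=
    Groth.Agent.Helper2.locallyOfFinitePresentation_of_comp f' v inferInstance h1
  exact exists_stage_of_hasModels D c hc P hM hfp f' (v ≫ g₀) h'

include hc in
/-- smooth morphisms locally of finite presentation descend to a finite stage. -/
theorem exists_stage_smooth [CompactSpace X₀] [LocallyOfFinitePresentation f₀]
    (h : Smooth (bcHom f₀ g₀ (c.π.app i₀))) :
    ∃ (j : I) (φ : j ⟶ i₀), Smooth (bcHom f₀ g₀ (D.map φ)) :=
  exists_stage_of_hasModels' D c hc f₀ g₀ @Smooth hasModels_smooth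
    (fun _ _ f hf => have : Smooth f := hf; inferInstance)
    (fun f _ _ hf => have : Smooth f := hf; inferInstance) h

include hc in
/-- etale morphisms locally of finite presentation descend to a finite stage. -/
theorem exists_stage_etale [CompactSpace X₀] [LocallyOfFinitePresentation f₀]
    (h : Etale (bcHom f₀ g₀ (c.π.app i₀))) :
    ∃ (j : I) (φ : j ⟶ i₀), Etale (bcHom f₀ g₀ (D.map φ)) :=
  exists_stage_of_hasModels' D c hc f₀ g₀ @Etale hasModels_etale
    (fun _ _ f hf => have : Etale f := hf; inferInstance)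
    (fun f _ _ hf => have : Etale f := hf; inferInstance) h

end Stage

end Groth.Agent.Helper7.LimModel
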