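import Mathlib
import Groth.Agent.Lib.Helper7.LimDesc2
import Groth.Agent.Lib.Helper7.LimModel
import Groth.Agent.Lib.Helper6.FPModel

set_option autoImplicit false
open CategoryTheory CategoryTheory.Limits AlgebraicGeometry Opposite TopologicalSpace
universe u

set_option linter.unusedSectionVars false

/-! helper7: descent of finitely presented morphisms through cofiltered limits (EGA IV 8.9.1), part 3:
the affine case `desc_of_affine`. -/

namespace Groth.Agent.Helper7.LimDesc

open Groth.Agent.Helper7.LimBC Groth.Agent.Helper7.LimIso Groth.Agent.Helper7.LimModel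

set_option backward.isDefEq.respectTransparency false in
theorem hasModels_lfp : HasModels @LocallyOfFinitePresentation.{u} := by
  intro X Y _ _ f hf
  have hφ : f.appTop.hom.FinitePresentation :=
    HasRingHomProperty.appTop (P := @LocallyOfFinitePresentation) _ hf
  obtain ⟨R₀, B₀, i, j, k, hpo, hft, hfp⟩ := Groth.Agent.Lib.Helper6.FPModel.ring_model f.appTop hφ
  have hpb : IsPullback (Spec.map k) (Spec.map f.appTop) (Spec.map j) (Spec.map i) :=
    (isPullback_SpecMap_of_isPushout _ _ _ _ hpo).flip
  have h2 : IsPullback X.toSpecΓ f (Spec.map f.appTop) Y.toSpecΓ :=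
    IsPullback.of_horiz_isIso ⟨(Scheme.toSpecΓ_naturality f).symm⟩
  exact ⟨R₀, B₀, j, _, _, hft, (LocallyOfFinitePresentation.SpecMap_iff j).mpr hfp,
    h2.paste_horiz hpb⟩

variable {I : Type u} [Category.{u} I] [IsCofiltered I] {D : I ⥤ Scheme.{u}} {c : Cone D}
  (hc : IsLimit c) [∀ {i j : I} (f : i ⟶ j), IsAffineHom (D.map f)]
  [∀ i, QuasiSeparatedSpace (D.obj i)]

set_option backward.isDefEq.respectTransparency false in
include hc in
/-- the affine case: a morphism of finite presentation from an affine scheme to the part of the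
limit lying over an affine scheme over a stage descends to a finite stage. -/
theorem desc_of_affine {i : I} {T : Scheme.{u}} [IsAffine T] (w : T ⟶ D.obj i)
    [LocallyOfFinitePresentation w]
    {Z : Scheme.{u}} [IsAffine Z] (h'' : Z ⟶ pullback w (c.π.app i))
    [LocallyOfFinitePresentation h''] :
    Desc D c (h'' ≫ pullback.snd w (c.π.app i)) := by
  have hπ : IsAffineHom (c.π.app i) := isAffineHom_π_app D c hc i
  have haff1 : ∀ {Z' : Scheme.{u}} (s : Z' ⟶ D.obj i) [IsAffineHom s], IsAffine (pullback w s) :=
    fun s _ => isAffine_of_isAffineHom (pullback.fst w s)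
  have : IsAffine (pullback w (c.π.app i)) := haff1 _
  obtain ⟨A₀, B₀, φ₀, a, b, hfin, hP₀, hpb⟩ := hasModels_lfp h'' inferInstance
  have hpbV := IsPullback.of_hasPullback w (c.π.app i)
  have hcE : IsLimit (bcCone hpbV) := isLimitBcCone hc hpbV
  have hlfp : LocallyOfFinitePresentation (specULiftZIsTerminal.from (Spec A₀)) :=
    lfp_of_finiteType A₀ hfin _
  obtain ⟨k, gk, hg1, -⟩ := Scheme.exists_π_app_comp_eq_of_locallyOfFinitePresentation
    (bcDiagram D i w)
    { app := fun _ => specULiftZIsTerminal.from _
      naturality := fun _ _ _ => specULiftZIsTerminal.hom_ext _ _ }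
    (specULiftZIsTerminal.from (Spec A₀)) (bcCone hpbV) hcE a
    (by ext j : 2; exact specULiftZIsTerminal.hom_ext _ _)
  have hg1' : (bcCone hpbV).π.app k ≫ gk = a := hg1
  have : IsAffine (pullback w (D.map k.hom)) := haff1 _
  have hlfp0 : LocallyOfFinitePresentation (Spec.map φ₀) := hP₀
  have hY : IsPullback (pullback.lift (h'' ≫ (bcCone hpbV).π.app k) b
      (by rw [Category.assoc, hg1', hpb.w])) h''
      (pullback.fst gk (Spec.map φ₀)) ((bcCone hpbV).π.app k) := by
    refine IsPullback.of_right (h₁₂ := pullback.snd gk (Spec.map φ₀)) (h₂₂ := gk)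
      (v₁₃ := Spec.map φ₀) ?_ (pullback.lift_fst _ _ _) (IsPullback.of_hasPullback _ _).flip
    rw [pullback.lift_snd, hg1']
    exact hpb
  have hfin' : IsPullback _ (h'' ≫ pullback.snd w (c.π.app i))
      (pullback.fst gk (Spec.map φ₀) ≫ pullback.snd w (D.map k.hom)) (c.π.app k.left) :=
    hY.paste_vert (isPullback_bcCone_π hpbV k)
  have haffk : IsAffine ((bcDiagram D i w).obj k) := haff1 (D.map k.hom)
  have haffZ : IsAffine (pullback gk (Spec.map φ₀)) := inferInstance
  exact ⟨k.left, ⟨{ Zj := pullback gk (Spec.map φ₀)
                    zj := pullback.fst gk (Spec.map φ₀) ≫ pullback.snd w (D.map k.hom)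
                    q := _
                    lfp := inferInstance
                    qc := inferInstance
                    qs := inferInstance
                    isPullback := hfin' }⟩⟩

end Groth.Agent.Helper7.LimDesc
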