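import Mathlib
import Groth.Agent.Lib.Helper7.LimDesc3
import Groth.Agent.Lib.Helper2.LfpOfComp

set_option autoImplicit false
open CategoryTheory CategoryTheory.Limits AlgebraicGeometry Opposite TopologicalSpace
universe u

set_option linter.unusedSectionVars false

/-! helper7: descent of finitely presented morphisms through cofiltered limits (EGA IV 8.9.1), part 4:
induction on a finite good affine cover and the theorem `desc_of_finitePresentation`. -/

namespace Groth.Agent.Helper7.LimDesc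

open Groth.Agent.Helper7.LimBC Groth.Agent.Helper7.LimIso Groth.Agent.Helper7.LimModel

variable {I : Type u} [Category.{u} I] [IsCofiltered I] {D : I ⥤ Scheme.{u}} {c : Cone D}
  (hc : IsLimit c) [∀ {i j : I} (f : i ⟶ j), IsAffineHom (D.map f)]
  [∀ i, CompactSpace (D.obj i)] [∀ i, QuasiSeparatedSpace (D.obj i)]

/-- an open of the source is good if it is affine and maps into an affine open of some stage. -/
def Good {Z : Scheme.{u}} (h : Z ⟶ c.pt) (A : Z.Opens) : Prop :=
  IsAffineOpen A ∧ ∃ (i : I) (T : (D.obj i).Opens), IsAffineOpen T ∧ A ≤ (h ≫ c.π.app i) ⁻¹ᵁ T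

set_option backward.isDefEq.respectTransparency false in
include hc in
theorem desc_of_good {Z : Scheme.{u}} (h : Z ⟶ c.pt) [LocallyOfFinitePresentation h]
    (A : Z.Opens) (hA : Good (D := D) h A) : Desc D c (A.ι ≫ h) := by
  obtain ⟨hA, i, T, hT, hle⟩ := hA
  have : IsAffine A.toScheme := hA
  have : IsAffine T.toScheme := hT
  have hrange : Set.range (A.ι ≫ h ≫ c.π.app i) ⊆ Set.range T.ι := by
    rintro _ ⟨x, rfl⟩
    rw [Scheme.Opens.range_ι]
    have := hle x.2
    simpa using this
  obtain ⟨t, ht⟩ : ∃ t : A.toScheme ⟶ T.toScheme, t ≫ T.ι = A.ι ≫ h ≫ c.π.app i :=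
    ⟨IsOpenImmersion.lift T.ι (A.ι ≫ h ≫ c.π.app i) hrange, IsOpenImmersion.lift_fac _ _ _⟩
  obtain ⟨h'', hh1, hh2⟩ : ∃ h'' : A.toScheme ⟶ pullback T.ι (c.π.app i),
      h'' ≫ pullback.fst _ _ = t ∧ h'' ≫ pullback.snd _ _ = A.ι ≫ h :=
    ⟨pullback.lift t (A.ι ≫ h) (by simpa using ht), pullback.lift_fst _ _ _, pullback.lift_snd _ _ _⟩
  have : LocallyOfFinitePresentation h'' := by
    apply Groth.Agent.Helper2.locallyOfFinitePresentation_of_comp h'' (pullback.snd T.ι (c.π.app i))
      inferInstance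
    rw [hh2]
    infer_instance
  have := desc_of_affine hc T.ι h''
  rwa [hh2] at this

set_option backward.isDefEq.respectTransparency false in
include hc in
theorem desc_of_isEmpty {Z : Scheme.{u}} (h : Z ⟶ c.pt) [IsEmpty Z] : Desc D c h := by
  obtain ⟨j⟩ := IsCofiltered.nonempty (C := I)
  have hI : IsInitial Z := isInitialOfIsEmpty
  have : IsEmpty ↥(pullback (hI.to (D.obj j)) (c.π.app j)) :=
    Function.isEmpty (pullback.fst (hI.to (D.obj j)) (c.π.app j)).base
  have hI' : IsInitial (pullback (hI.to (D.obj j)) (c.π.app j)) := isInitialOfIsEmpty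
  have hpb : IsPullback (𝟙 Z) h (hI.to (D.obj j)) (c.π.app j) :=
    IsPullback.of_iso_pullback ⟨hI.hom_ext _ _⟩ (hI.uniqueUpToIso hI') (hI.hom_ext _ _)
      (hI.hom_ext _ _)
  exact ⟨j, ⟨⟨Z, hI.to (D.obj j), 𝟙 Z, inferInstance, inferInstance, inferInstance, hpb⟩⟩⟩

set_option backward.isDefEq.respectTransparency false in
include hc in
theorem desc_of_finite_cover : ∀ (n : ℕ) {Z : Scheme.{u}} (h : Z ⟶ c.pt)
    [LocallyOfFinitePresentation h] [QuasiSeparatedSpace Z] (Us : Fin n → Z.Opens),
    (∀ k, Good (D := D) h (Us k)) → (⨆ k, Us k = ⊤) → Desc D c h := by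
  intro n
  induction n with
  | zero =>
    intro Z h _ _ Us _ hcov
    have : IsEmpty Z := by
      constructor
      intro z
      have hz : z ∈ (⊤ : Z.Opens) := trivial
      rw [← hcov] at hz
      simp only [Opens.mem_iSup] at hz
      obtain ⟨k, -⟩ := hz
      exact k.elim0
    exact desc_of_isEmpty hc h
  | succ n ih =>
    intro Z h _ _ Us hgood hcov
    obtain ⟨V, hV⟩ : ∃ V : Z.Opens, V = ⨆ k : Fin n, Us k.castSucc := ⟨_, rfl⟩
    obtain ⟨U, hU⟩ : ∃ U : Z.Opens, U = Us (Fin.last n) := ⟨_, rfl⟩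
    have hle : ∀ k : Fin n, Us k.castSucc ≤ V := fun k => hV ▸ le_iSup (fun k : Fin n => Us k.castSucc) k
    have : QuasiSeparatedSpace ↥V.toScheme := quasiSeparatedSpace_of_quasiSeparated V.ι
    have hVd : Desc D c (V.ι ≫ h) := by
      refine ih (V.ι ≫ h) (fun k => V.ι ⁻¹ᵁ Us k.castSucc) ?_ ?_
      · intro k
        obtain ⟨hA, i, T, hT, hAT⟩ := hgood k.castSucc
        refine ⟨hA.preimage_of_isOpenImmersion V.ι ?_, i, T, hT, ?_⟩
        · rw [Scheme.Opens.opensRange_ι]
          exact hle k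
        · intro x hx
          exact hAT hx
      · rw [← Scheme.Hom.preimage_iSup, ← hV]
        exact Scheme.Opens.ι_preimage_self V
    have hUd : Desc D c (U.ι ≫ h) := desc_of_good hc h U (hU ▸ hgood _)
    have hcov' : ∀ z : Z, z ∈ Set.range V.ι ∨ z ∈ Set.range U.ι := by
      intro z
      have hz : z ∈ (⊤ : Z.Opens) := trivial
      rw [← hcov] at hz
      simp only [Opens.mem_iSup] at hz
      obtain ⟨k, hk⟩ := hz
      rw [Scheme.Opens.range_ι, Scheme.Opens.range_ι]
      induction k using Fin.lastCases with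
      | last => exact Or.inr (hU ▸ hk)
      | cast k => exact Or.inl (hle k hk)
    have hVc : IsCompact (V : Set Z) := by
      rw [hV, Opens.coe_iSup]
      exact isCompact_iUnion fun k => (hgood k.castSucc).1.isCompact
    have hUc : IsCompact (U : Set Z) := (hU ▸ (hgood (Fin.last n)).1).isCompact
    have hVU : IsCompact ((V ⊓ U : Z.Opens) : Set Z) :=
      QuasiSeparatedSpace.inter_isCompact V.1 U.1 V.2 hVc U.2 hUc
    have hcVU : CompactSpace ↥(V ⊓ U).toScheme := isCompact_iff_compactSpace.mp hVU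
    have : CompactSpace ↥(pullback V.ι U.ι) :=
      (Scheme.homeoOfIso (isPullback_opens_inf V U).isoPullback).compactSpace
    exact desc_union hc h V.ι U.ι hcov' hVd hUd


set_option backward.isDefEq.respectTransparency false in
include hc in
/-- EGA IV 8.9.1: every morphism of finite presentation to the limit descends to a finite stage. -/
theorem desc_of_finitePresentation {Z : Scheme.{u}} (h : Z ⟶ c.pt)
    [LocallyOfFinitePresentation h] [QuasiCompact h] [QuasiSeparated h] : Desc D c h := by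
  obtain ⟨i₀⟩ := IsCofiltered.nonempty (C := I)
  have hπ : IsAffineHom (c.π.app i₀) := isAffineHom_π_app D c hc i₀
  have : CompactSpace ↥c.pt := Scheme.compactSpace_of_isLimit D c hc
  have : QuasiSeparatedSpace ↥c.pt := quasiSeparatedSpace_of_quasiSeparated (c.π.app i₀)
  have : CompactSpace ↥Z := QuasiCompact.compactSpace_of_compactSpace h
  have : QuasiSeparatedSpace ↥Z := quasiSeparatedSpace_of_quasiSeparated h
  have hex : ∀ z : Z, ∃ A : Z.Opens, z ∈ A ∧ Good (D := D) h A := by
    intro z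
    obtain ⟨T, hT, hzT, -⟩ := exists_isAffineOpen_mem_and_subset
      (x := (h ≫ c.π.app i₀) z) (U := ⊤) trivial
    obtain ⟨A, hA, hzA, hAT⟩ := exists_isAffineOpen_mem_and_subset
      (x := z) (U := (h ≫ c.π.app i₀) ⁻¹ᵁ T) hzT
    exact ⟨A, hzA, hA, i₀, T, hT, hAT⟩
  choose A hzA hA using hex
  obtain ⟨t, ht⟩ := CompactSpace.elim_nhds_subcover (fun z => (A z : Set Z))
    (fun z => (A z).2.mem_nhds (hzA z))
  refine desc_of_finite_cover hc t.card h (fun k => A (t.equivFin.symm k).1) (fun k => hA _) ?_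
  rw [eq_top_iff]
  intro z _
  have hz : z ∈ ⋃ x ∈ t, (A x : Set Z) := ht ▸ Set.mem_univ z
  simp only [Set.mem_iUnion] at hz
  obtain ⟨x, hx, hzx⟩ := hz
  simp only [Opens.mem_iSup]
  exact ⟨t.equivFin ⟨x, hx⟩, by simpa using hzx⟩


end Groth.Agent.Helper7.LimDesc
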