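import Groth.Agent.Lib.Helper7.SpectralLimit3
import Mathlib.Topology.Constructible

/-!
# Helper library (helper7): constructible sets in spectral spaces and in cofiltered limits
-/

set_option autoImplicit false

namespace Groth.Agent.Helper7

open CategoryTheory CategoryTheory.Limits Topology TopologicalSpace

universe u

section
variable {X : Type u} [TopologicalSpace X]

/-- Constructible subsets of a quasi-separated compact space are clopen in the constructible
topology. -/
theorem isClopen_cons_of_isConstructible [CompactSpace X] {E : Set X}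
    (hE : IsConstructible E) : @IsClopen X (constructibleTopology X) E := by
  induction hE using IsConstructible.empty_union_induction with
  | open_retrocompact U hUo hUc => exact isClopen_cons_of_isCompact_isOpen hUo hUc.isCompact
  | union s _ t _ hs ht => exact @IsClopen.union X (constructibleTopology X) s t hs ht
  | compl s _ hs => exact @IsClopen.compl X (constructibleTopology X) s hs

/-- Constructible subsets of a spectral space are compact. -/
theorem isCompact_of_isConstructible [SpectralSpace X] {E : Set X}
    (hE : IsConstructible E) : IsCompact E :=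
  isCompact_of_isClosed_cons (isClopen_cons_of_isConstructible hE).1

/-- Preimages of constructible sets under spectral maps between quasi-separated compact spaces
are constructible. -/
theorem isConstructible_preimage_of_isSpectralMap {Y : Type u} [TopologicalSpace Y]
    [CompactSpace X] [QuasiSeparatedSpace X] [CompactSpace Y] {f : X → Y} (hf : IsSpectralMap f)
    {E : Set Y} (hE : IsConstructible E) : IsConstructible (f ⁻¹' E) :=
  hE.preimage hf.continuous fun _ hso hsc =>
    (hf.isCompact_preimage_of_isOpen hso hsc.isCompact).isRetrocompact (hso.preimage hf.continuous)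

end

variable {J : Type u} [SmallCategory J] {F : J ⥤ TopCat.{u}}

/-- Stacks 0A2Z (constructible sets descend). -/
theorem exists_isConstructible_preimage_eq [IsCofiltered J]
    (hF : ∀ j, SpectralSpace (F.obj j))
    (hFm : ∀ {i j : J} (a : i ⟶ j), IsSpectralMap (F.map a : F.obj i → F.obj j))
    (c : Cone F) (hc : IsLimit c) (E : Set c.pt) (hE : IsConstructible E) :
    ∃ (i : J) (Ei : Set (F.obj i)), IsConstructible Ei ∧
      (c.π.app i : c.pt → F.obj i) ⁻¹' Ei = E := by
  have := hF
  have hX := spectralSpace_of_isLimit hF hFm c hc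
  induction hE using IsConstructible.empty_union_induction with
  | open_retrocompact U hUo hUc =>
    obtain ⟨i, Ui, hUio, hUic, h⟩ :=
      exists_compactOpen_preimage_eq hF hFm c hc U hUo hUc.isCompact
    exact ⟨i, Ui, hUic.isConstructible hUio, h⟩
  | union s _ t _ hs ht =>
    obtain ⟨j, S, hS, rfl⟩ := hs
    obtain ⟨k, T, hT, rfl⟩ := ht
    let i := IsCofiltered.min j k
    let a : i ⟶ j := IsCofiltered.minToLeft j k
    let b : i ⟶ k := IsCofiltered.minToRight j k
    refine ⟨i, (F.map a : F.obj i → F.obj j) ⁻¹' S ∪ (F.map b : F.obj i → F.obj k) ⁻¹' T,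
      ?_, ?_⟩
    · exact (isConstructible_preimage_of_isSpectralMap (hFm a) hS).union
        (isConstructible_preimage_of_isSpectralMap (hFm b) hT)
    · rw [Set.preimage_union, preimage_π_preimage_map, preimage_π_preimage_map]
  | compl s _ hs =>
    obtain ⟨j, S, hS, rfl⟩ := hs
    exact ⟨j, Sᶜ, hS.compl, rfl⟩

theorem exists_isConstructible_isOpen_preimage_eq [IsCofiltered J]
    (hF : ∀ j, SpectralSpace (F.obj j))
    (hFm : ∀ {i j : J} (a : i ⟶ j), IsSpectralMap (F.map a : F.obj i → F.obj j))
    (c : Cone F) (hc : IsLimit c) (E : Set c.pt) (hE : IsConstructible E) (hEo : IsOpen E) :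
    ∃ (i : J) (Ei : Set (F.obj i)), IsConstructible Ei ∧ IsOpen Ei ∧
      (c.π.app i : c.pt → F.obj i) ⁻¹' Ei = E := by
  have := hF
  have hX := spectralSpace_of_isLimit hF hFm c hc
  obtain ⟨i, Ui, hUio, hUic, h⟩ :=
    exists_compactOpen_preimage_eq hF hFm c hc E hEo (isCompact_of_isConstructible hE)
  exact ⟨i, Ui, hUic.isConstructible hUio, hUio, h⟩

theorem exists_isConstructible_isClosed_preimage_eq [IsCofiltered J]
    (hF : ∀ j, SpectralSpace (F.obj j))
    (hFm : ∀ {i j : J} (a : i ⟶ j), IsSpectralMap (F.map a : F.obj i → F.obj j))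
    (c : Cone F) (hc : IsLimit c) (E : Set c.pt) (hE : IsConstructible E) (hEc : IsClosed E) :
    ∃ (i : J) (Ei : Set (F.obj i)), IsConstructible Ei ∧ IsClosed Ei ∧
      (c.π.app i : c.pt → F.obj i) ⁻¹' Ei = E := by
  obtain ⟨i, Ui, hUic, hUio, h⟩ :=
    exists_isConstructible_isOpen_preimage_eq hF hFm c hc Eᶜ hE.compl hEc.isOpen_compl
  refine ⟨i, Uiᶜ, hUic.compl, hUio.isClosed_compl, ?_⟩
  rw [Set.preimage_compl, h, compl_compl]

end Groth.Agent.Helper7
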