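import Mathlib
import Groth.Prelude.Def_ProCons
import Groth.Agent.Lib.Helper7.SpectralLimit4

/-!
# Helper library (helper7): ind- and pro-constructible sets and the constructible topology
-/

set_option autoImplicit false

namespace Groth.Agent.Helper7.ProConsLib

open Topology TopologicalSpace

universe u
variable {X : Type u} [TopologicalSpace X]

/-- the inclusion `U ∩ W → U` as a map of subtypes -/
def inclSub (U W : Set X) : (Subtype.val ⁻¹' U : Set W) → U := fun y => ⟨y.1.1, y.2⟩

theorem isOpenEmbedding_inclSub {U W : Set X} (hU : IsOpen U) (hW : IsOpen W) :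
    IsOpenEmbedding (inclSub U W) := by
  have hU' : IsOpen (Subtype.val ⁻¹' U : Set W) := hU.preimage continuous_subtype_val
  have h1 : IsOpenEmbedding ((Subtype.val : U → X) ∘ inclSub U W) :=
    (hW.isOpenEmbedding_subtypeVal).comp (hU'.isOpenEmbedding_subtypeVal)
  exact IsOpenEmbedding.of_comp _ hU.isOpenEmbedding_subtypeVal h1

/-- restriction of an ind-constructible set to an open subset -/
theorem isIndConstructible_preimage_val {E : Set X} (hE : ProCons.IsIndConstructible E)
    {W : Set X} (hW : IsOpen W) : ProCons.IsIndConstructible (Subtype.val ⁻¹' E : Set W) := by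
  intro x
  obtain ⟨U, hU, hxU, S, hS, hES⟩ := hE x.1
  have hj := isOpenEmbedding_inclSub hU hW
  refine ⟨Subtype.val ⁻¹' U, hU.preimage continuous_subtype_val, hxU,
    (fun T => inclSub U W ⁻¹' T) '' S, ?_, ?_⟩
  · rintro _ ⟨T, hT, rfl⟩
    exact (hS T hT).preimage_of_isOpenEmbedding hj
  · have h1 : (Subtype.val ⁻¹' (Subtype.val ⁻¹' E : Set W) : Set (Subtype.val ⁻¹' U : Set W)) =
        inclSub U W ⁻¹' (Subtype.val ⁻¹' E) := rfl
    rw [h1, hES, Set.preimage_sUnion, Set.sUnion_image]

/-- restriction of a pro-constructible set to an open subset -/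
theorem isProConstructible_preimage_val {E : Set X} (hE : ProCons.IsProConstructible E)
    {W : Set X} (hW : IsOpen W) : ProCons.IsProConstructible (Subtype.val ⁻¹' E : Set W) := by
  intro x
  obtain ⟨U, hU, hxU, S, hS, hES⟩ := hE x.1
  have hj := isOpenEmbedding_inclSub hU hW
  refine ⟨Subtype.val ⁻¹' U, hU.preimage continuous_subtype_val, hxU,
    (fun T => inclSub U W ⁻¹' T) '' S, ?_, ?_⟩
  · rintro _ ⟨T, hT, rfl⟩
    exact (hS T hT).preimage_of_isOpenEmbedding hj
  · have h1 : (Subtype.val ⁻¹' (Subtype.val ⁻¹' E : Set W) : Set (Subtype.val ⁻¹' U : Set W)) =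
        inclSub U W ⁻¹' (Subtype.val ⁻¹' E) := rfl
    rw [h1, hES, Set.preimage_sInter, Set.sInter_image]

/-- a locally constructible subset of an open set, cut down to a compact open, is constructible -/
theorem isConstructible_image_inter [SpectralSpace X] {U : Set X} (hU : IsOpen U) {T : Set U}
    (hT : IsLocallyConstructible T) {V : Set X} (hVo : IsOpen V) (hVc : IsCompact V)
    (hVU : V ⊆ U) : IsConstructible (Subtype.val '' T ∩ V) := by
  let i : V → U := Set.inclusion hVU
  have hi : IsOpenEmbedding i := by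
    have h1 : IsOpenEmbedding ((Subtype.val : U → X) ∘ i) := hVo.isOpenEmbedding_subtypeVal
    exact IsOpenEmbedding.of_comp _ hU.isOpenEmbedding_subtypeVal h1
  have hTV : IsLocallyConstructible (i ⁻¹' T) := hT.preimage_of_isOpenEmbedding hi
  have hVemb : IsOpenEmbedding (Subtype.val : V → X) := hVo.isOpenEmbedding_subtypeVal
  have : CompactSpace V := isCompact_iff_compactSpace.mp hVc
  have : PrespectralSpace V := hVemb.prespectralSpace
  have : QuasiSeparatedSpace V := hVemb.quasiSeparatedSpace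
  have hcons : IsConstructible (i ⁻¹' T) := hTV.isConstructible
  have himg := hcons.image_of_isOpenEmbedding hVemb
    (by rw [Subtype.range_coe]; exact hVc.isRetrocompact hVo)
  have heq : Subtype.val '' (i ⁻¹' T) = Subtype.val '' T ∩ V := by
    ext y
    constructor
    · rintro ⟨⟨y, hyV⟩, hyT, rfl⟩
      exact ⟨⟨⟨y, hVU hyV⟩, hyT, rfl⟩, hyV⟩
    · rintro ⟨⟨⟨y, hyU⟩, hyT, rfl⟩, hyV⟩
      exact ⟨⟨y, hyV⟩, hyT, rfl⟩
  rwa [heq] at himg

/-- in a spectral space ind-constructible sets are open for the constructible topology -/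
theorem isOpen_cons_of_isIndConstructible [SpectralSpace X] {E : Set X}
    (hE : ProCons.IsIndConstructible E) : IsOpen[constructibleTopology X] E := by
  rw [@isOpen_iff_forall_mem_open X (constructibleTopology X)]
  intro x hx
  obtain ⟨U, hU, hxU, S, hS, hES⟩ := hE x
  have hxS : (⟨x, hxU⟩ : U) ∈ ⋃₀ S := by
    rw [← hES]; exact hx
  obtain ⟨T, hTS, hxT⟩ := hxS
  obtain ⟨V, ⟨hVo, hVc⟩, hxV, hVU⟩ :=
    PrespectralSpace.isTopologicalBasis.mem_nhds_iff.mp (hU.mem_nhds hxU)
  have key := isConstructible_image_inter hU (hS T hTS) hVo hVc hVU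
  refine ⟨Subtype.val '' T ∩ V, ?_, (isClopen_cons_of_isConstructible key).2,
    ⟨⟨⟨x, hxU⟩, hxT, rfl⟩, hxV⟩⟩
  rintro _ ⟨⟨y, hyT, rfl⟩, -⟩
  have : y ∈ ⋃₀ S := ⟨T, hTS, hyT⟩
  rw [← hES] at this
  exact this

/-- in a spectral space pro-constructible sets are closed for the constructible topology -/
theorem isClosed_cons_of_isProConstructible [SpectralSpace X] {E : Set X}
    (hE : ProCons.IsProConstructible E) : IsClosed[constructibleTopology X] E := by
  rw [← @isOpen_compl_iff X E (constructibleTopology X),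
    @isOpen_iff_forall_mem_open X (constructibleTopology X)]
  intro x hx
  obtain ⟨U, hU, hxU, S, hS, hES⟩ := hE x
  have hxS : (⟨x, hxU⟩ : U) ∉ ⋂₀ S := by
    rw [← hES]; exact hx
  rw [Set.mem_sInter] at hxS
  simp only [not_forall] at hxS
  obtain ⟨T, hTS, hxT⟩ := hxS
  obtain ⟨V, ⟨hVo, hVc⟩, hxV, hVU⟩ :=
    PrespectralSpace.isTopologicalBasis.mem_nhds_iff.mp (hU.mem_nhds hxU)
  have key := isConstructible_image_inter hU (hS T hTS) hVo hVc hVU
  have key2 : IsConstructible (V \ (Subtype.val '' T ∩ V)) :=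
    (hVc.isConstructible hVo).sdiff key
  refine ⟨V \ (Subtype.val '' T ∩ V), ?_, (isClopen_cons_of_isConstructible key2).2, ⟨hxV, ?_⟩⟩
  · rintro y ⟨hyV, hyn⟩ hyE
    apply hyn
    have hyS : (⟨y, hVU hyV⟩ : U) ∈ ⋂₀ S := by
      rw [← hES]; exact hyE
    exact ⟨⟨⟨y, hVU hyV⟩, hyS T hTS, rfl⟩, hyV⟩
  · rintro ⟨⟨⟨y, hyU⟩, hyT, hyx⟩, -⟩
    apply hxT
    have : (⟨y, hyU⟩ : U) = ⟨x, hxU⟩ := Subtype.ext hyx
    rw [← this]
    exact hyT

/-- Compactness of the constructible topology, for a space with a finite open cover by spectral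
subspaces. -/
theorem exists_finset_iInter_subset {κ : Type*} [Finite κ] (W : κ → Set X)
    (hWo : ∀ j, IsOpen (W j)) (hWs : ∀ j, SpectralSpace (W j)) (hcov : ∀ x : X, ∃ j, x ∈ W j)
    {E : Set X} (hE : ProCons.IsIndConstructible E) {ι : Type*} (F : ι → Set X)
    (hF : ∀ i, ProCons.IsProConstructible (F i)) (h : ⋂ i, F i ⊆ E) :
    ∃ J : Finset ι, ⋂ i ∈ J, F i ⊆ E := by
  classical
  have hloc : ∀ j, ∃ J : Finset ι, ∀ x : W j, (∀ i ∈ J, x.1 ∈ F i) → x.1 ∈ E := by
    intro j
    have := hWs j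
    have hO : IsOpen[constructibleTopology (W j)] (Subtype.val ⁻¹' E : Set (W j)) :=
      isOpen_cons_of_isIndConstructible (isIndConstructible_preimage_val hE (hWo j))
    have hC : ∀ i, IsClosed[constructibleTopology (W j)] (Subtype.val ⁻¹' F i : Set (W j)) :=
      fun i => isClosed_cons_of_isProConstructible (isProConstructible_preimage_val (hF i) (hWo j))
    have hOc : IsClosed[constructibleTopology (W j)] (Subtype.val ⁻¹' E : Set (W j))ᶜ :=
      (@isClosed_compl_iff (W j) (constructibleTopology (W j)) _).mpr hO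
    have hcomp := isCompact_cons_of_isClosed_cons hOc
    have hempty : (Subtype.val ⁻¹' E : Set (W j))ᶜ ∩ ⋂ i, (Subtype.val ⁻¹' F i : Set (W j)) = ∅ := by
      rw [Set.eq_empty_iff_forall_notMem]
      rintro x ⟨hx1, hx2⟩
      apply hx1
      apply h
      rw [Set.mem_iInter] at hx2 ⊢
      exact hx2
    obtain ⟨J, hJ⟩ := @IsCompact.elim_finite_subfamily_closed (W j) (constructibleTopology (W j))
      _ _ hcomp (fun i => (Subtype.val ⁻¹' F i : Set (W j))) hC hempty
    refine ⟨J, fun x hx => ?_⟩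
    by_contra hxE
    have : x ∈ (Subtype.val ⁻¹' E : Set (W j))ᶜ ∩ ⋂ i ∈ J, (Subtype.val ⁻¹' F i : Set (W j)) := by
      refine ⟨hxE, ?_⟩
      simp only [Set.mem_iInter]
      exact hx
    rw [hJ] at this
    exact this
  choose J hJ using hloc
  have := Fintype.ofFinite κ
  refine ⟨Finset.univ.biUnion J, fun x hx => ?_⟩
  obtain ⟨j, hj⟩ := hcov x
  refine hJ j ⟨x, hj⟩ fun i hi => ?_
  simp only [Set.mem_iInter] at hx
  exact hx i (Finset.mem_biUnion.mpr ⟨j, Finset.mem_univ j, hi⟩)

end Groth.Agent.Helper7.ProConsLib
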