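import Mathlib
import Groth.Agent.Lib.Helper7.ProConsLib

/-!
# Helper library (helper7): more on ind- and pro-constructible sets
-/

set_option autoImplicit false

namespace Groth.Agent.Helper7.ProConsLib

open Topology TopologicalSpace

universe u
variable {X : Type u} [TopologicalSpace X]

theorem isConstructible_of_mem_subbasis [QuasiSeparatedSpace X] {s : Set X}
    (hs : s ∈ constructibleTopologySubbasis X) : IsConstructible s := by
  rcases hs with ⟨ho, hc⟩ | ⟨hcl, hc⟩
  · exact hc.isConstructible ho
  · have := hc.isConstructible hcl.isOpen_compl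
    rwa [isConstructible_compl] at this

/-- in a spectral space, a set clopen for the constructible topology is constructible -/
theorem isConstructible_of_isClopen_cons [SpectralSpace X] {E : Set X}
    (hE : @IsClopen X (constructibleTopology X) E) : IsConstructible E := by
  classical
  have hbasis := TopologicalSpace.isTopologicalBasis_of_subbasis
    (t := constructibleTopology X) (s := constructibleTopologySubbasis X) rfl
  have hloc : ∀ x : E, ∃ B : Set X, IsConstructible B ∧ x.1 ∈ B ∧ B ⊆ E := by
    intro x
    obtain ⟨_, ⟨f, ⟨hfin, hfsub⟩, rfl⟩, hxB, hBE⟩ :=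
      (@IsTopologicalBasis.exists_subset_of_mem_open X (constructibleTopology X) _ hbasis
        x.1 E x.2 hE.2)
    exact ⟨⋂₀ f, IsConstructible.sInter hfin
      (fun s hs => isConstructible_of_mem_subbasis (hfsub hs)), hxB, hBE⟩
  choose B hB1 hB2 hB3 using hloc
  have hcomp := isCompact_cons_of_isClosed_cons hE.1
  obtain ⟨t, ht⟩ := @IsCompact.elim_finite_subcover X (constructibleTopology X) _ E hcomp B
    (fun x => (isClopen_cons_of_isConstructible (hB1 x)).2)
    (fun x hx => Set.mem_iUnion.mpr ⟨⟨x, hx⟩, hB2 ⟨x, hx⟩⟩)
  have heq : E = ⋃ x ∈ (t : Set E), B x := by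
    apply subset_antisymm
    · exact ht
    · exact Set.iUnion₂_subset fun x _ => hB3 x
  rw [heq]
  exact IsConstructible.biUnion t.finite_toSet (fun x _ => hB1 x)

/-- in a spectral space, a set which is both ind- and pro-constructible is constructible -/
theorem isConstructible_of_ind_of_pro [SpectralSpace X] {E : Set X}
    (h1 : ProCons.IsIndConstructible E) (h2 : ProCons.IsProConstructible E) :
    IsConstructible E :=
  isConstructible_of_isClopen_cons
    ⟨isClosed_cons_of_isProConstructible h2, isOpen_cons_of_isIndConstructible h1⟩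

/-- locally constructible sets are ind-constructible -/
theorem isIndConstructible_of_isLocallyConstructible {E : Set X}
    (hE : IsLocallyConstructible E) : ProCons.IsIndConstructible E := by
  intro x
  refine ⟨Set.univ, isOpen_univ, Set.mem_univ x, {Subtype.val ⁻¹' E}, ?_, ?_⟩
  · rintro T rfl
    exact hE.preimage_of_isOpenEmbedding isOpen_univ.isOpenEmbedding_subtypeVal
  · rw [Set.sUnion_singleton]

/-- locally constructible sets are pro-constructible -/
theorem isProConstructible_of_isLocallyConstructible {E : Set X}
    (hE : IsLocallyConstructible E) : ProCons.IsProConstructible E := by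
  intro x
  refine ⟨Set.univ, isOpen_univ, Set.mem_univ x, {Subtype.val ⁻¹' E}, ?_, ?_⟩
  · rintro T rfl
    exact hE.preimage_of_isOpenEmbedding isOpen_univ.isOpenEmbedding_subtypeVal
  · rw [Set.sInter_singleton]

/-- in a spectral space, a point all of whose generizations lie in a set open for the
constructible topology is an interior point -/
theorem mem_interior_of_forall_specializes [SpectralSpace X] {E : Set X}
    (hE : IsOpen[constructibleTopology X] E) (x : X) (h : ∀ x' : X, x' ⤳ x → x' ∈ E) :
    x ∈ interior E := by
  by_contra hx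
  have hEc : @IsCompact X (constructibleTopology X) Eᶜ :=
    isCompact_cons_of_isClosed_cons ((@isClosed_compl_iff X (constructibleTopology X) E).mpr hE)
  obtain ⟨y, hyE, hy⟩ := nonempty_inter_sInter_of_isCompact_cons hEc
    {U | IsOpen U ∧ IsCompact U ∧ x ∈ U} (fun U hU => ⟨hU.1, hU.2.1⟩) (by
      intro a ha hfin
      by_contra hne
      rw [Set.not_nonempty_iff_eq_empty] at hne
      apply hx
      have hopen : IsOpen (⋂₀ a) := hfin.isOpen_sInter fun U hU => (ha hU).1
      have hxa : x ∈ ⋂₀ a := fun U hU => (ha hU).2.2
      refine mem_interior.mpr ⟨⋂₀ a, ?_, hopen, hxa⟩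
      intro z hz
      by_contra hzE
      exact (Set.eq_empty_iff_forall_notMem.mp hne z) ⟨hzE, hz⟩)
  have hyx : y ⤳ x := specializes_iff_forall_open.mpr fun s hs hxs => by
    obtain ⟨V, ⟨hVo, hVc⟩, hxV, hVs⟩ :=
      PrespectralSpace.isTopologicalBasis.exists_subset_of_mem_open hxs hs
    exact hVs (hy V ⟨hVo, hVc, hxV⟩)
  exact hyE (h y hyx)

/-- the same for an ind-constructible subset of a space, tested on a spectral open
neighbourhood -/
theorem mem_interior_of_isIndConstructible {E : Set X} (hE : ProCons.IsIndConstructible E)
    {W : Set X} (hW : IsOpen W) [SpectralSpace W] (x : X) (hxW : x ∈ W)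
    (h : ∀ x' : X, x' ⤳ x → x' ∈ E) : x ∈ interior E := by
  have h1 : IsOpen[constructibleTopology W] (Subtype.val ⁻¹' E : Set W) :=
    isOpen_cons_of_isIndConstructible (isIndConstructible_preimage_val hE hW)
  have h2 : (⟨x, hxW⟩ : W) ∈ interior (Subtype.val ⁻¹' E : Set W) := by
    refine mem_interior_of_forall_specializes h1 _ fun y hy => ?_
    exact h y.1 (hy.map continuous_subtype_val)
  have h3 : (Subtype.val : W → X) '' interior (Subtype.val ⁻¹' E : Set W) ⊆ interior E :=
    (hW.isOpenMap_subtype_val.image_interior_subset _).trans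
      (interior_mono (Set.image_preimage_subset _ _))
  exact h3 ⟨⟨x, hxW⟩, h2, rfl⟩

end Groth.Agent.Helper7.ProConsLib
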