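import Mathlib
import Groth.Agent.Lib.Helper7.ProConsLib2

/-!
# Helper library (helper7): ind- and pro-constructible sets and morphisms of schemes
-/

set_option autoImplicit false

namespace Groth.Agent.Helper7.ProConsLib

open Topology TopologicalSpace AlgebraicGeometry CategoryTheory

universe u

/-- preimages of locally constructible sets under morphisms of schemes -/
theorem isLocallyConstructible_preimage {X Y : Scheme.{u}} (f : X ⟶ Y) {T : Set Y}
    (hT : IsLocallyConstructible T) : IsLocallyConstructible (f ⁻¹' T) := by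
  intro x
  obtain ⟨V, hxV, hV, hVT⟩ := hT (f x)
  let V' : Y.Opens := ⟨V, hV⟩
  refine ⟨f ⁻¹' V, f.continuous.continuousAt.preimage_mem_nhds hxV, hV.preimage f.continuous, ?_⟩
  have h1 := (f ∣_ V').isConstructible_preimage (s := (Subtype.val ⁻¹' T : Set V')) hVT
  have h2 : (⇑(f ∣_ V') ⁻¹' (Subtype.val ⁻¹' T : Set V')) =
      (Subtype.val ⁻¹' (f ⁻¹' T) : Set (f ⁻¹ᵁ V')) := by
    ext z
    simp only [Set.mem_preimage]
    rw [morphismRestrict_base_coe]
  rw [h2] at h1
  exact h1

/-- preimages of ind-constructible sets under morphisms of schemes -/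
theorem isIndConstructible_preimage {X Y : Scheme.{u}} (f : X ⟶ Y) {T : Set Y}
    (hT : ProCons.IsIndConstructible T) : ProCons.IsIndConstructible (f ⁻¹' T) := by
  intro x
  obtain ⟨U, hU, hxU, S, hS, hTS⟩ := hT (f x)
  let U' : Y.Opens := ⟨U, hU⟩
  have hg : ∀ z : (f ⁻¹ᵁ U'), ((f ∣_ U') z).1 = f z.1 := fun z => morphismRestrict_base_coe f U' z
  refine ⟨f ⁻¹' U, hU.preimage f.continuous, hxU,
    (fun A : Set U' => ⇑(f ∣_ U') ⁻¹' A) '' S, ?_, ?_⟩
  · rintro _ ⟨A, hA, rfl⟩
    exact isLocallyConstructible_preimage (f ∣_ U') (hS A hA)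
  · rw [Set.sUnion_image]
    ext z
    have h1 : z ∈ (Subtype.val ⁻¹' (f ⁻¹' T) : Set (f ⁻¹' U)) ↔
        ((f ∣_ U') z) ∈ (Subtype.val ⁻¹' T : Set U) := by
      show f z.1 ∈ T ↔ ((f ∣_ U') z).1 ∈ T
      rw [hg z]
    rw [h1, hTS]
    simp only [Set.mem_iUnion, Set.mem_preimage, exists_prop]
    exact Set.mem_sUnion

/-- preimages of pro-constructible sets under morphisms of schemes -/
theorem isProConstructible_preimage {X Y : Scheme.{u}} (f : X ⟶ Y) {T : Set Y}
    (hT : ProCons.IsProConstructible T) : ProCons.IsProConstructible (f ⁻¹' T) := by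
  intro x
  obtain ⟨U, hU, hxU, S, hS, hTS⟩ := hT (f x)
  let U' : Y.Opens := ⟨U, hU⟩
  have hg : ∀ z : (f ⁻¹ᵁ U'), ((f ∣_ U') z).1 = f z.1 := fun z => morphismRestrict_base_coe f U' z
  refine ⟨f ⁻¹' U, hU.preimage f.continuous, hxU,
    (fun A : Set U' => ⇑(f ∣_ U') ⁻¹' A) '' S, ?_, ?_⟩
  · rintro _ ⟨A, hA, rfl⟩
    exact isLocallyConstructible_preimage (f ∣_ U') (hS A hA)
  · rw [Set.sInter_image]
    ext z
    have h1 : z ∈ (Subtype.val ⁻¹' (f ⁻¹' T) : Set (f ⁻¹' U)) ↔
        ((f ∣_ U') z) ∈ (Subtype.val ⁻¹' T : Set U) := by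
      show f z.1 ∈ T ↔ ((f ∣_ U') z).1 ∈ T
      rw [hg z]
    rw [h1, hTS]
    simp only [Set.mem_iInter, Set.mem_preimage]
    exact Set.mem_sInter

section Cover

variable {X : Type u} [TopologicalSpace X]

/-- Compactness of pro-constructible sets for the constructible topology, for a space with a
finite open cover by spectral subspaces. -/
theorem exists_finset_subset_iUnion {κ : Type*} [Finite κ] (W : κ → Set X)
    (hWo : ∀ j, IsOpen (W j)) (hWs : ∀ j, SpectralSpace (W j)) (hcov : ∀ x : X, ∃ j, x ∈ W j)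
    {F : Set X} (hF : ProCons.IsProConstructible F) {ι : Type*} (E : ι → Set X)
    (hE : ∀ i, ProCons.IsIndConstructible (E i)) (h : F ⊆ ⋃ i, E i) :
    ∃ J : Finset ι, F ⊆ ⋃ i ∈ J, E i := by
  classical
  have hloc : ∀ j, ∃ J : Finset ι, ∀ x : W j, x.1 ∈ F → ∃ i ∈ J, x.1 ∈ E i := by
    intro j
    have := hWs j
    have hC : IsClosed[constructibleTopology (W j)] (Subtype.val ⁻¹' F : Set (W j)) :=
      isClosed_cons_of_isProConstructible (isProConstructible_preimage_val hF (hWo j))
    have hO : ∀ i, IsOpen[constructibleTopology (W j)] (Subtype.val ⁻¹' E i : Set (W j)) :=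
      fun i => isOpen_cons_of_isIndConstructible (isIndConstructible_preimage_val (hE i) (hWo j))
    have hcomp := isCompact_cons_of_isClosed_cons hC
    obtain ⟨J, hJ⟩ := @IsCompact.elim_finite_subcover (W j) (constructibleTopology (W j)) _ _
      hcomp (fun i => (Subtype.val ⁻¹' E i : Set (W j))) hO (by
        intro x hx
        have := h hx
        simp only [Set.mem_iUnion] at this ⊢
        exact this)
    refine ⟨J, fun x hx => ?_⟩
    have := hJ hx
    simp only [Set.mem_iUnion, exists_prop] at this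
    exact this
  choose J hJ using hloc
  have := Fintype.ofFinite κ
  refine ⟨Finset.univ.biUnion J, fun x hx => ?_⟩
  obtain ⟨j, hj⟩ := hcov x
  obtain ⟨i, hi, hxi⟩ := hJ j ⟨x, hj⟩ hx
  simp only [Set.mem_iUnion, exists_prop]
  exact ⟨i, Finset.mem_biUnion.mpr ⟨j, Finset.mem_univ j, hi⟩, hxi⟩

end Cover

/-- affine opens are spectral spaces -/
theorem spectralSpace_affineOpen (X : Scheme.{u}) (U : X.affineOpens) :
    SpectralSpace ((U : X.Opens) : Set X) := by
  have hU : IsAffineOpen (U : X.Opens) := U.2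
  have : SpectralSpace (Spec Γ(X, U)) := inferInstanceAs (SpectralSpace (PrimeSpectrum Γ(X, U)))
  have hc : CompactSpace ((U : X.Opens) : Set X) := isCompact_iff_compactSpace.mp hU.isCompact
  have he : Topology.IsOpenEmbedding hU.isoSpec.hom.base :=
    (Scheme.homeoOfIso hU.isoSpec).isOpenEmbedding
  exact he.spectralSpace

/-- every point of a scheme lies in an affine open -/
theorem exists_affineOpen_mem (X : Scheme.{u}) (x : X) :
    ∃ U : X.affineOpens, x ∈ ((U : X.Opens) : Set X) := by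
  obtain ⟨_, ⟨U, hU, rfl⟩, hxU, -⟩ :=
    (X.isBasis_affineOpens).exists_subset_of_mem_open (Set.mem_univ x) isOpen_univ
  exact ⟨⟨U, hU⟩, hxU⟩

/-- a quasi-compact scheme is covered by finitely many affine opens -/
theorem exists_finite_affine_cover (X : Scheme.{u}) [CompactSpace X] :
    ∃ t : Finset X.affineOpens, ∀ x : X, ∃ U ∈ t, x ∈ ((U : X.Opens) : Set X) := by
  obtain ⟨t, ht⟩ := isCompact_univ.elim_finite_subcover
    (fun U : X.affineOpens => ((U : X.Opens) : Set X)) (fun U => (U : X.Opens).2)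
    (fun x _ => by
      obtain ⟨U, hU⟩ := exists_affineOpen_mem X x
      exact Set.mem_iUnion.mpr ⟨U, hU⟩)
  refine ⟨t, fun x => ?_⟩
  have hx := ht (Set.mem_univ x)
  simp only [Set.mem_iUnion, exists_prop] at hx
  exact hx

end Groth.Agent.Helper7.ProConsLib
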