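import Mathlib
import Groth.Agent.Lib.Helper7.ProConsLib3

/-!
# Helper library (helper7): closures of pro-constructible subsets of schemes
-/

set_option autoImplicit false

namespace Groth.Agent.Helper7.ProConsLib

open Topology TopologicalSpace AlgebraicGeometry CategoryTheory

universe u

section Top

variable {X : Type u} [TopologicalSpace X]

/-- a point of the closure of a pro-constructible set, lying in a spectral open subset, is a
specialization of a point of the set -/
theorem exists_specializes_of_mem_closure_aux {Z : Set X} (hZ : ProCons.IsProConstructible Z)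
    {W : Set X} (hW : IsOpen W) [SpectralSpace W] {x : X} (hxW : x ∈ W) (hx : x ∈ closure Z) :
    ∃ z ∈ Z, z ⤳ x := by
  have h1 : IsClosed[constructibleTopology W] (Subtype.val ⁻¹' Z : Set W) :=
    isClosed_cons_of_isProConstructible (isProConstructible_preimage_val hZ hW)
  have h2 : (⟨x, hxW⟩ : W) ∈ closure (Subtype.val ⁻¹' Z : Set W) := by
    rw [mem_closure_iff]
    intro o ho hxo
    have ho' : IsOpen (Subtype.val '' o : Set X) := hW.isOpenMap_subtype_val o ho
    obtain ⟨y, hy1, hy2⟩ := mem_closure_iff.mp hx _ ho' ⟨⟨x, hxW⟩, hxo, rfl⟩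
    obtain ⟨y', hy'o, rfl⟩ := hy1
    exact ⟨y', hy'o, hy2⟩
  obtain ⟨e, heZ, he⟩ := exists_specializes_of_mem_closure h1 h2
  exact ⟨e.1, heZ, he.map continuous_subtype_val⟩

end Top

/-- the closure of a pro-constructible subset of a scheme consists of the specializations of its
points -/
theorem exists_specializes_of_mem_closure_of_isProConstructible (X : Scheme.{u}) {Z : Set X}
    (hZ : ProCons.IsProConstructible Z) {x : X} (hx : x ∈ closure Z) : ∃ z ∈ Z, z ⤳ x := by
  obtain ⟨U, hxU⟩ := exists_affineOpen_mem X x
  have := spectralSpace_affineOpen X U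
  exact exists_specializes_of_mem_closure_aux hZ (U : X.Opens).2 hxU hx

end Groth.Agent.Helper7.ProConsLib
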