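import Mathlib
import Groth.Agent.Lib.Helper7.ProConsLib4

/-!
# Helper library (helper7): characterisation of ind- and pro-constructible sets by the constructible
topology of spectral open subsets
-/

set_option autoImplicit false

namespace Groth.Agent.Helper7.ProConsLib

open Topology TopologicalSpace AlgebraicGeometry CategoryTheory

universe u

section Top

variable {X : Type u} [TopologicalSpace X]

theorem isLocallyConstructible_compl {s : Set X} (hs : IsLocallyConstructible s) :
    IsLocallyConstructible sᶜ := by
  intro x
  obtain ⟨U, hxU, hU, hUs⟩ := hs x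
  refine ⟨U, hxU, hU, ?_⟩
  rw [Set.preimage_compl]
  exact hUs.compl

theorem isProConstructible_compl {E : Set X} (hE : ProCons.IsIndConstructible E) :
    ProCons.IsProConstructible Eᶜ := by
  intro x
  obtain ⟨U, hU, hxU, S, hS, hES⟩ := hE x
  refine ⟨U, hU, hxU, compl '' S, ?_, ?_⟩
  · rintro _ ⟨T, hT, rfl⟩
    exact isLocallyConstructible_compl (hS T hT)
  · rw [Set.preimage_compl, hES, Set.compl_sUnion]

theorem isIndConstructible_compl {E : Set X} (hE : ProCons.IsProConstructible E) :
    ProCons.IsIndConstructible Eᶜ := by
  intro x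
  obtain ⟨U, hU, hxU, S, hS, hES⟩ := hE x
  refine ⟨U, hU, hxU, compl '' S, ?_, ?_⟩
  · rintro _ ⟨T, hT, rfl⟩
    exact isLocallyConstructible_compl (hS T hT)
  · rw [Set.preimage_compl, hES, Set.compl_sInter]

/-- a set open for the constructible topology of a spectral space is a union of constructible
sets -/
theorem eq_sUnion_of_isOpen_cons [SpectralSpace X] {E : Set X}
    (hE : IsOpen[constructibleTopology X] E) :
    E = ⋃₀ {B : Set X | IsConstructible B ∧ B ⊆ E} := by
  have hbasis := TopologicalSpace.isTopologicalBasis_of_subbasis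
    (t := constructibleTopology X) (s := constructibleTopologySubbasis X) rfl
  apply subset_antisymm
  · intro x hx
    obtain ⟨_, ⟨f, ⟨hfin, hfsub⟩, rfl⟩, hxB, hBE⟩ :=
      (@IsTopologicalBasis.exists_subset_of_mem_open X (constructibleTopology X) _ hbasis
        x E hx hE)
    exact ⟨⋂₀ f, ⟨IsConstructible.sInter hfin
      (fun s hs => isConstructible_of_mem_subbasis (hfsub hs)), hBE⟩, hxB⟩
  · exact Set.sUnion_subset fun B hB => hB.2

/-- a set closed for the constructible topology of a spectral space is an intersection of
constructible sets -/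
theorem eq_sInter_of_isClosed_cons [SpectralSpace X] {E : Set X}
    (hE : IsClosed[constructibleTopology X] E) :
    E = ⋂₀ {B : Set X | IsConstructible B ∧ E ⊆ B} := by
  have hO : IsOpen[constructibleTopology X] Eᶜ :=
    (@isOpen_compl_iff X E (constructibleTopology X)).mpr hE
  have h1 := eq_sUnion_of_isOpen_cons hO
  apply subset_antisymm
  · exact Set.subset_sInter fun B hB => hB.2
  · intro x hx
    by_contra hxE
    have hx' : x ∈ Eᶜ := hxE
    rw [h1] at hx'
    obtain ⟨B, ⟨hB1, hB2⟩, hxB⟩ := hx'
    have hmem : Bᶜ ∈ {B : Set X | IsConstructible B ∧ E ⊆ B} :=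
      ⟨hB1.compl, fun y hy hyB => hB2 hyB hy⟩
    exact hx _ hmem hxB

/-- a subset of a space which, on an open spectral neighbourhood of each point, is closed for the
constructible topology, is pro-constructible -/
theorem isProConstructible_of_forall_exists {E : Set X}
    (h : ∀ x : X, ∃ (W : Set X) (_ : IsOpen W) (_ : SpectralSpace W), x ∈ W ∧
      IsClosed[constructibleTopology W] (Subtype.val ⁻¹' E : Set W)) :
    ProCons.IsProConstructible E := by
  intro x
  obtain ⟨W, hW, hWs, hxW, hcl⟩ := h x
  refine ⟨W, hW, hxW, {B : Set W | IsConstructible B ∧ (Subtype.val ⁻¹' E : Set W) ⊆ B}, ?_,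
    eq_sInter_of_isClosed_cons hcl⟩
  intro T hT
  exact hT.1.isLocallyConstructible

/-- a subset of a space which, on an open spectral neighbourhood of each point, is open for the
constructible topology, is ind-constructible -/
theorem isIndConstructible_of_forall_exists {E : Set X}
    (h : ∀ x : X, ∃ (W : Set X) (_ : IsOpen W) (_ : SpectralSpace W), x ∈ W ∧
      IsOpen[constructibleTopology W] (Subtype.val ⁻¹' E : Set W)) :
    ProCons.IsIndConstructible E := by
  intro x
  obtain ⟨W, hW, hWs, hxW, hop⟩ := h x
  refine ⟨W, hW, hxW, {B : Set W | IsConstructible B ∧ B ⊆ (Subtype.val ⁻¹' E : Set W)}, ?_,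
    eq_sUnion_of_isOpen_cons hop⟩
  intro T hT
  exact hT.1.isLocallyConstructible

end Top

end Groth.Agent.Helper7.ProConsLib
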