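import Mathlib
import Groth.Agent.Lib.Helper7.ProConsLib5

/-!
# Helper library (helper7): images of pro-constructible sets
-/

set_option autoImplicit false

namespace Groth.Agent.Helper7.ProConsLib

open Topology TopologicalSpace AlgebraicGeometry CategoryTheory

universe u

section Top

variable {X Y : Type u} [TopologicalSpace X] [TopologicalSpace Y]

/-- the image of a set closed for the constructible topology under a spectral map of spectral
spaces is closed for the constructible topology -/
theorem isClosed_cons_image [SpectralSpace X] [SpectralSpace Y] {g : X → Y}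
    (hg : IsSpectralMap g) {E : Set X} (hE : IsClosed[constructibleTopology X] E) :
    IsClosed[constructibleTopology Y] (g '' E) := by
  have h1 := isCompact_cons_of_isClosed_cons hE
  have h2 := @IsCompact.image X Y (constructibleTopology X) (constructibleTopology Y) E g h1
    (continuous_cons_of_isSpectralMap hg)
  exact @IsCompact.isClosed Y (constructibleTopology Y) t2Space_cons _ h2

end Top

/-- the map between affine opens induced by a morphism of schemes is spectral -/
theorem isSpectralMap_restrict {X Y : Scheme.{u}} (f : X ⟶ Y) (U : Y.affineOpens)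
    (V : X.affineOpens) (e : ((V : X.Opens) : Set X) ⊆ f ⁻¹' ((U : Y.Opens) : Set Y)) :
    IsSpectralMap (fun z : ((V : X.Opens) : Set X) =>
      (⟨f z.1, e z.2⟩ : ((U : Y.Opens) : Set Y))) := by
  have e' : (V : X.Opens) ≤ f ⁻¹ᵁ (U : Y.Opens) := e
  have : IsAffine (U : Y.Opens).toScheme := U.2
  have : CompactSpace (V : X.Opens).toScheme := isCompact_iff_compactSpace.mp V.2.isCompact
  have hqc : QuasiCompact (f.resLE (U : Y.Opens) (V : X.Opens) e') :=
    (HasAffineProperty.iff_of_isAffine (P := @QuasiCompact)).mpr ‹_›
  have hsp := quasiCompact_iff_isSpectralMap.mp hqc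
  have heq : (fun z : ((V : X.Opens) : Set X) => (⟨f z.1, e z.2⟩ : ((U : Y.Opens) : Set Y))) =
      ⇑(f.resLE (U : Y.Opens) (V : X.Opens) e') := by
    funext z
    exact Subtype.ext (Scheme.Hom.coe_resLE_apply f e' z).symm
  rw [heq]
  exact hsp

/-- images of pro-constructible sets under quasi-compact morphisms are pro-constructible -/
theorem isProConstructible_image {X' X : Scheme.{u}} (f : X' ⟶ X) [QuasiCompact f]
    {E' : Set X'} (hE' : ProCons.IsProConstructible E') :
    ProCons.IsProConstructible (f '' E') := by
  classical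
  apply isProConstructible_of_forall_exists
  intro x
  obtain ⟨U, hxU⟩ := exists_affineOpen_mem X x
  have hs := spectralSpace_affineOpen X U
  refine ⟨((U : X.Opens) : Set X), (U : X.Opens).2, hs, hxU, ?_⟩
  have hcomp : IsCompact (f ⁻¹' ((U : X.Opens) : Set X)) :=
    QuasiCompact.isCompact_preimage _ (U : X.Opens).2 U.2.isCompact
  obtain ⟨t, ht⟩ := hcomp.elim_finite_subcover
    (fun V : {V : X'.affineOpens //
        ((V : X'.Opens) : Set X') ⊆ f ⁻¹' ((U : X.Opens) : Set X)} =>
      ((V.1 : X'.Opens) : Set X'))
    (fun V => (V.1 : X'.Opens).2) (by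
      intro z hz
      obtain ⟨_, ⟨V, hV, rfl⟩, hzV, hVU⟩ := X'.isBasis_affineOpens.exists_subset_of_mem_open hz
        ((U : X.Opens).2.preimage f.continuous)
      exact Set.mem_iUnion.mpr ⟨⟨⟨V, hV⟩, hVU⟩, hzV⟩)
  have heq : (Subtype.val ⁻¹' (f '' E') : Set ((U : X.Opens) : Set X)) =
      ⋃ V ∈ t, (fun z : ((V.1 : X'.Opens) : Set X') =>
        (⟨f z.1, V.2 z.2⟩ : ((U : X.Opens) : Set X))) '' (Subtype.val ⁻¹' E') := by
    ext y
    simp only [Set.mem_preimage, Set.mem_image, Set.mem_iUnion]
    constructor
    · rintro ⟨e, heE, hfe⟩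
      have hmem : e ∈ f ⁻¹' ((U : X.Opens) : Set X) := by
        show f e ∈ ((U : X.Opens) : Set X)
        rw [hfe]
        exact y.2
      have h2 := ht hmem
      simp only [Set.mem_iUnion] at h2
      obtain ⟨V, hVt, heV⟩ := h2
      exact ⟨V, hVt, ⟨e, heV⟩, heE, Subtype.ext hfe⟩
    · rintro ⟨V, hVt, z, hzE, hzy⟩
      exact ⟨z.1, hzE, congrArg Subtype.val hzy⟩
  rw [heq]
  refine @isClosed_biUnion_finset _ _ (constructibleTopology ((U : X.Opens) : Set X)) t _ ?_
  intro V _
  have := spectralSpace_affineOpen X' V.1
  exact isClosed_cons_image (isSpectralMap_restrict f U V.1 V.2)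
    (isClosed_cons_of_isProConstructible
      (isProConstructible_preimage_val hE' (V.1 : X'.Opens).2))

/-- images of constructible subsets of affine opens under morphisms locally of finite
presentation -/
theorem isConstructible_image_restrict {X Y : Scheme.{u}} (f : X ⟶ Y)
    [LocallyOfFinitePresentation f] (U : Y.affineOpens)
    (V : X.affineOpens) (e : ((V : X.Opens) : Set X) ⊆ f ⁻¹' ((U : Y.Opens) : Set Y))
    {C : Set ((V : X.Opens) : Set X)} (hC : IsConstructible C) :
    IsConstructible ((fun z : ((V : X.Opens) : Set X) =>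
      (⟨f z.1, e z.2⟩ : ((U : Y.Opens) : Set Y))) '' C) := by
  have e' : (V : X.Opens) ≤ f ⁻¹ᵁ (U : Y.Opens) := e
  have : IsAffine (U : Y.Opens).toScheme := U.2
  have : CompactSpace (V : X.Opens).toScheme := isCompact_iff_compactSpace.mp V.2.isCompact
  have hqc : QuasiCompact (f.resLE (U : Y.Opens) (V : X.Opens) e') :=
    (HasAffineProperty.iff_of_isAffine (P := @QuasiCompact)).mpr ‹_›
  have heq : (fun z : ((V : X.Opens) : Set X) => (⟨f z.1, e z.2⟩ : ((U : Y.Opens) : Set Y))) =
      ⇑(f.resLE (U : Y.Opens) (V : X.Opens) e') := by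
    funext z
    exact Subtype.ext (Scheme.Hom.coe_resLE_apply f e' z).symm
  rw [heq]
  exact (f.resLE (U : Y.Opens) (V : X.Opens) e').isConstructible_image hC

/-- images of ind-constructible sets under morphisms locally of finite presentation are
ind-constructible -/
theorem isIndConstructible_image {X' X : Scheme.{u}} (f : X' ⟶ X)
    [LocallyOfFinitePresentation f] {E' : Set X'} (hE' : ProCons.IsIndConstructible E') :
    ProCons.IsIndConstructible (f '' E') := by
  classical
  apply isIndConstructible_of_forall_exists
  intro x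
  obtain ⟨U, hxU⟩ := exists_affineOpen_mem X x
  have hs := spectralSpace_affineOpen X U
  refine ⟨((U : X.Opens) : Set X), (U : X.Opens).2, hs, hxU, ?_⟩
  rw [@isOpen_iff_forall_mem_open _ (constructibleTopology ((U : X.Opens) : Set X))]
  rintro y ⟨e, heE, hfe⟩
  have hmem : e ∈ f ⁻¹' ((U : X.Opens) : Set X) := by
    show f e ∈ ((U : X.Opens) : Set X)
    rw [hfe]
    exact y.2
  obtain ⟨_, ⟨V, hV, rfl⟩, heV, hVU⟩ := X'.isBasis_affineOpens.exists_subset_of_mem_open hmem
    ((U : X.Opens).2.preimage f.continuous)
  have hsV := spectralSpace_affineOpen X' ⟨V, hV⟩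
  have hop : IsOpen[constructibleTopology (V : Set X')] (Subtype.val ⁻¹' E' : Set (V : Set X')) :=
    isOpen_cons_of_isIndConstructible (isIndConstructible_preimage_val hE' V.2)
  have heV' : (⟨e, heV⟩ : (V : Set X')) ∈ (Subtype.val ⁻¹' E' : Set (V : Set X')) := heE
  rw [eq_sUnion_of_isOpen_cons hop] at heV'
  obtain ⟨C, ⟨hC1, hC2⟩, heC⟩ := heV'
  have hcons := isConstructible_image_restrict f U ⟨V, hV⟩ hVU hC1
  refine ⟨_, ?_, (isClopen_cons_of_isConstructible hcons).2, ⟨⟨e, heV⟩, heC, Subtype.ext hfe⟩⟩
  rintro _ ⟨z, hzC, rfl⟩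
  exact ⟨z.1, hC2 hzC, rfl⟩

/-- a subset of a scheme which is both ind- and pro-constructible is locally constructible -/
theorem isLocallyConstructible_of_ind_of_pro (X : Scheme.{u}) {E : Set X}
    (h1 : ProCons.IsIndConstructible E) (h2 : ProCons.IsProConstructible E) :
    IsLocallyConstructible E := by
  intro x
  obtain ⟨U, hxU⟩ := exists_affineOpen_mem X x
  have := spectralSpace_affineOpen X U
  refine ⟨((U : X.Opens) : Set X), (U : X.Opens).2.mem_nhds hxU, (U : X.Opens).2, ?_⟩
  exact isConstructible_of_ind_of_pro (isIndConstructible_preimage_val h1 (U : X.Opens).2)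
    (isProConstructible_preimage_val h2 (U : X.Opens).2)

/-- descent of (locally, ind-, pro-)constructibility along surjective morphisms which are
quasi-compact or locally of finite presentation -/
theorem constructible_descent {X Y : Scheme.{u}} (f : X ⟶ Y) (hsurj : Function.Surjective f)
    (hf : QuasiCompact f ∨ LocallyOfFinitePresentation f) (E : Set Y) :
    (ProCons.IsProConstructible (f ⁻¹' E) → ProCons.IsProConstructible E) ∧
    (ProCons.IsIndConstructible (f ⁻¹' E) → ProCons.IsIndConstructible E) := by
  have himg : ∀ A : Set Y, f '' (f ⁻¹' A) = A := fun A => Set.image_preimage_eq A hsurj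
  constructor
  · intro h
    rcases hf with hqc | hfp
    · have := isProConstructible_image f h
      rwa [himg] at this
    · have h1 : ProCons.IsIndConstructible (f ⁻¹' Eᶜ) := by
        rw [Set.preimage_compl]
        exact isIndConstructible_compl h
      have h2 := isIndConstructible_image f h1
      rw [himg] at h2
      have h3 := isProConstructible_compl h2
      rwa [compl_compl] at h3
  · intro h
    rcases hf with hqc | hfp
    · have h1 : ProCons.IsProConstructible (f ⁻¹' Eᶜ) := by
        rw [Set.preimage_compl]
        exact isProConstructible_compl h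
      have h2 := isProConstructible_image f h1
      rw [himg] at h2
      have h3 := isIndConstructible_compl h2
      rwa [compl_compl] at h3
    · have := isIndConstructible_image f h
      rwa [himg] at this

end Groth.Agent.Helper7.ProConsLib
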