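import Mathlib
import Groth.Agent.Lib.Helper7.ProConsLib6

/-!
# Helper library (helper7): ind-constructible sets and closures of points
-/

set_option autoImplicit false

namespace Groth.Agent.Helper7.ProConsLib

open Topology TopologicalSpace AlgebraicGeometry CategoryTheory

universe u

section Top

variable {X : Type u} [TopologicalSpace X]

/-- a set open for the constructible topology contains, around each of its points `x`, the trace
on the closure of `x` of an open neighbourhood of `x` -/
theorem exists_isOpen_inter_closure_subset [SpectralSpace X] {E : Set X}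
    (hE : IsOpen[constructibleTopology X] E) {x : X} (hx : x ∈ E) :
    ∃ K : Set X, IsOpen K ∧ x ∈ K ∧ K ∩ closure {x} ⊆ E := by
  have hbasis := TopologicalSpace.isTopologicalBasis_of_subbasis
    (t := constructibleTopology X) (s := constructibleTopologySubbasis X) rfl
  obtain ⟨_, ⟨f, ⟨hfin, hfsub⟩, rfl⟩, hxB, hBE⟩ :=
    (@IsTopologicalBasis.exists_subset_of_mem_open X (constructibleTopology X) _ hbasis
      x E hx hE)
  refine ⟨⋂₀ {s | s ∈ f ∧ IsOpen s}, ?_, ?_, ?_⟩
  · exact (hfin.subset fun s hs => hs.1).isOpen_sInter fun s hs => hs.2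
  · exact fun s hs => hxB s hs.1
  · rintro y ⟨hyK, hycl⟩
    apply hBE
    intro s hs
    by_cases hso : IsOpen s
    · exact hyK s ⟨hs, hso⟩
    · rcases hfsub hs with ⟨ho, -⟩ | ⟨hcl, -⟩
      · exact absurd ho hso
      · exact (hcl.closure_subset_iff.mpr (Set.singleton_subset_iff.mpr (hxB s hs))) hycl

/-- necessity: ind-constructible sets are neighbourhoods of their points in the closure of the
point, tested in a spectral open neighbourhood -/
theorem mem_nhds_closure_of_isIndConstructible {E : Set X} (hE : ProCons.IsIndConstructible E)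
    {W : Set X} (hW : IsOpen W) [SpectralSpace W] {x : X} (hxW : x ∈ W) (hx : x ∈ E) :
    (Subtype.val ⁻¹' E : Set ↥(closure ({x} : Set X))) ∈
      nhds (⟨x, subset_closure rfl⟩ : ↥(closure ({x} : Set X))) := by
  have h1 : IsOpen[constructibleTopology W] (Subtype.val ⁻¹' E : Set W) :=
    isOpen_cons_of_isIndConstructible (isIndConstructible_preimage_val hE hW)
  obtain ⟨K, hKo, hxK, hKE⟩ := exists_isOpen_inter_closure_subset h1 (x := ⟨x, hxW⟩) hx
  have hK' : IsOpen (Subtype.val '' K : Set X) := hW.isOpenMap_subtype_val K hKo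
  rw [mem_nhds_iff]
  refine ⟨Subtype.val ⁻¹' (Subtype.val '' K), ?_, hK'.preimage continuous_subtype_val,
    ⟨⟨x, hxW⟩, hxK, rfl⟩⟩
  rintro ⟨y, hycl⟩ ⟨⟨y', hy'W⟩, hy'K, rfl⟩
  have h2 : (⟨y', hy'W⟩ : W) ∈ K ∩ closure {(⟨x, hxW⟩ : W)} := by
    refine ⟨hy'K, ?_⟩
    rw [closure_subtype]
    simpa using hycl
  exact hKE h2

/-- sufficiency in the Noetherian case -/
theorem isOpen_cons_of_forall_mem_nhds_closure {E : Set X}
    {W : Set X} [SpectralSpace W] [NoetherianSpace W]
    (h : ∀ x ∈ E, (Subtype.val ⁻¹' E : Set ↥(closure ({x} : Set X))) ∈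
      nhds (⟨x, subset_closure rfl⟩ : ↥(closure ({x} : Set X)))) :
    IsOpen[constructibleTopology W] (Subtype.val ⁻¹' E : Set W) := by
  rw [@isOpen_iff_forall_mem_open _ (constructibleTopology W)]
  rintro ⟨x, hxW⟩ hx
  obtain ⟨t, htE, hto, hxt⟩ := mem_nhds_iff.mp (h x hx)
  obtain ⟨O, hO, rfl⟩ := isOpen_induced_iff.mp hto
  have hc1 : IsConstructible (Subtype.val ⁻¹' O : Set W) :=
    (NoetherianSpace.isCompact _).isConstructible (hO.preimage continuous_subtype_val)
  have hc2 : IsConstructible (Subtype.val ⁻¹' (closure ({x} : Set X)) : Set W) := by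
    have hcl : IsClosed (Subtype.val ⁻¹' (closure ({x} : Set X)) : Set W) :=
      isClosed_closure.preimage continuous_subtype_val
    have := (NoetherianSpace.isCompact (Subtype.val ⁻¹' (closure ({x} : Set X)) : Set W)ᶜ
      ).isConstructible hcl.isOpen_compl
    rwa [isConstructible_compl] at this
  refine ⟨_, ?_, (isClopen_cons_of_isConstructible (hc1.inter hc2)).2,
    ⟨hxt, subset_closure rfl⟩⟩
  rintro ⟨y, hyW⟩ ⟨hyO, hycl⟩
  exact htE (a := ⟨y, hycl⟩) hyO

end Top

end Groth.Agent.Helper7.ProConsLib
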