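import Mathlib
import Groth.Agent.Lib.Helper7.ProConsLib7

/-!
# Helper library (helper7): closed sets of the constructible topology of a prime spectrum are
images of spectra
-/

set_option autoImplicit false

namespace Groth.Agent.Helper7.ProConsLib

open Topology TopologicalSpace CategoryTheory AlgebraicGeometry Limits

universe u

section Ring

variable {A : Type u} [CommRing A]

/-- the ring map from `A` to the product of the residue fields at the points of `E` -/
noncomputable def piResidue (E : Set (PrimeSpectrum A)) :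
    A →+* (∀ p : E, p.1.asIdeal.ResidueField) :=
  RingHom.pi fun p : E => algebraMap A p.1.asIdeal.ResidueField

theorem subset_range_comap_piResidue (E : Set (PrimeSpectrum A)) :
    E ⊆ Set.range (PrimeSpectrum.comap (piResidue E)) := by
  intro p hp
  let ev : (∀ p : E, p.1.asIdeal.ResidueField) →+* p.asIdeal.ResidueField :=
    Pi.evalRingHom (fun p : E => p.1.asIdeal.ResidueField) ⟨p, hp⟩
  refine ⟨PrimeSpectrum.comap ev ⊥, ?_⟩
  apply PrimeSpectrum.ext
  ext a
  change ev (piResidue E a) ∈ (⊥ : Ideal p.asIdeal.ResidueField) ↔ a ∈ p.asIdeal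
  rw [Ideal.mem_bot]
  change algebraMap A p.asIdeal.ResidueField a = 0 ↔ _
  exact Ideal.algebraMap_residueField_eq_zero

theorem range_comap_piResidue_subset (E : Set (PrimeSpectrum A))
    (hE : IsClosed[constructibleTopology (PrimeSpectrum A)] E) :
    Set.range (PrimeSpectrum.comap (piResidue E)) ⊆ E := by
  classical
  rintro _ ⟨Q, rfl⟩
  by_contra hqE
  set q := PrimeSpectrum.comap (piResidue E) Q with hq
  -- the clopen sets
  let F : A → Set (PrimeSpectrum A) := fun a => {p | a ∈ q.asIdeal ↔ a ∈ p.asIdeal}
  have hFcl : ∀ a, IsClosed[constructibleTopology (PrimeSpectrum A)] (F a) := by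
    intro a
    by_cases ha : a ∈ q.asIdeal
    · have : F a = (PrimeSpectrum.basicOpen a : Set (PrimeSpectrum A))ᶜ := by
        ext p
        simp only [F, Set.mem_ofPred_eq, ha, true_iff, Set.mem_compl_iff, SetLike.mem_coe,
          PrimeSpectrum.mem_basicOpen, not_not]
      rw [this]
      exact (isClopen_cons_of_isConstructible
        (PrimeSpectrum.isConstructible_basicOpen (f := a)).compl).1
    · have : F a = (PrimeSpectrum.basicOpen a : Set (PrimeSpectrum A)) := by
        ext p
        simp only [F, Set.mem_ofPred_eq, ha, false_iff, SetLike.mem_coe,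
          PrimeSpectrum.mem_basicOpen]
      rw [this]
      exact (isClopen_cons_of_isConstructible
        (PrimeSpectrum.isConstructible_basicOpen (f := a))).1
  have hcomp := isCompact_cons_of_isClosed_cons hE
  have hempty : E ∩ ⋂ a, F a = ∅ := by
    rw [Set.eq_empty_iff_forall_notMem]
    rintro p ⟨hpE, hpF⟩
    apply hqE
    have : q = p := by
      apply PrimeSpectrum.ext
      ext a
      exact Set.mem_iInter.mp hpF a
    rw [this]; exact hpE
  obtain ⟨J, hJ⟩ := @IsCompact.elim_finite_subfamily_closed _ (constructibleTopology _)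
    E A hcomp F hFcl hempty
  -- the idempotents
  let e : A → (∀ p : E, p.1.asIdeal.ResidueField) := fun a p =>
    if (a ∈ q.asIdeal ↔ a ∈ p.1.asIdeal) then 0 else 1
  have heQ : ∀ a, e a ∈ Q.asIdeal := by
    intro a
    by_cases ha : a ∈ q.asIdeal
    · let h : (∀ p : E, p.1.asIdeal.ResidueField) := fun p =>
        if a ∈ p.1.asIdeal then 0 else (algebraMap A p.1.asIdeal.ResidueField a)⁻¹
      have : e a = piResidue E a * h := by
        funext p
        simp only [e, h, Pi.mul_apply, ha, true_iff]
        by_cases hap : a ∈ p.1.asIdeal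
        · simp [hap]
        · simp only [hap, if_false]
          have hne : algebraMap A p.1.asIdeal.ResidueField a ≠ 0 := by
            rwa [Ne, Ideal.algebraMap_residueField_eq_zero]
          change 1 = algebraMap A p.1.asIdeal.ResidueField a * _
          rw [mul_inv_cancel₀ hne]
      rw [this]
      exact Ideal.mul_mem_right _ _ ha
    · have hmul : piResidue E a * e a = 0 := by
        funext p
        simp only [e, Pi.mul_apply, ha, false_iff, Pi.zero_apply]
        by_cases hap : a ∈ p.1.asIdeal
        · have : algebraMap A p.1.asIdeal.ResidueField a = 0 :=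
            Ideal.algebraMap_residueField_eq_zero.mpr hap
          change algebraMap A p.1.asIdeal.ResidueField a * _ = 0
          rw [this, zero_mul]
        · simp [hap]
      have hmem : piResidue E a * e a ∈ Q.asIdeal := by rw [hmul]; exact Ideal.zero_mem _
      rcases Q.isPrime.mem_or_mem hmem with h1 | h1
      · exact absurd h1 ha
      · exact h1
  have hprod : ∏ a ∈ J, (1 - e a) = 0 := by
    funext p
    rw [Finset.prod_apply, Pi.zero_apply]
    have hp : p.1 ∉ E ∩ ⋂ a ∈ J, F a := by rw [hJ]; exact Set.notMem_empty _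
    have : ∃ a ∈ J, p.1 ∉ F a := by
      by_contra hcon
      apply hp
      refine ⟨p.2, Set.mem_iInter₂.mpr fun a haJ => ?_⟩
      by_contra h'
      exact hcon ⟨a, haJ, h'⟩
    obtain ⟨a, haJ, hpa⟩ := this
    apply Finset.prod_eq_zero haJ
    have : ¬ (a ∈ q.asIdeal ↔ a ∈ p.1.asIdeal) := hpa
    simp only [Pi.sub_apply, Pi.one_apply, e, this, if_false, sub_self]
  have hmem : ∏ a ∈ J, (1 - e a) ∈ Q.asIdeal := by rw [hprod]; exact Ideal.zero_mem _
  obtain ⟨a, -, ha⟩ := (Ideal.IsPrime.prod_mem_iff (hp := Q.isPrime)).mp hmem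
  have h1 : (1 : ∀ p : E, p.1.asIdeal.ResidueField) ∈ Q.asIdeal := by
    have := Ideal.add_mem _ ha (heQ a)
    rwa [sub_add_cancel] at this
  exact Q.isPrime.ne_top ((Ideal.eq_top_iff_one _).mpr h1)

/-- a subset of a prime spectrum closed for the constructible topology is the image of the
spectrum of a ring -/
theorem range_comap_piResidue (E : Set (PrimeSpectrum A))
    (hE : IsClosed[constructibleTopology (PrimeSpectrum A)] E) :
    Set.range (PrimeSpectrum.comap (piResidue E)) = E :=
  Set.Subset.antisymm (range_comap_piResidue_subset E hE) (subset_range_comap_piResidue E)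

end Ring

section Sch

theorem exists_spec_range_eq_inter (X : Scheme.{u}) {E : Set X}
    (hE : ProCons.IsProConstructible E) (U : X.affineOpens) :
    ∃ (B : CommRingCat.{u}) (f : Spec B ⟶ X),
      Set.range f.base = E ∩ ((U : X.Opens) : Set X) := by
  have hU : IsAffineOpen (U : X.Opens) := U.2
  let EU : Set (PrimeSpectrum Γ(X, (U : X.Opens))) := hU.fromSpec.base ⁻¹' E
  have h1 : ProCons.IsProConstructible (hU.fromSpec.base ⁻¹' E) :=
    isProConstructible_preimage hU.fromSpec hE
  have h2 : IsClosed[constructibleTopology (PrimeSpectrum Γ(X, (U : X.Opens)))] EU :=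
    isClosed_cons_of_isProConstructible h1
  have h3 := range_comap_piResidue EU h2
  refine ⟨CommRingCat.of (∀ p : EU, p.1.asIdeal.ResidueField),
    Spec.map (CommRingCat.ofHom (piResidue EU)) ≫ hU.fromSpec, ?_⟩
  have h4 : Set.range (Spec.map (CommRingCat.ofHom (piResidue EU))).base = EU := h3
  rw [Scheme.Hom.comp_base, TopCat.coe_comp, Set.range_comp, h4]
  change hU.fromSpec.base '' (hU.fromSpec.base ⁻¹' E) = _
  rw [Set.image_preimage_eq_inter_range, hU.range_fromSpec]

theorem exists_affine_of_isProConstructible (X : Scheme.{u}) [CompactSpace X]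
    {E : Set X} (hE : ProCons.IsProConstructible E) :
    ∃ (X' : Scheme.{u}) (f : X' ⟶ X), IsAffine X' ∧ Set.range f.base = E := by
  classical
  obtain ⟨t, ht⟩ := exists_finite_affine_cover X
  choose B f hf using fun U : X.affineOpens => exists_spec_range_eq_inter X hE U
  let g : t → Scheme.{u} := fun U => Spec (B U.1)
  have hι : ∀ i : t, Sigma.ι g i ≫ Sigma.desc (fun U : t => f U.1) = f i.1 :=
    fun i => Sigma.ι_desc _ _
  refine ⟨∐ g, Sigma.desc (fun U : t => f U.1), inferInstance, ?_⟩
  ext x
  constructor
  · rintro ⟨y, rfl⟩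
    obtain ⟨i, z, rfl⟩ := (sigmaOpenCover g).exists_eq y
    have h1 : (Sigma.desc (fun U : t => f U.1)).base ((Sigma.ι g i).base z) = (f i.1).base z := by
      rw [← hι i]; rfl
    have h2 : (f i.1).base z ∈ E ∩ (((i.1 : X.affineOpens) : X.Opens) : Set X) := by
      rw [← hf i.1]; exact ⟨z, rfl⟩
    change (Sigma.desc (fun U : t => f U.1)).base ((Sigma.ι g i).base z) ∈ E
    rw [h1]; exact h2.1
  · intro hx
    obtain ⟨U, hUt, hxU⟩ := ht x
    have : x ∈ Set.range (f U).base := by rw [hf U]; exact ⟨hx, hxU⟩
    obtain ⟨z, rfl⟩ := this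
    refine ⟨(Sigma.ι g ⟨U, hUt⟩).base z, ?_⟩
    have := hι ⟨U, hUt⟩
    rw [← this]; rfl

end Sch

end Groth.Agent.Helper7.ProConsLib
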