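import Mathlib
import Groth.Agent.Lib.Helper7.LimGen
import Groth.Agent.Lib.Helper7.ProConsLib8

set_option autoImplicit false
open CategoryTheory CategoryTheory.Limits AlgebraicGeometry Opposite TopologicalSpace
universe u

/-! helper7: descent of surjectivity and universal injectivity through cofiltered limits with
affine transition maps (EGA IV 8.10.5 (vi), (vii)), via pro-constructible sets. -/

namespace Groth.Agent.Helper7.LimGen

open Groth.Agent.Helper7.LimBC Groth.Agent.Helper7.LimStage Groth.Agent.Helper7.LimFin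
open Groth.Agent.Helper7.ProConsLib

/-- points of a cartesian square of schemes. -/
theorem exists_of_isPullback {P X Y S : Scheme.{u}} {p₁ : P ⟶ X} {p₂ : P ⟶ Y} {f : X ⟶ S}
    {g : Y ⟶ S} (h : IsPullback p₁ p₂ f g) (x : X) (y : Y) (hxy : f x = g y) :
    ∃ z : P, p₁ z = x ∧ p₂ z = y := by
  obtain ⟨z, hz1, hz2⟩ := Scheme.Pullback.exists_preimage_pullback x y hxy
  refine ⟨h.isoPullback.inv z, ?_, ?_⟩
  · rw [← Scheme.Hom.comp_apply, IsPullback.isoPullback_inv_fst, hz1]
  · rw [← Scheme.Hom.comp_apply, IsPullback.isoPullback_inv_snd, hz2]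

variable {I : Type u} [Category.{u} I] [IsCofiltered I] (D : I ⥤ Scheme.{u}) (c : Cone D)
  (hc : IsLimit c) [∀ {i j : I} (f : i ⟶ j), IsAffineHom (D.map f)] {i₀ : I}

section Empty

variable {T : Scheme.{u}} (a : T ⟶ D.obj i₀)

set_option backward.isDefEq.respectTransparency false in
include hc in
/-- a pro-constructible subset of a quasi-compact scheme over a stage whose preimage in the limit
is empty has empty preimage at a finite stage. -/
theorem exists_preimage_eq_empty [CompactSpace T] {E : Set T}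
    (hE : ProCons.IsProConstructible E)
    (h : (pullback.fst a (c.π.app i₀)) ⁻¹' E = ∅) :
    ∃ (j : I) (φ : j ⟶ i₀), (pullback.fst a (D.map φ)) ⁻¹' E = ∅ := by
  obtain ⟨X', e, hX', hrange⟩ := exists_affine_of_isProConstructible T hE
  have hempty : IsEmpty ↥(pullback (e ≫ a) (c.π.app i₀)) := by
    refine ⟨fun z => ?_⟩
    have hz : (bcHom e a (c.π.app i₀)) z ∈ (pullback.fst a (c.π.app i₀)) ⁻¹' E := by
      rw [Set.mem_preimage, ← Scheme.Hom.comp_apply, bcHom_fst, Scheme.Hom.comp_apply, ← hrange]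
      exact ⟨_, rfl⟩
    rw [h] at hz
    exact hz
  obtain ⟨j, φ, hj⟩ := exists_isEmpty_pullback D c i₀ (e ≫ a) hc
    (IsPullback.of_hasPullback (e ≫ a) (c.π.app i₀))
  refine ⟨j, φ, ?_⟩
  rw [Set.eq_empty_iff_forall_notMem]
  intro y hy
  rw [Set.mem_preimage, ← hrange] at hy
  obtain ⟨x', hx'⟩ := hy
  obtain ⟨z, -, -⟩ := exists_of_isPullback (isPullback_bcHom e a (D.map φ)) x' y hx'
  exact hj.false z

end Empty

variable {X₀ Y₀ : Scheme.{u}} (f₀ : X₀ ⟶ Y₀) (g₀ : Y₀ ⟶ D.obj i₀)

set_option backward.isDefEq.respectTransparency false in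
include hc in
/-- surjectivity descends to a finite stage. -/
theorem exists_stage_surjective [CompactSpace Y₀] [QuasiCompact f₀]
    [LocallyOfFinitePresentation f₀] (h : Surjective (bcHom f₀ g₀ (c.π.app i₀))) :
    ∃ (j : I) (φ : j ⟶ i₀), Surjective (bcHom f₀ g₀ (D.map φ)) := by
  have hE : ProCons.IsProConstructible (Set.range f₀)ᶜ := by
    apply isProConstructible_of_isLocallyConstructible
    have := f₀.isLocallyConstructible_image (s := Set.univ) Topology.IsLocallyConstructible.univ
    rw [Set.image_univ] at this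
    exact isLocallyConstructible_compl this
  obtain ⟨j, φ, hj⟩ := exists_preimage_eq_empty D c hc g₀ hE (by
    rw [Set.eq_empty_iff_forall_notMem]
    intro y hy
    obtain ⟨x, rfl⟩ := h.surj y
    apply hy
    rw [← Scheme.Hom.comp_apply, bcHom_fst, Scheme.Hom.comp_apply]
    exact ⟨_, rfl⟩)
  refine ⟨j, φ, ⟨fun y => ?_⟩⟩
  have hy : (pullback.fst g₀ (D.map φ)) y ∈ Set.range f₀ := by
    by_contra hn
    have : y ∈ (pullback.fst g₀ (D.map φ)) ⁻¹' (Set.range f₀)ᶜ := hn
    rw [hj] at this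
    exact this
  obtain ⟨x₀, hx₀⟩ := hy
  obtain ⟨z, -, hz⟩ := exists_of_isPullback (isPullback_bcHom f₀ g₀ (D.map φ)) x₀ y hx₀
  exact ⟨z, hz⟩

include hc in
/-- universal injectivity descends to a finite stage. -/
theorem exists_stage_universallyInjective [CompactSpace Y₀] [QuasiCompact f₀] [QuasiSeparated f₀]
    [LocallyOfFiniteType f₀] (h : UniversallyInjective (bcHom f₀ g₀ (c.π.app i₀))) :
    ∃ (j : I) (φ : j ⟶ i₀), UniversallyInjective (bcHom f₀ g₀ (D.map φ)) := by
  have : CompactSpace X₀ := QuasiCompact.compactSpace_of_compactSpace f₀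
  have : CompactSpace ↥(pullback f₀ f₀) :=
    QuasiCompact.compactSpace_of_compactSpace (pullback.fst f₀ f₀)
  have := lfp_diagonal f₀
  have h1 : Surjective (bcHom (pullback.diagonal f₀) (pullback.fst f₀ f₀ ≫ f₀ ≫ g₀)
      (c.π.app i₀)) :=
    (diagonal_stage_iff f₀ g₀ (c.π.app i₀) @Surjective).mpr
      ((UniversallyInjective.iff_diagonal _).mp h)
  obtain ⟨j, φ, hj⟩ := exists_stage_surjective D c hc (pullback.diagonal f₀)
    (pullback.fst f₀ f₀ ≫ f₀ ≫ g₀) h1
  exact ⟨j, φ, (UniversallyInjective.iff_diagonal _).mpr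
    ((diagonal_stage_iff f₀ g₀ (D.map φ) @Surjective).mp hj)⟩

end Groth.Agent.Helper7.LimGen
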