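import Mathlib
import Groth.Agent.Lib.Helper7.LimGen2

set_option autoImplicit false
open CategoryTheory CategoryTheory.Limits AlgebraicGeometry Opposite TopologicalSpace
universe u

/-! helper7: descent of open immersions and immersions through cofiltered limits with affine
transition maps (EGA IV 8.10.5 (iii), (iv)), and general forms of the descent of closed immersions,
finite, affine and separated morphisms. -/

namespace Groth.Agent.Helper7.LimGen

open Groth.Agent.Helper7.LimBC Groth.Agent.Helper7.LimStage Groth.Agent.Helper7.LimFin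
open Groth.Agent.Helper7.LimProps

section NoLimit

variable {X₀ Y₀ Z₀ Z : Scheme.{u}} (f₀ : X₀ ⟶ Y₀) (g₀ : Y₀ ⟶ Z₀) (s : Z ⟶ Z₀)

set_option backward.isDefEq.respectTransparency false in
/-- the base change of `f₀` restricted over an open `V` of `Y₀`, as a base change of a given
presentation `f` of the base change of `f₀`. -/
theorem exists_isPullback_restrict {X Y : Scheme.{u}} {f : X ⟶ Y} {g : Y ⟶ Z} {qY : Y ⟶ Y₀}
    {qX : X ⟶ X₀} (hY : IsPullback qY g g₀ s) (hX : IsPullback qX f f₀ qY) {V : Scheme.{u}}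
    (v : V ⟶ Y₀) :
    ∃ (pA : pullback (pullback.snd f₀ v ≫ v ≫ g₀) s ⟶ X) (t : pullback (v ≫ g₀) s ⟶ Y),
      IsPullback pA (bcHom (pullback.snd f₀ v) (v ≫ g₀) s) f t ∧
        t ≫ qY = pullback.fst (v ≫ g₀) s ≫ v ∧ t ≫ g = pullback.snd (v ≫ g₀) s := by
  have hbc1 : IsBC f₀ (bcHom (pullback.snd f₀ v) (v ≫ g₀) s) (pullback.fst (v ≫ g₀) s ≫ v) :=
    IsBC.comp ⟨_, IsPullback.of_hasPullback f₀ v⟩ (isBC_bcHom _ _ _)
  have ht : hY.lift (pullback.fst (v ≫ g₀) s ≫ v) (pullback.snd (v ≫ g₀) s)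
      (by rw [Category.assoc, pullback.condition]) ≫ qY = pullback.fst (v ≫ g₀) s ≫ v := by
    simp
  obtain ⟨pA, hpA⟩ := IsBC.isBC_of_fac ⟨qX, hX⟩ hbc1 _ ht
  exact ⟨pA, _, hpA, ht, by simp⟩

set_option backward.isDefEq.respectTransparency false in
/-- the canonical form. -/
theorem exists_isPullback_restrict' {V : Scheme.{u}} (v : V ⟶ Y₀) :
    ∃ (pA : pullback (pullback.snd f₀ v ≫ v ≫ g₀) s ⟶ pullback (f₀ ≫ g₀) s),
      IsPullback pA (bcHom (pullback.snd f₀ v) (v ≫ g₀) s) (bcHom f₀ g₀ s) (bcHom v g₀ s) := by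
  obtain ⟨pA, t, sq, ht1, ht2⟩ := exists_isPullback_restrict f₀ g₀ s
    (IsPullback.of_hasPullback g₀ s) (isPullback_bcHom f₀ g₀ s) v
  have : t = bcHom v g₀ s := by
    apply pullback.hom_ext
    · rw [ht1, bcHom_fst]
    · rw [ht2, bcHom_snd]
  subst this
  exact ⟨pA, sq⟩

set_option backward.isDefEq.respectTransparency false in
/-- if `f₀` maps the stage of `X₀` into the open `V`, then the stage of `f₀` is the stage of its
restriction over `V` followed by an open immersion, up to an isomorphism of the source. -/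
theorem of_restrict_opens (P R : MorphismProperty Scheme.{u}) [R.RespectsIso]
    [R.IsStableUnderComposition] (hPR : P ≤ R) (hR : ∀ {A B : Scheme.{u}} (u : A ⟶ B),
      IsOpenImmersion u → R u) (V : Y₀.Opens)
    (hV : ∀ x : ↥(pullback (f₀ ≫ g₀) s), f₀ (pullback.fst (f₀ ≫ g₀) s x) ∈ V)
    (h : P (bcHom (pullback.snd f₀ V.ι) (V.ι ≫ g₀) s)) : R (bcHom f₀ g₀ s) := by
  obtain ⟨pA, sq⟩ := exists_isPullback_restrict' f₀ g₀ s V.ι
  have htopen : IsOpenImmersion (bcHom V.ι g₀ s) :=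
    MorphismProperty.of_isPullback (isPullback_bcHom V.ι g₀ s) inferInstance
  have hpA : IsOpenImmersion pA := MorphismProperty.of_isPullback sq.flip htopen
  have hsurj : Surjective pA := by
    refine ⟨fun x => ?_⟩
    have hx := hV x
    have hx' : f₀ (pullback.fst (f₀ ≫ g₀) s x) ∈ Set.range V.ι := by
      rw [Scheme.Opens.range_ι]; exact hx
    obtain ⟨y', hy'⟩ := hx'
    have e1 : V.ι y' = pullback.fst g₀ s (bcHom f₀ g₀ s x) := by
      rw [hy', ← Scheme.Hom.comp_apply, ← Scheme.Hom.comp_apply, bcHom_fst]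
    obtain ⟨z, -, hz⟩ := exists_of_isPullback (isPullback_bcHom V.ι g₀ s) y' _ e1
    obtain ⟨w, hw, -⟩ := exists_of_isPullback sq x z hz.symm
    exact ⟨w, hw⟩
  have hiso : IsIso pA := (isIso_iff_isOpenImmersion_and_surjective pA).mpr ⟨hpA, hsurj⟩
  have hfac : bcHom f₀ g₀ s = inv pA ≫ bcHom (pullback.snd f₀ V.ι) (V.ι ≫ g₀) s ≫
      bcHom V.ι g₀ s := by
    rw [IsIso.eq_inv_comp, sq.w]
  rw [hfac]
  exact (R.cancel_left_of_respectsIso (inv pA) _).mpr (R.comp_mem _ _ (hPR _ h) (hR _ htopen))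

end NoLimit

section Limit

variable {I : Type u} [Category.{u} I] [IsCofiltered I] (D : I ⥤ Scheme.{u}) (c : Cone D)
  (hc : IsLimit c) [∀ {i j : I} (f : i ⟶ j), IsAffineHom (D.map f)] {i₀ : I}

set_option backward.isDefEq.respectTransparency false in
include hc in
/-- if the base change of the limit maps into an open, so does a finite stage and all later
ones. -/
theorem exists_stage_forall_mem {T : Scheme.{u}} (a : T ⟶ D.obj i₀) [CompactSpace T]
    (U : T.Opens) {X : Scheme.{u}} {qX : X ⟶ T} {h : X ⟶ c.pt}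
    (hX : IsPullback qX h a (c.π.app i₀)) (hU : ∀ x : X, qX x ∈ U) :
    ∃ (j : I) (φ : j ⟶ i₀), ∀ (k : I) (ψ : k ⟶ j) (x : ↥(pullback a (D.map (ψ ≫ φ)))),
      pullback.fst a (D.map (ψ ≫ φ)) x ∈ U := by
  obtain ⟨j, fji, hj⟩ := exists_map_eq_top (bcDiagram D i₀ a) (bcCone hX) (isLimitBcCone hc hX)
    (i := Over.mk (𝟙 i₀)) ((pullback.fst a (D.map (Over.mk (𝟙 i₀)).hom)) ⁻¹ᵁ U) (by
      rw [← Scheme.Hom.comp_preimage, bcCone_π_fst]
      refine top_le_iff.mp fun x _ => ?_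
      exact hU x)
  refine ⟨j.left, j.hom, fun k ψ x => ?_⟩
  have hmem : (stageMap D i₀ a j.hom ψ) x ∈ ((bcDiagram D i₀ a).map fji ⁻¹ᵁ
      ((pullback.fst a (D.map (Over.mk (𝟙 i₀)).hom)) ⁻¹ᵁ U)) := by
    rw [hj]; trivial
  have e : stageMap D i₀ a j.hom ψ ≫ (bcDiagram D i₀ a).map fji ≫
      pullback.fst a (D.map (Over.mk (𝟙 i₀)).hom) = pullback.fst a (D.map (ψ ≫ j.hom)) := by
    rw [bcDiagram_map_fst, stageMap_fst]
  rw [← e]
  exact hmem

variable {X₀ Y₀ : Scheme.{u}} (f₀ : X₀ ⟶ Y₀) (g₀ : Y₀ ⟶ D.obj i₀)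

omit [IsCofiltered I] [∀ {i j : I} (f : i ⟶ j), IsAffineHom (D.map f)] in
/-- the limit of `f₀` is the base change of its stage. -/
theorem isPullback_limF (j : Over i₀) :
    IsPullback ((cX D c f₀ g₀).π.app j) (limF D c f₀ g₀) (stF D f₀ g₀ j)
      ((cY D c g₀).π.app j) := by
  refine IsPullback.of_right (h₁₂ := stFst D f₀ g₀ j) (h₂₂ := stFstY D g₀ j) (v₁₃ := f₀) ?_
    (cX_π_stF D c f₀ g₀ j) (isPullback_stF D f₀ g₀ j)
  have h1 : (cY D c g₀).π.app j ≫ stFstY D g₀ j = pullback.fst g₀ (c.π.app i₀) :=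
    bcCone_π_fst _ j
  rw [cX_π_stFst, h1]
  exact isPullback_bcHom f₀ g₀ (c.π.app i₀)

include hc in
/-- closed immersions descend, general form. -/
theorem exists_stage_isClosedImmersion' [CompactSpace Y₀] [QuasiCompact f₀] [QuasiSeparated f₀]
    [LocallyOfFiniteType f₀] (h : IsClosedImmersion (bcHom f₀ g₀ (c.π.app i₀))) :
    ∃ (j : I) (φ : j ⟶ i₀), IsClosedImmersion (bcHom f₀ g₀ (D.map φ)) :=
  exists_stage_of_affineTarget D c f₀ g₀ @IsClosedImmersion @LocallyOfFiniteType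
    (fun f₁ g₁ _ _ _ hQ h₁ => have := hQ
      affineBase_of_affineAffine D c hc f₁ g₁ @IsClosedImmersion
        (fun _ hu => have := hu; inferInstance)
        (fun _ {_ _} f₂ g₂ _ _ _ h₂ => affineAffine_isClosedImmersion D c f₂ g₂ hc h₂) h₁)
    inferInstance h

include hc in
/-- finite morphisms descend, general form. -/
theorem exists_stage_isFinite' [CompactSpace Y₀] [QuasiCompact f₀] [QuasiSeparated f₀]
    [LocallyOfFiniteType f₀] (h : IsFinite (bcHom f₀ g₀ (c.π.app i₀))) :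
    ∃ (j : I) (φ : j ⟶ i₀), IsFinite (bcHom f₀ g₀ (D.map φ)) :=
  exists_stage_of_affineTarget D c f₀ g₀ @IsFinite @LocallyOfFiniteType
    (fun f₁ g₁ _ _ _ hQ h₁ => have := hQ
      affineBase_of_affineAffine D c hc f₁ g₁ @IsFinite
        (fun _ hu => have := hu; inferInstance)
        (fun _ {_ _} f₂ g₂ _ _ _ h₂ => affineAffine_isFinite D c f₂ g₂ hc h₂) h₁)
    inferInstance h

include hc in
/-- affine morphisms descend, general form. -/
theorem exists_stage_isAffineHom' [CompactSpace Y₀] [QuasiCompact f₀] [QuasiSeparated f₀]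
    (h : IsAffineHom (bcHom f₀ g₀ (c.π.app i₀))) :
    ∃ (j : I) (φ : j ⟶ i₀), IsAffineHom (bcHom f₀ g₀ (D.map φ)) :=
  exists_stage_of_affineTarget D c f₀ g₀ @IsAffineHom ⊤
    (fun f₁ g₁ _ _ _ _ h₁ => affineBase_isAffineHom D c hc f₁ g₁ h₁) trivial h

include hc in
/-- separated morphisms descend, general form. -/
theorem exists_stage_isSeparated' [CompactSpace Y₀] [QuasiCompact f₀] [QuasiSeparated f₀]
    (h : IsSeparated (bcHom f₀ g₀ (c.π.app i₀))) :
    ∃ (j : I) (φ : j ⟶ i₀), IsSeparated (bcHom f₀ g₀ (D.map φ)) := by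
  have : CompactSpace X₀ := QuasiCompact.compactSpace_of_compactSpace f₀
  have : CompactSpace ↥(pullback f₀ f₀) :=
    QuasiCompact.compactSpace_of_compactSpace (pullback.fst f₀ f₀)
  have h1 : IsClosedImmersion (bcHom (pullback.diagonal f₀) (pullback.fst f₀ f₀ ≫ f₀ ≫ g₀)
      (c.π.app i₀)) :=
    (diagonal_stage_iff f₀ g₀ (c.π.app i₀) @IsClosedImmersion).mpr h.1
  obtain ⟨j, φ, hj⟩ := exists_stage_isClosedImmersion' D c hc (pullback.diagonal f₀)
    (pullback.fst f₀ f₀ ≫ f₀ ≫ g₀) h1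
  exact ⟨j, φ, ⟨(diagonal_stage_iff f₀ g₀ (D.map φ) @IsClosedImmersion).mp hj⟩⟩

set_option backward.isDefEq.respectTransparency false in
include hc in
/-- the common skeleton of the descent of open immersions and immersions. -/
theorem exists_stage_of_opens (P R Q : MorphismProperty Scheme.{u}) [P.IsStableUnderBaseChange]
    [R.IsStableUnderBaseChange] [R.IsStableUnderComposition] [Q.IsStableUnderBaseChange]
    (hPR : P ≤ R) (hR : ∀ {A B : Scheme.{u}} (u : A ⟶ B), IsOpenImmersion u → R u)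
    (hdesc : ∀ (i₁ : I) {X₁ Y₁ : Scheme.{u}} (f₁ : X₁ ⟶ Y₁) (g₁ : Y₁ ⟶ D.obj i₁)
      [CompactSpace Y₁] [QuasiCompact f₁] [QuasiSeparated f₁], Q f₁ →
      P (bcHom f₁ g₁ (c.π.app i₁)) → ∃ (j : I) (φ : j ⟶ i₁), P (bcHom f₁ g₁ (D.map φ)))
    [CompactSpace Y₀] [QuasiCompact f₀] [QuasiSeparated f₀] (hQ : Q f₀)
    (j : Over i₀) (V : ((bcDiagram D i₀ g₀).obj j).Opens) (hVc : IsCompact (V : Set ((bcDiagram D i₀ g₀).obj j)))
    (hV1 : ∀ x : ↥(pullback (f₀ ≫ g₀) (c.π.app i₀)),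
      (cY D c g₀).π.app j (limF D c f₀ g₀ x) ∈ V)
    (hV2 : P (bcHom (pullback.snd (stF D f₀ g₀ j) V.ι)
      (V.ι ≫ pullback.snd g₀ (D.map j.hom)) (c.π.app j.left))) :
    ∃ (k : I) (φ : k ⟶ i₀), R (bcHom f₀ g₀ (D.map φ)) := by
  have : CompactSpace X₀ := QuasiCompact.compactSpace_of_compactSpace f₀
  have hqc : QuasiCompact (stF D f₀ g₀ j) :=
    MorphismProperty.of_isPullback (isPullback_stF D f₀ g₀ j) inferInstance
  have hqs : QuasiSeparated (stF D f₀ g₀ j) :=
    MorphismProperty.of_isPullback (isPullback_stF D f₀ g₀ j) inferInstance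
  have hQ' : Q (stF D f₀ g₀ j) := MorphismProperty.of_isPullback (isPullback_stF D f₀ g₀ j) hQ
  have : CompactSpace ↥(V.toScheme) := isCompact_iff_compactSpace.mp hVc
  obtain ⟨k₁, ψ₁, h₁⟩ := hdesc j.left (pullback.snd (stF D f₀ g₀ j) V.ι)
    (V.ι ≫ pullback.snd g₀ (D.map j.hom)) (Q.pullback_snd _ _ hQ') hV2
  have hXj : IsPullback ((cX D c f₀ g₀).π.app j) (pullback.snd (f₀ ≫ g₀) (c.π.app i₀))
      (stF D f₀ g₀ j ≫ pullback.snd g₀ (D.map j.hom)) (c.π.app j.left) := by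
    have := isPullback_bcCone_π (IsPullback.of_hasPullback (f₀ ≫ g₀) (c.π.app i₀)) j
    have e : stF D f₀ g₀ j ≫ pullback.snd g₀ (D.map j.hom) =
        pullback.snd (f₀ ≫ g₀) (D.map j.hom) := bcHom_snd f₀ g₀ _
    rw [e]
    exact this
  obtain ⟨k₂, ψ₂, h₂⟩ := exists_stage_forall_mem D c hc
    (stF D f₀ g₀ j ≫ pullback.snd g₀ (D.map j.hom)) (stF D f₀ g₀ j ⁻¹ᵁ V) hXj (fun x => by
      change stF D f₀ g₀ j ((cX D c f₀ g₀).π.app j x) ∈ V
      rw [← Scheme.Hom.comp_apply, cX_π_stF, Scheme.Hom.comp_apply]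
      exact hV1 x)
  obtain ⟨k, r₁, r₂, hr⟩ := IsCofiltered.cospan ψ₁ ψ₂
  have hP : P (bcHom (pullback.snd (stF D f₀ g₀ j) V.ι)
      (V.ι ≫ pullback.snd g₀ (D.map j.hom)) (D.map (r₂ ≫ ψ₂))) := by
    rw [← hr, D.map_comp]
    exact bcHom_of_comp _ _ P _ _ h₁
  have hRk : R (bcHom (stF D f₀ g₀ j) (pullback.snd g₀ (D.map j.hom)) (D.map (r₂ ≫ ψ₂))) :=
    of_restrict_opens (stF D f₀ g₀ j) (pullback.snd g₀ (D.map j.hom)) (D.map (r₂ ≫ ψ₂)) P R hPR
      hR V (h₂ k r₂) hP
  refine ⟨k, (r₂ ≫ ψ₂) ≫ j.hom, ?_⟩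
  rw [D.map_comp]
  exact (rebase_iff f₀ g₀ (D.map j.hom) (D.map (r₂ ≫ ψ₂)) R).mp hRk


include hc in
theorem compactSpace_limX [CompactSpace X₀] :
    CompactSpace ↥(pullback (f₀ ≫ g₀) (c.π.app i₀)) := by
  have := isAffineHom_π_app D c hc i₀
  exact QuasiCompact.compactSpace_of_compactSpace (pullback.fst (f₀ ≫ g₀) (c.π.app i₀))

set_option backward.isDefEq.respectTransparency false in
include hc in
/-- open immersions descend to a finite stage. -/
theorem exists_stage_isOpenImmersion [CompactSpace Y₀] [QuasiCompact f₀] [QuasiSeparated f₀]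
    [LocallyOfFinitePresentation f₀] (h : IsOpenImmersion (bcHom f₀ g₀ (c.π.app i₀))) :
    ∃ (j : I) (φ : j ⟶ i₀), IsOpenImmersion (bcHom f₀ g₀ (D.map φ)) := by
  have : CompactSpace X₀ := QuasiCompact.compactSpace_of_compactSpace f₀
  have : CompactSpace ↥(cX D c f₀ g₀).pt := compactSpace_limX D c hc f₀ g₀
  have hop : IsOpenImmersion (limF D c f₀ g₀) := h
  have hcY : IsLimit (cY D c g₀) := isLimitBcCone hc _
  have hUc : IsCompact ((limF D c f₀ g₀).opensRange : Set ↥(cY D c g₀).pt) :=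
    isCompact_range (limF D c f₀ g₀).continuous
  obtain ⟨j, V, hVc, hV⟩ := exists_preimage_eq (bcDiagram D i₀ g₀) (cY D c g₀) hcY _ hUc
  refine exists_stage_of_opens D c hc f₀ g₀ (MorphismProperty.isomorphisms Scheme.{u})
    @IsOpenImmersion @LocallyOfFinitePresentation (fun _ _ u (hu : IsIso u) => inferInstance)
    (fun u hu => hu)
    (fun i₁ {_ _} f₁ g₁ _ _ _ hQ h₁ => have := hQ; exists_stage_isIso D c hc f₁ g₁ h₁)
    inferInstance j V hVc (fun x => ?_) ?_
  · have : limF D c f₀ g₀ x ∈ (cY D c g₀).π.app j ⁻¹ᵁ V := by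
      rw [hV]; exact ⟨x, rfl⟩
    exact this
  · obtain ⟨pA, t, sq, ht1, -⟩ := exists_isPullback_restrict (stF D f₀ g₀ j)
      (pullback.snd g₀ (D.map j.hom)) (c.π.app j.left)
      (isPullback_bcCone_π (IsPullback.of_hasPullback g₀ (c.π.app i₀)) j)
      (isPullback_limF D c f₀ g₀ j) V.ι
    have h1 : IsOpenImmersion (bcHom (pullback.snd (stF D f₀ g₀ j) V.ι)
        (V.ι ≫ pullback.snd g₀ (D.map j.hom)) (c.π.app j.left)) :=
      MorphismProperty.of_isPullback sq hop
    have h2 : Surjective (bcHom (pullback.snd (stF D f₀ g₀ j) V.ι)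
        (V.ι ≫ pullback.snd g₀ (D.map j.hom)) (c.π.app j.left)) := by
      refine ⟨fun z => ?_⟩
      have hz : t z ∈ (cY D c g₀).π.app j ⁻¹ᵁ V := by
        change (cY D c g₀).π.app j (t z) ∈ V
        rw [← Scheme.Hom.comp_apply, ht1, Scheme.Hom.comp_apply]
        have : V.ι (pullback.fst (V.ι ≫ pullback.snd g₀ (D.map j.hom)) (c.π.app j.left) z) ∈
            Set.range V.ι := ⟨_, rfl⟩
        rw [Scheme.Opens.range_ι] at this
        exact this
      rw [hV] at hz
      obtain ⟨x, hx⟩ := hz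
      obtain ⟨w, -, hw⟩ := exists_of_isPullback sq x z hx
      exact ⟨w, hw⟩
    exact (isIso_iff_isOpenImmersion_and_surjective _).mpr ⟨h1, h2⟩


set_option backward.isDefEq.respectTransparency false in
include hc in
/-- immersions descend to a finite stage. -/
theorem exists_stage_isImmersion [CompactSpace Y₀] [QuasiCompact f₀] [QuasiSeparated f₀]
    [LocallyOfFiniteType f₀] (h : IsImmersion (bcHom f₀ g₀ (c.π.app i₀))) :
    ∃ (j : I) (φ : j ⟶ i₀), IsImmersion (bcHom f₀ g₀ (D.map φ)) := by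
  have : CompactSpace X₀ := QuasiCompact.compactSpace_of_compactSpace f₀
  have : CompactSpace ↥(cX D c f₀ g₀).pt := compactSpace_limX D c hc f₀ g₀
  have him : IsImmersion (limF D c f₀ g₀) := h
  have hcY : IsLimit (cY D c g₀) := isLimitBcCone hc _
  have hKc : IsCompact (Set.range (limF D c f₀ g₀)) :=
    isCompact_range (limF D c f₀ g₀).continuous
  obtain ⟨U', hU'c, hU'o, hKU, hUW⟩ := PrespectralSpace.exists_isCompact_and_isOpen_between hKc
    ((limF D c f₀ g₀).isLocallyClosed_range.isOpen_coborder) subset_coborder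
  obtain ⟨j, V, hVc, hV⟩ := exists_preimage_eq (bcDiagram D i₀ g₀) (cY D c g₀) hcY ⟨U', hU'o⟩ hU'c
  refine exists_stage_of_opens D c hc f₀ g₀ @IsClosedImmersion
    @IsImmersion @LocallyOfFiniteType (fun _ _ u (hu : IsClosedImmersion u) => inferInstance)
    (fun u hu => have := hu; inferInstance)
    (fun i₁ {_ _} f₁ g₁ _ _ _ hQ h₁ => have := hQ
      exists_stage_isClosedImmersion' D c hc f₁ g₁ h₁)
    inferInstance j V hVc (fun x => ?_) ?_
  · have : limF D c f₀ g₀ x ∈ (cY D c g₀).π.app j ⁻¹ᵁ V := by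
      rw [hV]; exact hKU ⟨x, rfl⟩
    exact this
  · obtain ⟨pA, t, sq, ht1, -⟩ := exists_isPullback_restrict (stF D f₀ g₀ j)
      (pullback.snd g₀ (D.map j.hom)) (c.π.app j.left)
      (isPullback_bcCone_π (IsPullback.of_hasPullback g₀ (c.π.app i₀)) j)
      (isPullback_limF D c f₀ g₀ j) V.ι
    have h1 : IsImmersion (bcHom (pullback.snd (stF D f₀ g₀ j) V.ι)
        (V.ι ≫ pullback.snd g₀ (D.map j.hom)) (c.π.app j.left)) :=
      MorphismProperty.of_isPullback sq him
    have htU : ∀ z, t z ∈ U' := by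
      intro z
      have hz : t z ∈ (cY D c g₀).π.app j ⁻¹ᵁ V := by
        change (cY D c g₀).π.app j (t z) ∈ V
        rw [← Scheme.Hom.comp_apply, ht1, Scheme.Hom.comp_apply]
        have : V.ι (pullback.fst (V.ι ≫ pullback.snd g₀ (D.map j.hom)) (c.π.app j.left) z) ∈
            Set.range V.ι := ⟨_, rfl⟩
        rw [Scheme.Opens.range_ι] at this
        exact this
      rw [hV] at hz
      exact hz
    have hrange : Set.range (bcHom (pullback.snd (stF D f₀ g₀ j) V.ι)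
        (V.ι ≫ pullback.snd g₀ (D.map j.hom)) (c.π.app j.left)) =
        t ⁻¹' closure (Set.range (limF D c f₀ g₀)) := by
      ext z
      constructor
      · rintro ⟨w, rfl⟩
        apply subset_closure
        refine ⟨pA w, ?_⟩
        exact (Scheme.Hom.comp_apply pA _ w).symm.trans
          ((congrArg (fun q => q w) sq.w).trans (Scheme.Hom.comp_apply _ t w))
      · intro hz
        have : t z ∈ closure (Set.range (limF D c f₀ g₀)) ∩
            coborder (Set.range (limF D c f₀ g₀)) := ⟨hz, hUW (htU z)⟩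
        rw [closure_inter_coborder] at this
        obtain ⟨x, hx⟩ := this
        obtain ⟨w, -, hw⟩ := exists_of_isPullback sq x z hx
        exact ⟨w, hw⟩
    refine IsClosedImmersion.of_isPreimmersion _ ?_
    rw [hrange]
    exact isClosed_closure.preimage t.continuous


end Limit

end Groth.Agent.Helper7.LimGen
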