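import Mathlib
import Groth.Agent.Lib.Helper7.LimGen3

set_option autoImplicit false
open CategoryTheory CategoryTheory.Limits AlgebraicGeometry Opposite TopologicalSpace
universe u

/-! helper7: descent of formally unramified morphisms of finite type through cofiltered limits
with affine transition maps, via the diagonal. -/

namespace Groth.Agent.Helper7.LimGen

open Groth.Agent.Helper7.LimBC Groth.Agent.Helper7.LimStage Groth.Agent.Helper7.LimFin

variable {I : Type u} [Category.{u} I] [IsCofiltered I] (D : I ⥤ Scheme.{u}) (c : Cone D)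
  (hc : IsLimit c) [∀ {i j : I} (f : i ⟶ j), IsAffineHom (D.map f)] {i₀ : I}
  {X₀ Y₀ : Scheme.{u}} (f₀ : X₀ ⟶ Y₀) (g₀ : Y₀ ⟶ D.obj i₀)

include hc in
/-- formally unramified morphisms (locally of finite type) descend to a finite stage. -/
theorem exists_stage_formallyUnramified [CompactSpace Y₀] [QuasiCompact f₀] [QuasiSeparated f₀]
    [LocallyOfFiniteType f₀] (h : FormallyUnramified (bcHom f₀ g₀ (c.π.app i₀))) :
    ∃ (j : I) (φ : j ⟶ i₀), FormallyUnramified (bcHom f₀ g₀ (D.map φ)) := by
  have : CompactSpace X₀ := QuasiCompact.compactSpace_of_compactSpace f₀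
  have : CompactSpace ↥(pullback f₀ f₀) :=
    QuasiCompact.compactSpace_of_compactSpace (pullback.fst f₀ f₀)
  have := lfp_diagonal f₀
  have hlft : LocallyOfFiniteType (bcHom f₀ g₀ (c.π.app i₀)) :=
    MorphismProperty.of_isPullback (isPullback_bcHom f₀ g₀ (c.π.app i₀)) inferInstance
  have h1 : IsOpenImmersion (bcHom (pullback.diagonal f₀) (pullback.fst f₀ f₀ ≫ f₀ ≫ g₀)
      (c.π.app i₀)) :=
    (diagonal_stage_iff f₀ g₀ (c.π.app i₀) @IsOpenImmersion).mpr inferInstance
  obtain ⟨j, φ, hj⟩ := exists_stage_isOpenImmersion D c hc (pullback.diagonal f₀)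
    (pullback.fst f₀ f₀ ≫ f₀ ≫ g₀) h1
  have := (diagonal_stage_iff f₀ g₀ (D.map φ) @IsOpenImmersion).mp hj
  exact ⟨j, φ, inferInstance⟩

end Groth.Agent.Helper7.LimGen
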