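import Mathlib
import Groth.Agent.Lib.Helper7.LimLoc
import Groth.Agent.Lib.Helper7.LimGen4

set_option autoImplicit false
open CategoryTheory CategoryTheory.Limits AlgebraicGeometry Opposite TopologicalSpace
universe u

/-! helper7: formally unramified morphisms locally of finite type descend to a finite stage of a
cofiltered limit with affine transition maps, the source being only quasi-compact
(EGA IV 17.7.8, unramified case). -/

namespace Groth.Agent.Helper7.LimUnr

open Groth.Agent.Helper7.LimBC Groth.Agent.Helper7.LimStage Groth.Agent.Helper7.LimLoc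
  Groth.Agent.Helper7.LimGen

variable {I : Type u} [Category.{u} I] [IsCofiltered I] (D : I ⥤ Scheme.{u}) (c : Cone D)
  (hc : IsLimit c) [∀ {i j : I} (f : i ⟶ j), IsAffineHom (D.map f)] {i₀ : I}
  {X₀ Y₀ : Scheme.{u}} (f₀ : X₀ ⟶ Y₀) (g₀ : Y₀ ⟶ D.obj i₀)

include hc in
/-- formally unramified morphisms locally of finite type descend to a finite stage; only the
source is assumed quasi-compact. -/
theorem exists_stage_formallyUnramified' [CompactSpace X₀] [LocallyOfFiniteType f₀]
    (h : FormallyUnramified (bcHom f₀ g₀ (c.π.app i₀))) :
    ∃ (j : I) (φ : j ⟶ i₀), FormallyUnramified (bcHom f₀ g₀ (D.map φ)) := by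
  refine exists_stage_of_sourceLocal D c f₀ g₀ @FormallyUnramified
    (fun f j _ hfj => have := hfj; FormallyUnramified.of_comp f j)
    (fun f j _ hf => by
      have := hf
      have : IsOpenImmersion (pullback.diagonal j) := inferInstance
      have hj : FormallyUnramified j := inferInstance
      exact MorphismProperty.comp_mem @FormallyUnramified f j hf hj) ?_ h
  intro U V _ _ u v _ _ f' e h'
  have h1 : LocallyOfFiniteType (f' ≫ v) := by rw [e]; infer_instance
  have h2 : LocallyOfFiniteType f' := locallyOfFiniteType_of_comp f' v
  exact exists_stage_formallyUnramified D c hc f' (v ≫ g₀) h'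

end Groth.Agent.Helper7.LimUnr
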