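import Mathlib
import Groth.Agent.Lib.Helper7.LimDesc4
import Groth.Agent.Lib.Helper7.LimUnr

set_option autoImplicit false
open CategoryTheory CategoryTheory.Limits AlgebraicGeometry Opposite TopologicalSpace
universe u

set_option linter.unusedSectionVars false

/-! helper7: models over a finite stage of a cofiltered limit of morphisms of finite presentation
which are smooth, etale or unramified (EGA IV 8.9.1 with 17.7.8). -/

namespace Groth.Agent.Helper7.LimDesc

open Groth.Agent.Helper7.LimBC Groth.Agent.Helper7.LimIso Groth.Agent.Helper7.LimModel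
  Groth.Agent.Helper7.LimStage

variable {I : Type u} [Category.{u} I] [IsCofiltered I] {D : I ⥤ Scheme.{u}} {c : Cone D}
  (hc : IsLimit c) [∀ {i j : I} (f : i ⟶ j), IsAffineHom (D.map f)]
  [∀ i, CompactSpace (D.obj i)] [∀ i, QuasiSeparatedSpace (D.obj i)]

set_option backward.isDefEq.respectTransparency false in
include hc in
/-- a morphism of finite presentation to the limit having a property which descends to finite
stages has a model with this property over a finite stage. -/
theorem exists_model_of_property (P : MorphismProperty Scheme.{u}) [P.IsStableUnderBaseChange]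
    (hstage : ∀ {i₀ : I} {X₀ : Scheme.{u}} (f₀ : X₀ ⟶ D.obj i₀)
      [LocallyOfFinitePresentation f₀] [CompactSpace X₀],
      P (bcHom f₀ (𝟙 _) (c.π.app i₀)) → ∃ (j : I) (φ : j ⟶ i₀), P (bcHom f₀ (𝟙 _) (D.map φ)))
    {Z : Scheme.{u}} (h : Z ⟶ c.pt) [LocallyOfFinitePresentation h] [QuasiCompact h]
    [QuasiSeparated h] (hP : P h) :
    ∃ (j : I) (M : Model D c h j), P M.zj := by
  obtain ⟨j₀, ⟨M⟩⟩ := desc_of_finitePresentation hc h
  have : CompactSpace ↥M.Zj := QuasiCompact.compactSpace_of_compactSpace M.zj
  have h1 : P (bcHom M.zj (𝟙 _) (c.π.app j₀)) :=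
    bcHom_of_isPullback M.zj (𝟙 _) P (c.π.app j₀) (IsPullback.id_vert _) M.isPullback hP
  obtain ⟨j, φ, hj⟩ := hstage M.zj h1
  refine ⟨j, M.stage φ, ?_⟩
  exact of_bcHom_of_isPullback M.zj (𝟙 _) P (D.map φ) (IsPullback.id_vert _)
    (IsPullback.of_hasPullback M.zj (D.map φ)) hj

include hc in
theorem exists_model_smooth {Z : Scheme.{u}} (h : Z ⟶ c.pt) [Smooth h] [QuasiCompact h]
    [QuasiSeparated h] : ∃ (j : I) (M : Model D c h j), Smooth M.zj :=
  exists_model_of_property hc @Smooth
    (fun f₀ _ _ hs => exists_stage_smooth D c hc f₀ (𝟙 _) hs) h inferInstance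

include hc in
theorem exists_model_etale {Z : Scheme.{u}} (h : Z ⟶ c.pt) [Etale h] [QuasiCompact h]
    [QuasiSeparated h] : ∃ (j : I) (M : Model D c h j), Etale M.zj :=
  exists_model_of_property hc @Etale
    (fun f₀ _ _ hs => exists_stage_etale D c hc f₀ (𝟙 _) hs) h inferInstance

include hc in
theorem exists_model_formallyUnramified {Z : Scheme.{u}} (h : Z ⟶ c.pt) [FormallyUnramified h]
    [LocallyOfFinitePresentation h] [QuasiCompact h]
    [QuasiSeparated h] : ∃ (j : I) (M : Model D c h j), FormallyUnramified M.zj :=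
  exists_model_of_property hc @FormallyUnramified
    (fun f₀ _ _ hs => Groth.Agent.Helper7.LimUnr.exists_stage_formallyUnramified' D c hc f₀ (𝟙 _) hs)
    h inferInstance

end Groth.Agent.Helper7.LimDesc
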