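import Mathlib
import Groth.Agent.Lib.Helper7.LimDesc5
import Groth.Agent.Lib.Helper7.FGSub

set_option autoImplicit false
open CategoryTheory CategoryTheory.Limits AlgebraicGeometry Opposite
universe u

/-! helper7: the spectrum of a ring as the limit of the spectra of its finitely generated subrings,
and models of morphisms of finite presentation over a finitely generated subring. -/

namespace Groth.Agent.Helper7.FGSub

open Groth.Agent.Helper7.LimDesc

variable (A : Type u) [CommRing A]

/-- the diagram of spectra of finitely generated subrings. -/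
noncomputable def specDiag : (Idx A)ᵒᵖ ⥤ Scheme.{u} := (ringDiag A).op ⋙ Scheme.Spec

/-- the cone over it with vertex the spectrum of `A`. -/
noncomputable def specCone : Cone (specDiag A) := Scheme.Spec.mapCone (ringCocone A).op

theorem isLimit_specCone : Nonempty (IsLimit (specCone A)) :=
  ⟨isLimitOfPreserves Scheme.Spec (isColimit_ringCocone A).some.op⟩

instance {i j : (Idx A)ᵒᵖ} (f : i ⟶ j) : IsAffineHom ((specDiag A).map f) := by
  show IsAffineHom (Spec.map _)
  infer_instance

instance (i : (Idx A)ᵒᵖ) : CompactSpace ↥((specDiag A).obj i) := by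
  show CompactSpace ↥(Spec _)
  infer_instance

instance (i : (Idx A)ᵒᵖ) : QuasiSeparatedSpace ↥((specDiag A).obj i) := by
  show QuasiSeparatedSpace ↥(Spec _)
  infer_instance

theorem exists_model (P : MorphismProperty Scheme.{u})
    (hP : ∀ {Z : Scheme.{u}} (h : Z ⟶ (specCone A).pt) [LocallyOfFinitePresentation h]
      [QuasiCompact h] [QuasiSeparated h], P h →
      ∃ (j : (Idx A)ᵒᵖ) (M : Model (specDiag A) (specCone A) h j), P M.zj)
    {X : Scheme.{u}} (f : X ⟶ Spec (CommRingCat.of A)) [LocallyOfFinitePresentation f]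
    [QuasiCompact f] [QuasiSeparated f] (hf : P f) :
    ∃ A₀ : Subalgebra ℤ A, A₀.FG ∧
      ∃ (X₀ : Scheme.{u}) (f₀ : X₀ ⟶ Spec (CommRingCat.of ↥A₀)) (g : X ⟶ X₀),
        P f₀ ∧ LocallyOfFinitePresentation f₀ ∧ QuasiCompact f₀ ∧ QuasiSeparated f₀ ∧
          IsPullback g f f₀ (Spec.map (CommRingCat.ofHom (algebraMap (↥A₀) A))) := by
  obtain ⟨j, M, hM⟩ := @hP X f ‹_› ‹_› ‹_› hf
  exact ⟨j.unop.1, j.unop.2, M.Zj, M.zj, M.q, hM, M.lfp, M.qc, M.qs, M.isPullback⟩

end Groth.Agent.Helper7.FGSub
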