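import Mathlib

set_option autoImplicit false
open CategoryTheory CategoryTheory.Limits AlgebraicGeometry Opposite TopologicalSpace
universe u

/-! helper7: quasi-affine morphisms as a property local on the target: a scheme covered by
quasi-affine basic opens of a spanning family of global sections is quasi-affine, hence
"the source is quasi-affine" is a local affine-target property, stable under base change. -/

namespace Groth.Agent.Helper7.QAff

set_option backward.isDefEq.respectTransparency false in
theorem isQuasiAffine_of_span_eq_top (X : Scheme.{u}) (s : Finset Γ(X, ⊤))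
    (hs : Ideal.span (s : Set Γ(X, ⊤)) = ⊤)
    (h : ∀ g ∈ s, (X.basicOpen g).toScheme.IsQuasiAffine) : X.IsQuasiAffine := by
  have hcov := iSup_basicOpen_of_span_eq_top (X := X) ⊤ _ hs
  have hcomp : CompactSpace X := by
    rw [← isCompact_univ_iff, ← Opens.coe_top, ← hcov]
    simp only [Finset.mem_coe, Opens.iSup_mk, Opens.carrier_eq_coe, Opens.coe_mk]
    apply s.isCompact_biUnion
    exact fun i hi ↦ isCompact_iff_compactSpace.mpr (h i hi).toCompactSpace
  have hqs : QuasiSeparatedSpace X := by
    refine QuasiSeparatedSpace.of_isOpenCover (U := fun g : s => X.basicOpen g.1) ?_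
      (fun _ => isRetrocompact_basicOpen _) (fun g => ?_)
    · change (⨆ g : s, X.basicOpen g.1) = ⊤
      refine Eq.trans ?_ hcov
      simp only [Finset.mem_coe, iSup_subtype]
    · have := h g.1 g.2
      have h2 : QuasiSeparatedSpace (X.basicOpen g.1).toScheme := by
        have h3 : IsSeparated (terminal.from (X.basicOpen g.1).toScheme) :=
          Scheme.IsSeparated.isSeparated_terminal_from
        exact quasiSeparatedSpace_of_quasiSeparated (terminal.from (X.basicOpen g.1).toScheme)
      exact (isQuasiSeparated_iff_quasiSeparatedSpace _ (X.basicOpen g.1).2).mpr h2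
  refine Scheme.IsQuasiAffine.of_forall_exists_mem_basicOpen X (fun x => ?_)
  have hx : x ∈ (⨆ i ∈ (s : Set Γ(X, ⊤)), X.basicOpen i) := by rw [hcov]; trivial
  simp only [Finset.mem_coe, Opens.mem_iSup] at hx
  obtain ⟨g, hg, hxg⟩ := hx
  have := h g hg
  obtain ⟨_, ⟨_, ⟨a, ha, rfl⟩, rfl⟩, hxa, -⟩ :=
    (Scheme.IsQuasiAffine.isBasis_basicOpen (X.basicOpen g).toScheme).exists_subset_of_mem_open
      (Set.mem_univ (⟨x, hxg⟩ : (X.basicOpen g).toScheme)) isOpen_univ
  obtain ⟨a', rfl⟩ : ∃ a' : Γ(X, X.basicOpen g), a = (X.basicOpen g).topIso.inv a' :=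
    ⟨(X.basicOpen g).topIso.hom a, ((X.basicOpen g).topIso.hom_inv_id_apply a).symm⟩
  have ha' : IsAffineOpen (X.basicOpen a') := by
    rw [← Scheme.Opens.ι_image_basicOpen_topIso_inv]
    exact ha.image_of_isOpenImmersion (X.basicOpen g).ι
  have hxa' : x ∈ X.basicOpen a' := by
    rw [← Scheme.Opens.ι_image_basicOpen_topIso_inv]
    exact ⟨⟨x, hxg⟩, hxa, rfl⟩
  obtain ⟨n, y, hy⟩ := exists_eq_pow_mul_of_isCompact_of_isQuasiSeparated X ⊤
    isCompact_univ isQuasiSeparated_univ g a'
  have e1 : X.basicOpen (g * y) = X.basicOpen a' := by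
    have h1 := congrArg X.basicOpen hy
    dsimp only [TopCat.Presheaf.restrictOpenCommRingCat_apply] at h1
    have hu : IsUnit (X.presheaf.map (homOfLE (X.basicOpen_le g)).op g) :=
      X.toRingedSpace.isUnit_res_basicOpen g
    rw [Scheme.basicOpen_res, Scheme.basicOpen_mul, Scheme.basicOpen_of_isUnit _ (hu.pow n)] at h1
    rw [Scheme.basicOpen_mul, h1]
    exact inf_eq_right.mpr (X.basicOpen_le a')
  refine ⟨g * y, ?_, ?_⟩
  · rw [e1]; exact ha'
  · rw [e1]; exact hxa'

/-- the affine-target property: the source is a quasi-affine scheme. -/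
def Q : AffineTargetMorphismProperty := fun X _ _ _ => X.IsQuasiAffine

theorem Q_iff {X Y : Scheme.{u}} (f : X ⟶ Y) [IsAffine Y] : Q f ↔ X.IsQuasiAffine := Iff.rfl

instance : Q.toProperty.RespectsIso := by
  apply MorphismProperty.RespectsIso.mk
  · intro X Y Z e f ⟨hZ, hf⟩
    refine ⟨hZ, ?_⟩
    have : Y.IsQuasiAffine := hf
    exact Scheme.IsQuasiAffine.of_isAffineHom e.hom
  · intro X Y Z e f ⟨hZ, hf⟩
    exact ⟨IsAffine.of_isIso e.inv, hf⟩

set_option backward.isDefEq.respectTransparency false in
instance : Q.IsLocal where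
  respectsIso := inferInstance
  to_basicOpen {X Y} _ f r hf := by
    have : X.IsQuasiAffine := hf
    change (f ⁻¹ᵁ Y.basicOpen r).toScheme.IsQuasiAffine
    rw [Scheme.preimage_basicOpen_top]
    exact Scheme.IsQuasiAffine.of_isAffineHom (X.basicOpen (f.appTop r)).ι
  of_basicOpenCover {X Y} _ f s hs H := by
    classical
    change X.IsQuasiAffine
    refine isQuasiAffine_of_span_eq_top X (s.image f.appTop.hom) ?_ ?_
    · rw [Finset.coe_image, ← Ideal.map_span, hs, Ideal.map_top]
    · intro g hg
      obtain ⟨r, hr, rfl⟩ := Finset.mem_image.mp hg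
      have := H ⟨r, hr⟩
      change (f ⁻¹ᵁ Y.basicOpen r).toScheme.IsQuasiAffine at this
      rw [Scheme.preimage_basicOpen_top] at this
      exact this

theorem Q_isStableUnderBaseChange : Q.IsStableUnderBaseChange := by
  intro Z X Y S _ _ f g f' g' h hg
  have : Y.IsQuasiAffine := hg
  have : IsAffineHom f' := MorphismProperty.of_isPullback (P := @IsAffineHom) h inferInstance
  exact Scheme.IsQuasiAffine.of_isAffineHom f'

/-- quasi-affine morphisms. -/
def P : MorphismProperty Scheme.{u} := targetAffineLocally Q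

instance : HasAffineProperty P Q := ⟨inferInstance, rfl⟩

instance : P.IsStableUnderBaseChange :=
  HasAffineProperty.isStableUnderBaseChange Q_isStableUnderBaseChange

theorem P_iff {X Y : Scheme.{u}} (f : X ⟶ Y) :
    P f ↔ QuasiCompact f ∧ ∀ V : Y.Opens, IsAffineOpen V →
      Scheme.IsQuasiAffine (f ⁻¹ᵁ V : Scheme.{u}) := by
  constructor
  · intro h
    refine ⟨?_, fun V hV => h ⟨V, hV⟩⟩
    rw [quasiCompact_iff_forall_isAffineOpen]
    intro V hV
    have : Scheme.IsQuasiAffine (f ⁻¹ᵁ V : Scheme.{u}) := h ⟨V, hV⟩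
    exact isCompact_iff_compactSpace.mpr this.toCompactSpace
  · intro h V
    exact h.2 V.1 V.2

end Groth.Agent.Helper7.QAff
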