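import Mathlib
import Groth.Agent.Lib.Helper7.LimGen
import Groth.Agent.Lib.Helper7.QAff

set_option autoImplicit false
open CategoryTheory CategoryTheory.Limits AlgebraicGeometry Opposite TopologicalSpace
universe u

/-! helper7: quasi-affine morphisms descend through cofiltered limits with affine transition
maps (EGA IV 8.10.5 (ix)). -/

namespace Groth.Agent.Helper7.LimQAff

open Groth.Agent.Helper7.LimBC Groth.Agent.Helper7.LimStage Groth.Agent.Helper7.LimFin
  Groth.Agent.Helper7.LimGen Groth.Agent.Helper7.QAff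

variable {I : Type u} [Category.{u} I] [IsCofiltered I] (D : I ⥤ Scheme.{u}) (c : Cone D)
  (hc : IsLimit c) [∀ {i j : I} (f : i ⟶ j), IsAffineHom (D.map f)] {i₀ : I}
  {X₀ Y₀ : Scheme.{u}} (f₀ : X₀ ⟶ Y₀) (g₀ : Y₀ ⟶ D.obj i₀)

set_option backward.isDefEq.respectTransparency false in
include hc in
/-- quasi-affine morphisms descend to a finite stage. -/
theorem exists_stage_quasiAffine [CompactSpace Y₀] [QuasiCompact f₀] [QuasiSeparated f₀]
    (h : QAff.P (bcHom f₀ g₀ (c.π.app i₀))) :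
    ∃ (j : I) (φ : j ⟶ i₀), QAff.P (bcHom f₀ g₀ (D.map φ)) := by
  refine exists_stage_of_affineTarget D c f₀ g₀ QAff.P ⊤ ?_ trivial h
  intro X₁ Y₁ f₁ g₁ _ _ _ _ h₁
  have : IsAffineHom (c.π.app i₀) := isAffineHom_π_app D c hc i₀
  have : IsAffine (pullback g₁ (c.π.app i₀)) := isAffine_of_isAffineHom (pullback.fst g₁ (c.π.app i₀))
  rw [HasAffineProperty.iff_of_isAffine (P := QAff.P)] at h₁
  have h₂ : (pullback (f₁ ≫ g₁) (c.π.app i₀)).IsQuasiAffine := h₁
  obtain ⟨j, φ, hj⟩ := exists_isQuasiAffine_pullback D c i₀ (f₁ ≫ g₁) hc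
    (IsPullback.of_hasPullback (f₁ ≫ g₁) (c.π.app i₀))
  refine ⟨j, φ, ?_⟩
  have : IsAffine (pullback g₁ (D.map φ)) := isAffine_of_isAffineHom (pullback.fst g₁ (D.map φ))
  rw [HasAffineProperty.iff_of_isAffine (P := QAff.P)]
  exact hj

end Groth.Agent.Helper7.LimQAff
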