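import Mathlib
import Groth.Agent.Lib.Helper7.LimGen2
import Groth.Agent.Lib.Helper7.QuasiFlat.Closure

set_option autoImplicit false
open CategoryTheory CategoryTheory.Limits AlgebraicGeometry Opposite TopologicalSpace
universe u

/-! helper7: quasi-finiteness at a point and base change; locally quasi-finite morphisms descend
through cofiltered limits with affine transition maps (EGA IV 8.10.5 (xi)). -/

namespace Groth.Agent.Helper7.LimQF

open Groth.Agent.Helper7.LimBC Groth.Agent.Helper7.LimStage Groth.Agent.Helper7.LimFin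
  Groth.Agent.Helper7.LimGen

section square

variable {X Y X' Y' : Scheme.{u}} {q : X ⟶ X'} {f : X ⟶ Y} {f' : X' ⟶ Y'} {r : Y ⟶ Y'}

set_option backward.isDefEq.respectTransparency false in
/-- quasi-finiteness at a point is preserved by base change. -/
theorem quasiFiniteAt_of_isPullback (h : IsPullback q f f' r) [LocallyOfFiniteType f']
    [LocallyOfFiniteType f] (x : X) (hx : f'.QuasiFiniteAt (q x)) : f.QuasiFiniteAt x := by
  have h1 : IsPullback (q ∣_ f'.quasiFiniteLocus) ((q ⁻¹ᵁ f'.quasiFiniteLocus).ι ≫ f)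
      (f'.quasiFiniteLocus.ι ≫ f') r :=
    (isPullback_morphismRestrict q f'.quasiFiniteLocus).paste_vert h
  have h2 : LocallyQuasiFinite ((q ⁻¹ᵁ f'.quasiFiniteLocus).ι ≫ f) :=
    MorphismProperty.of_isPullback (P := @LocallyQuasiFinite) h1 inferInstance
  have h3 := ((q ⁻¹ᵁ f'.quasiFiniteLocus).ι ≫ f).quasiFiniteLocus_eq_top
  rw [Scheme.Hom.quasiFiniteLocus_comp] at h3
  have hx' : x ∈ q ⁻¹ᵁ f'.quasiFiniteLocus := hx
  have h4 : (⟨x, hx'⟩ : (q ⁻¹ᵁ f'.quasiFiniteLocus).toScheme) ∈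
      (q ⁻¹ᵁ f'.quasiFiniteLocus).ι ⁻¹ᵁ f.quasiFiniteLocus := by rw [h3]; trivial
  exact h4

set_option backward.isDefEq.respectTransparency false in
/-- if the base change of `f'` is quasi-compact and locally quasi-finite, then `f'` is quasi-finite
at every point in the image of the base change. -/
theorem quasiFiniteAt_map_of_isPullback (h : IsPullback q f f' r) [LocallyOfFiniteType f']
    [LocallyQuasiFinite f] [QuasiCompact f] (x : X) : f'.QuasiFiniteAt (q x) := by
  have hfin : (f ⁻¹' {f x}).Finite := f.finite_preimage_singleton (f x)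
  have hfin' : (f' ⁻¹' {f' (q x)}).Finite := by
    refine (hfin.image q).subset ?_
    intro z' hz'
    have e : f' z' = r (f x) := by
      rw [← Scheme.Hom.comp_apply, ← h.w, Scheme.Hom.comp_apply]
      exact hz'
    obtain ⟨x', hx'1, hx'2⟩ := Groth.Agent.Helper7.LimGen.exists_of_isPullback h z' (f x) e
    exact ⟨x', hx'2, hx'1⟩
  have : Finite (f'.fiber (f' (q x))) := (f'.fiberHomeo (f' (q x))).finite_iff.mpr hfin'
  exact Scheme.Hom.quasiFiniteAt_iff_isOpen_singleton_asFiber.mpr (isOpen_discrete _)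

end square

variable {I : Type u} [Category.{u} I] [IsCofiltered I] (D : I ⥤ Scheme.{u}) (c : Cone D)
  (hc : IsLimit c) [∀ {i j : I} (f : i ⟶ j), IsAffineHom (D.map f)] {i₀ : I}
  {X₀ Y₀ : Scheme.{u}} (f₀ : X₀ ⟶ Y₀) (g₀ : Y₀ ⟶ D.obj i₀)

set_option backward.isDefEq.respectTransparency false in
include hc in
/-- quasi-finite morphisms descend to a finite stage (EGA IV 8.10.5 (xi)). -/
theorem exists_stage_locallyQuasiFinite [CompactSpace Y₀] [QuasiCompact f₀]
    [LocallyOfFiniteType f₀] (h : LocallyQuasiFinite (bcHom f₀ g₀ (c.π.app i₀))) :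
    ∃ (j : I) (φ : j ⟶ i₀), LocallyQuasiFinite (bcHom f₀ g₀ (D.map φ)) := by
  have : CompactSpace X₀ := QuasiCompact.compactSpace_of_compactSpace f₀
  have hqc : QuasiCompact (bcHom f₀ g₀ (c.π.app i₀)) :=
    MorphismProperty.of_isPullback (P := @QuasiCompact) (isPullback_bcHom f₀ g₀ (c.π.app i₀))
      inferInstance
  have hE : ProCons.IsProConstructible ((f₀.quasiFiniteLocus : Set X₀)ᶜ) :=
    Groth.Agent.Helper7.QuasiFlat.isProConstructible_of_isClosed X₀
      f₀.quasiFiniteLocus.2.isClosed_compl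
  have hempty : (pullback.fst (f₀ ≫ g₀) (c.π.app i₀)) ⁻¹' (f₀.quasiFiniteLocus : Set X₀)ᶜ = ∅ := by
    rw [Set.eq_empty_iff_forall_notMem]
    intro x hx
    exact hx (quasiFiniteAt_map_of_isPullback (isPullback_bcHom f₀ g₀ (c.π.app i₀)) x)
  obtain ⟨j, φ, hj⟩ := exists_preimage_eq_empty D c hc (f₀ ≫ g₀) hE hempty
  refine ⟨j, φ, ?_⟩
  have hlft : LocallyOfFiniteType (bcHom f₀ g₀ (D.map φ)) :=
    MorphismProperty.of_isPullback (P := @LocallyOfFiniteType) (isPullback_bcHom f₀ g₀ (D.map φ))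
      inferInstance
  rw [← Scheme.Hom.quasiFiniteLocus_eq_top_iff, eq_top_iff]
  intro x _
  refine quasiFiniteAt_of_isPullback (isPullback_bcHom f₀ g₀ (D.map φ)) x ?_
  by_contra hx
  have : x ∈ (pullback.fst (f₀ ≫ g₀) (D.map φ)) ⁻¹' (f₀.quasiFiniteLocus : Set X₀)ᶜ := hx
  rw [hj] at this
  exact this

end Groth.Agent.Helper7.LimQF
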