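import Mathlib
import Groth.Agent.Lib.Helper7.AffDesc
import Groth.Agent.S0081

set_option autoImplicit false
open CategoryTheory CategoryTheory.Limits AlgebraicGeometry Opposite TopologicalSpace
universe u

/-! helper7: descent of quasi-affineness over an affine base along a flat surjective
quasi-compact morphism (flat base change of global sections plus descent of open immersions). -/

namespace Groth.Agent.Helper7.QAffDesc

open Groth.Agent.Helper7.AffDesc

/-- the comparison map `X ×_Y V ⟶ Spec Γ(X) ×_Y V` induces an isomorphism on global sections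
(flat base change). -/
theorem isIso_appTop_map {X Y V : Scheme.{u}} [IsAffine Y] [IsAffine V] (f : X ⟶ Y)
    (k : V ⟶ Y) [Flat k] [QuasiCompact f] [QuasiSeparated f]
    (h : Spec Γ(X, ⊤) ⟶ Y) (hf : X.toSpecΓ ≫ h = f) :
    IsIso (pullback.map f k h k X.toSpecΓ (𝟙 V) (𝟙 Y) (by rw [hf, Category.comp_id])
      (by simp)).appTop := by
  have hc : IsIso X.toSpecΓ.appTop := by
    rw [Scheme.toSpecΓ_appTop]; infer_instance
  have P1 := isPushout_appTop_of_flat f k
  have P' := isPushout_appTop_of_isPullback (IsPullback.of_hasPullback h k)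
  have hfa : f.appTop = h.appTop ≫ X.toSpecΓ.appTop := by
    rw [← Scheme.Hom.comp_appTop, hf]
  have P2 : IsPushout h.appTop k.appTop (X.toSpecΓ.appTop ≫ (pullback.fst f k).appTop)
      (pullback.snd f k).appTop := by
    refine P1.of_iso (Iso.refl _) (asIso X.toSpecΓ.appTop).symm (Iso.refl _) (Iso.refl _)
      ?_ ?_ ?_ ?_
    · simp [hfa]
    · simp
    · simp
    · simp
  set b := pullback.map f k h k X.toSpecΓ (𝟙 V) (𝟙 Y) (by rw [hf, Category.comp_id])
      (by simp) with hb
  have hb1 : b ≫ pullback.fst h k = pullback.fst f k ≫ X.toSpecΓ := by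
    rw [hb]; exact pullback.lift_fst _ _ _
  have hb2 : b ≫ pullback.snd h k = pullback.snd f k := by
    rw [hb, pullback.map]; rw [pullback.lift_snd, Category.comp_id]
  have heq : b.appTop = (P'.isoIsPushout _ _ P2).hom := by
    apply P'.hom_ext
    · rw [IsPushout.inl_isoIsPushout_hom, ← Scheme.Hom.comp_appTop, hb1,
        Scheme.Hom.comp_appTop]
    · rw [IsPushout.inr_isoIsPushout_hom, ← Scheme.Hom.comp_appTop, hb2]
  rw [heq]; infer_instance

theorem isOpenImmersion_map_of_isQuasiAffine {X Y V : Scheme.{u}} [IsAffine Y] [IsAffine V]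
    (f : X ⟶ Y) (k : V ⟶ Y) [Flat k] [QuasiCompact f] [QuasiSeparated f]
    [(pullback f k).IsQuasiAffine]
    (h : Spec Γ(X, ⊤) ⟶ Y) (hf : X.toSpecΓ ≫ h = f) :
    IsOpenImmersion (pullback.map f k h k X.toSpecΓ (𝟙 V) (𝟙 Y) (by rw [hf, Category.comp_id])
      (by simp)) := by
  have hbi := isIso_appTop_map f k h hf
  set b := pullback.map f k h k X.toSpecΓ (𝟙 V) (𝟙 Y) (by rw [hf, Category.comp_id])
      (by simp) with hb
  have hnat := Scheme.toSpecΓ_naturality b
  have : b = (pullback f k).toSpecΓ ≫ Spec.map b.appTop ≫ (pullback h k).isoSpec.inv := by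
    rw [← Category.assoc, ← hnat, Category.assoc]
    have : (pullback h k).toSpecΓ ≫ (pullback h k).isoSpec.inv = 𝟙 _ :=
      (pullback h k).isoSpec.hom_inv_id
    rw [this, Category.comp_id]
  rw [this]
  infer_instance

theorem isOpenImmersion_snd_of_isQuasiAffine {X Y V : Scheme.{u}} [IsAffine Y] [IsAffine V]
    (f : X ⟶ Y) (k : V ⟶ Y) [Flat k] [QuasiCompact f] [QuasiSeparated f]
    [(pullback f k).IsQuasiAffine]
    (h : Spec Γ(X, ⊤) ⟶ Y) (hf : X.toSpecΓ ≫ h = f) :
    IsOpenImmersion (pullback.snd X.toSpecΓ (pullback.fst h k)) := by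
  have hbi := isOpenImmersion_map_of_isQuasiAffine f k h hf
  set b := pullback.map f k h k X.toSpecΓ (𝟙 V) (𝟙 Y) (by rw [hf, Category.comp_id])
      (by simp) with hb
  have hb1 : b ≫ pullback.fst h k = pullback.fst f k ≫ X.toSpecΓ := by
    rw [hb]; exact pullback.lift_fst _ _ _
  have hb2 : b ≫ pullback.snd h k = pullback.snd f k := by
    rw [hb, pullback.map]; rw [pullback.lift_snd, Category.comp_id]
  have t : IsPullback (pullback.snd h k) (pullback.fst h k) k h :=
    (IsPullback.of_hasPullback h k).flip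
  have o : IsPullback (b ≫ pullback.snd h k) (pullback.fst f k) k (X.toSpecΓ ≫ h) := by
    rw [hb2, hf]
    exact (IsPullback.of_hasPullback f k).flip
  have sq : IsPullback (pullback.fst f k) b X.toSpecΓ (pullback.fst h k) :=
    (IsPullback.of_right o hb1 t).flip
  have : pullback.snd X.toSpecΓ (pullback.fst h k) = sq.isoPullback.inv ≫ b := by
    rw [Iso.eq_inv_comp, IsPullback.isoPullback_hom_snd]
  rw [this]
  infer_instance

theorem isQuasiAffine_of_affine_base {Y W X : Scheme.{u}} [IsAffine W] (h : Y ⟶ W) (f : X ⟶ W)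
    [Flat f] [Surjective f] [QuasiCompact f] [CompactSpace Y] (𝒰 : X.OpenCover)
    [∀ i, IsAffine (𝒰.X i)]
    (H : ∀ i, (pullback h (𝒰.f i ≫ f)).IsQuasiAffine) : Y.IsQuasiAffine := by
  have hqc : QuasiCompact h := (quasiCompact_iff_compactSpace h).mpr inferInstance
  have hQ : (@Surjective ⊓ @Flat ⊓ @QuasiCompact : MorphismProperty Scheme.{u}) f :=
    ⟨⟨inferInstance, inferInstance⟩, inferInstance⟩
  have hsep' : IsSeparated (pullback.snd h f) := by
    rw [IsZariskiLocalAtTarget.iff_of_openCover (P := @IsSeparated) 𝒰]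
    intro i
    change IsSeparated (pullback.snd (pullback.snd h f) (𝒰.f i))
    rw [← pullbackLeftPullbackSndIso_hom_snd]
    have := H i
    infer_instance
  have hsep : IsSeparated h := by
    have := Groth.Agent.S0081.result.{u}
    exact MorphismProperty.of_pullback_snd_of_descendsAlong (P := @IsSeparated)
      (Q := (@Surjective ⊓ @Flat ⊓ @QuasiCompact : MorphismProperty Scheme.{u})) hQ hsep'
  let k : Spec Γ(Y, ⊤) ⟶ W := Spec.map h.appTop ≫ W.isoSpec.inv
  have hk : Y.toSpecΓ ≫ k = h := by
    change Y.toSpecΓ ≫ Spec.map h.appTop ≫ W.isoSpec.inv = h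
    rw [← Category.assoc, ← Scheme.toSpecΓ_naturality, Category.assoc]
    have : W.toSpecΓ ≫ W.isoSpec.inv = 𝟙 W := W.isoSpec.hom_inv_id
    rw [this, Category.comp_id]
  have hopen' : IsOpenImmersion (pullback.snd Y.toSpecΓ (pullback.fst k f)) := by
    rw [IsZariskiLocalAtTarget.iff_of_openCover (P := @IsOpenImmersion)
      (Scheme.Pullback.openCoverOfRight 𝒰 k f)]
    intro (i : 𝒰.I₀)
    change IsOpenImmersion (pullback.snd (pullback.snd Y.toSpecΓ (pullback.fst k f))
      ((Scheme.Pullback.openCoverOfRight 𝒰 k f).f i))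
    rw [← pullbackLeftPullbackSndIso_hom_snd]
    have e1 : (Scheme.Pullback.openCoverOfRight 𝒰 k f).f i ≫ pullback.fst k f =
        pullback.fst k (𝒰.f i ≫ f) := by
      exact (pullback.lift_fst _ _ _).trans (Category.comp_id _)
    have := H i
    have h3 : IsOpenImmersion (pullback.snd Y.toSpecΓ
        ((Scheme.Pullback.openCoverOfRight 𝒰 k f).f i ≫ pullback.fst k f)) := by
      rw [e1]
      exact isOpenImmersion_snd_of_isQuasiAffine h (𝒰.f i ≫ f) k hk
    infer_instance
  have hQ' : (@Surjective ⊓ @Flat ⊓ @QuasiCompact : MorphismProperty Scheme.{u})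
      (pullback.fst k f) := ⟨⟨inferInstance, inferInstance⟩, inferInstance⟩
  have hopen : IsOpenImmersion Y.toSpecΓ :=
    MorphismProperty.of_pullback_snd_of_descendsAlong (P := @IsOpenImmersion)
      (Q := (@Surjective ⊓ @Flat ⊓ @QuasiCompact : MorphismProperty Scheme.{u})) hQ' hopen'
  exact {}

end Groth.Agent.Helper7.QAffDesc

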