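import Mathlib
import Groth.Agent.Lib.Helper7.QAffDesc
import Groth.Agent.S0079
import Groth.Prelude.Def_Mor2

set_option autoImplicit false
open CategoryTheory CategoryTheory.Limits AlgebraicGeometry Opposite TopologicalSpace
universe u

/-! helper7: quasi-affine morphisms descend along a flat surjective quasi-compact base change
(reduction to the affine-base case of `QAffDesc`). -/

namespace Groth.Agent.Helper7.QAffDesc2

open Groth.Agent.Helper7.QAffDesc

theorem surjective_restrict {X Y : Scheme.{u}} (f : X ⟶ Y) [Surjective f] (U : Y.Opens) :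
    Surjective (f ∣_ U) := IsZariskiLocalAtTarget.restrict ‹_› U

/-- the piece over an affine open `V` of the restricted cover embeds as an open subscheme of the
preimage of an affine open in the total pullback. -/
theorem isQuasiAffine_piece {A X Y Z V : Scheme.{u}} {fst : A ⟶ X} {snd : A ⟶ Y} {f : X ⟶ Z}
    {g : Y ⟶ Z} (sq : IsPullback fst snd f g) (W : Z.Opens) [IsAffine V]
    (j : V ⟶ (f ⁻¹ᵁ W).toScheme) [IsOpenImmersion j] [QuasiCompact g]
    (hfst : ∀ V' : X.Opens, IsAffineOpen V' → Scheme.IsQuasiAffine (fst ⁻¹ᵁ V' : Scheme.{u})) :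
    (pullback (g ∣_ W) (j ≫ f ∣_ W)).IsQuasiAffine := by
  set T := pullback (g ∣_ W) (j ≫ f ∣_ W) with hT
  let V' : X.Opens := (j ≫ (f ⁻¹ᵁ W).ι).opensRange
  have hV' : IsAffineOpen V' := isAffineOpen_opensRange _
  have := hfst V' hV'
  let m : T ⟶ pullback g f := pullback.map (g ∣_ W) (j ≫ f ∣_ W) g f (g ⁻¹ᵁ W).ι
    (j ≫ (f ⁻¹ᵁ W).ι) W.ι (by simp) (by simp)
  have hm : IsOpenImmersion m := inferInstance
  let a : T ⟶ A := m ≫ sq.flip.isoPullback.inv
  have ha : IsOpenImmersion a := inferInstance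
  have ha1 : a ≫ fst = pullback.snd (g ∣_ W) (j ≫ f ∣_ W) ≫ j ≫ (f ⁻¹ᵁ W).ι := by
    change (m ≫ sq.flip.isoPullback.inv) ≫ fst = _
    rw [Category.assoc, IsPullback.isoPullback_inv_snd]
    exact pullback.lift_snd _ _ _
  have hr : Set.range a ⊆ Set.range (fst ⁻¹ᵁ V').ι := by
    rintro _ ⟨t, rfl⟩
    rw [Scheme.Opens.range_ι]
    change fst.base (a.base t) ∈ V'
    rw [← Scheme.Hom.comp_apply, ha1, Scheme.Hom.comp_apply]
    exact ⟨_, rfl⟩
  let l : T ⟶ (fst ⁻¹ᵁ V').toScheme := IsOpenImmersion.lift (fst ⁻¹ᵁ V').ι a hr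
  have hl : l ≫ (fst ⁻¹ᵁ V').ι = a := IsOpenImmersion.lift_fac _ _ _
  have hlo : IsOpenImmersion l := by
    have : IsOpenImmersion (l ≫ (fst ⁻¹ᵁ V').ι) := by rw [hl]; exact ha
    exact IsOpenImmersion.of_comp l (fst ⁻¹ᵁ V').ι
  have hc : CompactSpace T :=
    QuasiCompact.compactSpace_of_compactSpace (pullback.snd (g ∣_ W) (j ≫ f ∣_ W))
  exact Scheme.IsQuasiAffine.of_isImmersion l

theorem main1127 :
    MorphismProperty.DescendsAlong
      (fun _ _ f => Mor2.IsQuasiAffine f : MorphismProperty Scheme.{u})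
      (@Surjective ⊓ @Flat ⊓ @QuasiCompact : MorphismProperty Scheme.{u}) := by
  refine ⟨fun {A X Y Z fst snd f g} sq hf hfst => ?_⟩
  obtain ⟨⟨hs, hfl⟩, hqc⟩ := hf
  have hs' : Surjective f := hs
  have hfl' : Flat f := hfl
  have hqc' : QuasiCompact f := hqc
  have hgqc : QuasiCompact g :=
    (Groth.Agent.S0079.result.{u}).of_isPullback sq ⟨⟨hs, hfl⟩, hqc⟩ hfst.1
  refine ⟨hgqc, fun W hW => ?_⟩
  have : IsAffine W.toScheme := hW
  have : Surjective (f ∣_ W) := surjective_restrict f W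
  have : CompactSpace (g ⁻¹ᵁ W).toScheme :=
    QuasiCompact.compactSpace_of_compactSpace (g ∣_ W)
  exact isQuasiAffine_of_affine_base (g ∣_ W) (f ∣_ W) (f ⁻¹ᵁ W).toScheme.affineCover
    (fun i => isQuasiAffine_piece sq W _ hfst.2)

end Groth.Agent.Helper7.QAffDesc2

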