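import Mathlib

set_option autoImplicit false
open CategoryTheory CategoryTheory.Limits AlgebraicGeometry Opposite TopologicalSpace
universe u v

set_option linter.unusedSectionVars false

/-! helper7: flatness of the projections from a cofiltered limit of schemes whose transition maps
are flat (EGA IV 8.3.8 / 8.7 complements); a directed union of flat algebras is flat. -/

namespace Groth.Agent.Helper7.LimFlat

/-- a ring which is a directed union of flat algebras is flat. -/
theorem flat_of_directed {R M : Type u} [CommRing R] [CommRing M] (f : R →+* M)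
    {ι : Type v} (N : ι → Type u) [∀ j, CommRing (N j)] (g : ∀ j, R →+* N j)
    (ψ : ∀ j, N j →+* M)
    (hψ : ∀ j, (ψ j).comp (g j) = f) (hflat : ∀ j, (g j).Flat)
    (hsurj : ∀ (l : ℕ) (x : Fin l → M), ∃ (j : ι) (y : Fin l → N j), ∀ k, ψ j (y k) = x k)
    (hker : ∀ (j : ι) (y : N j), ψ j y = 0 → ∃ (j' : ι) (t : N j →+* N j'),
      t.comp (g j) = g j' ∧ (ψ j').comp t = ψ j ∧ t y = 0) :
    f.Flat := by
  algebraize [f]
  change Module.Flat R M
  apply Module.Flat.of_forall_isTrivialRelation
  intro l a x hax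
  have hsmul : ∀ (r : R) (m : M), r • m = f r * m := fun r m => rfl
  obtain ⟨j, y, hy⟩ := hsurj l x
  have h0 : ψ j (∑ i, g j (a i) * y i) = 0 := by
    rw [map_sum, ← hax]
    apply Finset.sum_congr rfl
    intro i _
    rw [map_mul, hy, hsmul, ← hψ j]
    rfl
  obtain ⟨j', t, ht1, ht2, ht3⟩ := hker j _ h0
  have hfl : (g j').Flat := hflat j'
  algebraize [g j']
  have hrel : ∑ i, a i • t (y i) = 0 := by
    rw [map_sum] at ht3
    rw [← ht3]
    apply Finset.sum_congr rfl
    intro i _
    rw [map_mul]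
    have : t (g j (a i)) = g j' (a i) := by rw [← ht1]; rfl
    rw [this]
    rfl
  obtain ⟨κ, b, z, hxz, hab⟩ := Module.Flat.isTrivialRelation_of_sum_smul_eq_zero
    (R := R) (M := N j') (f := a) (x := fun i => t (y i)) hrel
  refine ⟨κ, b, fun k => ψ j' (z k), ?_, hab⟩
  intro i
  have h1 : x i = ψ j' (t (y i)) := by
    rw [← hy i, ← ht2]; rfl
  have h2 : t (y i) = ∑ k, b i k • z k := hxz i
  rw [h1, h2, map_sum]
  apply Finset.sum_congr rfl
  intro k _
  rw [hsmul, ← hψ j']
  change ψ j' (g j' (b i k) * z k) = _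
  rw [map_mul]
  rfl

variable {I : Type u} [Category.{u} I] [IsCofiltered I] (D : I ⥤ Scheme.{u}) (c : Cone D)
  (hc : IsLimit c)

set_option backward.isDefEq.respectTransparency false in
include hc in
/-- affine case: if all transition maps to stage `i` are flat, the projection is flat. -/
theorem flat_appTop_π_of_isAffine [∀ i, IsAffine (D.obj i)] (i : I)
    (hf : ∀ (j : I) (φ : j ⟶ i), Flat (D.map φ)) : (c.π.app i).appTop.hom.Flat := by
  classical
  have hw : ∀ {j k : I} (φ : j ⟶ k) (y : Γ(D.obj k, ⊤)),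
      (c.π.app j).appTop.hom ((D.map φ).appTop.hom y) = (c.π.app k).appTop.hom y := by
    intro j k φ y
    have h1 : (D.map φ).appTop ≫ (c.π.app j).appTop = (c.π.app k).appTop := by
      rw [← Scheme.Hom.comp_appTop, c.w]
    exact congrArg (fun g => g.hom y) h1
  have hone : ∀ x : Γ(c.pt, ⊤), ∃ (j : Over i) (y : Γ(D.obj j.left, ⊤)),
      (c.π.app j.left).appTop.hom y = x := by
    intro x
    obtain ⟨j0, y0, hy0⟩ := exists_appTop_π_eq_of_isAffine_of_isLimit D c hc x
    obtain ⟨m, a, b, -⟩ := IsCofilteredOrEmpty.cone_objs j0 i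
    refine ⟨Over.mk b, (D.map a).appTop.hom y0, ?_⟩
    rw [← hy0]
    exact hw a y0
  refine flat_of_directed (c.π.app i).appTop.hom (ι := Over i) (fun j => Γ(D.obj j.left, ⊤))
    (fun j => (D.map j.hom).appTop.hom) (fun j => (c.π.app j.left).appTop.hom) ?_ ?_ ?_ ?_
  · intro j
    ext y
    exact hw j.hom y
  · intro j
    have := hf _ j.hom
    exact Scheme.Hom.flat_appTop (D.map j.hom)
  · intro l x
    choose jj yy hy using fun k => hone (x k)
    obtain ⟨S, hS⟩ := IsCofiltered.inf_objs_exists (Finset.univ.image jj)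
    have hm : ∀ k, Nonempty (S ⟶ jj k) :=
      fun k => hS (Finset.mem_image_of_mem jj (Finset.mem_univ k))
    refine ⟨S, fun k => (D.map (hm k).some.left).appTop.hom (yy k), fun k => ?_⟩
    rw [← hy k]
    exact hw _ _
  · intro j y hy
    obtain ⟨j', f, hf'⟩ := exists_appTop_map_eq_zero_of_isAffine_of_isLimit D c hc j.left y hy
    refine ⟨Over.mk (f ≫ j.hom), (D.map f).appTop.hom, ?_, ?_, hf'⟩
    · ext z
      have h1 : (D.map j.hom).appTop ≫ (D.map f).appTop = (D.map (f ≫ j.hom)).appTop := by
        rw [← Scheme.Hom.comp_appTop, ← D.map_comp]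
      exact congrArg (fun g => g.hom z) h1
    · ext z
      exact hw f z

set_option backward.isDefEq.respectTransparency false in
include hc in
/-- if all transition maps to stage `i` are flat, the projection to stage `i` is flat. -/
theorem flat_π [∀ {i j : I} (f : i ⟶ j), IsAffineHom (D.map f)] (i : I)
    (hf : ∀ (j : I) (φ : j ⟶ i), Flat (D.map φ)) : Flat (c.π.app i) := by
  rw [IsZariskiLocalAtTarget.iff_of_iSup_eq_top (P := @Flat) _ (iSup_affineOpens_eq_top (D.obj i))]
  intro U
  have hlim := isLimitOpensCone D c hc i U.1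
  have hA : ∀ j : Over i, IsAffine ((opensDiagram D i U.1).obj j) :=
    fun j => U.2.preimage (D.map j.hom)
  have hflat := flat_appTop_π_of_isAffine (opensDiagram D i U.1) (opensCone D c i U.1) hlim
    (Over.mk (𝟙 i)) (fun j φ => by
      have := hf _ φ.left
      change Flat ((D.map φ.left).resLE _ _ _)
      infer_instance)
  have hπ : IsAffineHom (c.π.app i) := isAffineHom_π_app D c hc i
  have hAU : IsAffine (c.π.app i ⁻¹ᵁ U.1).toScheme := U.2.preimage (c.π.app i)
  have hAU' : IsAffine ((opensDiagram D i U.1).obj (Over.mk (𝟙 i))) := hA _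
  have h1 : Flat ((opensCone D c i U.1).π.app (Over.mk (𝟙 i))) := by
    have hAU2 : IsAffine (((Functor.const (Over i)).obj (opensCone D c i U.1).pt).obj
      (Over.mk (𝟙 i))) := hAU
    exact (HasRingHomProperty.iff_of_isAffine (P := @Flat)).mpr hflat
  have hle : D.map (𝟙 i) ⁻¹ᵁ U.1 ≤ U.1 := by simp
  have h2 : (opensCone D c i U.1).π.app (Over.mk (𝟙 i)) ≫ (D.obj i).homOfLE hle
      = c.π.app i ∣_ U.1 := by
    rw [← Scheme.Hom.resLE_eq_morphismRestrict]
    exact Scheme.Hom.resLE_map _ _ _
  rw [← h2]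
  infer_instance

end Groth.Agent.Helper7.LimFlat
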