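import Mathlib
import Groth.Agent.Lib.Helper7.LimBC

set_option autoImplicit false
open CategoryTheory CategoryTheory.Limits AlgebraicGeometry Opposite TopologicalSpace
universe u

set_option linter.unusedSectionVars false

/-! helper7: non-reducedness of a cofiltered limit with affine transition maps is attained at a
finite stage (EGA IV 8.7.1). -/

namespace Groth.Agent.Helper7.LimRed

open Groth.Agent.Helper7.LimBC

section Affine

variable {J : Type u} [Category.{u} J] [IsCofiltered J] (E : J ⥤ Scheme.{u}) (d : Cone E)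
  (hd : IsLimit d) [∀ j, IsAffine (E.obj j)]

set_option backward.isDefEq.respectTransparency false in
include hd in
/-- affine case: if the limit is not reduced then neither are the late stages. -/
theorem eventually_not_isReduced_of_isAffine (h : ¬ IsReduced d.pt) :
    ∃ j : J, ∀ (j' : J) (_ : j' ⟶ j), ¬ IsReduced (E.obj j') := by
  have : IsAffine d.pt := Scheme.isAffine_of_isLimit d hd
  have h1 : ¬ _root_.IsReduced Γ(d.pt, ⊤) := fun hr => h (isReduced_of_isAffine_isReduced d.pt)
  rw [isReduced_iff] at h1
  simp only [not_forall] at h1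
  obtain ⟨r, ⟨n, hn⟩, hr0⟩ := h1
  obtain ⟨j, t, ht⟩ := exists_appTop_π_eq_of_isAffine_of_isLimit E d hd r
  obtain ⟨j', f, hj'⟩ := exists_appTop_map_eq_zero_of_isAffine_of_isLimit E d hd j (t ^ n)
    (by rw [map_pow, ht, hn])
  refine ⟨j', fun j'' g hred => ?_⟩
  have h2 : ((E.map (g ≫ f)).appTop t) ^ n = 0 := by
    rw [← map_pow, E.map_comp, Scheme.Hom.comp_appTop, CommRingCat.comp_apply, hj', map_zero]
  have h3 : (E.map (g ≫ f)).appTop t = 0 := (IsNilpotent.eq_zero ⟨n, h2⟩)
  apply hr0
  rw [← ht, ← d.w (g ≫ f), Scheme.Hom.comp_appTop, CommRingCat.comp_apply, h3, map_zero]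

end Affine

variable {I : Type u} [Category.{u} I] [IsCofiltered I] {D : I ⥤ Scheme.{u}} {c : Cone D}
  (hc : IsLimit c) [∀ {i j : I} (f : i ⟶ j), IsAffineHom (D.map f)]

set_option backward.isDefEq.respectTransparency false in
include hc in
/-- if the limit is not reduced then neither are the late stages. -/
theorem eventually_not_isReduced (h : ¬ IsReduced c.pt) :
    ∃ i : I, ∀ (j : I) (_ : j ⟶ i), ¬ IsReduced (D.obj j) := by
  obtain ⟨i⟩ := IsCofiltered.nonempty (C := I)
  have h1 : ∃ a : (D.obj i).affineCover.I₀,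
      ¬ IsReduced (pullback ((D.obj i).affineCover.f a) (c.π.app i)) := by
    by_contra! H
    have : ∀ a, IsReduced (((D.obj i).affineCover.pullback₂ (c.π.app i)).X a) := H
    exact h (IsReduced.of_openCover c.pt ((D.obj i).affineCover.pullback₂ (c.π.app i)))
  obtain ⟨a, ha⟩ := h1
  have haff : ∀ k : Over i, IsAffine ((bcDiagram D i ((D.obj i).affineCover.f a)).obj k) :=
    fun k => by
      have : IsAffineHom (pullback.fst ((D.obj i).affineCover.f a) (D.map k.hom)) :=
        MorphismProperty.pullback_fst _ _ (inferInstance : IsAffineHom (D.map k.hom))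
      have : IsAffine ((D.obj i).affineCover.X a) := by
        show IsAffine (Spec _); infer_instance
      exact isAffine_of_isAffineHom (pullback.fst ((D.obj i).affineCover.f a) (D.map k.hom))
  have hpb := IsPullback.of_hasPullback ((D.obj i).affineCover.f a) (c.π.app i)
  obtain ⟨k, hk⟩ := eventually_not_isReduced_of_isAffine
    (bcDiagram D i ((D.obj i).affineCover.f a)) (bcCone hpb) (isLimitBcCone hc hpb) ha
  refine ⟨k.left, fun j ψ hred => ?_⟩
  refine hk (Over.mk (ψ ≫ k.hom)) (Over.homMk ψ) ?_
  exact isReduced_of_isOpenImmersion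
    (pullback.snd ((D.obj i).affineCover.f a) (D.map (ψ ≫ k.hom)))

end Groth.Agent.Helper7.LimRed
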