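import Mathlib
import Groth.Agent.Lib.Helper7.LimBC

set_option autoImplicit false
open CategoryTheory CategoryTheory.Limits AlgebraicGeometry Opposite TopologicalSpace
universe u

/-! helper7: images of the projections from a cofiltered limit of schemes with affine transition
maps (EGA IV 8.3.8): range, surjectivity, dominance. -/

namespace Groth.Agent.Helper7.LimTop

open Groth.Agent.Helper7.LimBC

variable {I : Type u} [Category.{u} I] [IsCofiltered I] (D : I ⥤ Scheme.{u}) (c : Cone D)
  (hc : IsLimit c) [∀ {i j : I} (f : i ⟶ j), IsAffineHom (D.map f)]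

set_option backward.isDefEq.respectTransparency false in
include hc in
/-- the image of the projection from the limit is the intersection of the images of the
transition maps. -/
theorem range_π_eq_iInter (i : I) :
    Set.range (c.π.app i) = ⋂ (j : I) (φ : j ⟶ i), Set.range (D.map φ) := by
  apply subset_antisymm
  · rintro _ ⟨x, rfl⟩
    simp only [Set.mem_iInter]
    intro j φ
    exact ⟨c.π.app j x, by rw [← Scheme.Hom.comp_apply, c.w]; rfl⟩
  · intro s hs
    simp only [Set.mem_iInter] at hs
    by_contra hn
    have hdis : Disjoint (Set.range ((D.obj i).fromSpecResidueField s)) (Set.range (c.π.app i)) := by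
      rw [Scheme.range_fromSpecResidueField]
      exact Set.disjoint_singleton_left.mpr hn
    have hempty : IsEmpty ↥(pullback ((D.obj i).fromSpecResidueField s) (c.π.app i)) :=
      Scheme.isEmpty_pullback_iff.mpr hdis
    obtain ⟨j, φ, hj⟩ := exists_isEmpty_pullback D c i ((D.obj i).fromSpecResidueField s) hc
      (IsPullback.of_hasPullback _ _)
    have := Scheme.isEmpty_pullback_iff.mp hj
    rw [Scheme.range_fromSpecResidueField, Set.disjoint_singleton_left] at this
    exact this (hs j φ)

include hc in
theorem surjective_π_iff (i : I) :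
    Surjective (c.π.app i) ↔ ∀ (j : I) (φ : j ⟶ i), Surjective (D.map φ) := by
  constructor
  · intro h j φ
    have : Surjective (c.π.app j ≫ D.map φ) := by rw [c.w]; exact h
    exact Surjective.of_comp (c.π.app j) (D.map φ)
  · intro h
    refine ⟨fun s => ?_⟩
    have : s ∈ Set.range (c.π.app i) := by
      rw [range_π_eq_iInter D c hc i]
      simp only [Set.mem_iInter]
      exact fun j φ => (h j φ).surj s
    exact this

set_option backward.isDefEq.respectTransparency false in
include hc in
theorem isDominant_π_iff (i : I) :
    IsDominant (c.π.app i) ↔ ∀ (j : I) (φ : j ⟶ i), IsDominant (D.map φ) := by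
  constructor
  · intro h j φ
    have : IsDominant (c.π.app j ≫ D.map φ) := by rw [c.w]; exact h
    exact IsDominant.of_comp (c.π.app j) (D.map φ)
  · intro h
    refine ⟨?_⟩
    rw [denseRange_iff_closure_range, ← Set.univ_subset_iff]
    intro x _
    rw [mem_closure_iff]
    intro o ho hxo
    obtain ⟨_, ⟨U, hU, rfl⟩, hxU, hUo⟩ :=
      (D.obj i).isBasis_affineOpens.exists_subset_of_mem_open hxo ho
    have hne : ∀ j : Over i, Nonempty ((opensDiagram D i U).obj j) := by
      intro j
      have := (h j.left j.hom).denseRange
      obtain ⟨y, hy⟩ := this.exists_mem_open U.2 ⟨x, hxU⟩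
      exact ⟨⟨y, hy⟩⟩
    have hcp : ∀ j : Over i, CompactSpace ((opensDiagram D i U).obj j) := by
      intro j
      exact isCompact_iff_compactSpace.mp (hU.preimage (D.map j.hom)).isCompact
    obtain ⟨z⟩ := Scheme.nonempty_of_isLimit (opensDiagram D i U) (opensCone D c i U)
      (isLimitOpensCone D c hc i U)
    exact ⟨c.π.app i z.1, hUo z.2, ⟨z.1, rfl⟩⟩

end Groth.Agent.Helper7.LimTop
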