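import Mathlib
import Groth.Agent.Lib.Helper7.LimFlat
import Groth.Agent.Lib.Helper7.LimTop
import Groth.Agent.Lib.Helper7.LimRed

set_option autoImplicit false
open CategoryTheory CategoryTheory.Limits AlgebraicGeometry Opposite TopologicalSpace
universe u v

set_option linter.unusedSectionVars false

/-! helper7: limits of schemes with flat surjective affine transition maps: reducedness,
integrality, open and universally open projections (EGA IV 8.3.8, 8.4, 8.7 complements). -/

namespace Groth.Agent.Helper7.LimFlat2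

set_option backward.isDefEq.respectTransparency false in
/-- the target of a flat surjective morphism with reduced source is reduced. -/
theorem isReduced_of_flat_of_surjective {X Y : Scheme.{u}} (f : X ⟶ Y) [Flat f] [Surjective f]
    [IsReduced X] : IsReduced Y := by
  have : ∀ y : Y, _root_.IsReduced (Y.presheaf.stalk y) := by
    intro y
    obtain ⟨x, rfl⟩ := f.surjective y
    have hinj : Function.Injective (f.stalkMap x).hom := by
      algebraize [(f.stalkMap x).hom]
      have : Module.FaithfullyFlat (Y.presheaf.stalk (f x)) (X.presheaf.stalk x) :=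
        @Module.FaithfullyFlat.of_flat_of_isLocalHom _ _ _ _ _ _ _
          (Flat.stalkMap f x) (f.toLRSHom.prop x)
      exact ‹RingHom.FaithfullyFlat _›.injective
    exact isReduced_of_injective _ hinj
  exact isReduced_of_isReduced_stalk Y

variable {I : Type u} [Category.{u} I] [IsCofiltered I] (D : I ⥤ Scheme.{u}) (c : Cone D)
  (hc : IsLimit c) [∀ {i j : I} (f : i ⟶ j), IsAffineHom (D.map f)]

include hc in
theorem isReduced_iff_of_flat_surjective
    (hf : ∀ (i j : I) (φ : i ⟶ j), Flat (D.map φ) ∧ Surjective (D.map φ)) :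
    IsReduced c.pt ↔ ∀ (i : I), IsReduced (D.obj i) := by
  constructor
  · intro h i
    have h1 : Flat (c.π.app i) := LimFlat.flat_π D c hc i (fun j φ => (hf j i φ).1)
    have h2 : Surjective (c.π.app i) :=
      (LimTop.surjective_π_iff D c hc i).mpr (fun j φ => (hf j i φ).2)
    exact isReduced_of_flat_of_surjective (X := c.pt) (c.π.app i)
  · intro h
    by_contra hn
    obtain ⟨i, hi⟩ := LimRed.eventually_not_isReduced hc hn
    exact hi i (𝟙 i) (h i)

include hc in
/-- every point of an open subset of the limit has a basic neighbourhood pulled back from a stage. -/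
theorem exists_basic_nhd {u : Set c.pt} (hu : IsOpen u) {x : c.pt} (hx : x ∈ u) :
    ∃ (k : I) (V : (D.obj k).Opens), c.π.app k x ∈ V ∧
      ((c.π.app k ⁻¹ᵁ V : c.pt.Opens) : Set c.pt) ⊆ u := by
  have hB := isBasis_preimage_isAffineOpen D c hc
  have hB' : IsTopologicalBasis (SetLike.coe '' { (c.π.app k ⁻¹ᵁ V : c.pt.Opens) |
      (k : I) (V : (D.obj k).Opens) (_ : IsAffineOpen V) }) := hB
  obtain ⟨_, ⟨_, ⟨k, V, -, rfl⟩, rfl⟩, hxV, hVu⟩ := hB'.exists_subset_of_mem_open hx hu
  exact ⟨k, V, hxV, hVu⟩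

include hc in
/-- if the projections to the late stages are surjective and the late stages are irreducible, so
is the limit. -/
theorem irreducibleSpace_of_surjective (i : I)
    (hs : ∀ (j : I) (_ : j ⟶ i), Surjective (c.π.app j))
    (hirr : ∀ (j : I) (_ : j ⟶ i), IrreducibleSpace (D.obj j)) : IrreducibleSpace c.pt := by
  have hne : Nonempty c.pt := by
    have := hirr i (𝟙 i)
    obtain ⟨y⟩ := (inferInstance : Nonempty (D.obj i))
    obtain ⟨x, -⟩ := (hs i (𝟙 i)).surj y
    exact ⟨x⟩
  have hpre : PreirreducibleSpace c.pt := by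
    refine ⟨?_⟩
    rintro u v hu hv ⟨x, -, hxu⟩ ⟨y, -, hyv⟩
    obtain ⟨k, U, hxU, hUu⟩ := exists_basic_nhd D c hc hu hxu
    obtain ⟨k', V, hyV, hVv⟩ := exists_basic_nhd D c hc hv hyv
    obtain ⟨m, a, b, -⟩ := IsCofilteredOrEmpty.cone_objs k k'
    obtain ⟨j, e, φ, -⟩ := IsCofilteredOrEmpty.cone_objs m i
    have := hirr j φ
    have hU' : ((D.map (e ≫ a) ⁻¹ᵁ U : (D.obj j).Opens) : Set (D.obj j)).Nonempty := by
      refine ⟨c.π.app j x, ?_⟩
      change (D.map (e ≫ a)) (c.π.app j x) ∈ U
      rw [← Scheme.Hom.comp_apply, c.w]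
      exact hxU
    have hV' : ((D.map (e ≫ b) ⁻¹ᵁ V : (D.obj j).Opens) : Set (D.obj j)).Nonempty := by
      refine ⟨c.π.app j y, ?_⟩
      change (D.map (e ≫ b)) (c.π.app j y) ∈ V
      rw [← Scheme.Hom.comp_apply, c.w]
      exact hyV
    obtain ⟨z, hzU, hzV⟩ := nonempty_preirreducible_inter (D.map (e ≫ a) ⁻¹ᵁ U).2
      (D.map (e ≫ b) ⁻¹ᵁ V).2 hU' hV'
    obtain ⟨w, rfl⟩ := (hs j φ).surj z
    refine ⟨w, Set.mem_univ _, hUu ?_, hVv ?_⟩
    · change c.π.app k w ∈ U
      rw [← c.w (e ≫ a), Scheme.Hom.comp_apply]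
      exact hzU
    · change c.π.app k' w ∈ V
      rw [← c.w (e ≫ b), Scheme.Hom.comp_apply]
      exact hzV
  exact { toPreirreducibleSpace := hpre, toNonempty := hne }

include hc in
theorem isIntegral_iff_eventually_of_flat_surjective (i₀ : I)
    (hf : ∀ (i j : I) (φ : i ⟶ j), Flat (D.map φ) ∧ Surjective (D.map φ)) :
    IsIntegral c.pt ↔ ∃ (i : I) (_ : i ⟶ i₀), ∀ (j : I) (_ : j ⟶ i), IsIntegral (D.obj j) := by
  have hsurj : ∀ j, Surjective (c.π.app j) := fun j =>
    (LimTop.surjective_π_iff D c hc j).mpr (fun k φ => (hf k j φ).2)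
  constructor
  · intro h
    refine ⟨i₀, 𝟙 i₀, fun j _ => ?_⟩
    have h1 : IsReduced (D.obj j) :=
      (isReduced_iff_of_flat_surjective D c hc hf).mp inferInstance j
    have h2 : IrreducibleSpace (D.obj j) := by
      obtain ⟨p, hp⟩ : ∃ p : c.pt ⟶ D.obj j, p = c.π.app j := ⟨_, rfl⟩
      have : Surjective p := hp ▸ hsurj j
      have hirr : IrreducibleSpace c.pt := inferInstance
      exact p.surjective.irreducibleSpace p.continuous
    exact isIntegral_of_irreducibleSpace_of_isReduced (D.obj j)
  · rintro ⟨i, -, h⟩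
    have h1 : IsReduced c.pt := by
      by_contra hn
      obtain ⟨i', hi'⟩ := LimRed.eventually_not_isReduced hc hn
      obtain ⟨m, a, b, -⟩ := IsCofilteredOrEmpty.cone_objs i i'
      have := h m a
      exact hi' m b inferInstance
    have h2 : IrreducibleSpace c.pt :=
      irreducibleSpace_of_surjective D c hc i (fun j _ => hsurj j)
        (fun j φ => by have := h j φ; infer_instance)
    exact isIntegral_of_irreducibleSpace_of_isReduced c.pt

omit [IsCofiltered I] [∀ {i j : I} (f : i ⟶ j), IsAffineHom (D.map f)] in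
/-- images under the projection and under a transition map agree when the intermediate projection
is surjective. -/
theorem image_π_preimage {i j : I} (φ : j ⟶ i) (hs : Surjective (c.π.app j))
    (V : Set (D.obj j)) :
    (c.π.app i) '' ((c.π.app j) ⁻¹' V) = (D.map φ) '' V := by
  ext y
  constructor
  · rintro ⟨w, hw, rfl⟩
    refine ⟨c.π.app j w, hw, ?_⟩
    rw [← Scheme.Hom.comp_apply, c.w]
  · rintro ⟨v, hv, rfl⟩
    obtain ⟨w, rfl⟩ := hs.surj v
    refine ⟨w, hv, ?_⟩
    rw [← Scheme.Hom.comp_apply, c.w]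

include hc in
theorem isOpenMap_π_iff_of_surjective (i : I)
    (hs : ∀ (j : I) (_ : j ⟶ i), Surjective (c.π.app j)) :
    IsOpenMap (c.π.app i) ↔ ∀ (j : I) (φ : j ⟶ i), IsOpenMap (D.map φ) := by
  constructor
  · intro h j φ V hV
    rw [← image_π_preimage D c φ (hs j φ)]
    exact h _ (hV.preimage (c.π.app j).continuous)
  · intro h
    have hB := isBasis_preimage_isAffineOpen D c hc
    have hB' : IsTopologicalBasis (SetLike.coe '' { (c.π.app k ⁻¹ᵁ V : c.pt.Opens) |
        (k : I) (V : (D.obj k).Opens) (_ : IsAffineOpen V) }) := hB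
    rw [hB'.isOpenMap_iff]
    rintro _ ⟨_, ⟨k, V, -, rfl⟩, rfl⟩
    obtain ⟨j, a, φ, -⟩ := IsCofilteredOrEmpty.cone_objs k i
    have h1 : ((c.π.app k ⁻¹ᵁ V : c.pt.Opens) : Set c.pt) =
        (c.π.app j) ⁻¹' ((D.map a ⁻¹ᵁ V : (D.obj j).Opens) : Set (D.obj j)) := by
      ext w
      change c.π.app k w ∈ V ↔ (D.map a) (c.π.app j w) ∈ V
      rw [← Scheme.Hom.comp_apply, c.w]
    rw [h1, image_π_preimage D c φ (hs j φ)]
    exact h j φ _ (D.map a ⁻¹ᵁ V).2

set_option backward.isDefEq.respectTransparency false in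
omit [IsCofiltered I] in
/-- a morphism is universally open as soon as its composition with a surjective morphism is. -/
theorem universallyOpen_of_comp_of_surjective {X Y Z : Scheme.{u}} (f : X ⟶ Y) (g : Y ⟶ Z)
    [Surjective f] [UniversallyOpen (f ≫ g)] : UniversallyOpen g := by
  refine ⟨?_⟩
  intro Y' Z' i₁ i₂ g' hg'
  have hsq : IsPullback (pullback.fst i₁ f ≫ g') (pullback.snd i₁ f) i₂ (f ≫ g) :=
    (IsPullback.of_hasPullback i₁ f).paste_horiz hg'
  have hopen : IsOpenMap (pullback.fst i₁ f ≫ g') :=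
    UniversallyOpen.universally_isOpenMap _ _ _ hsq
  have hsurj : Surjective (pullback.fst i₁ f) := inferInstance
  intro V hV
  have h1 : g' '' V = (pullback.fst i₁ f ≫ g') '' ((pullback.fst i₁ f) ⁻¹' V) := by
    ext y
    constructor
    · rintro ⟨v, hv, rfl⟩
      obtain ⟨w, rfl⟩ := hsurj.surj v
      exact ⟨w, hv, by rw [Scheme.Hom.comp_apply]⟩
    · rintro ⟨w, hw, rfl⟩
      exact ⟨pullback.fst i₁ f w, hw, by rw [Scheme.Hom.comp_apply]⟩
  rw [h1]
  exact hopen _ (hV.preimage (pullback.fst i₁ f).continuous)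

open Groth.Agent.Helper7.LimBC in
set_option backward.isDefEq.respectTransparency false in
include hc in
theorem universallyOpen_π_iff_of_surjective (i : I)
    (hs : ∀ (j : I) (_ : j ⟶ i), Surjective (c.π.app j)) :
    UniversallyOpen (c.π.app i) ↔ ∀ (j : I) (φ : j ⟶ i), UniversallyOpen (D.map φ) := by
  constructor
  · intro h j φ
    have := hs j φ
    have : UniversallyOpen (c.π.app j ≫ D.map φ) := by rw [c.w]; exact h
    exact universallyOpen_of_comp_of_surjective (c.π.app j) (D.map φ)
  · intro h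
    refine ⟨?_⟩
    intro Y T g a qY hY
    have hY' : IsPullback qY g a (c.π.app i) := hY
    have hlim := isLimitBcCone hc hY'
    have h1 : IsOpenMap ((bcCone hY').π.app (Over.mk (𝟙 i))) := by
      refine (isOpenMap_π_iff_of_surjective (bcDiagram D i a) (bcCone hY') hlim
        (Over.mk (𝟙 i)) ?_).mpr ?_
      · intro j _
        exact MorphismProperty.of_isPullback (P := @Surjective) (isPullback_bcCone_π hY' j).flip
          (hs j.left j.hom)
      · intro j φ
        have hu : UniversallyOpen (D.map φ.left) := h _ _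
        have : UniversallyOpen ((bcDiagram D i a).map φ) :=
          MorphismProperty.of_isPullback (isPullback_bcDiagram_map D i a φ).flip hu
        exact ((bcDiagram D i a).map φ).isOpenMap
    have h2 : qY = (bcCone hY').π.app (Over.mk (𝟙 i)) ≫ pullback.fst a (D.map (𝟙 i)) :=
      (bcCone_π_fst hY' _).symm
    have h3 : IsOpenMap (pullback.fst a (D.map (𝟙 i))) := by
      have : IsIso (D.map (𝟙 i)) := by rw [D.map_id]; infer_instance
      exact (pullback.fst a (D.map (𝟙 i))).isOpenMap
    change IsOpenMap qY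
    rw [h2, Scheme.Hom.comp_base, TopCat.coe_comp]
    exact h3.comp h1

end Groth.Agent.Helper7.LimFlat2
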