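import Mathlib
import Groth.Agent.Lib.Helper7.LimFlat2

set_option autoImplicit false
open CategoryTheory CategoryTheory.Limits AlgebraicGeometry Opposite TopologicalSpace Topology
universe u v

set_option linter.unusedSectionVars false

/-! helper7: constructible subsets of a cofiltered limit of schemes with affine transition maps
(EGA IV 8.3.11): descent of constructible and locally closed constructible subsets, and openness and
local closedness of preimages of constructible subsets are detected at a finite stage. -/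

namespace Groth.Agent.Helper7.LimCons

/-- induction principle: every constructible set is a finite union of differences of retrocompact
open sets. -/
theorem sdiff_union_induction {X : Type*} [TopologicalSpace X] {P : Set X → Prop}
    (sdiff : ∀ U V : Set X, IsOpen U → IsRetrocompact U → IsOpen V → IsRetrocompact V → P (U \ V))
    (union : ∀ s t : Set X, IsConstructible s → IsConstructible t → P s → P t → P (s ∪ t))
    {s : Set X} (hs : IsConstructible s) : P s := by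
  have hsub : IsSublattice {U : Set X | IsOpen U ∧ IsRetrocompact U} :=
    ⟨fun s hs t ht => ⟨hs.1.union ht.1, hs.2.union ht.2⟩,
      fun s hs t ht => ⟨hs.1.inter ht.1, hs.2.inter_isOpen ht.2 ht.1⟩⟩
  have hbot : (⊥ : Set X) ∈ {U : Set X | IsOpen U ∧ IsRetrocompact U} :=
    ⟨isOpen_empty, .empty⟩
  have htop : (⊤ : Set X) ∈ {U : Set X | IsOpen U ∧ IsRetrocompact U} :=
    ⟨isOpen_univ, .univ⟩
  induction s, hs using BooleanSubalgebra.closure_sdiff_sup_induction hsub hbot htop with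
  | sdiff U hU V hV => exact sdiff U V hU.1 hU.2 hV.1 hV.2
  | sup s hs t ht hs' ht' => exact union s t hs ht hs' ht'

/-- the intersection of a constructible set with a compact open set is compact. -/
theorem isCompact_inter {X : Type*} [TopologicalSpace X] {C : Set X} (hC : IsConstructible C)
    {W : Set X} (hWc : IsCompact W) (hWo : IsOpen W) : IsCompact (C ∩ W) := by
  refine sdiff_union_induction (P := fun C => IsCompact (C ∩ W)) ?_ ?_ hC
  · intro U V hUo hU hVo hV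
    have h1 : IsCompact (U ∩ W) := hU hWc hWo
    have h2 : (U \ V) ∩ W = (U ∩ W) ∩ Vᶜ := by
      ext x; simp only [Set.mem_inter_iff, Set.mem_sdiff, Set.mem_compl_iff]; tauto
    rw [h2]
    exact h1.inter_right hVo.isClosed_compl
  · intro s t hs ht hs' ht'
    rw [Set.union_inter_distrib_right]
    exact hs'.union ht'

/-- a locally closed constructible subset of a quasi-compact scheme is the difference of two
quasi-compact open subsets. -/
theorem exists_compact_opens_eq_sdiff {X : Scheme.{u}} [CompactSpace X] {Z : Set X}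
    (hZ : IsConstructible Z) (hZ' : IsLocallyClosed Z) :
    ∃ U V : X.Opens, IsCompact (U : Set X) ∧ IsCompact (V : Set X) ∧ Z = (U : Set X) \ V := by
  obtain ⟨O, F, hO, hF, hZeq⟩ := hZ'
  have hZc : IsCompact Z := by
    have := isCompact_inter hZ isCompact_univ isOpen_univ
    rwa [Set.inter_univ] at this
  have hex : ∀ z ∈ Z, ∃ A : X.Opens, IsAffineOpen A ∧ z ∈ A ∧ (A : Set X) ⊆ O := by
    intro z hz
    have hzO : z ∈ O := by rw [hZeq] at hz; exact hz.1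
    obtain ⟨_, ⟨A, hA, rfl⟩, hzA, hAO⟩ := X.isBasis_affineOpens.exists_subset_of_mem_open hzO hO
    exact ⟨A, hA, hzA, hAO⟩
  choose A hA hzA hAO using hex
  obtain ⟨t, ht⟩ := hZc.elim_nhds_subcover' (fun z hz => (A z hz : Set X))
    (fun z hz => (A z hz).2.mem_nhds (hzA z hz))
  obtain ⟨U, hUdef⟩ : ∃ U : X.Opens, U = ⨆ x ∈ t, A (x : Z) x.2 := ⟨_, rfl⟩
  have hUcoe : (U : Set X) = ⋃ x ∈ t, (A (x : Z) x.2 : Set X) := by
    rw [hUdef]; simp
  have hUc : IsCompact (U : Set X) := by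
    rw [hUcoe]
    exact t.isCompact_biUnion (fun x _ => (hA _ _).isCompact)
  have hUO : (U : Set X) ⊆ O := by
    rw [hUcoe]
    exact Set.iUnion₂_subset (fun x _ => hAO _ _)
  have hZU : Z ⊆ U := by rw [hUcoe]; exact ht
  have hVeq : (U : Set X) \ Z = (U : Set X) ∩ Fᶜ := by
    ext x
    simp only [Set.mem_sdiff, Set.mem_inter_iff, Set.mem_compl_iff, hZeq]
    constructor
    · rintro ⟨hxU, hx⟩
      exact ⟨hxU, fun hxF => hx ⟨hUO hxU, hxF⟩⟩
    · rintro ⟨hxU, hxF⟩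
      exact ⟨hxU, fun hx => hxF hx.2⟩
  have hVo : IsOpen ((U : Set X) \ Z) := by
    rw [hVeq]; exact U.2.inter hF.isOpen_compl
  have hVc : IsCompact ((U : Set X) \ Z) := by
    have := isCompact_inter hZ.compl hUc U.2
    rwa [Set.inter_comm, ← Set.sdiff_eq] at this
  refine ⟨U, ⟨_, hVo⟩, hUc, hVc, ?_⟩
  ext x
  simp only [Opens.coe_mk, Set.mem_sdiff, not_and, not_not]
  exact ⟨fun hx => ⟨hZU hx, fun _ => hx⟩, fun hx => hx.2 hx.1⟩

variable {I : Type u} [Category.{u} I] [IsCofiltered I] (D : I ⥤ Scheme.{u}) (c : Cone D)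
  (hc : IsLimit c) [∀ {i j : I} (f : i ⟶ j), IsAffineHom (D.map f)]

include hc in
/-- an inclusion between the preimages in the limit of (constructible ∩ compact open) and of an
open subset of a stage already holds at a later stage. -/
theorem exists_stage_inter_le {i : I} {C : Set (D.obj i)} (hC : IsConstructible C) :
    ∀ (W W' : (D.obj i).Opens), IsCompact (W : Set (D.obj i)) →
      (c.π.app i ⁻¹' (C ∩ W) ⊆ c.π.app i ⁻¹' W') →
      ∃ (j : I) (φ : j ⟶ i), D.map φ ⁻¹' (C ∩ W) ⊆ D.map φ ⁻¹' W' := by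
  refine sdiff_union_induction (P := fun C => ∀ (W W' : (D.obj i).Opens),
    IsCompact (W : Set (D.obj i)) → (c.π.app i ⁻¹' (C ∩ W) ⊆ c.π.app i ⁻¹' W') →
    ∃ (j : I) (φ : j ⟶ i), D.map φ ⁻¹' (C ∩ W) ⊆ D.map φ ⁻¹' W') ?_ ?_ hC
  · intro U V hUo hU hVo hV W W' hW H
    have hcpt : IsCompact (((⟨U, hUo⟩ : (D.obj i).Opens) ⊓ W : (D.obj i).Opens) :
        Set (D.obj i)) := hU hW W.2
    have H' : c.π.app i ⁻¹ᵁ ((⟨U, hUo⟩ : (D.obj i).Opens) ⊓ W) ≤
        c.π.app i ⁻¹ᵁ ((⟨V, hVo⟩ : (D.obj i).Opens) ⊔ W') := by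
      intro x hx
      by_cases hxV : c.π.app i x ∈ V
      · exact Or.inl hxV
      · exact Or.inr (H ⟨⟨hx.1, hxV⟩, hx.2⟩)
    obtain ⟨j, φ, hj⟩ := exists_map_preimage_le_map_preimage D c hc hcpt H'
    refine ⟨j, φ, ?_⟩
    rintro x ⟨⟨hxU, hxV⟩, hxW⟩
    rcases hj (show x ∈ D.map φ ⁻¹ᵁ ((⟨U, hUo⟩ : (D.obj i).Opens) ⊓ W) from ⟨hxU, hxW⟩) with h | h
    · exact absurd h hxV
    · exact h
  · intro s t hs ht hs' ht' W W' hW H
    obtain ⟨j₁, φ₁, h₁⟩ := hs' W W' hW (fun x hx => H ⟨Or.inl hx.1, hx.2⟩)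
    obtain ⟨j₂, φ₂, h₂⟩ := ht' W W' hW (fun x hx => H ⟨Or.inr hx.1, hx.2⟩)
    obtain ⟨k, a, b, e⟩ := IsCofiltered.cospan φ₁ φ₂
    refine ⟨k, a ≫ φ₁, ?_⟩
    rintro x ⟨hx | hx, hxW⟩
    · have : (D.map a) x ∈ D.map φ₁ ⁻¹' (s ∩ W) := by
        change (D.map φ₁) ((D.map a) x) ∈ s ∩ W
        rw [← Scheme.Hom.comp_apply, ← D.map_comp]
        exact ⟨hx, hxW⟩
      have h3 := h₁ this
      change (D.map (a ≫ φ₁)) x ∈ W'
      rw [D.map_comp, Scheme.Hom.comp_apply]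
      exact h3
    · have : (D.map b) x ∈ D.map φ₂ ⁻¹' (t ∩ W) := by
        change (D.map φ₂) ((D.map b) x) ∈ t ∩ W
        rw [← Scheme.Hom.comp_apply, ← D.map_comp, ← e]
        exact ⟨hx, hxW⟩
      have h3 := h₂ this
      change (D.map (a ≫ φ₁)) x ∈ W'
      rw [e, D.map_comp, Scheme.Hom.comp_apply]
      exact h3

omit [IsCofiltered I] [∀ {i j : I} (f : i ⟶ j), IsAffineHom (D.map f)] in
theorem preimage_comp_eq {i j k : I} (a : k ⟶ j) (φ : j ⟶ i) (S : Set (D.obj i)) :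
    D.map (a ≫ φ) ⁻¹' S = D.map a ⁻¹' (D.map φ ⁻¹' S) := by
  ext x
  change (D.map (a ≫ φ)) x ∈ S ↔ (D.map φ) ((D.map a) x) ∈ S
  rw [D.map_comp, Scheme.Hom.comp_apply]

omit [IsCofiltered I] [∀ {i j : I} (f : i ⟶ j), IsAffineHom (D.map f)] in
theorem preimage_π_eq {i j : I} (φ : j ⟶ i) (S : Set (D.obj i)) :
    c.π.app j ⁻¹' (D.map φ ⁻¹' S) = c.π.app i ⁻¹' S := by
  ext x
  change (D.map φ) ((c.π.app j) x) ∈ S ↔ (c.π.app i) x ∈ S
  rw [← Scheme.Hom.comp_apply, c.w]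

include hc in
/-- a constructible subset of a quasi-compact stage whose preimage in the limit is a difference of
preimages of compact open subsets is such a difference at a later stage. -/
theorem exists_stage_eq_sdiff_aux {i : I} [CompactSpace (D.obj i)] {C : Set (D.obj i)}
    (hC : IsConstructible C) (U V : (D.obj i).Opens) (hU : IsCompact (U : Set (D.obj i)))
    (hV : IsCompact (V : Set (D.obj i)))
    (H : c.π.app i ⁻¹' C = c.π.app i ⁻¹' U \ c.π.app i ⁻¹' V) :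
    ∃ (j : I) (φ : j ⟶ i), D.map φ ⁻¹' C = D.map φ ⁻¹' U \ D.map φ ⁻¹' V := by
  obtain ⟨j₁, φ₁, h₁⟩ := exists_stage_inter_le D c hc hC ⊤ U isCompact_univ (by
    rintro x ⟨hx, -⟩
    have : x ∈ c.π.app i ⁻¹' C := hx
    rw [H] at this
    exact this.1)
  obtain ⟨j₂, φ₂, h₂⟩ := exists_stage_inter_le D c hc hC V ⊥ hV (by
    rintro x ⟨hx, hxV⟩
    have : x ∈ c.π.app i ⁻¹' C := hx
    rw [H] at this
    exact absurd hxV this.2)
  obtain ⟨j₃, φ₃, h₃⟩ := exists_stage_inter_le D c hc hC.compl U V hU (by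
    rintro x ⟨hx, hxU⟩
    by_contra hxV
    have : x ∈ c.π.app i ⁻¹' C := by rw [H]; exact ⟨hxU, hxV⟩
    exact hx this)
  obtain ⟨k, a, b, e⟩ := IsCofiltered.cospan φ₁ φ₂
  obtain ⟨l, a', b', e'⟩ := IsCofiltered.cospan (a ≫ φ₁) φ₃
  refine ⟨l, a' ≫ a ≫ φ₁, ?_⟩
  have e1 : a' ≫ a ≫ φ₁ = (a' ≫ a) ≫ φ₁ := by rw [Category.assoc]
  have e2 : a' ≫ a ≫ φ₁ = (a' ≫ b) ≫ φ₂ := by rw [Category.assoc, e]
  have e3 : a' ≫ a ≫ φ₁ = b' ≫ φ₃ := e'
  apply Set.Subset.antisymm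
  · intro x hx
    refine ⟨?_, fun hxV => ?_⟩
    · rw [e1, preimage_comp_eq] at hx ⊢
      exact h₁ ⟨hx, trivial⟩
    · rw [e2, preimage_comp_eq] at hx hxV
      exact h₂ ⟨hx, hxV⟩
  · rintro x ⟨hxU, hxV⟩
    by_contra hx
    rw [e3, preimage_comp_eq] at hx hxU hxV
    exact hxV (h₃ ⟨hx, hxU⟩)

set_option backward.isDefEq.respectTransparency false in
include hc in
/-- general form: the compact open subsets may live at different stages. -/
theorem exists_stage_eq_sdiff (i₁ : I) [CompactSpace (D.obj i₁)] {Z₁ : Set (D.obj i₁)}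
    (hZ : IsConstructible Z₁) {k₁ k₂ : I} (U₁ : (D.obj k₁).Opens) (V₂ : (D.obj k₂).Opens)
    (hU : IsCompact (U₁ : Set (D.obj k₁))) (hV : IsCompact (V₂ : Set (D.obj k₂)))
    (H : c.π.app i₁ ⁻¹' Z₁ = c.π.app k₁ ⁻¹' U₁ \ c.π.app k₂ ⁻¹' V₂) :
    ∃ (j : I) (a₁ : j ⟶ k₁) (a₂ : j ⟶ k₂) (φ : j ⟶ i₁),
      D.map φ ⁻¹' Z₁ = D.map a₁ ⁻¹' U₁ \ D.map a₂ ⁻¹' V₂ := by
  obtain ⟨m, b₁, b₂, -⟩ := IsCofilteredOrEmpty.cone_objs k₁ k₂
  obtain ⟨j, e, φ, -⟩ := IsCofilteredOrEmpty.cone_objs m i₁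
  have hcj : CompactSpace (D.obj j) := QuasiCompact.compactSpace_of_compactSpace (D.map φ)
  have hU' : IsCompact ((D.map (e ≫ b₁) ⁻¹ᵁ U₁ : (D.obj j).Opens) : Set (D.obj j)) :=
    QuasiCompact.isCompact_preimage (f := D.map (e ≫ b₁)) _ U₁.2 hU
  have hV' : IsCompact ((D.map (e ≫ b₂) ⁻¹ᵁ V₂ : (D.obj j).Opens) : Set (D.obj j)) :=
    QuasiCompact.isCompact_preimage (f := D.map (e ≫ b₂)) _ V₂.2 hV
  obtain ⟨l, ψ, hl⟩ := exists_stage_eq_sdiff_aux D c hc
    ((D.map φ).isConstructible_preimage hZ) (D.map (e ≫ b₁) ⁻¹ᵁ U₁) (D.map (e ≫ b₂) ⁻¹ᵁ V₂)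
    hU' hV' (by
      rw [preimage_π_eq, H]
      congr 1
      · exact (preimage_π_eq D c (e ≫ b₁) (U₁ : Set (D.obj k₁))).symm
      · exact (preimage_π_eq D c (e ≫ b₂) (V₂ : Set (D.obj k₂))).symm)
  refine ⟨l, ψ ≫ e ≫ b₁, ψ ≫ e ≫ b₂, ψ ≫ φ, ?_⟩
  rw [preimage_comp_eq, hl, preimage_comp_eq D ψ (e ≫ b₁), preimage_comp_eq D ψ (e ≫ b₂)]
  rfl

set_option backward.isDefEq.respectTransparency false in
include hc in
theorem isOpen_preimage_iff (i₁ : I) [CompactSpace (D.obj i₁)] (Z₁ : Set (D.obj i₁))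
    (hZ : IsConstructible Z₁) :
    IsOpen (c.π.app i₁ ⁻¹' Z₁ : Set c.pt) ↔
      ∃ (j : I) (φ : j ⟶ i₁), IsOpen (D.map φ ⁻¹' Z₁) := by
  constructor
  · intro ho
    have hπ : IsAffineHom (c.π.app i₁) := isAffineHom_π_app D c hc i₁
    have hcpt : CompactSpace c.pt := QuasiCompact.compactSpace_of_compactSpace (c.π.app i₁)
    have hcons : IsConstructible (c.π.app i₁ ⁻¹' Z₁ : Set c.pt) :=
      (c.π.app i₁).isConstructible_preimage hZ
    have hcomp : IsCompact (c.π.app i₁ ⁻¹' Z₁ : Set c.pt) := by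
      have := isCompact_inter hcons isCompact_univ isOpen_univ
      rwa [Set.inter_univ] at this
    obtain ⟨k, W, hW, hWeq⟩ := exists_preimage_eq D c hc ⟨_, ho⟩ hcomp
    obtain ⟨j, a₁, a₂, φ, h⟩ := exists_stage_eq_sdiff D c hc i₁ hZ W (⊥ : (D.obj k).Opens) hW
      isCompact_empty (by
        have h1 : (c.π.app k ⁻¹' (W : Set (D.obj k)) : Set c.pt) = c.π.app i₁ ⁻¹' Z₁ :=
          congrArg (fun O : c.pt.Opens => (O : Set c.pt)) hWeq
        rw [h1]
        simp)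
    refine ⟨j, φ, ?_⟩
    rw [h]
    simp only [Opens.coe_bot, Set.preimage_empty, Set.sdiff_empty]
    exact (D.map a₁ ⁻¹ᵁ W).2
  · rintro ⟨j, φ, h⟩
    rw [← preimage_π_eq D c φ]
    exact h.preimage (c.π.app j).continuous

set_option backward.isDefEq.respectTransparency false in
include hc in
theorem isLocallyClosed_preimage_iff (i₁ : I) [CompactSpace (D.obj i₁)] (Z₁ : Set (D.obj i₁))
    (hZ : IsConstructible Z₁) :
    IsLocallyClosed (c.π.app i₁ ⁻¹' Z₁ : Set c.pt) ↔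
      ∃ (j : I) (φ : j ⟶ i₁), IsLocallyClosed (D.map φ ⁻¹' Z₁) := by
  constructor
  · intro hlc
    have hπ : IsAffineHom (c.π.app i₁) := isAffineHom_π_app D c hc i₁
    have hcpt : CompactSpace c.pt := QuasiCompact.compactSpace_of_compactSpace (c.π.app i₁)
    have hcons : IsConstructible (c.π.app i₁ ⁻¹' Z₁ : Set c.pt) :=
      (c.π.app i₁).isConstructible_preimage hZ
    obtain ⟨U, V, hU, hV, hUV⟩ := exists_compact_opens_eq_sdiff hcons hlc
    obtain ⟨k₁, U₁, hU₁, hU₁eq⟩ := exists_preimage_eq D c hc U hU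
    obtain ⟨k₂, V₂, hV₂, hV₂eq⟩ := exists_preimage_eq D c hc V hV
    obtain ⟨j, a₁, a₂, φ, h⟩ := exists_stage_eq_sdiff D c hc i₁ hZ U₁ V₂ hU₁ hV₂ (by
      rw [hUV, ← hU₁eq, ← hV₂eq]
      rfl)
    refine ⟨j, φ, ?_⟩
    rw [h, Set.sdiff_eq]
    exact (D.map a₁ ⁻¹ᵁ U₁).2.isLocallyClosed.inter
      (D.map a₂ ⁻¹ᵁ V₂).2.isClosed_compl.isLocallyClosed
  · rintro ⟨j, φ, h⟩
    rw [← preimage_π_eq D c φ]
    exact h.preimage (c.π.app j).continuous

set_option backward.isDefEq.respectTransparency false in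
include hc in
/-- the difference of two quasi-compact open subsets of the limit is the preimage of a locally
closed constructible subset of a stage over a quasi-compact quasi-separated stage. -/
theorem exists_stage_sdiff (i₀ : I) [CompactSpace (D.obj i₀)] [QuasiSeparatedSpace (D.obj i₀)]
    (U V : c.pt.Opens) (hU : IsCompact (U : Set c.pt)) (hV : IsCompact (V : Set c.pt)) :
    ∃ (i : I) (_ : i ⟶ i₀) (Zi : Set (D.obj i)),
      IsConstructible Zi ∧ IsLocallyClosed Zi ∧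
        (c.π.app i ⁻¹' Zi : Set c.pt) = (U : Set c.pt) \ V := by
  obtain ⟨k₁, U₁, hU₁, hU₁eq⟩ := exists_preimage_eq D c hc U hU
  obtain ⟨k₂, V₂, hV₂, hV₂eq⟩ := exists_preimage_eq D c hc V hV
  obtain ⟨m, b₁, b₂, -⟩ := IsCofilteredOrEmpty.cone_objs k₁ k₂
  obtain ⟨j, e, φ, -⟩ := IsCofilteredOrEmpty.cone_objs m i₀
  have hqs : QuasiSeparatedSpace (D.obj j) := quasiSeparatedSpace_of_quasiSeparated (D.map φ)
  have hU' : IsCompact ((D.map (e ≫ b₁) ⁻¹ᵁ U₁ : (D.obj j).Opens) : Set (D.obj j)) :=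
    QuasiCompact.isCompact_preimage (f := D.map (e ≫ b₁)) _ U₁.2 hU₁
  have hV' : IsCompact ((D.map (e ≫ b₂) ⁻¹ᵁ V₂ : (D.obj j).Opens) : Set (D.obj j)) :=
    QuasiCompact.isCompact_preimage (f := D.map (e ≫ b₂)) _ V₂.2 hV₂
  refine ⟨j, φ, (D.map (e ≫ b₁) ⁻¹ᵁ U₁ : Set (D.obj j)) \ (D.map (e ≫ b₂) ⁻¹ᵁ V₂ : Set (D.obj j)),
    ?_, ?_, ?_⟩
  · exact (hU'.isConstructible (D.map (e ≫ b₁) ⁻¹ᵁ U₁).2).sdiff
      (hV'.isConstructible (D.map (e ≫ b₂) ⁻¹ᵁ V₂).2)
  · rw [Set.sdiff_eq]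
    exact (D.map (e ≫ b₁) ⁻¹ᵁ U₁).2.isLocallyClosed.inter
      (D.map (e ≫ b₂) ⁻¹ᵁ V₂).2.isClosed_compl.isLocallyClosed
  · rw [← hU₁eq, ← hV₂eq, Set.preimage_sdiff]
    congr 1
    · exact preimage_π_eq D c (e ≫ b₁) (U₁ : Set (D.obj k₁))
    · exact preimage_π_eq D c (e ≫ b₂) (V₂ : Set (D.obj k₂))

set_option backward.isDefEq.respectTransparency false in
include hc in
theorem exists_isConstructible_preimage_eq (i₀ : I) [CompactSpace (D.obj i₀)]
    [QuasiSeparatedSpace (D.obj i₀)] (Z : Set c.pt) (hZ : IsConstructible Z) :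
    ∃ (i : I) (_ : i ⟶ i₀) (Zi : Set (D.obj i)),
      IsConstructible Zi ∧ (c.π.app i ⁻¹' Zi : Set c.pt) = Z := by
  have hπ : IsAffineHom (c.π.app i₀) := isAffineHom_π_app D c hc i₀
  have hcpt : CompactSpace c.pt := QuasiCompact.compactSpace_of_compactSpace (c.π.app i₀)
  refine sdiff_union_induction (P := fun Z => ∃ (i : I) (_ : i ⟶ i₀) (Zi : Set (D.obj i)),
      IsConstructible Zi ∧ (c.π.app i ⁻¹' Zi : Set c.pt) = Z) ?_ ?_ hZ
  · intro U V hUo hU hVo hV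
    obtain ⟨i, φ, Zi, h1, -, h3⟩ := exists_stage_sdiff D c hc i₀ ⟨U, hUo⟩ ⟨V, hVo⟩
      hU.isCompact hV.isCompact
    exact ⟨i, φ, Zi, h1, h3⟩
  · rintro s t - - ⟨i, φ, Zi, hZi, rfl⟩ ⟨i', φ', Zi', hZi', rfl⟩
    obtain ⟨j, a, b, -⟩ := IsCofilteredOrEmpty.cone_objs i i'
    refine ⟨j, a ≫ φ, D.map a ⁻¹' Zi ∪ D.map b ⁻¹' Zi', ?_, ?_⟩
    · exact ((D.map a).isConstructible_preimage hZi).union
        ((D.map b).isConstructible_preimage hZi')
    · rw [Set.preimage_union, preimage_π_eq, preimage_π_eq]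

set_option backward.isDefEq.respectTransparency false in
include hc in
theorem exists_isLocallyClosed_isConstructible_preimage_eq (i₀ : I) [CompactSpace (D.obj i₀)]
    [QuasiSeparatedSpace (D.obj i₀)] (Z : Set c.pt) (hZ : IsConstructible Z)
    (hZ' : IsLocallyClosed Z) :
    ∃ (i : I) (_ : i ⟶ i₀) (Zi : Set (D.obj i)),
      IsConstructible Zi ∧ IsLocallyClosed Zi ∧ (c.π.app i ⁻¹' Zi : Set c.pt) = Z := by
  have hπ : IsAffineHom (c.π.app i₀) := isAffineHom_π_app D c hc i₀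
  have hcpt : CompactSpace c.pt := QuasiCompact.compactSpace_of_compactSpace (c.π.app i₀)
  obtain ⟨U, V, hU, hV, rfl⟩ := exists_compact_opens_eq_sdiff hZ hZ'
  exact exists_stage_sdiff D c hc i₀ U V hU hV

end Groth.Agent.Helper7.LimCons
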