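import Mathlib
import Groth.Agent.Lib.Helper7.LimDesc5
import Groth.Agent.Lib.Helper7.LimGen3

set_option autoImplicit false
open CategoryTheory CategoryTheory.Limits AlgebraicGeometry Opposite TopologicalSpace
universe u

set_option linter.unusedSectionVars false

/-! helper7: EGA IV 8.9.1 when only one stage is quasi-compact and quasi-separated; models with
prescribed properties (immersion, etale, smooth) over a stage above a given one. -/

namespace Groth.Agent.Helper7.LimDesc

open Groth.Agent.Helper7.LimBC Groth.Agent.Helper7.LimIso Groth.Agent.Helper7.LimModel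
  Groth.Agent.Helper7.LimStage

variable {I : Type u} [Category.{u} I] [IsCofiltered I] {D : I ⥤ Scheme.{u}} {c : Cone D}
  (hc : IsLimit c) [∀ {i j : I} (f : i ⟶ j), IsAffineHom (D.map f)]

include hc in
/-- EGA IV 8.9.1 when only one stage is assumed quasi-compact and quasi-separated. -/
theorem desc_over (i₀ : I) [CompactSpace (D.obj i₀)] [QuasiSeparatedSpace (D.obj i₀)]
    {Z : Scheme.{u}} (h : Z ⟶ c.pt) [LocallyOfFinitePresentation h] [QuasiCompact h]
    [QuasiSeparated h] :
    ∃ (j : I) (_ : j ⟶ i₀), Nonempty (Model D c h j) := by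
  let D' : Over i₀ ⥤ Scheme.{u} := Over.forget i₀ ⋙ D
  let c' : Cone D' := c.whisker (Over.forget i₀)
  have hc' : IsLimit c' := (Functor.Initial.isLimitWhiskerEquiv (Over.forget i₀) c).symm hc
  have h1 : ∀ {k k' : Over i₀} (f : k ⟶ k'), IsAffineHom (D'.map f) := fun f =>
    inferInstanceAs (IsAffineHom (D.map f.left))
  have h2 : ∀ k : Over i₀, CompactSpace (D'.obj k) := fun k =>
    QuasiCompact.compactSpace_of_compactSpace (D.map k.hom)
  have h3 : ∀ k : Over i₀, QuasiSeparatedSpace (D'.obj k) := fun k =>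
    quasiSeparatedSpace_of_quasiSeparated (D.map k.hom)
  obtain ⟨k, ⟨M⟩⟩ := desc_of_finitePresentation (D := D') (c := c') hc' h
  exact ⟨k.left, k.hom, ⟨⟨M.Zj, M.zj, M.q, M.lfp, M.qc, M.qs, M.isPullback⟩⟩⟩

set_option backward.isDefEq.respectTransparency false in
include hc in
/-- a morphism of finite presentation to the limit having a property which descends to finite
stages has a model with this property over a finite stage. -/
theorem exists_model_of_property_over (i₀ : I) [CompactSpace (D.obj i₀)]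
    [QuasiSeparatedSpace (D.obj i₀)]
    (P : MorphismProperty Scheme.{u}) [P.IsStableUnderBaseChange]
    (hstage : ∀ {i₁ : I} {X₀ : Scheme.{u}} (f₀ : X₀ ⟶ D.obj i₁)
      [LocallyOfFinitePresentation f₀] [QuasiCompact f₀] [QuasiSeparated f₀]
      [CompactSpace (D.obj i₁)] [QuasiSeparatedSpace (D.obj i₁)],
      P (bcHom f₀ (𝟙 _) (c.π.app i₁)) → ∃ (j : I) (φ : j ⟶ i₁), P (bcHom f₀ (𝟙 _) (D.map φ)))
    {Z : Scheme.{u}} (h : Z ⟶ c.pt) [LocallyOfFinitePresentation h] [QuasiCompact h]
    [QuasiSeparated h] (hP : P h) :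
    ∃ (j : I) (_ : j ⟶ i₀) (M : Model D c h j), P M.zj := by
  obtain ⟨j₀, φ₀, ⟨M⟩⟩ := desc_over hc i₀ h
  have : CompactSpace (D.obj j₀) := QuasiCompact.compactSpace_of_compactSpace (D.map φ₀)
  have : QuasiSeparatedSpace (D.obj j₀) := quasiSeparatedSpace_of_quasiSeparated (D.map φ₀)
  have h1 : P (bcHom M.zj (𝟙 _) (c.π.app j₀)) :=
    bcHom_of_isPullback M.zj (𝟙 _) P (c.π.app j₀) (IsPullback.id_vert _) M.isPullback hP
  obtain ⟨j, φ, hj⟩ := hstage M.zj h1
  refine ⟨j, φ ≫ φ₀, M.stage φ, ?_⟩
  exact of_bcHom_of_isPullback M.zj (𝟙 _) P (D.map φ) (IsPullback.id_vert _)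
    (IsPullback.of_hasPullback M.zj (D.map φ)) hj

set_option backward.isDefEq.respectTransparency false in
/-- a property of a model is kept when passing to a later stage. -/
theorem Model.stage_property {Z : Scheme.{u}} {h : Z ⟶ c.pt} {j₀ : I} (M : Model D c h j₀)
    (P : MorphismProperty Scheme.{u}) [P.IsStableUnderBaseChange] (hP : P M.zj) {j : I}
    (φ : j ⟶ j₀) : P (M.stage φ).zj :=
  P.pullback_snd _ _ hP

set_option backward.isDefEq.respectTransparency false in
/-- a property of the morphism which descends to finite stages holds for a later stage of any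
given model. -/
theorem Model.exists_stage_property {Z : Scheme.{u}} {h : Z ⟶ c.pt} {j₀ : I} (M : Model D c h j₀)
    (P : MorphismProperty Scheme.{u}) [P.IsStableUnderBaseChange]
    (hstage : P (bcHom M.zj (𝟙 _) (c.π.app j₀)) →
      ∃ (j : I) (φ : j ⟶ j₀), P (bcHom M.zj (𝟙 _) (D.map φ))) (hP : P h) :
    ∃ (j : I) (φ : j ⟶ j₀), P (M.stage φ).zj := by
  have h1 : P (bcHom M.zj (𝟙 _) (c.π.app j₀)) :=
    bcHom_of_isPullback M.zj (𝟙 _) P (c.π.app j₀) (IsPullback.id_vert _) M.isPullback hP
  obtain ⟨j, φ, hj⟩ := hstage h1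
  refine ⟨j, φ, ?_⟩
  exact of_bcHom_of_isPullback M.zj (𝟙 _) P (D.map φ) (IsPullback.id_vert _)
    (IsPullback.of_hasPullback M.zj (D.map φ)) hj

include hc in
theorem exists_model_isImmersion_over (i₀ : I) [CompactSpace (D.obj i₀)]
    [QuasiSeparatedSpace (D.obj i₀)] {Z : Scheme.{u}} (h : Z ⟶ c.pt) [IsImmersion h]
    [LocallyOfFinitePresentation h] [QuasiCompact h] :
    ∃ (j : I) (_ : j ⟶ i₀) (M : Model D c h j), IsImmersion M.zj :=
  exists_model_of_property_over hc i₀ @IsImmersion
    (fun f₀ _ _ _ _ _ hs => Groth.Agent.Helper7.LimGen.exists_stage_isImmersion D c hc f₀ (𝟙 _) hs)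
    h inferInstance

include hc in
theorem exists_model_etale_over (i₀ : I) [CompactSpace (D.obj i₀)]
    [QuasiSeparatedSpace (D.obj i₀)] {Z : Scheme.{u}} (h : Z ⟶ c.pt) [Etale h]
    [QuasiCompact h] [QuasiSeparated h] :
    ∃ (j : I) (_ : j ⟶ i₀) (M : Model D c h j), Etale M.zj :=
  exists_model_of_property_over hc i₀ @Etale
    (fun {i₁ X₀} f₀ _ _ _ _ _ hs => by
      have : CompactSpace X₀ := QuasiCompact.compactSpace_of_compactSpace f₀
      exact exists_stage_etale D c hc f₀ (𝟙 _) hs)
    h inferInstance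

include hc in
theorem exists_model_smooth_over (i₀ : I) [CompactSpace (D.obj i₀)]
    [QuasiSeparatedSpace (D.obj i₀)] {Z : Scheme.{u}} (h : Z ⟶ c.pt) [Smooth h]
    [QuasiCompact h] [QuasiSeparated h] :
    ∃ (j : I) (_ : j ⟶ i₀) (M : Model D c h j), Smooth M.zj :=
  exists_model_of_property_over hc i₀ @Smooth
    (fun {i₁ X₀} f₀ _ _ _ _ _ hs => by
      have : CompactSpace X₀ := QuasiCompact.compactSpace_of_compactSpace f₀
      exact exists_stage_smooth D c hc f₀ (𝟙 _) hs)
    h inferInstance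

end Groth.Agent.Helper7.LimDesc
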