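import Mathlib
import Groth.Agent.Lib.Helper7.LimDesc6

set_option autoImplicit false
open CategoryTheory CategoryTheory.Limits AlgebraicGeometry Opposite TopologicalSpace
universe u

set_option linter.unusedSectionVars false

/-! helper7: coverings of a cofiltered limit with affine transition maps (Zariski coverings by
quasi-compact opens, coverings by morphisms of finite presentation with an open property) come
from finite coverings of a finite stage. -/

namespace Groth.Agent.Helper7.LimCover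

open Groth.Agent.Helper7.LimDesc

section All

variable {I : Type u} [Category.{u} I] [IsCofiltered I] {D : I ⥤ Scheme.{u}} {c : Cone D}
  (hc : IsLimit c) [∀ {i j : I} (f : i ⟶ j), IsAffineHom (D.map f)]
  [∀ i, CompactSpace (D.obj i)] [∀ i, QuasiSeparatedSpace (D.obj i)]

set_option backward.isDefEq.respectTransparency false in
include hc in
/-- a covering of the limit by quasi-compact opens comes from a finite covering of a stage. -/
theorem exists_zariski_cover {ι : Type u} (U : ι → Scheme.{u}) (u : ∀ a, U a ⟶ c.pt)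
    [∀ a, IsOpenImmersion (u a)] [∀ a, QuasiCompact (u a)]
    (hcov : ∀ x : c.pt, ∃ (a : ι) (y : U a), (u a).base y = x) :
    ∃ (i : I) (n : ℕ) (V : Fin n → Scheme.{u}) (v : ∀ j, V j ⟶ D.obj i) (a : Fin n → ι)
      (e : ∀ j, U (a j) ⟶ V j),
      (∀ j, IsOpenImmersion (v j) ∧ QuasiCompact (v j)) ∧
      (∀ x : D.obj i, ∃ (j : Fin n) (y : V j), (v j).base y = x) ∧
      ∀ j, IsPullback (e j) (u (a j)) (v j) (c.π.app i) := by
  classical
  have : CompactSpace c.pt := Scheme.compactSpace_of_isLimit D c hc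
  have hcomp : ∀ a, CompactSpace (U a) := fun a => QuasiCompact.compactSpace_of_compactSpace (u a)
  obtain ⟨t, ht⟩ := isCompact_univ.elim_finite_subcover
    (fun a => ((u a).opensRange : Set c.pt)) (fun a => (u a).opensRange.2)
    (by
      intro x _
      obtain ⟨a, y, hy⟩ := hcov x
      exact Set.mem_iUnion.mpr ⟨a, y, hy⟩)
  have hex : ∀ a, ∃ (i : I) (V : (D.obj i).Opens), IsCompact (V : Set (D.obj i)) ∧
      c.π.app i ⁻¹ᵁ V = (u a).opensRange := fun a =>
    exists_preimage_eq D c hc _ (by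
      rw [Scheme.Hom.coe_opensRange]; exact isCompact_range (u a).continuous)
  choose ia Va hVac hVa using hex
  obtain ⟨k, hk⟩ := IsCofiltered.inf_objs_exists (t.image ia)
  have fk : ∀ a ∈ t, k ⟶ ia a := fun a ha => (hk (Finset.mem_image_of_mem ia ha)).some
  obtain ⟨W, hWdef⟩ : ∃ W : (D.obj k).Opens, W = ⨆ a : t, D.map (fk a.1 a.2) ⁻¹ᵁ Va a.1 :=
    ⟨_, rfl⟩
  have hW : c.π.app k ⁻¹ᵁ W = ⊤ := by
    rw [eq_top_iff]
    intro x _
    obtain ⟨a, ha⟩ := Set.mem_iUnion.mp (ht (Set.mem_univ x))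
    obtain ⟨hat, hxa⟩ := Set.mem_iUnion.mp ha
    have h1 : x ∈ c.π.app (ia a) ⁻¹ᵁ Va a := by rw [hVa]; exact hxa
    rw [← c.w (fk a hat), Scheme.Hom.comp_preimage] at h1
    rw [hWdef, Scheme.Hom.preimage_iSup]
    exact Opens.mem_iSup.mpr ⟨⟨a, hat⟩, h1⟩
  obtain ⟨k', ψ, hk'⟩ := exists_map_eq_top D c hc W hW
  obtain ⟨aj, haj⟩ : ∃ aj : Fin t.card → t, aj = fun j => t.equivFin.symm j := ⟨_, rfl⟩
  have hajs : Function.Surjective aj := by rw [haj]; exact t.equivFin.symm.surjective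
  obtain ⟨O, hO⟩ : ∃ O : Fin t.card → (D.obj k').Opens,
      O = fun j => D.map (ψ ≫ fk (aj j).1 (aj j).2) ⁻¹ᵁ Va (aj j).1 := ⟨_, rfl⟩
  have hOc : ∀ j, IsCompact (O j : Set (D.obj k')) := by
    intro j
    rw [hO]
    exact QuasiCompact.isCompact_preimage (f := D.map (ψ ≫ fk (aj j).1 (aj j).2)) _
      (Va (aj j).1).2 (hVac _)
  have hOR : ∀ j, c.π.app k' ⁻¹ᵁ O j = (u (aj j).1).opensRange := by
    intro j
    rw [hO]
    simp only
    rw [← Scheme.Hom.comp_preimage, c.w, hVa]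
  have hex2 : ∀ j, ∃ r : U (aj j).1 ⟶ (O j).toScheme,
      IsPullback r (u (aj j).1) (O j).ι (c.π.app k') := fun j =>
    exists_isPullback_of_range (c.π.app k') (O j) (u (aj j).1) (hOR j)
  choose e he using hex2
  refine ⟨k', t.card, fun j => (O j).toScheme, fun j => (O j).ι, fun j => (aj j).1, e,
    fun j => ⟨inferInstance, ?_⟩, ?_, he⟩
  · have : CompactSpace ↥(O j).toScheme := isCompact_iff_compactSpace.mp (hOc j)
    infer_instance
  · intro x
    have hx : x ∈ D.map ψ ⁻¹ᵁ W := by rw [hk']; trivial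
    rw [hWdef, Scheme.Hom.preimage_iSup] at hx
    obtain ⟨a, ha⟩ := Opens.mem_iSup.mp hx
    obtain ⟨j, rfl⟩ := hajs a
    have hxO : x ∈ O j := by
      rw [hO]
      simp only
      rw [D.map_comp, Scheme.Hom.comp_preimage]
      exact ha
    exact ⟨j, ⟨x, hxO⟩, rfl⟩

set_option backward.isDefEq.respectTransparency false in
include hc in
/-- a covering of the limit by morphisms of finite presentation with an open property which
has models over finite stages comes from a finite covering of a stage. -/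
theorem exists_cover_of_property (P : MorphismProperty Scheme.{u}) [P.IsStableUnderBaseChange]
    (hopen : ∀ {A B : Scheme.{u}} (f : A ⟶ B), P f → IsOpenMap f)
    (hmodel : ∀ {Z : Scheme.{u}} (h : Z ⟶ c.pt) [LocallyOfFinitePresentation h] [QuasiCompact h]
      [QuasiSeparated h], P h → ∃ (j : I) (M : Model D c h j), P M.zj)
    {ι : Type u} (U : ι → Scheme.{u}) (u : ∀ a, U a ⟶ c.pt)
    [∀ a, LocallyOfFinitePresentation (u a)] [∀ a, QuasiCompact (u a)]
    [∀ a, QuasiSeparated (u a)] (hP : ∀ a, P (u a))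
    (hcov : ∀ x : c.pt, ∃ (a : ι) (y : U a), (u a).base y = x) :
    ∃ (i : I) (n : ℕ) (V : Fin n → Scheme.{u}) (v : ∀ j, V j ⟶ D.obj i) (a : Fin n → ι)
      (e : ∀ j, U (a j) ⟶ V j),
      (∀ j, P (v j) ∧ LocallyOfFinitePresentation (v j) ∧ QuasiCompact (v j) ∧
        QuasiSeparated (v j)) ∧
      (∀ x : D.obj i, ∃ (j : Fin n) (y : V j), (v j).base y = x) ∧
      ∀ j, IsPullback (e j) (u (a j)) (v j) (c.π.app i) := by
  classical
  have : CompactSpace c.pt := Scheme.compactSpace_of_isLimit D c hc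
  obtain ⟨t, ht⟩ := isCompact_univ.elim_finite_subcover
    (fun a => Set.range (u a)) (fun a => (hopen (u a) (hP a)).isOpen_range)
    (by
      intro x _
      obtain ⟨a, y, hy⟩ := hcov x
      exact Set.mem_iUnion.mpr ⟨a, y, hy⟩)
  have hex : ∀ a, ∃ (j : I) (M : Model D c (u a) j), P M.zj := fun a => hmodel (u a) (hP a)
  choose ia Ma hMa using hex
  obtain ⟨k, hk⟩ := IsCofiltered.inf_objs_exists (t.image ia)
  have fk : ∀ a ∈ t, k ⟶ ia a := fun a ha => (hk (Finset.mem_image_of_mem ia ha)).some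
  obtain ⟨M', hM'⟩ : ∃ M' : ∀ a : t, Model D c (u a.1) k,
      M' = fun a : t => (Ma a.1).stage (fk a.1 a.2) := ⟨_, rfl⟩
  have hM'P : ∀ a : t, P (M' a).zj := by
    intro a
    rw [hM']
    exact (Ma a.1).stage_property P (hMa a.1) _
  obtain ⟨W, hWdef⟩ : ∃ W : (D.obj k).Opens,
      W = ⨆ a : t, ⟨Set.range (M' a).zj, (hopen _ (hM'P a)).isOpen_range⟩ := ⟨_, rfl⟩
  have hW : c.π.app k ⁻¹ᵁ W = ⊤ := by
    rw [eq_top_iff]
    intro x _
    obtain ⟨a, ha⟩ := Set.mem_iUnion.mp (ht (Set.mem_univ x))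
    obtain ⟨hat, y, rfl⟩ := Set.mem_iUnion.mp ha
    rw [hWdef]
    refine Opens.mem_iSup.mpr ⟨⟨a, hat⟩, (M' ⟨a, hat⟩).q y, ?_⟩
    rw [← Scheme.Hom.comp_apply, (M' ⟨a, hat⟩).isPullback.w]
    rfl
  obtain ⟨k', ψ, hk'⟩ := exists_map_eq_top D c hc W hW
  obtain ⟨aj, haj⟩ : ∃ aj : Fin t.card → t, aj = fun j => t.equivFin.symm j := ⟨_, rfl⟩
  have hajs : Function.Surjective aj := by rw [haj]; exact t.equivFin.symm.surjective
  refine ⟨k', t.card, fun j => ((M' (aj j)).stage ψ).Zj, fun j => ((M' (aj j)).stage ψ).zj,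
    fun j => (aj j).1, fun j => ((M' (aj j)).stage ψ).q,
    fun j => ⟨(M' (aj j)).stage_property P (hM'P _) ψ, inferInstance, inferInstance,
      inferInstance⟩, ?_, fun j => ((M' (aj j)).stage ψ).isPullback⟩
  intro x
  have hx : D.map ψ x ∈ W := by
    have : x ∈ D.map ψ ⁻¹ᵁ W := by rw [hk']; trivial
    exact this
  rw [hWdef] at hx
  obtain ⟨a, z, hz⟩ := Opens.mem_iSup.mp hx
  obtain ⟨j, rfl⟩ := hajs a
  obtain ⟨w, -, hw⟩ := Scheme.Pullback.exists_preimage_pullback (f := (M' (aj j)).zj)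
    (g := D.map ψ) z x hz
  exact ⟨j, w, hw⟩

end All

section Over

variable {I : Type u} [Category.{u} I] [IsCofiltered I] {D : I ⥤ Scheme.{u}} {c : Cone D}
  (hc : IsLimit c) [∀ {i j : I} (f : i ⟶ j), IsAffineHom (D.map f)]
  (i₀ : I) [CompactSpace (D.obj i₀)] [QuasiSeparatedSpace (D.obj i₀)]

include hc i₀ in
theorem exists_zariski_cover_over {ι : Type u} (U : ι → Scheme.{u}) (u : ∀ a, U a ⟶ c.pt)
    [∀ a, IsOpenImmersion (u a)] [∀ a, QuasiCompact (u a)]
    (hcov : ∀ x : c.pt, ∃ (a : ι) (y : U a), (u a).base y = x) :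
    ∃ (i : I) (n : ℕ) (V : Fin n → Scheme.{u}) (v : ∀ j, V j ⟶ D.obj i) (a : Fin n → ι)
      (e : ∀ j, U (a j) ⟶ V j),
      (∀ j, IsOpenImmersion (v j) ∧ QuasiCompact (v j)) ∧
      (∀ x : D.obj i, ∃ (j : Fin n) (y : V j), (v j).base y = x) ∧
      ∀ j, IsPullback (e j) (u (a j)) (v j) (c.π.app i) := by
  let D' : Over i₀ ⥤ Scheme.{u} := Over.forget i₀ ⋙ D
  let c' : Cone D' := c.whisker (Over.forget i₀)
  have hc' : IsLimit c' := (Functor.Initial.isLimitWhiskerEquiv (Over.forget i₀) c).symm hc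
  have h1 : ∀ {k k' : Over i₀} (f : k ⟶ k'), IsAffineHom (D'.map f) := fun f =>
    inferInstanceAs (IsAffineHom (D.map f.left))
  have h2 : ∀ k : Over i₀, CompactSpace (D'.obj k) := fun k =>
    QuasiCompact.compactSpace_of_compactSpace (D.map k.hom)
  have h3 : ∀ k : Over i₀, QuasiSeparatedSpace (D'.obj k) := fun k =>
    quasiSeparatedSpace_of_quasiSeparated (D.map k.hom)
  obtain ⟨k, n, V, v, a, e, H1, H2, H3⟩ :=
    exists_zariski_cover (D := D') (c := c') hc' U u hcov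
  exact ⟨k.left, n, V, v, a, e, H1, H2, H3⟩

include hc in
theorem exists_cover_of_property_over (P : MorphismProperty Scheme.{u})
    [P.IsStableUnderBaseChange]
    (hopen : ∀ {A B : Scheme.{u}} (f : A ⟶ B), P f → IsOpenMap f)
    (hmodel : ∀ {Z : Scheme.{u}} (h : Z ⟶ c.pt) [LocallyOfFinitePresentation h] [QuasiCompact h]
      [QuasiSeparated h], P h → ∃ (j : I) (_ : j ⟶ i₀) (M : Model D c h j), P M.zj)
    {ι : Type u} (U : ι → Scheme.{u}) (u : ∀ a, U a ⟶ c.pt)
    [∀ a, LocallyOfFinitePresentation (u a)] [∀ a, QuasiCompact (u a)]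
    [∀ a, QuasiSeparated (u a)] (hP : ∀ a, P (u a))
    (hcov : ∀ x : c.pt, ∃ (a : ι) (y : U a), (u a).base y = x) :
    ∃ (i : I) (n : ℕ) (V : Fin n → Scheme.{u}) (v : ∀ j, V j ⟶ D.obj i) (a : Fin n → ι)
      (e : ∀ j, U (a j) ⟶ V j),
      (∀ j, P (v j) ∧ LocallyOfFinitePresentation (v j) ∧ QuasiCompact (v j) ∧
        QuasiSeparated (v j)) ∧
      (∀ x : D.obj i, ∃ (j : Fin n) (y : V j), (v j).base y = x) ∧
      ∀ j, IsPullback (e j) (u (a j)) (v j) (c.π.app i) := by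
  let D' : Over i₀ ⥤ Scheme.{u} := Over.forget i₀ ⋙ D
  let c' : Cone D' := c.whisker (Over.forget i₀)
  have hc' : IsLimit c' := (Functor.Initial.isLimitWhiskerEquiv (Over.forget i₀) c).symm hc
  have h1 : ∀ {k k' : Over i₀} (f : k ⟶ k'), IsAffineHom (D'.map f) := fun f =>
    inferInstanceAs (IsAffineHom (D.map f.left))
  have h2 : ∀ k : Over i₀, CompactSpace (D'.obj k) := fun k =>
    QuasiCompact.compactSpace_of_compactSpace (D.map k.hom)
  have h3 : ∀ k : Over i₀, QuasiSeparatedSpace (D'.obj k) := fun k =>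
    quasiSeparatedSpace_of_quasiSeparated (D.map k.hom)
  obtain ⟨k, n, V, v, a, e, H1, H2, H3⟩ :=
    exists_cover_of_property (D := D') (c := c') hc' P hopen
      (fun {Z} h _ _ _ hh => by
        obtain ⟨j, φ, M, hM⟩ := hmodel h hh
        exact ⟨Over.mk φ, ⟨M.Zj, M.zj, M.q, M.lfp, M.qc, M.qs, M.isPullback⟩, hM⟩)
      U u hP hcov
  exact ⟨k.left, n, V, v, a, e, H1, H2, H3⟩

end Over

end Groth.Agent.Helper7.LimCover
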