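import Mathlib
import Groth.Agent.Lib.Helper7.LimDesc6

set_option autoImplicit false
open CategoryTheory CategoryTheory.Limits AlgebraicGeometry Opposite TopologicalSpace
universe u

set_option linter.unusedSectionVars false

/-! helper7: ideal sheaves of finite type and closed immersions locally of finite presentation;
descent of ideal sheaves of finite type through cofiltered limits with affine transition maps. -/

namespace Groth.Agent.Helper7.LimIdeal

open Groth.Agent.Helper7.LimBC Groth.Agent.Helper7.LimStage Groth.Agent.Helper7.LimDesc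

set_option backward.isDefEq.respectTransparency false in
/-- the closed immersion defined by an ideal sheaf of finite type is locally of finite
presentation. -/
theorem lfp_subschemeι_of_fg {X : Scheme.{u}} (J : X.IdealSheafData)
    (hJ : ∀ U : X.affineOpens, (J.ideal U).FG) :
    LocallyOfFinitePresentation J.subschemeι := by
  rw [HasRingHomProperty.iff_appLE (P := @LocallyOfFinitePresentation)]
  intro U V e
  have hAU : IsAffineOpen (J.subschemeι ⁻¹ᵁ U.1) := U.2.preimage _
  have h1 : (J.subschemeι.app U.1).hom.FinitePresentation := by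
    apply RingHom.FinitePresentation.of_surjective _ (J.subschemeι_app_surjective U)
    rw [Scheme.IdealSheafData.ker_subschemeι_app]
    exact hJ U
  have h2 : (J.subscheme.presheaf.map (homOfLE e).op).hom.FinitePresentation := by
    have := HasRingHomProperty.appLE (P := @LocallyOfFinitePresentation)
      (𝟙 J.subscheme) inferInstance ⟨_, hAU⟩ V e
    have h4 : (𝟙 J.subscheme : J.subscheme ⟶ _).appLE
        (J.subschemeι ⁻¹ᵁ U.1) V.1 e =
        J.subscheme.presheaf.map (homOfLE e).op := by
      simp [Scheme.Hom.appLE]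
    rw [← h4]
    exact this
  have h3 : J.subschemeι.appLE U.1 V.1 e =
      J.subschemeι.app U.1 ≫ J.subscheme.presheaf.map (homOfLE e).op := rfl
  rw [h3, CommRingCat.hom_comp]
  exact h2.comp h1

set_option backward.isDefEq.respectTransparency false in
/-- the ideal sheaf of a closed immersion locally of finite presentation is of finite type. -/
theorem fg_ker_of_isClosedImmersion {Z X : Scheme.{u}} (f : Z ⟶ X) [IsClosedImmersion f]
    [LocallyOfFinitePresentation f] (U : X.affineOpens) : (f.ker.ideal U).FG := by
  rw [Scheme.Hom.ker_apply]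
  have hAU : IsAffineOpen (f ⁻¹ᵁ U.1) := U.2.preimage f
  have h1 : (f.app U.1).hom.FinitePresentation := by
    have := HasRingHomProperty.appLE (P := @LocallyOfFinitePresentation) f inferInstance U
      ⟨_, hAU⟩ le_rfl
    rwa [← Scheme.Hom.app_eq_appLE] at this
  have hs : Function.Surjective (f.app U.1).hom := f.app_surjective U.1 U.2
  let _ : Algebra Γ(X, U.1) Γ(Z, f ⁻¹ᵁ U.1) := (f.app U.1).hom.toAlgebra
  have : Algebra.FinitePresentation Γ(X, U.1) Γ(Z, f ⁻¹ᵁ U.1) := h1
  exact Algebra.FinitePresentation.ker_fG_of_surjective (Algebra.ofId Γ(X, U.1) Γ(Z, f ⁻¹ᵁ U.1)) hs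

variable {I : Type u} [Category.{u} I] [IsCofiltered I] (D : I ⥤ Scheme.{u}) (c : Cone D)
  (hc : IsLimit c) [∀ {i j : I} (f : i ⟶ j), IsAffineHom (D.map f)]

set_option backward.isDefEq.respectTransparency false in
include hc in
/-- ideal sheaves of finite type on the limit come from a stage. -/
theorem exists_idealSheaf_fg_descend [∀ i, CompactSpace (D.obj i)]
    [∀ i, QuasiSeparatedSpace (D.obj i)] (J : c.pt.IdealSheafData)
    (hJ : ∀ U : c.pt.affineOpens, (J.ideal U).FG) :
    ∃ (i : I) (Ji : (D.obj i).IdealSheafData), (∀ U : (D.obj i).affineOpens, (Ji.ideal U).FG) ∧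
      Ji.comap (c.π.app i) = J := by
  obtain ⟨i₀⟩ := IsCofiltered.nonempty (C := I)
  have hlfp := lfp_subschemeι_of_fg J hJ
  obtain ⟨j, -, M, hM⟩ := exists_model_of_property_over hc i₀ @IsClosedImmersion
    (fun {i₁ X₀} f₀ _ _ _ _ _ hs =>
      Groth.Agent.Helper7.LimGen.exists_stage_isClosedImmersion' D c hc f₀ (𝟙 _) hs)
    J.subschemeι inferInstance
  have := M.lfp
  have hM' : IsClosedImmersion M.zj := hM
  refine ⟨j, M.zj.ker, fun U => fg_ker_of_isClosedImmersion M.zj U, ?_⟩
  have hsq : IsPullback (M.q ≫ M.zj.toImage) J.subschemeι M.zj.ker.subschemeι (c.π.app j) := by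
    have h2 : IsPullback M.zj.toImage M.zj M.zj.ker.subschemeι (𝟙 (D.obj j)) :=
      IsPullback.of_horiz_isIso ⟨by rw [Category.comp_id]; exact M.zj.toImage_imageι⟩
    have := M.isPullback.paste_horiz h2
    rwa [Category.comp_id] at this
  have h3 := hsq.flip.isoPullback_hom_fst
  change (pullback.fst (c.π.app j) M.zj.ker.subschemeι).ker = J
  rw [← Scheme.Hom.ker_comp_of_isIso hsq.flip.isoPullback.hom, h3,
    Scheme.IdealSheafData.ker_subschemeι]

end Groth.Agent.Helper7.LimIdeal
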