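import Mathlib
import Groth.Prelude.Def_Hensel
import Groth.Agent.Lib.Helper7.Hens.Unique

set_option autoImplicit false
set_option linter.style.haveILetI false
set_option linter.unusedVariables false
set_option linter.unusedSectionVars false

open IsLocalRing TensorProduct

/-! helper7: the henselization of S at q is the henselization of the localization of
Rh tensor S at the induced prime (universal property bookkeeping). -/

namespace Groth.Agent.Helper7.HensTensor

universe u

/-- A ring map from a localization at a prime to a local ring is local as soon as the preimage of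
the maximal ideal in the base ring is the prime. -/
theorem isLocalHom_of_comap {A : Type*} [CommRing A] (P : Ideal A) [P.IsPrime]
    {T : Type*} [CommRing T] [IsLocalRing T] (g : Localization.AtPrime P →+* T)
    (h : (maximalIdeal T).comap (g.comp (algebraMap A (Localization.AtPrime P))) = P) :
    IsLocalHom g := by
  have hT := (IsLocalRing.local_hom_TFAE g).out 0 4
  rw [hT, ← Localization.AtPrime.eq_maximalIdeal_iff_under_eq (I := P)]
  rw [Ideal.under, Ideal.comap_comap]
  exact h

theorem comap_maximalIdeal_of_isLocalHom {A T : Type*} [CommRing A] [CommRing T] [IsLocalRing A]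
    [IsLocalRing T] (g : A →+* T) [IsLocalHom g] :
    (maximalIdeal T).comap g = maximalIdeal A := by
  have hT := (IsLocalRing.local_hom_TFAE g).out 0 4
  exact hT.mp inferInstance

/-- The lift of a ring map into a local ring to the localization at the preimage of the
maximal ideal. -/
noncomputable def liftLocal {A T : Type*} [CommRing A] [CommRing T] [IsLocalRing T] (g : A →+* T)
    (P : Ideal A) [P.IsPrime] (hP : (maximalIdeal T).comap g = P) :
    Localization.AtPrime P →+* T :=
  IsLocalization.lift (M := P.primeCompl) (g := g) (fun y => by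
    have h1 : (y : A) ∉ (maximalIdeal T).comap g := hP ▸ y.2
    rw [Ideal.mem_comap, mem_maximalIdeal, mem_nonunits_iff, not_not] at h1
    exact h1)

theorem liftLocal_comp {A T : Type*} [CommRing A] [CommRing T] [IsLocalRing T] (g : A →+* T)
    (P : Ideal A) [P.IsPrime] (hP : (maximalIdeal T).comap g = P) :
    (liftLocal g P hP).comp (algebraMap A (Localization.AtPrime P)) = g :=
  IsLocalization.lift_comp _

theorem liftLocal_apply {A T : Type*} [CommRing A] [CommRing T] [IsLocalRing T] (g : A →+* T)
    (P : Ideal A) [P.IsPrime] (hP : (maximalIdeal T).comap g = P) (a : A) :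
    liftLocal g P hP (algebraMap A (Localization.AtPrime P) a) = g a :=
  IsLocalization.lift_eq _ _

theorem isLocalHom_liftLocal {A T : Type*} [CommRing A] [CommRing T] [IsLocalRing T] (g : A →+* T)
    (P : Ideal A) [P.IsPrime] (hP : (maximalIdeal T).comap g = P) :
    IsLocalHom (liftLocal g P hP) := by
  apply isLocalHom_of_comap
  rw [liftLocal_comp]
  exact hP

theorem tensor_ringHom_ext {R A B T : Type*} [CommRing R] [CommRing A] [CommRing B] [Algebra R A]
    [Algebra R B] [CommRing T] {α β : A ⊗[R] B →+* T}
    (h1 : ∀ a, α (a ⊗ₜ 1) = β (a ⊗ₜ 1)) (h2 : ∀ s, α (1 ⊗ₜ s) = β (1 ⊗ₜ s)) : α = β := by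
  apply RingHom.ext
  intro x
  induction x using TensorProduct.induction_on with
  | zero => simp
  | tmul a s =>
    have : a ⊗ₜ[R] s = (a ⊗ₜ 1) * (1 ⊗ₜ s) := by simp
    rw [this, map_mul, map_mul, h1, h2]
  | add x y hx hy => rw [map_add, map_add, hx, hy]

section main

variable (R : Type u) [CommRing R] (S : Type u)
    [CommRing S] [Algebra R S] (p : Ideal R) [p.IsPrime] (q : Ideal S) [q.IsPrime] [q.LiesOver p]
    (Rh : Type u) [CommRing Rh] [IsLocalRing Rh] [Algebra (Localization.AtPrime p) Rh]
    [IsLocalHom (algebraMap (Localization.AtPrime p) Rh)]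
    [hRh : Hensel.IsHenselization (Localization.AtPrime p) Rh] [Algebra R Rh]
    [IsScalarTower R (Localization.AtPrime p) Rh]
    (Sh : Type u) [CommRing Sh] [IsLocalRing Sh] [Algebra (Localization.AtPrime q) Sh]
    [IsLocalHom (algebraMap (Localization.AtPrime q) Sh)]
    [hSh : Hensel.IsHenselization (Localization.AtPrime q) Sh] [Algebra S Sh]
    [IsScalarTower S (Localization.AtPrime q) Sh] [Algebra R Sh] [IsScalarTower R S Sh]
    [Algebra Rh Sh] [IsScalarTower R Rh Sh]

/-- The canonical map from the tensor product. -/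
noncomputable abbrev phi : Rh ⊗[R] S →ₐ[R] Sh :=
  Algebra.TensorProduct.lift (IsScalarTower.toAlgHom R Rh Sh) (IsScalarTower.toAlgHom R S Sh)
    (fun _ _ => Commute.all _ _)

include hRh hSh in
theorem comap_algebraMap_S : (maximalIdeal Sh).comap (algebraMap S Sh) = q := by
  rw [IsScalarTower.algebraMap_eq S (Localization.AtPrime q) Sh, ← Ideal.comap_comap,
    comap_maximalIdeal_of_isLocalHom]
  exact IsLocalization.AtPrime.under_maximalIdeal (Localization.AtPrime q) q

include hRh hSh in
theorem universal_tensor (T : Type u) [CommRing T] [HenselianLocalRing T]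
    (j : Localization.AtPrime (Ideal.comap (phi R S Rh Sh) (maximalIdeal Sh)) →+* Sh)
    (hj : ∀ d, j (algebraMap (Rh ⊗[R] S) _ d) = phi R S Rh Sh d)
    (f : Localization.AtPrime (Ideal.comap (phi R S Rh Sh) (maximalIdeal Sh)) →+* T)
    (hf : IsLocalHom f) : ∃! g : Sh →+* T, g.comp j = f := by
  set Q := Ideal.comap (phi R S Rh Sh) (maximalIdeal Sh) with hQ
  let algD : Rh ⊗[R] S →+* Localization.AtPrime Q := algebraMap _ _
  let incR : S →+* Rh ⊗[R] S := (Algebra.TensorProduct.includeRight : S →ₐ[R] Rh ⊗[R] S).toRingHom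
  let incL : Rh →+* Rh ⊗[R] S := (Algebra.TensorProduct.includeLeft : Rh →ₐ[R] Rh ⊗[R] S).toRingHom
  let fS : S →+* T := f.comp (algD.comp incR)
  have hphiR : ∀ s : S, phi R S Rh Sh (incR s) = algebraMap S Sh s := by
    intro s
    show phi R S Rh Sh (1 ⊗ₜ s) = _
    simp [phi]
  have hphiL : ∀ a : Rh, phi R S Rh Sh (incL a) = algebraMap Rh Sh a := by
    intro a
    show phi R S Rh Sh (a ⊗ₜ 1) = _
    simp [phi]
  have hfS : (maximalIdeal T).comap fS = q := by
    show (maximalIdeal T).comap (f.comp (algD.comp incR)) = q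
    rw [← Ideal.comap_comap, comap_maximalIdeal_of_isLocalHom f, ← Ideal.comap_comap]
    have h1 : (maximalIdeal (Localization.AtPrime Q)).comap algD = Q :=
      IsLocalization.AtPrime.under_maximalIdeal (Localization.AtPrime Q) Q
    rw [h1, hQ]
    have h2 : Ideal.comap incR (Ideal.comap (phi R S Rh Sh) (maximalIdeal Sh)) =
        (maximalIdeal Sh).comap (algebraMap S Sh) := by
      ext s
      simp only [Ideal.mem_comap]
      rw [hphiR]
    rw [h2]
    exact comap_algebraMap_S R S p q Rh Sh
  let fSq : Localization.AtPrime q →+* T := liftLocal fS q hfS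
  have hfSq : IsLocalHom fSq := isLocalHom_liftLocal fS q hfS
  obtain ⟨g, hg, hguniq⟩ := hSh.universal T fSq hfSq
  have hgS : ∀ s : S, g (algebraMap S Sh s) = fS s := by
    intro s
    rw [IsScalarTower.algebraMap_apply S (Localization.AtPrime q) Sh]
    have := RingHom.congr_fun hg (algebraMap S (Localization.AtPrime q) s)
    rw [RingHom.comp_apply] at this
    rw [this]
    exact liftLocal_apply fS q hfS s
  have hRS : ∀ r : R, fS (algebraMap R S r) = f (algD (incL (algebraMap R Rh r))) := by
    intro r
    show f (algD (incR (algebraMap R S r))) = _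
    congr 2
    show (1 : Rh) ⊗ₜ[R] (algebraMap R S r) = (algebraMap R Rh r) ⊗ₜ[R] (1 : S)
    rw [Algebra.algebraMap_eq_smul_one, Algebra.algebraMap_eq_smul_one, TensorProduct.smul_tmul]
  refine ⟨g, ?_, ?_⟩
  · -- g ∘ j = f
    apply IsLocalization.ringHom_ext Q.primeCompl
    apply tensor_ringHom_ext
    · intro a
      show g (j (algD (incL a))) = f (algD (incL a))
      rw [hj, hphiL]
      -- two maps Rh → T
      let α : Rh →+* T := g.comp (algebraMap Rh Sh)
      let β : Rh →+* T := f.comp (algD.comp incL)
      let f₀ : Localization.AtPrime p →+* T := β.comp (algebraMap _ Rh)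
      have hβR : ∀ r : R, f₀ (algebraMap R (Localization.AtPrime p) r) =
          fS (algebraMap R S r) := by
        intro r
        rw [hRS]
        show f (algD (incL (algebraMap _ Rh (algebraMap R (Localization.AtPrime p) r)))) = _
        rw [← IsScalarTower.algebraMap_apply R (Localization.AtPrime p) Rh]
      have hf₀ : IsLocalHom f₀ := by
        apply isLocalHom_of_comap
        ext r
        rw [Ideal.mem_comap, RingHom.comp_apply, hβR, ← RingHom.comp_apply, ← Ideal.mem_comap,
          ← Ideal.comap_comap, hfS]
        rw [Ideal.mem_comap, ← Ideal.mem_comap, ← Ideal.under_def,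
          ← (inferInstance : q.LiesOver p).over]
      have hα : α.comp (algebraMap _ Rh) = f₀ := by
        apply IsLocalization.ringHom_ext p.primeCompl
        ext r
        simp only [RingHom.comp_apply]
        rw [hβR, ← hgS]
        show g (algebraMap Rh Sh (algebraMap _ Rh (algebraMap R (Localization.AtPrime p) r))) = _
        rw [← IsScalarTower.algebraMap_apply R (Localization.AtPrime p) Rh,
          ← IsScalarTower.algebraMap_apply R Rh Sh, ← IsScalarTower.algebraMap_apply R S Sh]
      obtain ⟨k, -, hk⟩ := hRh.universal T f₀ hf₀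
      have e1 : α = k := hk α hα
      have e2 : β = k := hk β rfl
      exact RingHom.congr_fun (e1.trans e2.symm) a
    · intro s
      show g (j (algD (incR s))) = f (algD (incR s))
      rw [hj, hphiR, hgS]
      rfl
  · intro g' hg'
    apply hguniq
    apply IsLocalization.ringHom_ext q.primeCompl
    ext s
    simp only [RingHom.comp_apply]
    rw [← IsScalarTower.algebraMap_apply S (Localization.AtPrime q) Sh]
    rw [liftLocal_apply]
    show g' (algebraMap S Sh s) = f (algD (incR s))
    rw [← hg', RingHom.comp_apply]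
    show _ = g' (j (algD (incR s)))
    rw [hj, hphiR]

include hRh hSh in
theorem S9459_main
    (E : Type u) [CommRing E] [IsLocalRing E]
    [Algebra (Localization.AtPrime (Ideal.comap (Algebra.TensorProduct.lift (IsScalarTower.toAlgHom R Rh Sh) (IsScalarTower.toAlgHom R S Sh)
          (fun _ _ => Commute.all _ _)) (IsLocalRing.maximalIdeal Sh))) E]
    [IsLocalHom (algebraMap (Localization.AtPrime
      (Ideal.comap (Algebra.TensorProduct.lift (IsScalarTower.toAlgHom R Rh Sh) (IsScalarTower.toAlgHom R S Sh)
          (fun _ _ => Commute.all _ _)) (IsLocalRing.maximalIdeal Sh))) E)]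
    [Hensel.IsHenselization (Localization.AtPrime
      (Ideal.comap (Algebra.TensorProduct.lift (IsScalarTower.toAlgHom R Rh Sh) (IsScalarTower.toAlgHom R S Sh)
          (fun _ _ => Commute.all _ _)) (IsLocalRing.maximalIdeal Sh))) E] :
    ∃ e : E ≃+* Sh, ∀ d : Rh ⊗[R] S,
      e (algebraMap (Localization.AtPrime
        (Ideal.comap (Algebra.TensorProduct.lift (IsScalarTower.toAlgHom R Rh Sh) (IsScalarTower.toAlgHom R S Sh)
          (fun _ _ => Commute.all _ _)) (IsLocalRing.maximalIdeal Sh))) E
        (algebraMap (Rh ⊗[R] S) _ d)) = (Algebra.TensorProduct.lift (IsScalarTower.toAlgHom R Rh Sh) (IsScalarTower.toAlgHom R S Sh)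
          (fun _ _ => Commute.all _ _)) d := by
  let j : Localization.AtPrime (Ideal.comap (phi R S Rh Sh) (maximalIdeal Sh)) →+* Sh :=
    liftLocal (phi R S Rh Sh).toRingHom _ rfl
  have hj : ∀ d, j (algebraMap (Rh ⊗[R] S) _ d) = phi R S Rh Sh d :=
    fun d => liftLocal_apply (phi R S Rh Sh).toRingHom _ rfl d
  have hjloc : IsLocalHom j := isLocalHom_liftLocal (phi R S Rh Sh).toRingHom _ rfl
  letI : Algebra (Localization.AtPrime (Ideal.comap (phi R S Rh Sh) (maximalIdeal Sh))) Sh :=
    j.toAlgebra
  haveI : IsLocalHom (algebraMap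
      (Localization.AtPrime (Ideal.comap (phi R S Rh Sh) (maximalIdeal Sh))) Sh) := hjloc
  haveI : Hensel.IsHenselization
      (Localization.AtPrime (Ideal.comap (phi R S Rh Sh) (maximalIdeal Sh))) Sh :=
    ⟨hSh.henselian, fun T _ _ f hf => universal_tensor R S p q Rh Sh T j hj f hf⟩
  obtain ⟨e⟩ := Hens.nonempty_algEquiv_of_isHenselization
    (Localization.AtPrime (Ideal.comap (phi R S Rh Sh) (maximalIdeal Sh))) E Sh
  refine ⟨e.toRingEquiv, fun d => ?_⟩
  have := e.commutes (algebraMap (Rh ⊗[R] S) _ d)
  rw [← hj]
  exact this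

end main

end Groth.Agent.Helper7.HensTensor
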