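import Mathlib
import Groth.Prelude.Def_Hensel
import Groth.Agent.Lib.Helper7.HensTensor
import Groth.Agent.Lib.Helper7.SHens.Abstract

set_option autoImplicit false
set_option linter.style.haveILetI false
set_option linter.unusedVariables false
set_option linter.unusedSectionVars false

open IsLocalRing TensorProduct

/-! helper7: uniqueness of strict henselizations, and the strict henselization of S at q as
the strict henselization of the localization of Rsh tensor S. -/

namespace Groth.Agent.Helper7.SHensTensor

open Groth.Agent.Helper7.HensTensor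

universe u

/-- Two strict henselizations are isomorphic. -/
theorem nonempty_algEquiv_of_isStrictHenselization (R : Type u) [CommRing R] [IsLocalRing R]
    (S S' : Type u) [CommRing S] [IsLocalRing S] [Algebra R S] [IsLocalHom (algebraMap R S)]
    [hS : Hensel.IsStrictHenselization R S]
    [CommRing S'] [IsLocalRing S'] [Algebra R S'] [IsLocalHom (algebraMap R S')]
    [hS' : Hensel.IsStrictHenselization R S'] :
    Nonempty (S ≃ₐ[R] S') := by
  have hSh : HenselianLocalRing S := hS.henselian
  have hSh' : HenselianLocalRing S' := hS'.henselian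
  haveI := hS.isSepClosure
  haveI := hS'.isSepClosure
  let σ : ResidueField S ≃ₐ[ResidueField R] ResidueField S' :=
    IsSepClosure.equiv (ResidueField R) (ResidueField S) (ResidueField S')
  have hc1 : (σ : ResidueField S →+* ResidueField S').comp
      (IsLocalRing.ResidueField.map (algebraMap R S))
      = IsLocalRing.ResidueField.map (algebraMap R S') := by
    rw [SHens.residueField_map_algebraMap, SHens.residueField_map_algebraMap]
    ext x
    exact σ.commutes x
  obtain ⟨g, ⟨hg1, hg2⟩, -⟩ := hS.universal S' (algebraMap R S') _ hc1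
  have hc2 : (σ.symm : ResidueField S' →+* ResidueField S).comp
      (IsLocalRing.ResidueField.map (algebraMap R S'))
      = IsLocalRing.ResidueField.map (algebraMap R S) := by
    rw [SHens.residueField_map_algebraMap, SHens.residueField_map_algebraMap]
    ext x
    exact σ.symm.commutes x
  obtain ⟨g', ⟨hg'1, hg'2⟩, -⟩ := hS'.universal S (algebraMap R S) _ hc2
  have hid1 : (RingHom.id _ : ResidueField S →+* _).comp
      (IsLocalRing.ResidueField.map (algebraMap R S))
      = IsLocalRing.ResidueField.map (algebraMap R S) := RingHom.id_comp _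
  obtain ⟨k, -, hk⟩ := hS.universal S (algebraMap R S) _ hid1
  have h1 : g'.comp g = RingHom.id S := by
    rw [hk (g'.comp g) ⟨?_, ?_⟩, hk (RingHom.id S) ⟨RingHom.id_comp _, fun x => rfl⟩]
    · rw [RingHom.comp_assoc, hg1, hg'1]
    · intro x
      rw [RingHom.comp_apply, hg'2, hg2]
      simp
  have hid2 : (RingHom.id _ : ResidueField S' →+* _).comp
      (IsLocalRing.ResidueField.map (algebraMap R S'))
      = IsLocalRing.ResidueField.map (algebraMap R S') := RingHom.id_comp _
  obtain ⟨k', -, hk'⟩ := hS'.universal S' (algebraMap R S') _ hid2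
  have h2 : g.comp g' = RingHom.id S' := by
    rw [hk' (g.comp g') ⟨?_, ?_⟩, hk' (RingHom.id _) ⟨RingHom.id_comp _, fun x => rfl⟩]
    · rw [RingHom.comp_assoc, hg'1, hg1]
    · intro x
      rw [RingHom.comp_apply, hg2, hg'2]
      simp
  exact ⟨AlgEquiv.ofRingEquiv (f := RingEquiv.ofRingHom g g' h2 h1)
    (fun r => RingHom.congr_fun hg1 r)⟩

section main

variable (R : Type u) [CommRing R] (S : Type u)
    [CommRing S] [Algebra R S] (p : Ideal R) [p.IsPrime] (q : Ideal S) [q.IsPrime] [q.LiesOver p]
    (Rh : Type u) [CommRing Rh] [IsLocalRing Rh] [Algebra (Localization.AtPrime p) Rh]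
    [IsLocalHom (algebraMap (Localization.AtPrime p) Rh)]
    [hRh : Hensel.IsStrictHenselization (Localization.AtPrime p) Rh] [Algebra R Rh]
    [IsScalarTower R (Localization.AtPrime p) Rh]
    (Sh : Type u) [CommRing Sh] [IsLocalRing Sh] [Algebra (Localization.AtPrime q) Sh]
    [IsLocalHom (algebraMap (Localization.AtPrime q) Sh)]
    [hSh : Hensel.IsStrictHenselization (Localization.AtPrime q) Sh] [Algebra S Sh]
    [IsScalarTower S (Localization.AtPrime q) Sh] [Algebra R Sh] [IsScalarTower R S Sh]
    [Algebra Rh Sh] [IsScalarTower R Rh Sh]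

theorem comap_algebraMap_S' : (maximalIdeal Sh).comap (algebraMap S Sh) = q := by
  rw [IsScalarTower.algebraMap_eq S (Localization.AtPrime q) Sh, ← Ideal.comap_comap,
    comap_maximalIdeal_of_isLocalHom]
  exact IsLocalization.AtPrime.under_maximalIdeal (Localization.AtPrime q) q

include hRh hSh in
theorem comap_algebraMap_Rh' :
    (maximalIdeal Sh).comap (algebraMap Rh Sh) = maximalIdeal Rh := by
  have hg : IsLocalHom ((algebraMap Rh Sh).comp (algebraMap (Localization.AtPrime p) Rh)) := by
    apply isLocalHom_of_comap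
    have h1 : ((algebraMap Rh Sh).comp (algebraMap (Localization.AtPrime p) Rh)).comp
        (algebraMap R (Localization.AtPrime p)) = (algebraMap S Sh).comp (algebraMap R S) := by
      ext r
      simp only [RingHom.comp_apply]
      rw [← IsScalarTower.algebraMap_apply R (Localization.AtPrime p) Rh,
        ← IsScalarTower.algebraMap_apply R Rh Sh, ← IsScalarTower.algebraMap_apply R S Sh]
    rw [h1, ← Ideal.comap_comap, comap_algebraMap_S' S q Sh]
    exact ((inferInstance : q.LiesOver p).over).symm
  have h2 := comap_maximalIdeal_of_isLocalHom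
    ((algebraMap Rh Sh).comp (algebraMap (Localization.AtPrime p) Rh))
  rw [← Ideal.comap_comap] at h2
  have h3 : maximalIdeal Rh ≤ (maximalIdeal Sh).comap (algebraMap Rh Sh) := by
    rw [← SHens.map_maximalIdeal_of_isStrictHenselization (Localization.AtPrime p) Rh,
      Ideal.map_le_iff_le_comap, h2]
  have hne : (maximalIdeal Sh).comap (algebraMap Rh Sh) ≠ ⊤ :=
    (inferInstance : ((maximalIdeal Sh).comap (algebraMap Rh Sh)).IsPrime).ne_top
  exact ((IsLocalRing.maximalIdeal.isMaximal Rh).eq_of_le hne h3).symm

include hRh hSh in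
theorem isLocalHom_algebraMap_Rh : IsLocalHom (algebraMap Rh Sh) := by
  have hT := (IsLocalRing.local_hom_TFAE (algebraMap Rh Sh)).out 0 4
  exact hT.mpr (comap_algebraMap_Rh' R S p q Rh Sh)

/-- The canonical map from the localization of `S` at `q` to the localization of the tensor
product. -/
noncomputable def iotaS :
    Localization.AtPrime q →+*
      Localization.AtPrime (Ideal.comap (phi R S Rh Sh) (maximalIdeal Sh)) :=
  liftLocal ((algebraMap (Rh ⊗[R] S) _).comp
    (Algebra.TensorProduct.includeRight : S →ₐ[R] Rh ⊗[R] S).toRingHom) q (by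
    rw [← Ideal.comap_comap]
    have h1 : (maximalIdeal (Localization.AtPrime
        (Ideal.comap (phi R S Rh Sh) (maximalIdeal Sh)))).comap
        (algebraMap (Rh ⊗[R] S) _) = Ideal.comap (phi R S Rh Sh) (maximalIdeal Sh) :=
      IsLocalization.AtPrime.under_maximalIdeal _ _
    rw [h1]
    conv_rhs => rw [← comap_algebraMap_S' S q Sh]
    ext s
    simp only [Ideal.mem_comap]
    show phi R S Rh Sh (1 ⊗ₜ s) ∈ _ ↔ _
    simp [phi])

theorem iotaS_apply (s : S) :
    iotaS R S q Rh Sh (algebraMap S _ s) = algebraMap (Rh ⊗[R] S) _ (1 ⊗ₜ s) :=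
  liftLocal_apply _ _ _ s

theorem isLocalHom_iotaS : IsLocalHom (iotaS R S q Rh Sh) :=
  isLocalHom_liftLocal _ _ _

include hRh hSh in
theorem universal_tensor_strict (T : Type u) [CommRing T] [HenselianLocalRing T]
    (j : Localization.AtPrime (Ideal.comap (phi R S Rh Sh) (maximalIdeal Sh)) →+* Sh)
    (hj : ∀ d, j (algebraMap (Rh ⊗[R] S) _ d) = phi R S Rh Sh d) [hjl : IsLocalHom j]
    (f : Localization.AtPrime (Ideal.comap (phi R S Rh Sh) (maximalIdeal Sh)) →+* T)
    [hf : IsLocalHom f]
    (τ : ResidueField Sh →+* ResidueField T)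
    (hτ : τ.comp (ResidueField.map j) = ResidueField.map f) :
    ∃! g : Sh →+* T, g.comp j = f ∧ ∀ x, residue T (g x) = τ (residue Sh x) := by
  set Q := Ideal.comap (phi R S Rh Sh) (maximalIdeal Sh) with hQ
  let algD : Rh ⊗[R] S →+* Localization.AtPrime Q := algebraMap _ _
  let incR : S →+* Rh ⊗[R] S := (Algebra.TensorProduct.includeRight : S →ₐ[R] Rh ⊗[R] S).toRingHom
  let incL : Rh →+* Rh ⊗[R] S := (Algebra.TensorProduct.includeLeft : Rh →ₐ[R] Rh ⊗[R] S).toRingHom
  let ι := iotaS R S q Rh Sh
  haveI hιl : IsLocalHom ι := isLocalHom_iotaS R S q Rh Sh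
  have hι : ∀ s : S, ι (algebraMap S _ s) = algD (incR s) := iotaS_apply R S q Rh Sh
  have hphiR : ∀ s : S, phi R S Rh Sh (incR s) = algebraMap S Sh s := by
    intro s
    show phi R S Rh Sh (1 ⊗ₜ s) = _
    simp [phi]
  have hphiL : ∀ a : Rh, phi R S Rh Sh (incL a) = algebraMap Rh Sh a := by
    intro a
    show phi R S Rh Sh (a ⊗ₜ 1) = _
    simp [phi]
  have hτ' : ∀ y, τ (residue Sh (j y)) = residue T (f y) := by
    intro y
    have := RingHom.congr_fun hτ (residue _ y)
    simpa using this
  -- j ∘ ι = algebraMap
  have hjι : j.comp ι = algebraMap (Localization.AtPrime q) Sh := by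
    apply IsLocalization.ringHom_ext q.primeCompl
    ext s
    simp only [RingHom.comp_apply]
    rw [hι, hj, hphiR, ← IsScalarTower.algebraMap_apply S (Localization.AtPrime q) Sh]
  let fSq : Localization.AtPrime q →+* T := f.comp ι
  haveI hfSq : IsLocalHom fSq := RingHom.isLocalHom_comp f ι
  have hτq : τ.comp (ResidueField.map (algebraMap (Localization.AtPrime q) Sh)) =
      ResidueField.map fSq := by
    apply RingHom.ext
    intro x
    obtain ⟨x, rfl⟩ := residue_surjective x
    simp only [RingHom.comp_apply, ResidueField.map_residue]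
    rw [← hjι, RingHom.comp_apply, hτ']
    rfl
  obtain ⟨g, ⟨hg1, hg2⟩, hguniq⟩ := hSh.universal T fSq τ hτq
  have hgS : ∀ s : S, g (algebraMap S Sh s) = f (algD (incR s)) := by
    intro s
    rw [IsScalarTower.algebraMap_apply S (Localization.AtPrime q) Sh]
    have := RingHom.congr_fun hg1 (algebraMap S (Localization.AtPrime q) s)
    rw [RingHom.comp_apply] at this
    rw [this]
    show f (ι _) = _
    rw [hι]
  have hRS : ∀ r : R, f (algD (incR (algebraMap R S r))) =
      f (algD (incL (algebraMap R Rh r))) := by
    intro r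
    congr 2
    show (1 : Rh) ⊗ₜ[R] (algebraMap R S r) = (algebraMap R Rh r) ⊗ₜ[R] (1 : S)
    rw [Algebra.algebraMap_eq_smul_one, Algebra.algebraMap_eq_smul_one, TensorProduct.smul_tmul]
  haveI hloc : IsLocalHom (algebraMap Rh Sh) := isLocalHom_algebraMap_Rh R S p q Rh Sh
  refine ⟨g, ⟨?_, hg2⟩, ?_⟩
  · apply IsLocalization.ringHom_ext Q.primeCompl
    apply tensor_ringHom_ext
    · intro a
      show g (j (algD (incL a))) = f (algD (incL a))
      rw [hj, hphiL]
      let α : Rh →+* T := g.comp (algebraMap Rh Sh)
      let β : Rh →+* T := f.comp (algD.comp incL)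
      let f₀ : Localization.AtPrime p →+* T := β.comp (algebraMap _ Rh)
      let τ' : ResidueField Rh →+* ResidueField T :=
        τ.comp (ResidueField.map (algebraMap Rh Sh))
      have hατ : ∀ a, residue T (α a) = τ' (residue Rh a) := by
        intro a
        show residue T (g (algebraMap Rh Sh a)) = τ (ResidueField.map _ (residue Rh a))
        rw [hg2, ResidueField.map_residue]
      have hβτ : ∀ a, residue T (β a) = τ' (residue Rh a) := by
        intro a
        show residue T (f (algD (incL a))) = τ (ResidueField.map _ (residue Rh a))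
        rw [← hτ', hj, hphiL, ResidueField.map_residue]
      have hβR : ∀ r : R, f₀ (algebraMap R (Localization.AtPrime p) r) =
          f (algD (incR (algebraMap R S r))) := by
        intro r
        rw [hRS]
        show f (algD (incL (algebraMap _ Rh (algebraMap R (Localization.AtPrime p) r)))) = _
        rw [← IsScalarTower.algebraMap_apply R (Localization.AtPrime p) Rh]
      have hfS : (maximalIdeal T).comap (f.comp (algD.comp incR)) = q := by
        have : f.comp (algD.comp incR) = fSq.comp (algebraMap S _) := by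
          ext s
          simp only [RingHom.comp_apply]
          show _ = f (ι _)
          rw [hι]
        rw [this, ← Ideal.comap_comap, comap_maximalIdeal_of_isLocalHom fSq]
        exact IsLocalization.AtPrime.under_maximalIdeal (Localization.AtPrime q) q
      haveI hf₀ : IsLocalHom f₀ := by
        apply isLocalHom_of_comap
        ext r
        rw [Ideal.mem_comap, RingHom.comp_apply, hβR]
        have : f (algD (incR (algebraMap R S r))) =
            (f.comp (algD.comp incR)) (algebraMap R S r) := rfl
        rw [this, ← Ideal.mem_comap, hfS, ← Ideal.mem_comap, ← Ideal.under_def,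
          ← (inferInstance : q.LiesOver p).over]
      have hα : α.comp (algebraMap _ Rh) = f₀ := by
        apply IsLocalization.ringHom_ext p.primeCompl
        ext r
        simp only [RingHom.comp_apply]
        rw [hβR, ← hgS]
        show g (algebraMap Rh Sh (algebraMap _ Rh (algebraMap R (Localization.AtPrime p) r))) = _
        rw [← IsScalarTower.algebraMap_apply R (Localization.AtPrime p) Rh,
          ← IsScalarTower.algebraMap_apply R Rh Sh, ← IsScalarTower.algebraMap_apply R S Sh]
      have hτ'₀ : τ'.comp (ResidueField.map (algebraMap (Localization.AtPrime p) Rh)) =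
          ResidueField.map f₀ := by
        apply RingHom.ext
        intro x
        obtain ⟨x, rfl⟩ := residue_surjective x
        simp only [RingHom.comp_apply, ResidueField.map_residue]
        rw [← hβτ]
        rfl
      obtain ⟨k, -, hk⟩ := hRh.universal T f₀ τ' hτ'₀
      have e1 : α = k := hk α ⟨hα, hατ⟩
      have e2 : β = k := hk β ⟨rfl, hβτ⟩
      exact RingHom.congr_fun (e1.trans e2.symm) a
    · intro s
      show g (j (algD (incR s))) = f (algD (incR s))
      rw [hj, hphiR, hgS]
  · rintro g' ⟨hg'1, hg'2⟩
    apply hguniq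
    refine ⟨?_, hg'2⟩
    rw [← hjι, ← RingHom.comp_assoc, hg'1]

theorem comp_iotaS
    (j : Localization.AtPrime (Ideal.comap (phi R S Rh Sh) (maximalIdeal Sh)) →+* Sh)
    (hj : ∀ d, j (algebraMap (Rh ⊗[R] S) _ d) = phi R S Rh Sh d) :
    j.comp (iotaS R S q Rh Sh) = algebraMap (Localization.AtPrime q) Sh := by
  apply IsLocalization.ringHom_ext q.primeCompl
  ext s
  simp only [RingHom.comp_apply]
  rw [iotaS_apply, hj, ← IsScalarTower.algebraMap_apply S (Localization.AtPrime q) Sh]
  simp [phi]

include hRh hSh in
theorem S9460_main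
    (E : Type u) [CommRing E] [IsLocalRing E]
    [Algebra (Localization.AtPrime (Ideal.comap (Algebra.TensorProduct.lift (IsScalarTower.toAlgHom R Rh Sh) (IsScalarTower.toAlgHom R S Sh)
          (fun _ _ => Commute.all _ _)) (IsLocalRing.maximalIdeal Sh))) E]
    [IsLocalHom (algebraMap (Localization.AtPrime
      (Ideal.comap (Algebra.TensorProduct.lift (IsScalarTower.toAlgHom R Rh Sh) (IsScalarTower.toAlgHom R S Sh)
          (fun _ _ => Commute.all _ _)) (IsLocalRing.maximalIdeal Sh))) E)]
    [Hensel.IsStrictHenselization (Localization.AtPrime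
      (Ideal.comap (Algebra.TensorProduct.lift (IsScalarTower.toAlgHom R Rh Sh) (IsScalarTower.toAlgHom R S Sh)
          (fun _ _ => Commute.all _ _)) (IsLocalRing.maximalIdeal Sh))) E] :
    ∃ e : E ≃+* Sh, ∀ d : Rh ⊗[R] S,
      e (algebraMap (Localization.AtPrime
        (Ideal.comap (Algebra.TensorProduct.lift (IsScalarTower.toAlgHom R Rh Sh) (IsScalarTower.toAlgHom R S Sh)
          (fun _ _ => Commute.all _ _)) (IsLocalRing.maximalIdeal Sh))) E
        (algebraMap (Rh ⊗[R] S) _ d)) = (Algebra.TensorProduct.lift (IsScalarTower.toAlgHom R Rh Sh) (IsScalarTower.toAlgHom R S Sh)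
          (fun _ _ => Commute.all _ _)) d := by
  let j : Localization.AtPrime (Ideal.comap (phi R S Rh Sh) (maximalIdeal Sh)) →+* Sh :=
    liftLocal (phi R S Rh Sh).toRingHom _ rfl
  have hj : ∀ d, j (algebraMap (Rh ⊗[R] S) _ d) = phi R S Rh Sh d :=
    fun d => liftLocal_apply (phi R S Rh Sh).toRingHom _ rfl d
  have hjloc : IsLocalHom j := isLocalHom_liftLocal (phi R S Rh Sh).toRingHom _ rfl
  letI : Algebra (Localization.AtPrime (Ideal.comap (phi R S Rh Sh) (maximalIdeal Sh))) Sh :=
    j.toAlgebra
  haveI : IsLocalHom (algebraMap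
      (Localization.AtPrime (Ideal.comap (phi R S Rh Sh) (maximalIdeal Sh))) Sh) := hjloc
  letI : Algebra (Localization.AtPrime q)
      (Localization.AtPrime (Ideal.comap (phi R S Rh Sh) (maximalIdeal Sh))) :=
    (iotaS R S q Rh Sh).toAlgebra
  haveI : IsLocalHom (algebraMap (Localization.AtPrime q)
      (Localization.AtPrime (Ideal.comap (phi R S Rh Sh) (maximalIdeal Sh)))) :=
    isLocalHom_iotaS R S q Rh Sh
  haveI : IsScalarTower (Localization.AtPrime q)
      (Localization.AtPrime (Ideal.comap (phi R S Rh Sh) (maximalIdeal Sh))) Sh :=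
    IsScalarTower.of_algebraMap_eq (fun x =>
      (RingHom.congr_fun (comp_iotaS R S q Rh Sh j hj) x).symm)
  haveI hsc : IsSepClosure
      (ResidueField (Localization.AtPrime (Ideal.comap (phi R S Rh Sh) (maximalIdeal Sh))))
      (ResidueField Sh) := by
    refine ⟨hSh.isSepClosure.sep_closed, ?_⟩
    haveI := hSh.isSepClosure.separable
    exact Algebra.isSeparable_tower_top_of_isSeparable
      (ResidueField (Localization.AtPrime q)) _ (ResidueField Sh)
  haveI : Hensel.IsStrictHenselization
      (Localization.AtPrime (Ideal.comap (phi R S Rh Sh) (maximalIdeal Sh))) Sh :=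
    ⟨hSh.henselian, hsc, fun T _ _ f _ τ hτ =>
      universal_tensor_strict R S p q Rh Sh T j hj f τ hτ⟩
  obtain ⟨e⟩ := nonempty_algEquiv_of_isStrictHenselization
    (Localization.AtPrime (Ideal.comap (phi R S Rh Sh) (maximalIdeal Sh))) E Sh
  refine ⟨e.toRingEquiv, fun d => ?_⟩
  have := e.commutes (algebraMap (Rh ⊗[R] S) _ d)
  rw [← hj]
  exact this

end main

end Groth.Agent.Helper7.SHensTensor
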