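import Mathlib
import Groth.Prelude.Def_Hensel
import Groth.Agent.Lib.Helper7.SHensTensor
import Groth.Agent.Lib.Helper7.Hensel.IntegralDomain

set_option autoImplicit false
set_option linter.style.haveILetI false
set_option linter.unusedVariables false
set_option linter.unusedSectionVars false

open IsLocalRing TensorProduct

/-! helper7: generalised (abstract localisation) version of the strict henselization tensor machinery, with integrality transfer. -/

namespace Groth.Agent.Helper7.SHensGen

open Groth.Agent.Helper7.HensTensor Groth.Agent.Helper7.SHensTensor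

universe u

/-- A ring map from an abstract localization at a prime to a local ring is local as soon as
the preimage of the maximal ideal in the base ring is the prime. -/
theorem isLocalHom_of_comap' {A : Type*} [CommRing A] (P : Ideal A) [P.IsPrime]
    (Ap : Type*) [CommRing Ap] [Algebra A Ap] [IsLocalization.AtPrime Ap P] [IsLocalRing Ap]
    {T : Type*} [CommRing T] [IsLocalRing T] (g : Ap →+* T)
    (h : (maximalIdeal T).comap (g.comp (algebraMap A Ap)) = P) :
    IsLocalHom g := by
  have hT := (IsLocalRing.local_hom_TFAE g).out 0 4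
  rw [hT]
  have hne : (maximalIdeal T).comap g ≠ ⊤ :=
    (inferInstance : ((maximalIdeal T).comap g).IsPrime).ne_top
  have hle : maximalIdeal Ap ≤ (maximalIdeal T).comap g := by
    rw [← IsLocalization.AtPrime.map_eq_maximalIdeal P Ap, Ideal.map_le_iff_le_comap,
      Ideal.comap_comap, h]
  exact ((IsLocalRing.maximalIdeal.isMaximal Ap).eq_of_le hne hle).symm

/-- The lift of a ring map into a local ring to an abstract localization at the preimage of
the maximal ideal. -/
noncomputable def liftLocal' {A T : Type*} [CommRing A] [CommRing T] [IsLocalRing T]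
    (g : A →+* T) (P : Ideal A) [P.IsPrime] (hP : (maximalIdeal T).comap g = P)
    (Ap : Type*) [CommRing Ap] [Algebra A Ap] [IsLocalization.AtPrime Ap P] :
    Ap →+* T :=
  IsLocalization.lift (M := P.primeCompl) (g := g) (fun y => by
    have h1 : (y : A) ∉ (maximalIdeal T).comap g := hP ▸ y.2
    rw [Ideal.mem_comap, mem_maximalIdeal, mem_nonunits_iff, not_not] at h1
    exact h1)

theorem liftLocal'_comp {A T : Type*} [CommRing A] [CommRing T] [IsLocalRing T]
    (g : A →+* T) (P : Ideal A) [P.IsPrime] (hP : (maximalIdeal T).comap g = P)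
    (Ap : Type*) [CommRing Ap] [Algebra A Ap] [IsLocalization.AtPrime Ap P] :
    (liftLocal' g P hP Ap).comp (algebraMap A Ap) = g :=
  IsLocalization.lift_comp _

theorem liftLocal'_apply {A T : Type*} [CommRing A] [CommRing T] [IsLocalRing T]
    (g : A →+* T) (P : Ideal A) [P.IsPrime] (hP : (maximalIdeal T).comap g = P)
    (Ap : Type*) [CommRing Ap] [Algebra A Ap] [IsLocalization.AtPrime Ap P] (a : A) :
    liftLocal' g P hP Ap (algebraMap A Ap a) = g a :=
  IsLocalization.lift_eq _ _

theorem isLocalHom_liftLocal' {A T : Type*} [CommRing A] [CommRing T] [IsLocalRing T]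
    (g : A →+* T) (P : Ideal A) [P.IsPrime] (hP : (maximalIdeal T).comap g = P)
    (Ap : Type*) [CommRing Ap] [Algebra A Ap] [IsLocalization.AtPrime Ap P] [IsLocalRing Ap] :
    IsLocalHom (liftLocal' g P hP Ap) := by
  apply isLocalHom_of_comap' P Ap
  rw [liftLocal'_comp]
  exact hP

/-- Integrality passes to residue fields. -/
theorem isIntegral_residueField (A B : Type*) [CommRing A] [IsLocalRing A] [CommRing B]
    [IsLocalRing B] [Algebra A B] [IsLocalHom (algebraMap A B)] [Algebra.IsIntegral A B] :
    Algebra.IsIntegral (ResidueField A) (ResidueField B) := by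
  constructor
  intro y
  obtain ⟨x, rfl⟩ := residue_surjective y
  exact (Algebra.IsIntegral.isIntegral (R := A) x).map_of_comp_eq (residue A) (residue B) rfl

/-- A local ring integral over a strictly henselian one is strictly henselian. -/
theorem isSepClosed_residueField_of_isIntegral (A B : Type*) [CommRing A] [IsLocalRing A]
    [CommRing B] [IsLocalRing B] [Algebra A B] [IsLocalHom (algebraMap A B)]
    [Algebra.IsIntegral A B] [IsSepClosed (ResidueField A)] :
    IsSepClosed (ResidueField B) := by
  haveI := isIntegral_residueField A B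
  exact Algebra.IsAlgebraic.isSepClosed (F := ResidueField A)

section main

variable (R : Type u) [CommRing R] (S : Type u)
    [CommRing S] [Algebra R S] (p : Ideal R) [p.IsPrime] (q : Ideal S) [q.IsPrime]
    [hqp : q.LiesOver p]
    (Rp : Type u) [CommRing Rp] [Algebra R Rp] [hRp : IsLocalization.AtPrime Rp p]
    [IsLocalRing Rp]
    (Sq : Type u) [CommRing Sq] [Algebra S Sq] [hSq : IsLocalization.AtPrime Sq q]
    [IsLocalRing Sq]
    (Rh : Type u) [CommRing Rh] [IsLocalRing Rh] [Algebra Rp Rh]
    [IsLocalHom (algebraMap Rp Rh)]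
    [hRh : Hensel.IsStrictHenselization Rp Rh] [Algebra R Rh]
    [tR : IsScalarTower R Rp Rh]
    (Sh : Type u) [CommRing Sh] [IsLocalRing Sh] [Algebra Sq Sh]
    [IsLocalHom (algebraMap Sq Sh)]
    [hSh : Hensel.IsStrictHenselization Sq Sh] [Algebra S Sh]
    [tS : IsScalarTower S Sq Sh] [Algebra R Sh] [tRS : IsScalarTower R S Sh]
    [Algebra Rh Sh] [tRRh : IsScalarTower R Rh Sh]

include hqp hRp hSq hRh hSh tR tS tRS tRRh

theorem comap_algebraMap_S : (maximalIdeal Sh).comap (algebraMap S Sh) = q := by
  rw [IsScalarTower.algebraMap_eq S Sq Sh, ← Ideal.comap_comap,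
    comap_maximalIdeal_of_isLocalHom]
  exact IsLocalization.AtPrime.under_maximalIdeal Sq q

theorem comap_algebraMap_Rh :
    (maximalIdeal Sh).comap (algebraMap Rh Sh) = maximalIdeal Rh := by
  have hg : IsLocalHom ((algebraMap Rh Sh).comp (algebraMap Rp Rh)) := by
    apply isLocalHom_of_comap' p Rp
    have h1 : ((algebraMap Rh Sh).comp (algebraMap Rp Rh)).comp
        (algebraMap R Rp) = (algebraMap S Sh).comp (algebraMap R S) := by
      ext r
      simp only [RingHom.comp_apply]
      rw [← IsScalarTower.algebraMap_apply R Rp Rh,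
        ← IsScalarTower.algebraMap_apply R Rh Sh, ← IsScalarTower.algebraMap_apply R S Sh]
    rw [h1, ← Ideal.comap_comap, comap_algebraMap_S R S p q Rp Sq Rh Sh]
    exact ((inferInstance : q.LiesOver p).over).symm
  have h2 := comap_maximalIdeal_of_isLocalHom
    ((algebraMap Rh Sh).comp (algebraMap Rp Rh))
  rw [← Ideal.comap_comap] at h2
  have h3 : maximalIdeal Rh ≤ (maximalIdeal Sh).comap (algebraMap Rh Sh) := by
    rw [← SHens.map_maximalIdeal_of_isStrictHenselization Rp Rh,
      Ideal.map_le_iff_le_comap, h2]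
  have hne : (maximalIdeal Sh).comap (algebraMap Rh Sh) ≠ ⊤ :=
    (inferInstance : ((maximalIdeal Sh).comap (algebraMap Rh Sh)).IsPrime).ne_top
  exact ((IsLocalRing.maximalIdeal.isMaximal Rh).eq_of_le hne h3).symm

theorem isLocalHom_algebraMap_Rh : IsLocalHom (algebraMap Rh Sh) := by
  have hT := (IsLocalRing.local_hom_TFAE (algebraMap Rh Sh)).out 0 4
  exact hT.mpr (comap_algebraMap_Rh R S p q Rp Sq Rh Sh)

/-- The canonical map from the localization of `S` at `q` to the localization of the tensor
product. -/
noncomputable def iotaS :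
    Sq →+* Localization.AtPrime (Ideal.comap (phi R S Rh Sh) (maximalIdeal Sh)) :=
  liftLocal' ((algebraMap (Rh ⊗[R] S) _).comp
    (Algebra.TensorProduct.includeRight : S →ₐ[R] Rh ⊗[R] S).toRingHom) q (by
    rw [← Ideal.comap_comap]
    have h1 : (maximalIdeal (Localization.AtPrime
        (Ideal.comap (phi R S Rh Sh) (maximalIdeal Sh)))).comap
        (algebraMap (Rh ⊗[R] S) _) = Ideal.comap (phi R S Rh Sh) (maximalIdeal Sh) :=
      IsLocalization.AtPrime.under_maximalIdeal _ _
    rw [h1]
    conv_rhs => rw [← comap_algebraMap_S R S p q Rp Sq Rh Sh]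
    ext s
    simp only [Ideal.mem_comap]
    show phi R S Rh Sh (1 ⊗ₜ s) ∈ _ ↔ _
    simp [phi]) Sq

theorem iotaS_apply (s : S) :
    iotaS R S p q Rp Sq Rh Sh (algebraMap S _ s) = algebraMap (Rh ⊗[R] S) _ (1 ⊗ₜ s) :=
  liftLocal'_apply _ _ _ _ s

theorem isLocalHom_iotaS : IsLocalHom (iotaS R S p q Rp Sq Rh Sh) :=
  isLocalHom_liftLocal' _ _ _ _

theorem comp_iotaS
    (j : Localization.AtPrime (Ideal.comap (phi R S Rh Sh) (maximalIdeal Sh)) →+* Sh)
    (hj : ∀ d, j (algebraMap (Rh ⊗[R] S) _ d) = phi R S Rh Sh d) :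
    j.comp (iotaS R S p q Rp Sq Rh Sh) = algebraMap Sq Sh := by
  apply IsLocalization.ringHom_ext q.primeCompl
  ext s
  simp only [RingHom.comp_apply]
  rw [iotaS_apply, hj, ← IsScalarTower.algebraMap_apply S Sq Sh]
  simp [phi]

theorem universal_tensor_strict (T : Type u) [CommRing T] [HenselianLocalRing T]
    (j : Localization.AtPrime (Ideal.comap (phi R S Rh Sh) (maximalIdeal Sh)) →+* Sh)
    (hj : ∀ d, j (algebraMap (Rh ⊗[R] S) _ d) = phi R S Rh Sh d) [hjl : IsLocalHom j]
    (f : Localization.AtPrime (Ideal.comap (phi R S Rh Sh) (maximalIdeal Sh)) →+* T)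
    [hf : IsLocalHom f]
    (τ : ResidueField Sh →+* ResidueField T)
    (hτ : τ.comp (ResidueField.map j) = ResidueField.map f) :
    ∃! g : Sh →+* T, g.comp j = f ∧ ∀ x, residue T (g x) = τ (residue Sh x) := by
  set Q := Ideal.comap (phi R S Rh Sh) (maximalIdeal Sh) with hQ
  let algD : Rh ⊗[R] S →+* Localization.AtPrime Q := algebraMap _ _
  let incR : S →+* Rh ⊗[R] S := (Algebra.TensorProduct.includeRight : S →ₐ[R] Rh ⊗[R] S).toRingHom
  let incL : Rh →+* Rh ⊗[R] S := (Algebra.TensorProduct.includeLeft : Rh →ₐ[R] Rh ⊗[R] S).toRingHom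
  let ι := iotaS R S p q Rp Sq Rh Sh
  haveI hιl : IsLocalHom ι := isLocalHom_iotaS R S p q Rp Sq Rh Sh
  have hι : ∀ s : S, ι (algebraMap S _ s) = algD (incR s) := iotaS_apply R S p q Rp Sq Rh Sh
  have hphiR : ∀ s : S, phi R S Rh Sh (incR s) = algebraMap S Sh s := by
    intro s
    show phi R S Rh Sh (1 ⊗ₜ s) = _
    simp [phi]
  have hphiL : ∀ a : Rh, phi R S Rh Sh (incL a) = algebraMap Rh Sh a := by
    intro a
    show phi R S Rh Sh (a ⊗ₜ 1) = _
    simp [phi]
  have hτ' : ∀ y, τ (residue Sh (j y)) = residue T (f y) := by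
    intro y
    have := RingHom.congr_fun hτ (residue _ y)
    simpa using this
  -- j ∘ ι = algebraMap
  have hjι : j.comp ι = algebraMap (Sq) Sh := by
    apply IsLocalization.ringHom_ext q.primeCompl
    ext s
    simp only [RingHom.comp_apply]
    rw [hι, hj, hphiR, ← IsScalarTower.algebraMap_apply S (Sq) Sh]
  let fSq : Sq →+* T := f.comp ι
  haveI hfSq : IsLocalHom fSq := RingHom.isLocalHom_comp f ι
  have hτq : τ.comp (ResidueField.map (algebraMap (Sq) Sh)) =
      ResidueField.map fSq := by
    apply RingHom.ext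
    intro x
    obtain ⟨x, rfl⟩ := residue_surjective x
    simp only [RingHom.comp_apply, ResidueField.map_residue]
    rw [← hjι, RingHom.comp_apply, hτ']
    rfl
  obtain ⟨g, ⟨hg1, hg2⟩, hguniq⟩ := hSh.universal T fSq τ hτq
  have hgS : ∀ s : S, g (algebraMap S Sh s) = f (algD (incR s)) := by
    intro s
    rw [IsScalarTower.algebraMap_apply S (Sq) Sh]
    have := RingHom.congr_fun hg1 (algebraMap S (Sq) s)
    rw [RingHom.comp_apply] at this
    rw [this]
    show f (ι _) = _
    rw [hι]
  have hRS : ∀ r : R, f (algD (incR (algebraMap R S r))) =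
      f (algD (incL (algebraMap R Rh r))) := by
    intro r
    congr 2
    show (1 : Rh) ⊗ₜ[R] (algebraMap R S r) = (algebraMap R Rh r) ⊗ₜ[R] (1 : S)
    rw [Algebra.algebraMap_eq_smul_one, Algebra.algebraMap_eq_smul_one, TensorProduct.smul_tmul]
  haveI hloc : IsLocalHom (algebraMap Rh Sh) := isLocalHom_algebraMap_Rh R S p q Rp Sq Rh Sh
  refine ⟨g, ⟨?_, hg2⟩, ?_⟩
  · apply IsLocalization.ringHom_ext Q.primeCompl
    apply tensor_ringHom_ext
    · intro a
      show g (j (algD (incL a))) = f (algD (incL a))
      rw [hj, hphiL]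
      let α : Rh →+* T := g.comp (algebraMap Rh Sh)
      let β : Rh →+* T := f.comp (algD.comp incL)
      let f₀ : Rp →+* T := β.comp (algebraMap _ Rh)
      let τ' : ResidueField Rh →+* ResidueField T :=
        τ.comp (ResidueField.map (algebraMap Rh Sh))
      have hατ : ∀ a, residue T (α a) = τ' (residue Rh a) := by
        intro a
        show residue T (g (algebraMap Rh Sh a)) = τ (ResidueField.map _ (residue Rh a))
        rw [hg2, ResidueField.map_residue]
      have hβτ : ∀ a, residue T (β a) = τ' (residue Rh a) := by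
        intro a
        show residue T (f (algD (incL a))) = τ (ResidueField.map _ (residue Rh a))
        rw [← hτ', hj, hphiL, ResidueField.map_residue]
      have hβR : ∀ r : R, f₀ (algebraMap R (Rp) r) =
          f (algD (incR (algebraMap R S r))) := by
        intro r
        rw [hRS]
        show f (algD (incL (algebraMap _ Rh (algebraMap R (Rp) r)))) = _
        rw [← IsScalarTower.algebraMap_apply R (Rp) Rh]
      have hfS : (maximalIdeal T).comap (f.comp (algD.comp incR)) = q := by
        have : f.comp (algD.comp incR) = fSq.comp (algebraMap S _) := by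
          ext s
          simp only [RingHom.comp_apply]
          show _ = f (ι _)
          rw [hι]
        rw [this, ← Ideal.comap_comap, comap_maximalIdeal_of_isLocalHom fSq]
        exact IsLocalization.AtPrime.under_maximalIdeal (Sq) q
      haveI hf₀ : IsLocalHom f₀ := by
        apply isLocalHom_of_comap' p Rp
        ext r
        rw [Ideal.mem_comap, RingHom.comp_apply, hβR]
        have : f (algD (incR (algebraMap R S r))) =
            (f.comp (algD.comp incR)) (algebraMap R S r) := rfl
        rw [this, ← Ideal.mem_comap, hfS, ← Ideal.mem_comap, ← Ideal.under_def,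
          ← (inferInstance : q.LiesOver p).over]
      have hα : α.comp (algebraMap _ Rh) = f₀ := by
        apply IsLocalization.ringHom_ext p.primeCompl
        ext r
        simp only [RingHom.comp_apply]
        rw [hβR, ← hgS]
        show g (algebraMap Rh Sh (algebraMap _ Rh (algebraMap R (Rp) r))) = _
        rw [← IsScalarTower.algebraMap_apply R (Rp) Rh,
          ← IsScalarTower.algebraMap_apply R Rh Sh, ← IsScalarTower.algebraMap_apply R S Sh]
      have hτ'₀ : τ'.comp (ResidueField.map (algebraMap (Rp) Rh)) =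
          ResidueField.map f₀ := by
        apply RingHom.ext
        intro x
        obtain ⟨x, rfl⟩ := residue_surjective x
        simp only [RingHom.comp_apply, ResidueField.map_residue]
        rw [← hβτ]
        rfl
      obtain ⟨k, -, hk⟩ := hRh.universal T f₀ τ' hτ'₀
      have e1 : α = k := hk α ⟨hα, hατ⟩
      have e2 : β = k := hk β ⟨rfl, hβτ⟩
      exact RingHom.congr_fun (e1.trans e2.symm) a
    · intro s
      show g (j (algD (incR s))) = f (algD (incR s))
      rw [hj, hphiR, hgS]
  · rintro g' ⟨hg'1, hg'2⟩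
    apply hguniq
    refine ⟨?_, hg'2⟩
    rw [← hjι, ← RingHom.comp_assoc, hg'1]


/-- The canonical map from the localized tensor product. -/
noncomputable def jmap :
    Localization.AtPrime (Ideal.comap (phi R S Rh Sh) (maximalIdeal Sh)) →+* Sh :=
  liftLocal (phi R S Rh Sh).toRingHom _ rfl

theorem jmap_apply (d : Rh ⊗[R] S) :
    jmap R S Rh Sh (algebraMap (Rh ⊗[R] S) _ d) = phi R S Rh Sh d :=
  liftLocal_apply (phi R S Rh Sh).toRingHom _ rfl d

theorem isLocalHom_jmap : IsLocalHom (jmap R S Rh Sh) :=
  isLocalHom_liftLocal (phi R S Rh Sh).toRingHom _ rfl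

theorem jmap_algebraMap (a : Rh) :
    jmap R S Rh Sh (algebraMap Rh _ a) = algebraMap Rh Sh a := by
  rw [IsScalarTower.algebraMap_apply Rh (Rh ⊗[R] S)
    (Localization.AtPrime (Ideal.comap (phi R S Rh Sh) (maximalIdeal Sh))),
    jmap_apply R S p q Rp Sq Rh Sh]
  show phi R S Rh Sh (a ⊗ₜ 1) = _
  simp [phi]

/-- If the localized tensor product is already strictly henselian, it is the strict
henselization. -/
theorem bijective_jmap
    [HenselianLocalRing
      (Localization.AtPrime (Ideal.comap (phi R S Rh Sh) (maximalIdeal Sh)))]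
    [IsSepClosed (ResidueField
      (Localization.AtPrime (Ideal.comap (phi R S Rh Sh) (maximalIdeal Sh))))] :
    Function.Bijective (jmap R S Rh Sh) := by
  haveI hhSh : HenselianLocalRing Sh := hSh.henselian
  set Q := Ideal.comap (phi R S Rh Sh) (maximalIdeal Sh) with hQ
  set j := jmap R S Rh Sh with hjdef
  have hj : ∀ d, j (algebraMap (Rh ⊗[R] S) _ d) = phi R S Rh Sh d :=
    jmap_apply R S p q Rp Sq Rh Sh
  haveI hjloc : IsLocalHom j := isLocalHom_jmap R S p q Rp Sq Rh Sh
  have hbij : Function.Bijective (ResidueField.map j) := by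
    refine ⟨(ResidueField.map j).injective, ?_⟩
    letI : Algebra (Localization.AtPrime Q) Sh := j.toAlgebra
    haveI : IsLocalHom (algebraMap (Localization.AtPrime Q) Sh) := hjloc
    letI : Algebra Sq (Localization.AtPrime Q) := (iotaS R S p q Rp Sq Rh Sh).toAlgebra
    haveI : IsLocalHom (algebraMap Sq (Localization.AtPrime Q)) :=
      isLocalHom_iotaS R S p q Rp Sq Rh Sh
    haveI : IsScalarTower Sq (Localization.AtPrime Q) Sh :=
      IsScalarTower.of_algebraMap_eq (fun x =>
        (RingHom.congr_fun (comp_iotaS R S p q Rp Sq Rh Sh j hj) x).symm)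
    haveI := hSh.isSepClosure.separable
    haveI : Algebra.IsSeparable (ResidueField (Localization.AtPrime Q)) (ResidueField Sh) :=
      Algebra.isSeparable_tower_top_of_isSeparable (ResidueField Sq) _ (ResidueField Sh)
    have := IsSepClosed.algebraMap_surjective (ResidueField (Localization.AtPrime Q))
      (ResidueField Sh)
    rw [← SHens.residueField_map_algebraMap] at this
    exact this
  let σ : ResidueField (Localization.AtPrime Q) ≃+* ResidueField Sh :=
    RingEquiv.ofBijective (ResidueField.map j) hbij
  have hτ : (σ.symm : ResidueField Sh →+* _).comp (ResidueField.map j) =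
      ResidueField.map (RingHom.id (Localization.AtPrime Q)) := by
    rw [ResidueField.map_id]
    apply RingHom.ext
    intro x
    simp only [RingHom.comp_apply, RingHom.id_apply]
    show σ.symm (σ x) = x
    exact σ.symm_apply_apply x
  obtain ⟨g, ⟨hg1, hg2⟩, -⟩ := universal_tensor_strict R S p q Rp Sq Rh Sh
    (Localization.AtPrime Q) j hj (RingHom.id _) (σ.symm : ResidueField Sh →+* _) hτ
  have hτ2 : (RingHom.id (ResidueField Sh)).comp (ResidueField.map j) = ResidueField.map j :=
    RingHom.id_comp _
  obtain ⟨k, -, hk⟩ := universal_tensor_strict R S p q Rp Sq Rh Sh Sh j hj j (RingHom.id _) hτ2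
  have e1 : j.comp g = k := hk _ ⟨by rw [RingHom.comp_assoc, hg1, RingHom.comp_id], fun x => by
    rw [RingHom.comp_apply, ← ResidueField.map_residue, hg2, RingHom.id_apply]
    show σ (σ.symm _) = _
    exact σ.apply_symm_apply _⟩
  have e2 : RingHom.id Sh = k := hk _ ⟨RingHom.id_comp _, fun x => rfl⟩
  refine ⟨fun x y hxy => ?_, fun y => ⟨g y, RingHom.congr_fun (e1.trans e2.symm) y⟩⟩
  have hx := RingHom.congr_fun hg1 x
  have hy := RingHom.congr_fun hg1 y
  simp only [RingHom.comp_apply, RingHom.id_apply] at hx hy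
  rw [← hx, ← hy]
  exact congrArg g hxy

/-- If the localized tensor product is integral over `Rh`, so is `Sh`. -/
theorem isIntegral_of_isIntegral_localization
    [hint : Algebra.IsIntegral Rh
      (Localization.AtPrime (Ideal.comap (phi R S Rh Sh) (maximalIdeal Sh)))] :
    Algebra.IsIntegral Rh Sh := by
  haveI hhRh : HenselianLocalRing Rh := hRh.henselian
  haveI : IsSepClosed (ResidueField Rh) := hRh.isSepClosure.sep_closed
  haveI : IsLocalHom (algebraMap Rh
      (Localization.AtPrime (Ideal.comap (phi R S Rh Sh) (maximalIdeal Sh)))) :=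
    Hensel.isLocalHom_of_isIntegral
  haveI : HenselianLocalRing
      (Localization.AtPrime (Ideal.comap (phi R S Rh Sh) (maximalIdeal Sh))) :=
    Hensel.henselianLocalRing_of_isIntegral_of_isLocalRing Rh _
  haveI : IsSepClosed (ResidueField
      (Localization.AtPrime (Ideal.comap (phi R S Rh Sh) (maximalIdeal Sh)))) :=
    isSepClosed_residueField_of_isIntegral Rh _
  have hb := bijective_jmap R S p q Rp Sq Rh Sh
  constructor
  intro y
  obtain ⟨x, rfl⟩ := hb.2 y
  refine (Algebra.IsIntegral.isIntegral (R := Rh) x).map_of_comp_eq (RingHom.id Rh)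
    (jmap R S Rh Sh) ?_
  ext a
  simp only [RingHom.comp_apply, RingHom.id_apply]
  exact (jmap_algebraMap R S p q Rp Sq Rh Sh a).symm

end main

end Groth.Agent.Helper7.SHensGen
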