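import Mathlib
import Groth.Agent.Lib.Helper7.Hensel.QuasiFiniteSplit
import Groth.Agent.Lib.Helper7.Hensel.FiniteDecompMain

set_option autoImplicit false
set_option linter.style.haveILetI false
set_option linter.unusedVariables false

open Polynomial IsLocalRing

/-! helper7: a local ring is henselian iff localizations of finite type algebras at quasi-finite primes over the closed point are finite (S5035). -/

namespace Groth.Agent.Helper7.HensQFLoc

universe u

open Groth.Agent.Helper7.Hensel

section Converse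

variable {R : Type u} [CommRing R] [IsLocalRing R]

/-- Root lifting from finiteness of the localization of `R[X]/(f)` at the point given by a
simple root of the reduction. -/
theorem exists_root_of_finite_localization (f : R[X]) (hf : f.Monic) (a₀ : R)
    (h₁ : f.eval a₀ ∈ maximalIdeal R) (h₂ : IsUnit (f.derivative.eval a₀))
    (H : ∀ (q : Ideal (AdjoinRoot f)) [q.IsPrime], q.LiesOver (maximalIdeal R) →
      Algebra.QuasiFiniteAt R q → Module.Finite R (Localization.AtPrime q)) :
    ∃ a : R, f.IsRoot a ∧ a - a₀ ∈ maximalIdeal R := by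
  classical
  haveI : Module.Finite R (AdjoinRoot f) := hf.finite_adjoinRoot
  have hev0 : f.eval₂ (Algebra.ofId R (ResidueField R)) (residue R a₀) = 0 := by
    have : f.eval₂ (Algebra.ofId R (ResidueField R)) (residue R a₀)
        = residue R (f.eval a₀) := by
      rw [← Polynomial.eval₂_hom]; rfl
    rw [this]
    exact (residue_eq_zero_iff _).mpr h₁
  let ev : AdjoinRoot f →ₐ[R] ResidueField R :=
    AdjoinRoot.liftAlgHom f (Algebra.ofId R (ResidueField R)) (residue R a₀) hev0
  have hev_mk : ∀ P : R[X], ev (AdjoinRoot.mk f P) = residue R (P.eval a₀) := by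
    intro P
    rw [AdjoinRoot.liftAlgHom_mk, ← Polynomial.eval₂_hom]
    rfl
  let q : Ideal (AdjoinRoot f) := RingHom.ker ev.toRingHom
  haveI hqp : q.IsPrime := RingHom.ker_isPrime ev.toRingHom
  have hmemq : ∀ y, y ∈ q ↔ ev y = 0 := fun y => Iff.rfl
  have hlies : q.LiesOver (maximalIdeal R) := by
    constructor
    ext x
    rw [Ideal.under_def, Ideal.mem_comap, hmemq, AlgHom.commutes]
    exact ((residue_eq_zero_iff x).symm)
  haveI : Module.Finite R (Localization.AtPrime q) := H q hlies inferInstance
  -- notation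
  let S := AdjoinRoot f
  let L := Localization.AtPrime q
  let mL : Ideal L := (maximalIdeal R).map (algebraMap R L)
  have hRL : ∀ r : R, algebraMap S L (algebraMap R S r) = algebraMap R L r := fun r =>
    (IsScalarTower.algebraMap_apply R S L r).symm
  have hev_alg : ∀ r : R, ev (algebraMap R S r) = residue R r := fun r => ev.commutes r
  -- division by `X - a₀`
  have hdiv : ∀ P : R[X], ∃ Q : R[X], P = C (P.eval a₀) + (X - C a₀) * Q := by
    intro P
    have hroot : (P - C (P.eval a₀)).IsRoot a₀ := by simp [Polynomial.IsRoot]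
    obtain ⟨Q, hQ⟩ := Polynomial.dvd_iff_isRoot.mpr hroot
    exact ⟨Q, by rw [← hQ]; ring⟩
  obtain ⟨G, hG⟩ := hdiv f
  have hGder : G.eval a₀ = f.derivative.eval a₀ := by
    have h := congrArg (fun P => (Polynomial.derivative P).eval a₀) hG
    simp only [Polynomial.derivative_add, Polynomial.derivative_C, zero_add,
      Polynomial.derivative_mul, Polynomial.derivative_sub, Polynomial.derivative_X, sub_zero,
      one_mul, Polynomial.eval_add, Polynomial.eval_mul, Polynomial.eval_sub, Polynomial.eval_X,
      Polynomial.eval_C, sub_self, zero_mul, add_zero] at h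
    exact h.symm
  have hmkdiv : ∀ P Q : R[X], P = C (P.eval a₀) + (X - C a₀) * Q →
      AdjoinRoot.mk f P = algebraMap R S (P.eval a₀)
        + (AdjoinRoot.root f - algebraMap R S a₀) * AdjoinRoot.mk f Q := by
    intro P Q hPQ
    conv_lhs => rw [hPQ]
    rw [map_add, map_mul, map_sub, AdjoinRoot.mk_C, AdjoinRoot.mk_X, AdjoinRoot.mk_C]
    rfl
  -- `G(root)` is a unit in `L`
  have hGq : AdjoinRoot.mk f G ∉ q := by
    rw [hmemq, hev_mk, hGder]
    intro h0
    exact (residue_ne_zero_iff_isUnit _).mpr h₂ h0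
  have hGunit : IsUnit (algebraMap S L (AdjoinRoot.mk f G)) :=
    IsLocalization.map_units L (⟨AdjoinRoot.mk f G, hGq⟩ : q.primeCompl)
  have hrootmem : algebraMap S L (AdjoinRoot.root f - algebraMap R S a₀) ∈ mL := by
    have h0 : AdjoinRoot.mk f f = 0 := AdjoinRoot.mk_self
    rw [hmkdiv f G hG] at h0
    have h1 : algebraMap S L (AdjoinRoot.root f - algebraMap R S a₀)
        * algebraMap S L (AdjoinRoot.mk f G) = - algebraMap R L (f.eval a₀) := by
      rw [← map_mul, ← hRL, ← map_neg]
      congr 1
      linear_combination h0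
    obtain ⟨u, hu⟩ := hGunit
    have h2 : algebraMap S L (AdjoinRoot.root f - algebraMap R S a₀)
        = - algebraMap R L (f.eval a₀) * (↑u⁻¹ : L) := by
      rw [← h1, ← hu, mul_assoc, Units.mul_inv, mul_one]
    rw [h2]
    exact Ideal.mul_mem_right _ _ (Ideal.neg_mem_iff _ |>.mpr (Ideal.mem_map_of_mem _ h₁))
  have hqmem : ∀ y ∈ q, algebraMap S L y ∈ mL := by
    intro y hy
    obtain ⟨P, rfl⟩ := AdjoinRoot.mk_surjective y
    obtain ⟨Q, hQ⟩ := hdiv P
    rw [hmemq, hev_mk, residue_eq_zero_iff] at hy
    rw [hmkdiv P Q hQ, map_add, map_mul, hRL]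
    exact Ideal.add_mem _ (Ideal.mem_map_of_mem _ hy) (Ideal.mul_mem_right _ _ hrootmem)
  have hsub : ∀ s : S, ∃ r : R, s - algebraMap R S r ∈ q := by
    intro s
    obtain ⟨P, rfl⟩ := AdjoinRoot.mk_surjective s
    refine ⟨P.eval a₀, ?_⟩
    rw [hmemq, map_sub, hev_mk, hev_alg, sub_self]
  -- Step A: `R → L` is surjective
  have hsurj : Function.Surjective (algebraMap R L) := by
    have hle : (⊤ : Submodule R L) ≤ LinearMap.range (Algebra.linearMap R L) := by
      apply Submodule.le_of_le_smul_of_le_jacobson_bot (I := maximalIdeal R)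
        Module.Finite.fg_top
      · rw [IsLocalRing.jacobson_eq_maximalIdeal ⊥ bot_ne_top]
      · intro l _
        obtain ⟨s, t, rfl⟩ := IsLocalization.exists_mk'_eq q.primeCompl l
        obtain ⟨rs, hrs⟩ := hsub s
        obtain ⟨rt, hrt⟩ := hsub t.1
        have hrtu : IsUnit rt := by
          by_contra hnu
          have h1 : rt ∈ maximalIdeal R := (mem_maximalIdeal rt).mpr hnu
          have h2 : algebraMap R S rt ∈ q := by
            rw [hmemq, hev_alg]; exact (residue_eq_zero_iff rt).mpr h1
          have h3 : t.1 ∈ q := by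
            have := q.add_mem hrt h2
            simpa using this
          exact t.2 h3
        obtain ⟨u, rfl⟩ := hrtu
        have htunit : IsUnit (algebraMap S L t.1) := IsLocalization.map_units L t
        obtain ⟨v, hv⟩ := htunit
        set l := IsLocalization.mk' L s t with hl
        have hlt : l * algebraMap S L t.1 = algebraMap S L s := IsLocalization.mk'_spec L s t
        have hkey : (l - algebraMap R L (rs * ↑u⁻¹)) * (algebraMap S L t.1 * algebraMap R L ↑u)
            = algebraMap S L ((s - algebraMap R S rs) * algebraMap R S ↑u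
              - algebraMap R S rs * (t.1 - algebraMap R S ↑u)) := by
          have hu1 : algebraMap R L (↑u⁻¹ : R) * algebraMap R L (↑u : R) = 1 := by
            rw [← map_mul, Units.inv_mul, map_one]
          simp only [map_sub, map_mul, hRL]
          linear_combination (algebraMap R L ↑u) * hlt
            - (algebraMap R L rs * algebraMap S L t.1) * hu1
        have hmem : (l - algebraMap R L (rs * ↑u⁻¹)) * (algebraMap S L t.1 * algebraMap R L ↑u)
            ∈ mL := by
          rw [hkey]
          apply hqmem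
          exact q.sub_mem (q.mul_mem_right _ hrs) (q.mul_mem_left _ hrt)
        have hunit2 : IsUnit (algebraMap S L t.1 * algebraMap R L (↑u : R)) :=
          (IsLocalization.map_units L t).mul (u.isUnit.map (algebraMap R L))
        have hmem2 : l - algebraMap R L (rs * ↑u⁻¹) ∈ mL := by
          obtain ⟨w, hw⟩ := hunit2
          have := Ideal.mul_mem_right (↑w⁻¹ : L) mL hmem
          rwa [← hw, mul_assoc, Units.mul_inv, mul_one] at this
        have hmem3 : l - algebraMap R L (rs * ↑u⁻¹) ∈ maximalIdeal R • (⊤ : Submodule R L) := by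
          rw [Ideal.smul_top_eq_map]
          exact hmem2
        have : l = algebraMap R L (rs * ↑u⁻¹) + (l - algebraMap R L (rs * ↑u⁻¹)) := by ring
        rw [this]
        exact Submodule.add_mem_sup ⟨rs * ↑u⁻¹, rfl⟩ hmem3
    intro l
    obtain ⟨r, hr⟩ := hle (Submodule.mem_top : l ∈ ⊤)
    exact ⟨r, hr⟩
  -- Step B: `R → L` is injective
  have hmq : ∀ r ∈ maximalIdeal R, algebraMap R S r ∈ q := by
    intro r hr
    rw [hmemq, hev_alg]; exact (residue_eq_zero_iff r).mpr hr
  have hinj : Function.Injective (algebraMap R L) := by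
    rw [injective_iff_map_eq_zero]
    intro x hx
    rw [← hRL, IsLocalization.map_eq_zero_iff q.primeCompl L] at hx
    obtain ⟨t, ht⟩ := hx
    let b := (AdjoinRoot.powerBasis' hf).basis
    by_contra hx0
    apply t.2
    have hcoef : ∀ i, b.repr t.1 i ∈ maximalIdeal R := by
      intro i
      rw [mem_maximalIdeal]
      intro hu
      apply hx0
      have h1 : x • t.1 = 0 := by
        rw [Algebra.smul_def, mul_comm]; exact ht
      have h2 := congrArg (fun z => b.repr z i) h1
      simp only [map_smul, Finsupp.smul_apply, smul_eq_mul, map_zero, Finsupp.zero_apply] at h2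
      exact (hu.mul_left_eq_zero).mp h2
    rw [← b.sum_repr t.1]
    apply q.sum_mem
    intro i _
    rw [Algebra.smul_def]
    exact q.mul_mem_right _ (hmq _ (hcoef i))
  -- Step C
  obtain ⟨a, ha⟩ := hsurj (algebraMap S L (AdjoinRoot.root f))
  refine ⟨a, ?_, ?_⟩
  · apply hinj
    rw [map_zero]
    have h1 : algebraMap R L (f.eval a) = f.eval₂ (algebraMap R L) (algebraMap R L a) := by
      rw [← Polynomial.eval₂_hom]
    rw [h1, ha]
    have h2 : algebraMap R L = (algebraMap S L).comp (algebraMap R S) :=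
      IsScalarTower.algebraMap_eq R S L
    rw [h2, ← Polynomial.hom_eval₂]
    have h3 : f.eval₂ (algebraMap R S) (AdjoinRoot.root f) = 0 := AdjoinRoot.eval₂_root f
    rw [h3, map_zero]
  · rw [mem_maximalIdeal]
    intro hu
    have h1 : algebraMap R L (a - a₀) ∈ mL := by
      rw [map_sub, ha, ← hRL, ← map_sub]
      exact hrootmem
    have h2 : mL ≤ maximalIdeal L := by
      rw [Ideal.map_le_iff_le_comap]
      intro r hr
      rw [Ideal.mem_comap, ← hRL]
      exact (IsLocalization.AtPrime.to_map_mem_maximal_iff L q _).mpr (hmq r hr)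
    have h3 := h2 h1
    rw [mem_maximalIdeal] at h3
    exact h3 (hu.map (algebraMap R L))

end Converse

section Direct

variable (R : Type u) [CommRing R] [HenselianLocalRing R]

theorem finite_localization_of_henselian (S : Type u) [CommRing S] [Algebra R S]
    [Algebra.FiniteType R S] (q : Ideal S) [q.IsPrime] (hlies : q.LiesOver (maximalIdeal R))
    (hqf : Algebra.QuasiFiniteAt R q) : Module.Finite R (Localization.AtPrime q) := by
  classical
  have hmq : (maximalIdeal R).map (algebraMap R S) ≤ q := by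
    rw [Ideal.map_le_iff_le_comap]
    exact (hlies.over).le
  obtain ⟨e, he, hfin, hnot⟩ := exists_idempotent_split R S {⟨q, inferInstance⟩}
    (fun q' hq' => by
      rw [Finset.mem_singleton] at hq'
      subst hq'
      exact hqf)
  have heq : e ∉ q := hnot ⟨q, inferInstance⟩ (Finset.mem_singleton_self _) hmq
  have h1e : 1 - e ∈ q := by
    have : e * (1 - e) ∈ q := by rw [mul_sub, mul_one, he.eq, sub_self]; exact zero_mem _
    exact ((inferInstance : q.IsPrime).mem_or_mem this).resolve_left heq
  -- the finite quotient `S₁`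
  let J : Ideal S := Ideal.span {1 - e}
  let S₁ := S ⧸ J
  have hJq : J ≤ q := (Ideal.span_singleton_le_iff_mem q).mpr h1e
  haveI : Module.Finite R S₁ := hfin
  haveI : Algebra.IsIntegral R S₁ := inferInstance
  let mk₁ : S →+* S₁ := Ideal.Quotient.mk J
  have hmk₁ : Function.Surjective mk₁ := Ideal.Quotient.mk_surjective
  let q₁ : Ideal S₁ := q.map mk₁
  have hcomap : q₁.comap mk₁ = q := by
    rw [Ideal.comap_map_of_surjective mk₁ hmk₁]
    rw [sup_eq_left]
    intro x hx
    rw [Ideal.mem_comap, Submodule.mem_bot] at hx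
    exact hJq (Ideal.Quotient.eq_zero_iff_mem.mp hx)
  have hmemq₁ : ∀ x : S, mk₁ x ∈ q₁ ↔ x ∈ q := by
    intro x
    rw [← Ideal.mem_comap, hcomap]
  haveI hq₁p : q₁.IsPrime := by
    apply Ideal.map_isPrime_of_surjective hmk₁
    intro x hx
    exact hJq (Ideal.Quotient.eq_zero_iff_mem.mp hx)
  have hq₁max : q₁.IsMaximal := by
    apply Ideal.isMaximal_of_isIntegral_of_isMaximal_comap (R := R) q₁
    have : q₁.comap (algebraMap R S₁) = maximalIdeal R := by
      have h1 : algebraMap R S₁ = mk₁.comp (algebraMap R S) := rfl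
      rw [h1, ← Ideal.comap_comap, hcomap]
      exact (hlies.over).symm
    rw [this]
    infer_instance
  haveI := finite_maximalSpectrum R S₁
  haveI : Fintype (MaximalSpectrum S₁) := Fintype.ofFinite _
  obtain ⟨ε, hεcoi, hε1, hε2, hεloc⟩ := exists_idempotents_local R S₁
  let M₀ : MaximalSpectrum S₁ := ⟨q₁, hq₁max⟩
  have hε1' : 1 - ε M₀ ∈ q₁ := hε1 M₀
  have hεnot : ε M₀ ∉ q₁ := by
    intro h
    have : (1 : S₁) ∈ q₁ := by
      have := q₁.add_mem hε1' h
      simpa using this
    exact hq₁p.ne_top ((Ideal.eq_top_iff_one _).mpr this)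
  obtain ⟨ε', hε'⟩ := hmk₁ (ε M₀)
  have hε'q : ε' ∉ q := by
    rw [← hmemq₁, hε']; exact hεnot
  haveI := hεloc M₀
  let L' := S₁ ⧸ Ideal.span {1 - ε M₀}
  let mk₂ : S₁ →+* L' := Ideal.Quotient.mk _
  have hmk₂ : Function.Surjective mk₂ := Ideal.Quotient.mk_surjective
  -- elements outside `q` become units in `L'`
  have hunitL' : ∀ t : S, t ∉ q → IsUnit (mk₂ (mk₁ t)) := by
    intro t ht
    by_contra hnu
    have hmem : mk₂ (mk₁ t) ∈ maximalIdeal L' := (mem_maximalIdeal _).mpr hnu
    let M' : Ideal S₁ := (maximalIdeal L').comap mk₂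
    have hM'max : M'.IsMaximal := Ideal.comap_isMaximal_of_surjective mk₂ hmk₂
    have h1M' : 1 - ε M₀ ∈ M' := by
      rw [Ideal.mem_comap]
      have : mk₂ (1 - ε M₀) = 0 :=
        Ideal.Quotient.eq_zero_iff_mem.mpr (Ideal.mem_span_singleton_self _)
      rw [this]; exact zero_mem _
    have hM'eq : M' = q₁ := by
      by_contra hne
      have h2 : ε M₀ ∈ M' := hε2 M₀ ⟨M', hM'max⟩ (fun h => hne (congrArg MaximalSpectrum.asIdeal h))
      have : (1 : S₁) ∈ M' := by
        have := M'.add_mem h1M' h2
        simpa using this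
      exact hM'max.ne_top ((Ideal.eq_top_iff_one _).mpr this)
    have : mk₁ t ∈ q₁ := by rw [← hM'eq]; exact hmem
    exact ht ((hmemq₁ t).mp this)
  let L := Localization.AtPrime q
  have heL : IsUnit (algebraMap S L e) := IsLocalization.map_units L (⟨e, heq⟩ : q.primeCompl)
  have hε'L : IsUnit (algebraMap S L ε') :=
    IsLocalization.map_units L (⟨ε', hε'q⟩ : q.primeCompl)
  -- `S → L` is surjective
  have hsurj : Function.Surjective (algebraMap S L) := by
    intro l
    obtain ⟨s, t, rfl⟩ := IsLocalization.exists_mk'_eq q.primeCompl l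
    obtain ⟨v, hv⟩ := (hunitL' t.1 t.2).exists_right_inv
    obtain ⟨v₁, rfl⟩ := hmk₂ v
    obtain ⟨u, rfl⟩ := hmk₁ v₁
    -- `mk₂ (mk₁ (t u - 1)) = 0`
    have h1 : mk₁ (t.1 * u - 1) ∈ Ideal.span {1 - ε M₀} := by
      rw [← Ideal.Quotient.eq_zero_iff_mem]
      show mk₂ (mk₁ (t.1 * u - 1)) = 0
      rw [map_sub, map_sub, map_mul, map_mul, hv, map_one, map_one, sub_self]
    obtain ⟨c, hc⟩ := Ideal.mem_span_singleton'.mp h1
    have hεidem : (1 - ε M₀) * ε M₀ = 0 := by
      have := (hεcoi.idem M₀).eq
      rw [sub_mul, one_mul, this, sub_self]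
    -- `(t u - 1) ε' ∈ J`
    have h2 : mk₁ ((t.1 * u - 1) * ε') = 0 := by
      rw [map_mul, hε', ← hc, mul_assoc, hεidem, mul_zero]
    have h3 : (t.1 * u - 1) * ε' ∈ J := Ideal.Quotient.eq_zero_iff_mem.mp h2
    obtain ⟨d, hd⟩ := Ideal.mem_span_singleton'.mp h3
    have h4 : (t.1 * u - 1) * ε' * e = 0 := by
      rw [← hd, mul_assoc, sub_mul, one_mul, he.eq, sub_self, mul_zero]
    have h5 : algebraMap S L (t.1 * u - 1) = 0 := by
      have h6 := congrArg (algebraMap S L) h4
      rw [map_mul, map_mul, map_zero] at h6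
      have h7 := (heL.mul_left_eq_zero).mp h6
      exact (hε'L.mul_left_eq_zero).mp h7
    refine ⟨s * u, ?_⟩
    rw [map_sub, map_mul, map_one, sub_eq_zero] at h5
    rw [eq_comm, IsLocalization.mk'_eq_iff_eq_mul, map_mul, mul_assoc, mul_comm (algebraMap S L u),
      h5, mul_one]
  -- conclude
  have hkill : ∀ a ∈ J, (IsScalarTower.toAlgHom R S L) a = 0 := by
    intro a ha
    obtain ⟨d, rfl⟩ := Ideal.mem_span_singleton'.mp ha
    show algebraMap S L (d * (1 - e)) = 0
    have h6 : algebraMap S L (d * (1 - e)) * algebraMap S L e = 0 := by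
      rw [← map_mul, mul_assoc, sub_mul, one_mul, he.eq, sub_self, mul_zero, map_zero]
    exact (heL.mul_left_eq_zero).mp h6
  let ψ : S₁ →ₐ[R] L := Ideal.Quotient.liftₐ J (IsScalarTower.toAlgHom R S L) hkill
  have hψ : Function.Surjective ψ := by
    intro l
    obtain ⟨s, rfl⟩ := hsurj l
    exact ⟨mk₁ s, rfl⟩
  exact Module.Finite.of_surjective ψ.toLinearMap hψ

end Direct

theorem S5035_main (R : Type u) [CommRing R] [IsLocalRing R] :
    HenselianLocalRing R ↔
      ∀ (S : Type u) [CommRing S] [Algebra R S] [Algebra.FiniteType R S] (q : Ideal S) [q.IsPrime],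
        q.LiesOver (IsLocalRing.maximalIdeal R) → Algebra.QuasiFiniteAt R q →
          Module.Finite R (Localization.AtPrime q) := by
  constructor
  · intro hR S _ _ _ q _ hlies hqf
    exact finite_localization_of_henselian R S q hlies hqf
  · intro H
    refine ⟨fun f hf a₀ h₁ h₂ => ?_⟩
    exact exists_root_of_finite_localization f hf a₀ h₁ h₂
      (fun q _ hl hq => H (AdjoinRoot f) q hl hq)

end Groth.Agent.Helper7.HensQFLoc
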