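import Mathlib
import Groth.Agent.Lib.Helper7.HensQFLoc

set_option autoImplicit false
set_option linter.style.haveILetI false
set_option linter.unusedVariables false
set_option linter.unusedSectionVars false

open IsLocalRing TensorProduct

/-! helper7: integrality of the localised base change of an ind-quasi-finite algebra over a henselian local ring. -/

namespace Groth.Agent.Helper7.SHensIndQF

universe u

/-- Every element of a base change comes from the base change of any subalgebra containing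
a suitable finite set. -/
theorem exists_finset_mem_range (R S Rh : Type*) [CommRing R] [CommRing S] [Algebra R S]
    [CommRing Rh] [Algebra R Rh] (x : Rh ⊗[R] S) :
    ∃ s : Finset S, ∀ S₀ : Subalgebra R S, (↑s : Set S) ⊆ ↑S₀ →
      x ∈ (Algebra.TensorProduct.map (AlgHom.id Rh Rh) S₀.val).range := by
  classical
  induction x using TensorProduct.induction_on with
  | zero => exact ⟨∅, fun S₀ _ => zero_mem _⟩
  | tmul a b =>
    refine ⟨{b}, fun S₀ h => ?_⟩
    have hb : b ∈ S₀ := h (by simp)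
    exact ⟨a ⊗ₜ[R] (⟨b, hb⟩ : S₀), by simp⟩
  | add x y hx hy =>
    obtain ⟨s₁, h₁⟩ := hx
    obtain ⟨s₂, h₂⟩ := hy
    refine ⟨s₁ ∪ s₂, fun S₀ h => ?_⟩
    have hs₁ : (↑s₁ : Set S) ⊆ ↑S₀ := fun z hz => h (by simp [Finset.mem_coe.mp hz])
    have hs₂ : (↑s₂ : Set S) ⊆ ↑S₀ := fun z hz => h (by simp [Finset.mem_coe.mp hz])
    exact add_mem (h₁ S₀ hs₁) (h₂ S₀ hs₂)

theorem isIntegral_localization_of_indQuasiFinite (R S : Type u) [CommRing R] [CommRing S]
    [Algebra R S] (Rh : Type u) [CommRing Rh] [HenselianLocalRing Rh] [Algebra R Rh]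
    (Q : Ideal (Rh ⊗[R] S)) [Q.IsPrime] (hQ : Q.LiesOver (maximalIdeal Rh))
    (hS : ∀ s : Finset S, ∃ S₀ : Subalgebra R S, (↑s : Set S) ⊆ ↑S₀ ∧
      Algebra.FiniteType R ↥S₀ ∧ Algebra.QuasiFinite R ↥S₀) :
    Algebra.IsIntegral Rh (Localization.AtPrime Q) := by
  classical
  constructor
  intro y
  obtain ⟨x, t, rfl⟩ := IsLocalization.exists_mk'_eq Q.primeCompl y
  obtain ⟨s₁, h₁⟩ := exists_finset_mem_range R S Rh x
  obtain ⟨s₂, h₂⟩ := exists_finset_mem_range R S Rh (t : Rh ⊗[R] S)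
  obtain ⟨S₀, hs, hft, hqf⟩ := hS (s₁ ∪ s₂)
  have hs₁ : (↑s₁ : Set S) ⊆ ↑S₀ := fun z hz => hs (by simp [Finset.mem_coe.mp hz])
  have hs₂ : (↑s₂ : Set S) ⊆ ↑S₀ := fun z hz => hs (by simp [Finset.mem_coe.mp hz])
  obtain ⟨x₀, hx₀⟩ := h₁ S₀ hs₁
  obtain ⟨t₀, ht₀⟩ := h₂ S₀ hs₂
  let μ : Rh ⊗[R] S₀ →ₐ[Rh] Rh ⊗[R] S := Algebra.TensorProduct.map (AlgHom.id Rh Rh) S₀.val
  let Q₀ : Ideal (Rh ⊗[R] S₀) := Q.comap μ
  haveI : Q₀.IsPrime := Ideal.comap_isPrime _ _
  have hlies : Q₀.LiesOver (maximalIdeal Rh) := by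
    constructor
    rw [hQ.over]
    ext a
    simp only [Ideal.under_def, Ideal.mem_comap, Q₀]
    rw [AlgHom.commutes]
  haveI : Algebra.QuasiFinite Rh (Rh ⊗[R] S₀) := inferInstance
  have hqfat : Algebra.QuasiFiniteAt Rh Q₀ := inferInstance
  haveI hfin : Module.Finite Rh (Localization.AtPrime Q₀) :=
    HensQFLoc.finite_localization_of_henselian Rh (Rh ⊗[R] S₀) Q₀ hlies hqfat
  have ht₀Q : t₀ ∈ Q₀.primeCompl := by
    show t₀ ∉ Q₀
    intro h
    have : μ t₀ ∈ Q := h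
    rw [show μ t₀ = (t : Rh ⊗[R] S) from ht₀] at this
    exact t.2 this
  let ν : Localization.AtPrime Q₀ →ₐ[Rh] Localization.AtPrime Q :=
    Localization.localAlgHom Q₀ Q μ rfl
  have hν : ν (IsLocalization.mk' _ x₀ (⟨t₀, ht₀Q⟩ : Q₀.primeCompl)) =
      IsLocalization.mk' (Localization.AtPrime Q) x t := by
    rw [Localization.localAlgHom_apply, Localization.localRingHom_mk']
    congr 1
    exact Subtype.ext ht₀
  rw [← hν]
  exact (Algebra.IsIntegral.isIntegral (R := Rh) _).map ν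

end Groth.Agent.Helper7.SHensIndQF
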