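import Mathlib
import Groth.Prelude.Def_Hensel
import Groth.Agent.Lib.Helper7.SHensTensor
import Groth.Agent.Lib.Helper7.HensQFLoc
import Groth.Agent.Lib.Helper7.Hensel.FiniteLocal

set_option autoImplicit false
set_option linter.style.haveILetI false
set_option linter.unusedVariables false
set_option linter.unusedSectionVars false

open IsLocalRing TensorProduct

/-! helper7: for R to S of finite type and quasi-finite at q, the strict henselization of S at q
is finite over that of R at p, with purely inseparable residue extension. -/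

namespace Groth.Agent.Helper7.SHensTensor

open Groth.Agent.Helper7.HensTensor

universe u

section main

variable (R : Type u) [CommRing R] (S : Type u)
    [CommRing S] [Algebra R S] (p : Ideal R) [p.IsPrime] (q : Ideal S) [q.IsPrime] [q.LiesOver p]
    (Rh : Type u) [CommRing Rh] [IsLocalRing Rh] [Algebra (Localization.AtPrime p) Rh]
    [IsLocalHom (algebraMap (Localization.AtPrime p) Rh)]
    [hRh : Hensel.IsStrictHenselization (Localization.AtPrime p) Rh] [Algebra R Rh]
    [IsScalarTower R (Localization.AtPrime p) Rh]
    (Sh : Type u) [CommRing Sh] [IsLocalRing Sh] [Algebra (Localization.AtPrime q) Sh]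
    [IsLocalHom (algebraMap (Localization.AtPrime q) Sh)]
    [hSh : Hensel.IsStrictHenselization (Localization.AtPrime q) Sh] [Algebra S Sh]
    [IsScalarTower S (Localization.AtPrime q) Sh] [Algebra R Sh] [IsScalarTower R S Sh]
    [Algebra Rh Sh] [IsScalarTower R Rh Sh]

include hRh hSh in
theorem finite_of_quasiFiniteAt_strict [Algebra.FiniteType R S] [Algebra.QuasiFiniteAt R q] :
    Module.Finite Rh Sh := by
  haveI hhRh : HenselianLocalRing Rh := hRh.henselian
  haveI hhSh : HenselianLocalRing Sh := hSh.henselian
  set Q := Ideal.comap (phi R S Rh Sh) (maximalIdeal Sh) with hQ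
  have hphiR : ∀ s : S, phi R S Rh Sh (1 ⊗ₜ s) = algebraMap S Sh s := by
    intro s
    simp [phi]
  have hphiL : ∀ a : Rh, phi R S Rh Sh (a ⊗ₜ 1) = algebraMap Rh Sh a := by
    intro a
    simp [phi]
  have hqQ : q = Q.comap (Algebra.TensorProduct.includeRight :
      S →ₐ[R] Rh ⊗[R] S).toRingHom := by
    rw [← comap_algebraMap_S' S q Sh]
    ext s
    simp only [Ideal.mem_comap, hQ]
    show _ ↔ phi R S Rh Sh (1 ⊗ₜ s) ∈ _
    rw [hphiR]
  have hqf : Algebra.QuasiFiniteAt Rh Q := Algebra.QuasiFiniteAt.baseChange q Q hqQ
  have hlies : Q.LiesOver (maximalIdeal Rh) := by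
    constructor
    rw [← comap_algebraMap_Rh' R S p q Rh Sh]
    ext a
    simp only [Ideal.under_def, Ideal.mem_comap, hQ]
    show _ ↔ phi R S Rh Sh (a ⊗ₜ 1) ∈ _
    rw [hphiL]
  haveI hfin : Module.Finite Rh (Localization.AtPrime Q) :=
    HensQFLoc.finite_localization_of_henselian Rh (Rh ⊗[R] S) Q hlies hqf
  haveI hDQ : HenselianLocalRing (Localization.AtPrime Q) :=
    Hensel.henselianLocalRing_of_finite Rh (Localization.AtPrime Q)
  haveI hlocD : IsLocalHom (algebraMap Rh (Localization.AtPrime Q)) := by
    have hT := (IsLocalRing.local_hom_TFAE (algebraMap Rh (Localization.AtPrime Q))).out 0 4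
    rw [hT, IsScalarTower.algebraMap_eq Rh (Rh ⊗[R] S) (Localization.AtPrime Q),
      ← Ideal.comap_comap]
    have h1 : (maximalIdeal (Localization.AtPrime Q)).comap (algebraMap (Rh ⊗[R] S) _) = Q :=
      IsLocalization.AtPrime.under_maximalIdeal _ _
    rw [h1]
    exact (hlies.over).symm
  haveI : IsSepClosed (ResidueField Rh) := hRh.isSepClosure.sep_closed
  haveI : IsSepClosed (ResidueField (Localization.AtPrime Q)) :=
    Algebra.IsAlgebraic.isSepClosed (F := ResidueField Rh)
  let j : Localization.AtPrime Q →+* Sh := liftLocal (phi R S Rh Sh).toRingHom _ rfl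
  have hj : ∀ d, j (algebraMap (Rh ⊗[R] S) _ d) = phi R S Rh Sh d :=
    fun d => liftLocal_apply (phi R S Rh Sh).toRingHom _ rfl d
  haveI hjloc : IsLocalHom j := isLocalHom_liftLocal (phi R S Rh Sh).toRingHom _ rfl
  -- bijectivity of the residue field map of j
  have hbij : Function.Bijective (ResidueField.map j) := by
    refine ⟨(ResidueField.map j).injective, ?_⟩
    letI : Algebra (Localization.AtPrime Q) Sh := j.toAlgebra
    haveI : IsLocalHom (algebraMap (Localization.AtPrime Q) Sh) := hjloc
    letI : Algebra (Localization.AtPrime q) (Localization.AtPrime Q) :=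
      (iotaS R S q Rh Sh).toAlgebra
    haveI : IsLocalHom (algebraMap (Localization.AtPrime q) (Localization.AtPrime Q)) :=
      isLocalHom_iotaS R S q Rh Sh
    haveI : IsScalarTower (Localization.AtPrime q) (Localization.AtPrime Q) Sh :=
      IsScalarTower.of_algebraMap_eq (fun x =>
        (RingHom.congr_fun (comp_iotaS R S q Rh Sh j hj) x).symm)
    haveI := hSh.isSepClosure.separable
    haveI : Algebra.IsSeparable (ResidueField (Localization.AtPrime Q)) (ResidueField Sh) :=
      Algebra.isSeparable_tower_top_of_isSeparable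
        (ResidueField (Localization.AtPrime q)) _ (ResidueField Sh)
    have := IsSepClosed.algebraMap_surjective (ResidueField (Localization.AtPrime Q))
      (ResidueField Sh)
    rw [← SHens.residueField_map_algebraMap] at this
    exact this
  let σ : ResidueField (Localization.AtPrime Q) ≃+* ResidueField Sh :=
    RingEquiv.ofBijective (ResidueField.map j) hbij
  have hσ : ∀ x, σ x = ResidueField.map j x := fun x => rfl
  have hτ : (σ.symm : ResidueField Sh →+* _).comp (ResidueField.map j) =
      ResidueField.map (RingHom.id (Localization.AtPrime Q)) := by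
    rw [ResidueField.map_id]
    apply RingHom.ext
    intro x
    simp only [RingHom.comp_apply, RingHom.id_apply]
    show σ.symm (σ x) = x
    exact σ.symm_apply_apply x
  obtain ⟨g, ⟨hg1, hg2⟩, -⟩ := universal_tensor_strict R S p q Rh Sh (Localization.AtPrime Q)
    j hj (RingHom.id _) (σ.symm : ResidueField Sh →+* _) hτ
  have hτ2 : (RingHom.id (ResidueField Sh)).comp (ResidueField.map j) = ResidueField.map j :=
    RingHom.id_comp _
  obtain ⟨k, -, hk⟩ := universal_tensor_strict R S p q Rh Sh Sh j hj j (RingHom.id _) hτ2
  have e1 : j.comp g = k := hk _ ⟨by rw [RingHom.comp_assoc, hg1, RingHom.comp_id], fun x => by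
    rw [RingHom.comp_apply, ← ResidueField.map_residue, hg2, RingHom.id_apply]
    show σ (σ.symm _) = _
    exact σ.apply_symm_apply _⟩
  have e2 : RingHom.id Sh = k := hk _ ⟨RingHom.id_comp _, fun x => rfl⟩
  have hsurj : Function.Surjective j := by
    intro y
    refine ⟨g y, ?_⟩
    have := RingHom.congr_fun (e1.trans e2.symm) y
    exact this
  let jl : Localization.AtPrime Q →ₗ[Rh] Sh :=
    { toFun := j
      map_add' := map_add j
      map_smul' := fun a x => by
        simp only [RingHom.id_apply]
        rw [Algebra.smul_def, Algebra.smul_def, map_mul]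
        congr 1
        rw [IsScalarTower.algebraMap_apply Rh (Rh ⊗[R] S) (Localization.AtPrime Q), hj]
        show phi R S Rh Sh (a ⊗ₜ 1) = _
        rw [hphiL] }
  exact Module.Finite.of_surjective jl hsurj

include hRh hSh in
theorem S9461_main [Algebra.FiniteType R S] [Algebra.QuasiFiniteAt R q]
    [IsLocalHom (algebraMap Rh Sh)] :
    Module.Finite Rh Sh ∧
      Module.Finite (IsLocalRing.ResidueField Rh) (IsLocalRing.ResidueField Sh) ∧
      IsPurelyInseparable (IsLocalRing.ResidueField Rh) (IsLocalRing.ResidueField Sh) := by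
  haveI h1 : Module.Finite Rh Sh := finite_of_quasiFiniteAt_strict R S p q Rh Sh
  haveI : IsSepClosed (ResidueField Rh) := hRh.isSepClosure.sep_closed
  exact ⟨h1, inferInstance, inferInstance⟩

end main

end Groth.Agent.Helper7.SHensTensor
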