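import Mathlib
import Groth.Prelude.Def_Hensel
import Groth.Agent.Lib.Helper7.SHensTensorBij
import Groth.Agent.Lib.Helper7.SHensGen
import Groth.Agent.Lib.Helper7.SHensIndQF

set_option autoImplicit false
set_option linter.style.haveILetI false
set_option linter.unusedVariables false
set_option linter.unusedSectionVars false

open IsLocalRing TensorProduct

/-! helper7: bijectivity of the tensor product of strict henselizations onto the strict
henselization of the tensor product, in the integral and ind-quasi-finite cases. -/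

namespace Groth.Agent.Helper7.SHensTensorBij

open Groth.Agent.Helper7.HensTensor Groth.Agent.Helper7.SHensTensor

universe u

theorem isIntegral_right (R A B : Type u) [CommRing R] [IsLocalRing R]
    [CommRing A] [IsLocalRing A] [Algebra R A] [IsLocalHom (algebraMap R A)]
    [Algebra.IsIntegral R A]
    [CommRing B] [IsLocalRing B] [Algebra R B] [IsLocalHom (algebraMap R B)] :
    letI := Algebra.TensorProduct.rightAlgebra (R := R) (A := A) (B := B)
    Algebra.IsIntegral B (A ⊗[R] B) := by
  letI := Algebra.TensorProduct.rightAlgebra (R := R) (A := A) (B := B)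
  exact algebraMap_isIntegral_iff.mp (TensorPInsep.isIntegral_includeRight R A B)

theorem henselian_tensor' (R A B : Type u) [CommRing R] [IsLocalRing R]
    [CommRing A] [IsLocalRing A] [Algebra R A] [IsLocalHom (algebraMap R A)]
    [Algebra.IsIntegral R A]
    [CommRing B] [HenselianLocalRing B] [Algebra R B] [IsLocalHom (algebraMap R B)]
    [IsLocalRing (A ⊗[R] B)] :
    HenselianLocalRing (A ⊗[R] B) := by
  letI := Algebra.TensorProduct.rightAlgebra (R := R) (A := A) (B := B)
  haveI : Algebra.IsIntegral B (A ⊗[R] B) := isIntegral_right R A B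
  exact Hensel.henselianLocalRing_of_isIntegral_of_isLocalRing B (A ⊗[R] B)

theorem isSepClosed_residueField_tensor' (R A B : Type u) [CommRing R] [IsLocalRing R]
    [CommRing A] [IsLocalRing A] [Algebra R A] [IsLocalHom (algebraMap R A)]
    [Algebra.IsIntegral R A]
    [CommRing B] [IsLocalRing B] [IsSepClosed (ResidueField B)] [Algebra R B]
    [IsLocalHom (algebraMap R B)]
    [IsLocalRing (A ⊗[R] B)]
    (hloc : IsLocalHom (Algebra.TensorProduct.includeRight : B →ₐ[R] A ⊗[R] B).toRingHom) :
    IsSepClosed (ResidueField (A ⊗[R] B)) := by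
  letI := Algebra.TensorProduct.rightAlgebra (R := R) (A := A) (B := B)
  haveI : Algebra.IsIntegral B (A ⊗[R] B) := isIntegral_right R A B
  haveI : IsLocalHom (algebraMap B (A ⊗[R] B)) := hloc
  exact SHensGen.isSepClosed_residueField_of_isIntegral B (A ⊗[R] B)

section main2

variable (A B C : Type u) [CommRing A] [CommRing B]
    [CommRing C] [Algebra A B] [Algebra A C]
    (pA : Ideal A) [pA.IsPrime] (pB : Ideal B) [pB.IsPrime] [pB.LiesOver pA]
    (pC : Ideal C) [pC.IsPrime] [pC.LiesOver pA]
    (pD : Ideal (B ⊗[A] C)) [pD.IsPrime] [pD.LiesOver pB]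
    (Ash : Type u) [CommRing Ash] [IsLocalRing Ash] [Algebra (Localization.AtPrime pA) Ash]
    [IsLocalHom (algebraMap (Localization.AtPrime pA) Ash)]
    [hAsh : Hensel.IsStrictHenselization (Localization.AtPrime pA) Ash] [Algebra A Ash]
    [IsScalarTower A (Localization.AtPrime pA) Ash]
    (Bsh : Type u) [CommRing Bsh] [IsLocalRing Bsh] [Algebra (Localization.AtPrime pB) Bsh]
    [IsLocalHom (algebraMap (Localization.AtPrime pB) Bsh)]
    [hBsh : Hensel.IsStrictHenselization (Localization.AtPrime pB) Bsh] [Algebra B Bsh]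
    [IsScalarTower B (Localization.AtPrime pB) Bsh] [Algebra A Bsh] [IsScalarTower A B Bsh]
    [Algebra Ash Bsh] [IsScalarTower A Ash Bsh] [IsLocalHom (algebraMap Ash Bsh)]
    (Csh : Type u) [CommRing Csh] [IsLocalRing Csh] [Algebra (Localization.AtPrime pC) Csh]
    [IsLocalHom (algebraMap (Localization.AtPrime pC) Csh)]
    [hCsh : Hensel.IsStrictHenselization (Localization.AtPrime pC) Csh] [Algebra C Csh]
    [IsScalarTower C (Localization.AtPrime pC) Csh] [Algebra A Csh] [IsScalarTower A C Csh]
    [Algebra Ash Csh] [IsScalarTower A Ash Csh] [IsLocalHom (algebraMap Ash Csh)]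
    (Dsh : Type u) [CommRing Dsh] [IsLocalRing Dsh] [Algebra (Localization.AtPrime pD) Dsh]
    [IsLocalHom (algebraMap (Localization.AtPrime pD) Dsh)]
    [hDsh : Hensel.IsStrictHenselization (Localization.AtPrime pD) Dsh] [Algebra (B ⊗[A] C) Dsh]
    [IsScalarTower (B ⊗[A] C) (Localization.AtPrime pD) Dsh]
    [Algebra Bsh Dsh] [IsLocalHom (algebraMap Bsh Dsh)] [Algebra B Dsh] [IsScalarTower B Bsh Dsh]
    [IsScalarTower B (B ⊗[A] C) Dsh]
    [Algebra Csh Dsh] [IsLocalHom (algebraMap Csh Dsh)]
    (hC : ∀ c : C, algebraMap Csh Dsh (algebraMap C Csh c) = algebraMap (B ⊗[A] C) Dsh (1 ⊗ₜ[A] c))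
    [Algebra Ash Dsh] [IsScalarTower Ash Bsh Dsh] [IsScalarTower Ash Csh Dsh]

/-- The map from `B ⊗[A] C`. -/
noncomputable def psi' : B ⊗[A] C →+* Bsh ⊗[Ash] Csh :=
  liftRingHom
    ((Algebra.TensorProduct.includeLeft : Bsh →ₐ[Ash] Bsh ⊗[Ash] Csh).toRingHom.comp
      (algebraMap B Bsh))
    ((Algebra.TensorProduct.includeRight : Csh →ₐ[Ash] Bsh ⊗[Ash] Csh).toRingHom.comp
      (algebraMap C Csh))
    (fun a => by
      show (algebraMap B Bsh (algebraMap A B a)) ⊗ₜ[Ash] (1 : Csh) =
        (1 : Bsh) ⊗ₜ[Ash] (algebraMap C Csh (algebraMap A C a))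
      rw [← IsScalarTower.algebraMap_apply A B Bsh, ← IsScalarTower.algebraMap_apply A C Csh,
        IsScalarTower.algebraMap_apply A Ash Bsh, IsScalarTower.algebraMap_apply A Ash Csh,
        Algebra.algebraMap_eq_smul_one, Algebra.algebraMap_eq_smul_one (A := Csh),
        TensorProduct.smul_tmul])

theorem psi'_tmul (b : B) (c : C) :
    psi' A B C Ash Bsh Csh (b ⊗ₜ[A] c) = (algebraMap B Bsh b) ⊗ₜ[Ash] (algebraMap C Csh c) := by
  rw [psi', liftRingHom_tmul]
  show ((algebraMap B Bsh b) ⊗ₜ[Ash] (1 : Csh)) * ((1 : Bsh) ⊗ₜ[Ash] (algebraMap C Csh c)) = _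
  simp

include hC in
theorem Phi_comp_psi' :
    (Phi Ash Bsh Csh Dsh).toRingHom.comp (psi' A B C Ash Bsh Csh) =
      algebraMap (B ⊗[A] C) Dsh := by
  apply tensor_ringHom_ext
  · intro b
    simp only [RingHom.comp_apply]
    rw [psi'_tmul]
    show Phi Ash Bsh Csh Dsh (_ ⊗ₜ[Ash] _) = _
    rw [Algebra.TensorProduct.lift_tmul]
    simp only [map_one, mul_one, IsScalarTower.coe_toAlgHom']
    rw [← IsScalarTower.algebraMap_apply B Bsh Dsh,
      IsScalarTower.algebraMap_apply B (B ⊗[A] C) Dsh]
    rfl
  · intro c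
    simp only [RingHom.comp_apply]
    rw [psi'_tmul]
    show Phi Ash Bsh Csh Dsh (_ ⊗ₜ[Ash] _) = _
    rw [Algebra.TensorProduct.lift_tmul]
    simp only [map_one, one_mul, IsScalarTower.coe_toAlgHom']
    exact hC c

include hAsh hBsh hCsh hDsh hC in
theorem bijective_of_isIntegral [Algebra.IsIntegral Ash Bsh] :
    Function.Bijective (Phi Ash Bsh Csh Dsh) := by
  haveI : IsSepClosed (ResidueField Ash) := hAsh.isSepClosure.sep_closed
  haveI := SHensGen.isIntegral_residueField Ash Bsh
  haveI hpi : IsPurelyInseparable (ResidueField Ash) (ResidueField Bsh) := inferInstance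
  haveI hhC : HenselianLocalRing Csh := hCsh.henselian
  haveI hhD : HenselianLocalRing Dsh := hDsh.henselian
  haveI : IsSepClosed (ResidueField Csh) := hCsh.isSepClosure.sep_closed
  haveI hEloc : IsLocalRing (Bsh ⊗[Ash] Csh) := TensorPInsep.isLocalRing_tensor Ash Bsh Csh
  have hincR := TensorPInsep.isLocalHom_includeRight Ash Bsh Csh
  have hincL := TensorPInsep.isLocalHom_includeLeft Ash Bsh Csh
  haveI hEh : HenselianLocalRing (Bsh ⊗[Ash] Csh) := henselian_tensor' Ash Bsh Csh
  haveI hEsc : IsSepClosed (ResidueField (Bsh ⊗[Ash] Csh)) :=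
    isSepClosed_residueField_tensor' Ash Bsh Csh hincR
  set Φ := Phi Ash Bsh Csh Dsh with hΦdef
  set ψ := psi' A B C Ash Bsh Csh with hψdef
  have hΦψ : Φ.toRingHom.comp ψ = algebraMap (B ⊗[A] C) Dsh :=
    Phi_comp_psi' A B C Ash Bsh Csh Dsh hC
  -- Φ is local
  haveI hΦloc : IsLocalHom Φ.toRingHom := by
    have hT := (local_hom_TFAE Φ.toRingHom).out 0 4
    rw [hT]
    have hJ : TensorPInsep.J Ash Bsh Csh ≤ (maximalIdeal Dsh).comap Φ.toRingHom := by
      rw [TensorPInsep.J, sup_le_iff, Ideal.map_le_iff_le_comap, Ideal.map_le_iff_le_comap]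
      constructor
      · intro b hb
        rw [Ideal.mem_comap, Ideal.mem_comap]
        show Φ (b ⊗ₜ[Ash] (1 : Csh)) ∈ maximalIdeal Dsh
        rw [hΦdef, Algebra.TensorProduct.lift_tmul]
        simp only [map_one, mul_one, IsScalarTower.coe_toAlgHom']
        exact map_nonunit (algebraMap Bsh Dsh) b hb
      · intro c hc
        rw [Ideal.mem_comap, Ideal.mem_comap]
        show Φ ((1 : Bsh) ⊗ₜ[Ash] c) ∈ maximalIdeal Dsh
        rw [hΦdef, Algebra.TensorProduct.lift_tmul]
        simp only [map_one, one_mul, IsScalarTower.coe_toAlgHom']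
        exact map_nonunit (algebraMap Csh Dsh) c hc
    have hle : maximalIdeal (Bsh ⊗[Ash] Csh) ≤ (maximalIdeal Dsh).comap Φ.toRingHom := by
      intro x hx
      obtain ⟨n, hn⟩ := TensorPInsep.exists_pow_mem_J_of_not_isUnit Ash Bsh Csh
        (ringExpChar (ResidueField Csh)) ((mem_maximalIdeal x).mp hx)
      exact (inferInstance : ((maximalIdeal Dsh).comap Φ.toRingHom).IsPrime).mem_of_pow_mem _
        (hJ hn)
    exact ((maximalIdeal.isMaximal (Bsh ⊗[Ash] Csh)).eq_of_le
      (inferInstance : ((maximalIdeal Dsh).comap Φ.toRingHom).IsPrime).ne_top hle).symm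
  -- the map from the localization
  have hψ : (maximalIdeal (Bsh ⊗[Ash] Csh)).comap ψ = pD := by
    rw [← comap_maximalIdeal_of_isLocalHom Φ.toRingHom, Ideal.comap_comap, hΦψ,
      IsScalarTower.algebraMap_eq (B ⊗[A] C) (Localization.AtPrime pD) Dsh, ← Ideal.comap_comap,
      comap_maximalIdeal_of_isLocalHom]
    exact IsLocalization.AtPrime.under_maximalIdeal _ _
  let f : Localization.AtPrime pD →+* Bsh ⊗[Ash] Csh := liftLocal ψ pD hψ
  haveI hfloc : IsLocalHom f := isLocalHom_liftLocal ψ pD hψ
  have hΦf : Φ.toRingHom.comp f = algebraMap (Localization.AtPrime pD) Dsh := by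
    apply IsLocalization.ringHom_ext pD.primeCompl
    rw [RingHom.comp_assoc, liftLocal_comp, hΦψ, ← IsScalarTower.algebraMap_eq]
  have hΦf' : ∀ x, Φ (f x) = algebraMap (Localization.AtPrime pD) Dsh x :=
    fun x => RingHom.congr_fun hΦf x
  -- the residue field map of Φ is bijective
  have hbij : Function.Bijective (ResidueField.map Φ.toRingHom) := by
    refine ⟨(ResidueField.map Φ.toRingHom).injective, ?_⟩
    letI : Algebra (Localization.AtPrime pD) (Bsh ⊗[Ash] Csh) := f.toAlgebra
    haveI : IsLocalHom (algebraMap (Localization.AtPrime pD) (Bsh ⊗[Ash] Csh)) := hfloc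
    letI : Algebra (Bsh ⊗[Ash] Csh) Dsh := Φ.toRingHom.toAlgebra
    haveI : IsLocalHom (algebraMap (Bsh ⊗[Ash] Csh) Dsh) := hΦloc
    haveI : IsScalarTower (Localization.AtPrime pD) (Bsh ⊗[Ash] Csh) Dsh :=
      IsScalarTower.of_algebraMap_eq (fun x => (hΦf' x).symm)
    haveI := hDsh.isSepClosure.separable
    haveI : Algebra.IsSeparable (ResidueField (Bsh ⊗[Ash] Csh)) (ResidueField Dsh) :=
      Algebra.isSeparable_tower_top_of_isSeparable
        (ResidueField (Localization.AtPrime pD)) _ (ResidueField Dsh)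
    have := IsSepClosed.algebraMap_surjective (ResidueField (Bsh ⊗[Ash] Csh))
      (ResidueField Dsh)
    rw [← SHens.residueField_map_algebraMap] at this
    exact this
  let σ : ResidueField (Bsh ⊗[Ash] Csh) ≃+* ResidueField Dsh :=
    RingEquiv.ofBijective (ResidueField.map Φ.toRingHom) hbij
  have hσ : ∀ x, σ (residue _ x) = residue Dsh (Φ x) := fun x => rfl
  have hτ : (σ.symm : ResidueField Dsh →+* _).comp
      (ResidueField.map (algebraMap (Localization.AtPrime pD) Dsh)) = ResidueField.map f := by
    apply RingHom.ext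
    intro x
    obtain ⟨x, rfl⟩ := residue_surjective x
    simp only [RingHom.comp_apply, ResidueField.map_residue]
    rw [← hΦf', ← hσ]
    exact σ.symm_apply_apply _
  obtain ⟨g, ⟨hg1, hg2⟩, -⟩ := hDsh.universal (Bsh ⊗[Ash] Csh) f
    (σ.symm : ResidueField Dsh →+* _) hτ
  have hg1' : ∀ x, g (algebraMap (Localization.AtPrime pD) Dsh x) = f x :=
    fun x => RingHom.congr_fun hg1 x
  -- Φ ∘ g = id
  have hid : (RingHom.id (ResidueField Dsh)).comp
      (ResidueField.map (algebraMap (Localization.AtPrime pD) Dsh)) =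
      ResidueField.map (algebraMap (Localization.AtPrime pD) Dsh) := RingHom.id_comp _
  obtain ⟨k, -, hk⟩ := hDsh.universal Dsh (algebraMap (Localization.AtPrime pD) Dsh)
    (RingHom.id _) hid
  have e1 : Φ.toRingHom.comp g = k := hk _ ⟨by rw [RingHom.comp_assoc, hg1, hΦf], fun x => by
    rw [RingHom.comp_apply, RingHom.id_apply]
    show residue Dsh (Φ (g x)) = _
    rw [← hσ, hg2]
    exact σ.apply_symm_apply _⟩
  have e2 : RingHom.id Dsh = k := hk _ ⟨RingHom.id_comp _, fun x => rfl⟩
  have hΦg : ∀ y, Φ (g y) = y := fun y => RingHom.congr_fun (e1.trans e2.symm) y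
  -- g ∘ Φ = id
  have hres : ∀ x, residue (Bsh ⊗[Ash] Csh) (g (Φ x)) = residue _ x := by
    intro x
    rw [hg2, ← hσ]
    exact σ.symm_apply_apply _
  have hψD : ∀ d : B ⊗[A] C, g (Φ (ψ d)) = ψ d := by
    intro d
    have h1 : Φ (ψ d) = algebraMap (Localization.AtPrime pD) Dsh
        (algebraMap (B ⊗[A] C) (Localization.AtPrime pD) d) := by
      rw [← IsScalarTower.algebraMap_apply (B ⊗[A] C) (Localization.AtPrime pD) Dsh]
      exact RingHom.congr_fun hΦψ d
    rw [h1, hg1']
    exact liftLocal_apply ψ pD hψ d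
  have hgΦ : g.comp Φ.toRingHom = RingHom.id (Bsh ⊗[Ash] Csh) := by
    apply tensor_ringHom_ext
    · intro b
      let β : Bsh →+* Bsh ⊗[Ash] Csh :=
        (Algebra.TensorProduct.includeLeft : Bsh →ₐ[Ash] Bsh ⊗[Ash] Csh).toRingHom
      let α : Bsh →+* Bsh ⊗[Ash] Csh := (g.comp Φ.toRingHom).comp β
      haveI : IsLocalHom β := hincL
      let fB : Localization.AtPrime pB →+* Bsh ⊗[Ash] Csh :=
        β.comp (algebraMap (Localization.AtPrime pB) Bsh)
      haveI : IsLocalHom fB := RingHom.isLocalHom_comp _ _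
      have hτB : (ResidueField.map β).comp
          (ResidueField.map (algebraMap (Localization.AtPrime pB) Bsh)) = ResidueField.map fB :=
        (ResidueField.map_comp _ _).symm
      obtain ⟨k', -, hk'⟩ := hBsh.universal (Bsh ⊗[Ash] Csh) fB (ResidueField.map β) hτB
      have hα : α.comp (algebraMap (Localization.AtPrime pB) Bsh) = fB := by
        apply IsLocalization.ringHom_ext pB.primeCompl
        ext b₀
        show g (Φ (β (algebraMap (Localization.AtPrime pB) Bsh (algebraMap B _ b₀)))) =
          β (algebraMap (Localization.AtPrime pB) Bsh (algebraMap B _ b₀))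
        rw [← IsScalarTower.algebraMap_apply B (Localization.AtPrime pB) Bsh]
        show g (Φ ((algebraMap B Bsh b₀) ⊗ₜ[Ash] (1 : Csh))) = (algebraMap B Bsh b₀) ⊗ₜ[Ash] 1
        have h1 : (algebraMap B Bsh b₀) ⊗ₜ[Ash] (1 : Csh) = ψ (b₀ ⊗ₜ[A] 1) := by
          rw [hψdef, psi'_tmul, map_one]
        rw [h1, hψD]
      have hαres : ∀ x, residue (Bsh ⊗[Ash] Csh) (α x) =
          ResidueField.map β (residue Bsh x) := by
        intro x
        show residue _ (g (Φ (β x))) = _
        rw [hres, ResidueField.map_residue]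
      have e1' : α = k' := hk' α ⟨hα, hαres⟩
      have e2' : β = k' := hk' β ⟨rfl, fun x => (ResidueField.map_residue β x).symm⟩
      exact RingHom.congr_fun (e1'.trans e2'.symm) b
    · intro c
      let β : Csh →+* Bsh ⊗[Ash] Csh :=
        (Algebra.TensorProduct.includeRight : Csh →ₐ[Ash] Bsh ⊗[Ash] Csh).toRingHom
      let α : Csh →+* Bsh ⊗[Ash] Csh := (g.comp Φ.toRingHom).comp β
      haveI : IsLocalHom β := hincR
      let fC : Localization.AtPrime pC →+* Bsh ⊗[Ash] Csh :=
        β.comp (algebraMap (Localization.AtPrime pC) Csh)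
      haveI : IsLocalHom fC := RingHom.isLocalHom_comp _ _
      have hτC : (ResidueField.map β).comp
          (ResidueField.map (algebraMap (Localization.AtPrime pC) Csh)) = ResidueField.map fC :=
        (ResidueField.map_comp _ _).symm
      obtain ⟨k', -, hk'⟩ := hCsh.universal (Bsh ⊗[Ash] Csh) fC (ResidueField.map β) hτC
      have hα : α.comp (algebraMap (Localization.AtPrime pC) Csh) = fC := by
        apply IsLocalization.ringHom_ext pC.primeCompl
        ext c₀
        show g (Φ (β (algebraMap (Localization.AtPrime pC) Csh (algebraMap C _ c₀)))) =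
          β (algebraMap (Localization.AtPrime pC) Csh (algebraMap C _ c₀))
        rw [← IsScalarTower.algebraMap_apply C (Localization.AtPrime pC) Csh]
        show g (Φ ((1 : Bsh) ⊗ₜ[Ash] (algebraMap C Csh c₀))) = 1 ⊗ₜ[Ash] (algebraMap C Csh c₀)
        have h1 : (1 : Bsh) ⊗ₜ[Ash] (algebraMap C Csh c₀) = ψ (1 ⊗ₜ[A] c₀) := by
          rw [hψdef, psi'_tmul, map_one]
        rw [h1, hψD]
      have hαres : ∀ x, residue (Bsh ⊗[Ash] Csh) (α x) =
          ResidueField.map β (residue Csh x) := by
        intro x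
        show residue _ (g (Φ (β x))) = _
        rw [hres, ResidueField.map_residue]
      have e1' : α = k' := hk' α ⟨hα, hαres⟩
      have e2' : β = k' := hk' β ⟨rfl, fun x => (ResidueField.map_residue β x).symm⟩
      exact RingHom.congr_fun (e1'.trans e2'.symm) c
  refine ⟨?_, fun y => ⟨g y, hΦg y⟩⟩
  intro x y hxy
  have hx := RingHom.congr_fun hgΦ x
  have hy := RingHom.congr_fun hgΦ y
  simp only [RingHom.comp_apply, RingHom.id_apply] at hx hy
  rw [← hx, ← hy]
  exact congrArg g hxy


include hAsh hBsh hCsh hDsh hC in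
theorem S9467_main
    (hB : ∀ s : Finset B, ∃ B₀ : Subalgebra A B, (↑s : Set B) ⊆ ↑B₀ ∧
      Algebra.FiniteType A ↥B₀ ∧ Algebra.QuasiFinite A ↥B₀) :
    Function.Bijective (Phi Ash Bsh Csh Dsh) := by
  haveI hhA : HenselianLocalRing Ash := hAsh.henselian
  have hlies : (Ideal.comap (phi A B Ash Bsh) (maximalIdeal Bsh)).LiesOver (maximalIdeal Ash) := by
    constructor
    rw [← SHensGen.comap_algebraMap_Rh A B pA pB (Localization.AtPrime pA)
      (Localization.AtPrime pB) Ash Bsh]
    ext a
    simp only [Ideal.under_def, Ideal.mem_comap]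
    show _ ↔ phi A B Ash Bsh (a ⊗ₜ 1) ∈ _
    simp [phi]
  haveI : Algebra.IsIntegral Ash
      (Localization.AtPrime (Ideal.comap (phi A B Ash Bsh) (maximalIdeal Bsh))) :=
    SHensIndQF.isIntegral_localization_of_indQuasiFinite A B Ash _ hlies hB
  haveI : Algebra.IsIntegral Ash Bsh :=
    SHensGen.isIntegral_of_isIntegral_localization A B pA pB (Localization.AtPrime pA)
      (Localization.AtPrime pB) Ash Bsh
  exact bijective_of_isIntegral A B C pA pB pC pD Ash Bsh Csh Dsh hC

include hAsh hBsh hCsh hDsh hC in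
theorem S9471_main [Algebra.IsIntegral A B] :
    Function.Bijective (Phi Ash Bsh Csh Dsh) := by
  apply S9467_main A B C pA pB pC pD Ash Bsh Csh Dsh hC
  intro s
  refine ⟨Algebra.adjoin A (↑s : Set B), Algebra.subset_adjoin, ?_, ?_⟩
  · exact (Subalgebra.fg_iff_finiteType _).mp (Subalgebra.fg_adjoin_finset s)
  · haveI : Module.Finite A (Algebra.adjoin A (↑s : Set B)) :=
      Module.Finite.iff_fg.mpr (fg_adjoin_of_finite s.finite_toSet
        (fun x _ => Algebra.IsIntegral.isIntegral x))
    infer_instance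

theorem isLocalization_self_of_isLocalRing (R : Type*) [CommRing R] [IsLocalRing R] :
    IsLocalization.AtPrime R (maximalIdeal R) := by
  apply IsLocalization.self
  intro x hx
  have h1 : x ∉ maximalIdeal R := hx
  rw [mem_maximalIdeal, mem_nonunits_iff, not_not] at h1
  exact h1

include hAsh hBsh hCsh hDsh hC in
theorem S9473_main
    [Algebra (Localization.AtPrime pA) (Localization.AtPrime pB)]
    [IsScalarTower A (Localization.AtPrime pA) (Localization.AtPrime pB)]
    (hB : ∀ s : Finset (Localization.AtPrime pB),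
      ∃ B₀ : Subalgebra (Localization.AtPrime pA) (Localization.AtPrime pB),
        (↑s : Set (Localization.AtPrime pB)) ⊆ ↑B₀ ∧
          Algebra.FiniteType (Localization.AtPrime pA) ↥B₀ ∧
            Algebra.QuasiFinite (Localization.AtPrime pA) ↥B₀) :
    Function.Bijective (Phi Ash Bsh Csh Dsh) := by
  haveI hhA : HenselianLocalRing Ash := hAsh.henselian
  haveI hloc : IsLocalHom (algebraMap (Localization.AtPrime pA) (Localization.AtPrime pB)) := by
    apply HensTensor.isLocalHom_of_comap pA
    rw [← IsScalarTower.algebraMap_eq A (Localization.AtPrime pA) (Localization.AtPrime pB),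
      IsScalarTower.algebraMap_eq A B (Localization.AtPrime pB), ← Ideal.comap_comap]
    have h1 : (maximalIdeal (Localization.AtPrime pB)).comap (algebraMap B _) = pB :=
      IsLocalization.AtPrime.under_maximalIdeal _ _
    rw [h1]
    exact ((inferInstance : pB.LiesOver pA).over).symm
  haveI : IsLocalization.AtPrime (Localization.AtPrime pA)
      (maximalIdeal (Localization.AtPrime pA)) := isLocalization_self_of_isLocalRing _
  haveI : IsLocalization.AtPrime (Localization.AtPrime pB)
      (maximalIdeal (Localization.AtPrime pB)) := isLocalization_self_of_isLocalRing _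
  letI : Algebra (Localization.AtPrime pA) Bsh :=
    ((algebraMap (Localization.AtPrime pB) Bsh).comp
      (algebraMap (Localization.AtPrime pA) (Localization.AtPrime pB))).toAlgebra
  haveI : IsScalarTower (Localization.AtPrime pA) (Localization.AtPrime pB) Bsh :=
    IsScalarTower.of_algebraMap_eq (fun _ => rfl)
  haveI : IsScalarTower (Localization.AtPrime pA) Ash Bsh := by
    apply IsScalarTower.of_algebraMap_eq'
    apply IsLocalization.ringHom_ext pA.primeCompl
    ext a
    show algebraMap (Localization.AtPrime pB) Bsh (algebraMap (Localization.AtPrime pA)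
      (Localization.AtPrime pB) (algebraMap A (Localization.AtPrime pA) a)) =
      algebraMap Ash Bsh (algebraMap (Localization.AtPrime pA) Ash
        (algebraMap A (Localization.AtPrime pA) a))
    rw [← IsScalarTower.algebraMap_apply A (Localization.AtPrime pA) (Localization.AtPrime pB),
      IsScalarTower.algebraMap_apply A B (Localization.AtPrime pB),
      ← IsScalarTower.algebraMap_apply B (Localization.AtPrime pB) Bsh,
      ← IsScalarTower.algebraMap_apply A B Bsh,
      ← IsScalarTower.algebraMap_apply A (Localization.AtPrime pA) Ash,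
      ← IsScalarTower.algebraMap_apply A Ash Bsh]
  have hlies : (Ideal.comap (phi (Localization.AtPrime pA) (Localization.AtPrime pB) Ash Bsh)
      (maximalIdeal Bsh)).LiesOver (maximalIdeal Ash) := by
    constructor
    rw [← comap_maximalIdeal_of_isLocalHom (algebraMap Ash Bsh)]
    ext a
    simp only [Ideal.under_def, Ideal.mem_comap]
    show _ ↔ phi (Localization.AtPrime pA) (Localization.AtPrime pB) Ash Bsh (a ⊗ₜ 1) ∈ _
    simp [phi]
  haveI : Algebra.IsIntegral Ash
      (Localization.AtPrime (Ideal.comap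
        (phi (Localization.AtPrime pA) (Localization.AtPrime pB) Ash Bsh)
        (maximalIdeal Bsh))) :=
    SHensIndQF.isIntegral_localization_of_indQuasiFinite (Localization.AtPrime pA)
      (Localization.AtPrime pB) Ash _ hlies hB
  haveI : Algebra.IsIntegral Ash Bsh :=
    SHensGen.isIntegral_of_isIntegral_localization (Localization.AtPrime pA)
      (Localization.AtPrime pB) (maximalIdeal (Localization.AtPrime pA))
      (maximalIdeal (Localization.AtPrime pB)) (Localization.AtPrime pA)
      (Localization.AtPrime pB) Ash Bsh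
  exact bijective_of_isIntegral A B C pA pB pC pD Ash Bsh Csh Dsh hC

end main2

end Groth.Agent.Helper7.SHensTensorBij
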