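import Mathlib

set_option autoImplicit false
universe u
open CategoryTheory CategoryTheory.Limits AlgebraicGeometry

/-! helper7: `geometrically P` is insensitive to extension of the base field
(`geometrically_iff_of_isPullback_field`), hence the locus of points with geometrically connected /
irreducible / reduced fibres commutes with base change (`main9765`, `main9764`, `main9735`). -/

namespace Groth.Agent.Helper7.GeomFib

instance surjective_specMap_field {L Ω : Type u} [Field L] [Field Ω] (i : L →+* Ω) :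
    Surjective (Spec.map (CommRingCat.ofHom i)) :=
  ⟨fun _ => ⟨(default : PrimeSpectrum Ω), Subsingleton.elim (α := PrimeSpectrum L) _ _⟩⟩

/-- a common field extension of two extensions of `k` -/
theorem exists_common_extension (k L K : Type u) [Field k] [Field L] [Field K]
    (a : k →+* L) (b : k →+* K) :
    ∃ (Ω : Type u) (_ : Field Ω) (iL : L →+* Ω) (iK : K →+* Ω), iL.comp a = iK.comp b := by
  algebraize [a, b]
  obtain ⟨m, hm⟩ := Ideal.exists_maximal (TensorProduct k L K)
  let _ : Field (TensorProduct k L K ⧸ m) := Ideal.Quotient.field m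
  refine ⟨TensorProduct k L K ⧸ m, inferInstance,
    (Ideal.Quotient.mk m).comp (Algebra.TensorProduct.includeLeftRingHom),
    (Ideal.Quotient.mk m).comp (Algebra.TensorProduct.includeRight (R := k) (A := L) (B := K)).toRingHom,
    ?_⟩
  ext x
  simp only [RingHom.coe_comp, Function.comp_apply, Algebra.TensorProduct.includeLeftRingHom_apply,
    AlgHom.toRingHom_eq_coe, RingHom.coe_coe, Algebra.TensorProduct.includeRight_apply]
  congr 1
  change (algebraMap k L x) ⊗ₜ[k] (1 : K) = (1 : L) ⊗ₜ[k] (algebraMap k K x)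
  rw [Algebra.algebraMap_eq_smul_one, Algebra.algebraMap_eq_smul_one, TensorProduct.smul_tmul]

theorem geometrically_of_isPullback_field {P : ObjectProperty Scheme.{u}}
    (hP : ∀ {L Ω : Type u} [Field L] [Field Ω] (i : L →+* Ω) {Z : Scheme.{u}}
      (snd : Z ⟶ Spec (.of L)), P (pullback snd (Spec.map (CommRingCat.ofHom i))) → P Z)
    {k K : Type u} [Field k] [Field K] (φ : CommRingCat.of k ⟶ CommRingCat.of K)
    {V W : Scheme.{u}} (b : V ⟶ Spec (.of k)) (a : W ⟶ Spec (.of K)) (t : W ⟶ V)
    (h : IsPullback t a b (Spec.map φ)) (ha : geometrically P a) : geometrically P b := by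
  intro L _ y Z fst snd hZ
  obtain ⟨ψ, rfl⟩ := Spec.map_surjective y
  obtain ⟨Ω, _, iL, iK, hcomm⟩ := exists_common_extension k L K ψ.hom φ.hom
  apply hP iL snd
  have hcomm' : Spec.map (CommRingCat.ofHom iK) ≫ Spec.map φ =
      Spec.map (CommRingCat.ofHom iL) ≫ Spec.map ψ := by
    rw [← Spec.map_comp, ← Spec.map_comp]
    congr 1
    ext x
    exact (congrArg (fun r => r x) hcomm).symm
  have hw : (pullback.fst snd (Spec.map (CommRingCat.ofHom iL)) ≫ fst) ≫ b =
      (pullback.snd snd (Spec.map (CommRingCat.ofHom iL)) ≫ Spec.map (CommRingCat.ofHom iK)) ≫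
        Spec.map φ := by
    rw [Category.assoc, hZ.w, ← Category.assoc, pullback.condition, Category.assoc, Category.assoc,
      hcomm']
  have hbig : IsPullback (pullback.snd snd (Spec.map (CommRingCat.ofHom iL)))
      (h.lift _ _ hw ≫ t) (Spec.map (CommRingCat.ofHom iK) ≫ Spec.map φ) b := by
    rw [h.lift_fst, hcomm']
    exact (IsPullback.of_hasPullback snd (Spec.map (CommRingCat.ofHom iL))).flip.paste_vert hZ.flip
  have hsq : IsPullback (pullback.snd snd (Spec.map (CommRingCat.ofHom iL))) (h.lift _ _ hw)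
      (Spec.map (CommRingCat.ofHom iK)) a :=
    IsPullback.of_bot hbig (h.lift_snd _ _ hw).symm h.flip
  exact ha (Spec.map (CommRingCat.ofHom iK)) _ _ hsq.flip

theorem geometrically_iff_of_isPullback_field {P : ObjectProperty Scheme.{u}}
    (hP : ∀ {L Ω : Type u} [Field L] [Field Ω] (i : L →+* Ω) {Z : Scheme.{u}}
      (snd : Z ⟶ Spec (.of L)), P (pullback snd (Spec.map (CommRingCat.ofHom i))) → P Z)
    {k K : Type u} [Field k] [Field K] (φ : CommRingCat.of k ⟶ CommRingCat.of K)
    {V W : Scheme.{u}} (b : V ⟶ Spec (.of k)) (a : W ⟶ Spec (.of K)) (t : W ⟶ V)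
    (h : IsPullback t a b (Spec.map φ)) : geometrically P a ↔ geometrically P b :=
  ⟨geometrically_of_isPullback_field hP φ b a t h,
    fun hb => MorphismProperty.of_isPullback (P := geometrically P) h hb⟩

/-- the general fibre statement -/
theorem fibre_locus {P : ObjectProperty Scheme.{u}}
    (hP : ∀ {L Ω : Type u} [Field L] [Field Ω] (i : L →+* Ω) {Z : Scheme.{u}}
      (snd : Z ⟶ Spec (.of L)), P (pullback snd (Spec.map (CommRingCat.ofHom i))) → P Z)
    {X Y X' Y' : Scheme.{u}} (f : X ⟶ Y) (g : Y' ⟶ Y) (f' : X' ⟶ Y') (g' : X' ⟶ X)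
    (hc : IsPullback g' f' f g) (y' : Y') :
    geometrically P (f'.fiberToSpecResidueField y') ↔
      geometrically P (f.fiberToSpecResidueField (g y')) :=
  geometrically_iff_of_isPullback_field hP (g.residueFieldMap y') _ _ _
    (isPullback_fiberToSpecResidueField_of_isPullback hc y')

theorem main9765 {X Y X' Y' : Scheme.{u}} (f : X ⟶ Y) (g : Y' ⟶ Y) (f' : X' ⟶ Y') (g' : X' ⟶ X)
    (hc : IsPullback g' f' f g) :
    {y' : ↑Y' | GeometricallyConnected (f'.fiberToSpecResidueField y')} =
      g ⁻¹' {y : ↑Y | GeometricallyConnected (f.fiberToSpecResidueField y)} := by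
  ext y'
  simp only [Set.mem_ofPred_eq, Set.mem_preimage, GeometricallyConnected.eq_geometrically]
  refine fibre_locus (P := (ConnectedSpace ·)) ?_ f g f' g' hc y'
  intro L Ω _ _ i Z snd hZ
  have hZ' : ConnectedSpace ↥(pullback snd (Spec.map (CommRingCat.ofHom i))) := hZ
  exact (pullback.fst snd (Spec.map (CommRingCat.ofHom i))).surjective.connectedSpace
    (pullback.fst snd (Spec.map (CommRingCat.ofHom i))).continuous

theorem main9764 {X Y X' Y' : Scheme.{u}} (f : X ⟶ Y) (g : Y' ⟶ Y) (f' : X' ⟶ Y') (g' : X' ⟶ X)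
    (hc : IsPullback g' f' f g) :
    {y' : ↑Y' | GeometricallyIrreducible (f'.fiberToSpecResidueField y')} =
      g ⁻¹' {y : ↑Y | GeometricallyIrreducible (f.fiberToSpecResidueField y)} := by
  ext y'
  simp only [Set.mem_ofPred_eq, Set.mem_preimage, GeometricallyIrreducible.eq_geometrically]
  refine fibre_locus (P := (IrreducibleSpace ·)) ?_ f g f' g' hc y'
  intro L Ω _ _ i Z snd hZ
  have hZ' : IrreducibleSpace ↥(pullback snd (Spec.map (CommRingCat.ofHom i))) := hZ
  exact (pullback.fst snd (Spec.map (CommRingCat.ofHom i))).surjective.irreducibleSpace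
    (pullback.fst snd (Spec.map (CommRingCat.ofHom i))).continuous

theorem main9735 {X Y X' Y' : Scheme.{u}} (f : X ⟶ Y) (g : Y' ⟶ Y) (f' : X' ⟶ Y') (g' : X' ⟶ X)
    (hc : IsPullback g' f' f g) :
    {y' : ↑Y' | GeometricallyReduced (f'.fiberToSpecResidueField y')} =
      g ⁻¹' {y : ↑Y | GeometricallyReduced (f.fiberToSpecResidueField y)} := by
  ext y'
  simp only [Set.mem_ofPred_eq, Set.mem_preimage, GeometricallyReduced.eq_geometrically]
  refine fibre_locus (P := IsReduced) ?_ f g f' g' hc y'
  intro L Ω _ _ i Z snd hZ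
  have hZ' : IsReduced (pullback snd (Spec.map (CommRingCat.ofHom i))) := hZ
  have hsub : Subsingleton ↥(Spec (CommRingCat.of L)) :=
    inferInstanceAs (Subsingleton (PrimeSpectrum L))
  have hint : IsIntegral (Spec (CommRingCat.of L)) := inferInstance
  have hflat : Flat snd := inferInstance
  have hdom : IsSchemeTheoreticallyDominant (Spec.map (CommRingCat.ofHom i)) :=
    IsSchemeTheoreticallyDominant.of_isDominant _
  have := IsSchemeTheoreticallyDominant.pullbackFst snd (Spec.map (CommRingCat.ofHom i))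
  exact IsSchemeTheoreticallyDominant.isReduced (pullback.fst snd (Spec.map (CommRingCat.ofHom i)))

end Groth.Agent.Helper7.GeomFib
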