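import Mathlib
import Groth.Agent.Lib.Helper7.LimBC

set_option autoImplicit false
open CategoryTheory CategoryTheory.Limits AlgebraicGeometry Opposite TopologicalSpace
universe u

/-! helper7: the fibre square of a cofiltered limit over a base is the limit of the fibre squares;
a limit of schemes with affine transition maps which is separated over a quasi-separated base has
separated stages beyond some index (Stacks 086Q and its relative form). -/

namespace Groth.Agent.Helper7.LimProd

variable {I : Type u} [Category.{u} I] (S : Scheme.{u}) (D : I ⥤ Scheme.{u})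
  (t : D ⟶ (Functor.const I).obj S) (c : Cone D)

set_option backward.isDefEq.respectTransparency false in
theorem map_t {i j : I} (φ : i ⟶ j) : D.map φ ≫ t.app j = t.app i := by
  have := t.naturality φ
  simp only [Functor.const_obj_obj, Functor.const_obj_map, Category.comp_id] at this
  exact this

set_option backward.isDefEq.respectTransparency false in
theorem map_t' {i j : I} (φ : i ⟶ j) : t.app i ≫ 𝟙 S = D.map φ ≫ t.app j := by
  rw [map_t]; exact Category.comp_id _

set_option backward.isDefEq.respectTransparency false in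
theorem π_t [IsCofiltered I] (i j : I) : c.π.app i ≫ t.app i = c.π.app j ≫ t.app j := by
  obtain ⟨k, a, b, -⟩ := IsCofilteredOrEmpty.cone_objs i j
  rw [← c.w a, ← c.w b, Category.assoc, Category.assoc, map_t, map_t]

set_option backward.isDefEq.respectTransparency false in
/-- the diagram of the fibre squares `Dᵢ ×_S Dᵢ`. -/
noncomputable def prodDiagram : I ⥤ Scheme.{u} where
  obj i := pullback (t.app i) (t.app i)
  map {i j} φ := pullback.map (t.app i) (t.app i) (t.app j) (t.app j) (D.map φ) (D.map φ) (𝟙 S)
    (map_t' S D t φ) (map_t' S D t φ)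
  map_id i := by apply pullback.hom_ext <;> simp [pullback.map]
  map_comp φ ψ := by apply pullback.hom_ext <;> simp [pullback.map]

set_option backward.isDefEq.respectTransparency false in
@[reassoc (attr := simp)]
theorem prodDiagram_map_fst {i j : I} (φ : i ⟶ j) :
    (prodDiagram S D t).map φ ≫ pullback.fst (t.app j) (t.app j) =
      pullback.fst (t.app i) (t.app i) ≫ D.map φ := by
  simp [prodDiagram, pullback.map]

set_option backward.isDefEq.respectTransparency false in
@[reassoc (attr := simp)]
theorem prodDiagram_map_snd {i j : I} (φ : i ⟶ j) :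
    (prodDiagram S D t).map φ ≫ pullback.snd (t.app j) (t.app j) =
      pullback.snd (t.app i) (t.app i) ≫ D.map φ := by
  simp [prodDiagram, pullback.map]

variable [IsCofiltered I] (i₀ : I)

set_option backward.isDefEq.respectTransparency false in
theorem π_t' (i j : I) :
    (c.π.app j ≫ t.app j) ≫ 𝟙 S = c.π.app i ≫ t.app i := by
  rw [π_t S D t c i j]; exact Category.comp_id _

set_option backward.isDefEq.respectTransparency false in
/-- the cone over the diagram of fibre squares with apex the fibre square of the limit. -/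
noncomputable def prodCone : Cone (prodDiagram S D t) where
  pt := pullback (c.π.app i₀ ≫ t.app i₀) (c.π.app i₀ ≫ t.app i₀)
  π :=
    { app i := pullback.map _ _ (t.app i) (t.app i) (c.π.app i) (c.π.app i) (𝟙 S)
        (π_t' S D t c i i₀) (π_t' S D t c i i₀)
      naturality i j φ := by
        apply pullback.hom_ext <;> simp [pullback.map, prodDiagram] }

set_option backward.isDefEq.respectTransparency false in
@[reassoc (attr := simp)]
theorem prodCone_π_fst (i : I) :
    (prodCone S D t c i₀).π.app i ≫ pullback.fst (t.app i) (t.app i) =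
      pullback.fst _ _ ≫ c.π.app i := by
  simp [prodCone, pullback.map]

set_option backward.isDefEq.respectTransparency false in
@[reassoc (attr := simp)]
theorem prodCone_π_snd (i : I) :
    (prodCone S D t c i₀).π.app i ≫ pullback.snd (t.app i) (t.app i) =
      pullback.snd _ _ ≫ c.π.app i := by
  simp [prodCone, pullback.map]

variable {S D t c}

set_option backward.isDefEq.respectTransparency false in
/-- auxiliary cones. -/
noncomputable def fstCone (s : Cone (prodDiagram S D t)) : Cone D where
  pt := s.pt
  π :=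
    { app i := s.π.app i ≫ pullback.fst (t.app i) (t.app i)
      naturality i j φ := by
        simp only [Functor.const_obj_obj, Functor.const_obj_map, Category.id_comp, Category.assoc]
        rw [← prodDiagram_map_fst, ← Category.assoc, s.w] }

set_option backward.isDefEq.respectTransparency false in
noncomputable def sndCone (s : Cone (prodDiagram S D t)) : Cone D where
  pt := s.pt
  π :=
    { app i := s.π.app i ≫ pullback.snd (t.app i) (t.app i)
      naturality i j φ := by
        simp only [Functor.const_obj_obj, Functor.const_obj_map, Category.id_comp, Category.assoc]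
        rw [← prodDiagram_map_snd, ← Category.assoc, s.w] }

set_option backward.isDefEq.respectTransparency false in
/-- the fibre square of the limit is the limit of the fibre squares. -/
noncomputable def isLimitProdCone (hc : IsLimit c) : IsLimit (prodCone S D t c i₀) where
  lift s := pullback.lift (hc.lift (fstCone s)) (hc.lift (sndCone s)) (by
    rw [← Category.assoc, ← Category.assoc, hc.fac, hc.fac]
    simp only [fstCone, sndCone, Category.assoc, pullback.condition])
  fac s i := by
    apply pullback.hom_ext
    · simp [fstCone]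
    · simp [sndCone]
  uniq s m hm := by
    apply pullback.hom_ext
    · apply hc.hom_ext
      intro i
      simp only [pullback.lift_fst, hc.fac, fstCone, Category.assoc]
      rw [← hm i, Category.assoc, prodCone_π_fst]
    · apply hc.hom_ext
      intro i
      simp only [pullback.lift_snd, hc.fac, sndCone, Category.assoc]
      rw [← hm i, Category.assoc, prodCone_π_snd]

section Diag

/-- points of a cartesian square of schemes. -/
theorem exists_of_isPullback' {P X Y S : Scheme.{u}} {p₁ : P ⟶ X} {p₂ : P ⟶ Y} {f : X ⟶ S}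
    {g : Y ⟶ S} (h : IsPullback p₁ p₂ f g) (x : X) (y : Y) (hxy : f x = g y) :
    ∃ z : P, p₁ z = x ∧ p₂ z = y := by
  obtain ⟨z, hz1, hz2⟩ := Scheme.Pullback.exists_preimage_pullback x y hxy
  refine ⟨h.isoPullback.inv z, ?_, ?_⟩
  · rw [← Scheme.Hom.comp_apply, IsPullback.isoPullback_inv_fst, hz1]
  · rw [← Scheme.Hom.comp_apply, IsPullback.isoPullback_inv_snd, hz2]

set_option backward.isDefEq.respectTransparency false in
/-- for a separated `φ : X ⟶ T` over `S`, a point of the closure of the diagonal of `X/S` which maps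
into the diagonal of `T/S` lies on the diagonal of `X/S`. -/
theorem mem_range_diagonal_of_map_mem {X T S : Scheme.{u}} (φ : X ⟶ T) [IsSeparated φ]
    (b : T ⟶ S) (a : X ⟶ S) (e : φ ≫ b = a) (h₁ : a ≫ 𝟙 S = φ ≫ b) (z : ↥(pullback a a))
    (hz : z ∈ closure (Set.range (pullback.diagonal a)))
    (hm : pullback.map a a b b φ φ (𝟙 S) h₁ h₁ z ∈ Set.range (pullback.diagonal b)) :
    z ∈ Set.range (pullback.diagonal a) := by
  subst e
  have sq := pullback_map_diagonal_isPullback φ φ b
  obtain ⟨x, hx⟩ := hm
  obtain ⟨w, -, hw⟩ := exists_of_isPullback' sq x z hx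
  have hβ : IsImmersion (pullback.map φ φ (φ ≫ b) (φ ≫ b) (𝟙 X) (𝟙 X) b
      (Category.id_comp _).symm (Category.id_comp _).symm) :=
    MorphismProperty.of_isPullback sq inferInstance
  have hδβ : pullback.diagonal φ ≫ pullback.map φ φ (φ ≫ b) (φ ≫ b) (𝟙 X) (𝟙 X) b
      (Category.id_comp _).symm (Category.id_comp _).symm = pullback.diagonal (φ ≫ b) := by
    apply pullback.hom_ext <;> simp [pullback.map]
  have hemb := (pullback.map φ φ (φ ≫ b) (φ ≫ b) (𝟙 X) (𝟙 X) b
      (Category.id_comp _).symm (Category.id_comp _).symm).isEmbedding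
  have hw' : w ∈ closure (Set.range (pullback.diagonal φ)) := by
    rw [hemb.closure_eq_preimage_closure_image, Set.mem_preimage, hw, ← Set.range_comp]
    have : Set.range (⇑(pullback.map φ φ (φ ≫ b) (φ ≫ b) (𝟙 X) (𝟙 X) b
        (Category.id_comp _).symm (Category.id_comp _).symm) ∘ ⇑(pullback.diagonal φ)) =
        Set.range (pullback.diagonal (φ ≫ b)) := by
      rw [← hδβ]; rfl
    rw [this]
    exact hz
  rw [(pullback.diagonal φ).isClosedEmbedding.isClosed_range.closure_eq] at hw'
  obtain ⟨x', rfl⟩ := hw'
  refine ⟨x', ?_⟩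
  rw [← hw, ← Scheme.Hom.comp_apply, hδβ]

end Diag

section Main

variable (S : Scheme.{u}) (D : I ⥤ Scheme.{u}) (t : D ⟶ (Functor.const I).obj S) (c : Cone D)
  [∀ {i j : I} (f : i ⟶ j), IsAffineHom (D.map f)]

instance {i j : I} (φ : i ⟶ j) : IsAffineHom ((prodDiagram S D t).map φ) :=
  MorphismProperty.pullbackMap (P := @IsAffineHom) inferInstance inferInstance
    (map_t S D t φ).symm (map_t S D t φ).symm

set_option backward.isDefEq.respectTransparency false in
omit [IsCofiltered I] [∀ {i j : I} (f : i ⟶ j), IsAffineHom (D.map f)] in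
theorem diagonal_map {i j : I} (φ : i ⟶ j) :
    pullback.diagonal (t.app i) ≫ (prodDiagram S D t).map φ =
      D.map φ ≫ pullback.diagonal (t.app j) := by
  apply pullback.hom_ext <;> simp [prodDiagram, pullback.map]

set_option backward.isDefEq.respectTransparency false in
omit [∀ {i j : I} (f : i ⟶ j), IsAffineHom (D.map f)] in
theorem diagonal_π (i₀ i : I) :
    pullback.diagonal (c.π.app i₀ ≫ t.app i₀) ≫ (prodCone S D t c i₀).π.app i =
      c.π.app i ≫ pullback.diagonal (t.app i) := by
  apply pullback.hom_ext <;> simp [prodCone, pullback.map]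

/-- the boundary of the diagonal of `Dᵢ / S`. -/
def bd (i : I) : Set ↥((prodDiagram S D t).obj i) :=
  closure (Set.range (pullback.diagonal (t.app i))) \ Set.range (pullback.diagonal (t.app i))

omit [IsCofiltered I] [∀ {i j : I} (f : i ⟶ j), IsAffineHom (D.map f)] in
theorem isClosed_bd (i : I) : IsClosed (bd S D t i) := by
  have h : bd S D t i = (coborder (Set.range (pullback.diagonal (t.app i))))ᶜ := by
    rw [bd, coborder, compl_compl]
    rfl
  rw [h]
  exact (pullback.diagonal (t.app i)).isLocallyClosed_range.isOpen_coborder.isClosed_compl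

set_option backward.isDefEq.respectTransparency false in
omit [IsCofiltered I] in
theorem mapsTo_bd {i j : I} (φ : i ⟶ j) :
    Set.MapsTo ((prodDiagram S D t).map φ) (bd S D t i) (bd S D t j) := by
  rintro z ⟨hz1, hz2⟩
  refine ⟨?_, fun hm => hz2 ?_⟩
  · have hcont := ((prodDiagram S D t).map φ).continuous
    have := map_mem_closure hcont hz1 (t := Set.range (pullback.diagonal (t.app j))) (by
      rintro _ ⟨x, rfl⟩
      refine ⟨D.map φ x, ?_⟩
      rw [← Scheme.Hom.comp_apply, ← diagonal_map, Scheme.Hom.comp_apply]
      rfl)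
    exact this
  · exact mem_range_diagonal_of_map_mem (D.map φ) (t.app j) (t.app i) (map_t S D t φ)
      (map_t' S D t φ) z hz1 hm

omit [IsCofiltered I] [∀ {i j : I} (f : i ⟶ j), IsAffineHom (D.map f)] in
theorem isSeparated_of_bd_eq_empty (i : I) (h : bd S D t i = ∅) : IsSeparated (t.app i) := by
  refine ⟨IsClosedImmersion.of_isPreimmersion _ ?_⟩
  rw [bd, Set.sdiff_eq_empty] at h
  exact closure_subset_iff_isClosed.mp h

set_option backward.isDefEq.respectTransparency false in
/-- if the limit is separated over `S`, so are all stages beyond some index. -/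
theorem eventually_isSeparated (hc : IsLimit c) [QuasiSeparatedSpace S]
    [∀ i, CompactSpace (D.obj i)] [∀ i, QuasiSeparatedSpace (D.obj i)] (i₀ : I)
    [IsSeparated (c.π.app i₀ ≫ t.app i₀)] :
    ∃ i₁ : I, ∀ (i : I) (_ : i ⟶ i₁), IsSeparated (t.app i) := by
  suffices ∃ i₁, bd S D t i₁ = ∅ by
    obtain ⟨i₁, h⟩ := this
    refine ⟨i₁, fun i φ => isSeparated_of_bd_eq_empty S D t i ?_⟩
    rw [Set.eq_empty_iff_forall_notMem]
    intro z hz
    have := mapsTo_bd S D t φ hz
    rw [h] at this
    exact this
  by_contra! H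
  have hcomp : ∀ i, CompactSpace ((prodDiagram S D t).obj i) := by
    intro i
    have : QuasiCompact (t.app i) := @quasiCompact_of_compactSpace (D.obj i) S (t.app i) _ _
    exact QuasiCompact.compactSpace_of_compactSpace (pullback.fst (t.app i) (t.app i))
  obtain ⟨z, hz⟩ := exists_mem_of_isClosed_of_nonempty (prodDiagram S D t) (prodCone S D t c i₀)
    (isLimitProdCone i₀ hc) (bd S D t) (isClosed_bd S D t)
    H
    (fun i => (isClosed_bd S D t i).isCompact) (fun f => mapsTo_bd S D t f)
  have hΔ : IsClosed (Set.range (pullback.diagonal (c.π.app i₀ ≫ t.app i₀))) :=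
    (pullback.diagonal (c.π.app i₀ ≫ t.app i₀)).isClosedEmbedding.isClosed_range
  have hzΔ : z ∈ (Set.range (pullback.diagonal (c.π.app i₀ ≫ t.app i₀)))ᶜ := by
    rintro ⟨x, rfl⟩
    apply (hz i₀).2
    refine ⟨c.π.app i₀ x, ?_⟩
    rw [← Scheme.Hom.comp_apply, ← diagonal_π, Scheme.Hom.comp_apply]
    rfl
  obtain ⟨_, ⟨_, ⟨i, V, hV, rfl⟩, rfl⟩, hzV, hVΔ⟩ := (isBasis_preimage_isAffineOpen (prodDiagram S D t)
    (prodCone S D t c i₀) (isLimitProdCone i₀ hc)).exists_subset_of_mem_open hzΔ hΔ.isOpen_compl
  have hqs : QuasiSeparated (t.app i) :=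
    @QuasiSeparated.of_quasiSeparatedSpace (D.obj i) S (t.app i) _
  have hO : IsCompact ((pullback.diagonal (t.app i) ⁻¹ᵁ V : (D.obj i).Opens) : Set (D.obj i)) :=
    QuasiCompact.isCompact_preimage (f := pullback.diagonal (t.app i)) _ V.2 hV.isCompact
  have hOe : c.π.app i ⁻¹ᵁ (pullback.diagonal (t.app i) ⁻¹ᵁ V) ≤ c.π.app i ⁻¹ᵁ ⊥ := by
    intro x hx
    exfalso
    have hx' : pullback.diagonal (t.app i) (c.π.app i x) ∈ V := hx
    rw [← Scheme.Hom.comp_apply, ← diagonal_π S D t c i₀ i, Scheme.Hom.comp_apply] at hx'
    exact hVΔ hx' ⟨x, rfl⟩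
  obtain ⟨j, φ, hj⟩ := exists_map_preimage_le_map_preimage D c hc hO hOe
  have hzj := (hz j).1
  have hopen : IsOpen (⇑((prodDiagram S D t).map φ) ⁻¹' (V : Set ↥((prodDiagram S D t).obj i))) :=
    V.2.preimage ((prodDiagram S D t).map φ).continuous
  have hmem : (prodCone S D t c i₀).π.app j z ∈
      ⇑((prodDiagram S D t).map φ) ⁻¹' (V : Set ↥((prodDiagram S D t).obj i)) := by
    rw [Set.mem_preimage, ← Scheme.Hom.comp_apply, (prodCone S D t c i₀).w φ]
    exact hzV
  obtain ⟨y, hyV, ⟨x, rfl⟩⟩ := mem_closure_iff.mp hzj _ hopen hmem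
  have hx : x ∈ D.map φ ⁻¹ᵁ (pullback.diagonal (t.app i) ⁻¹ᵁ V) := by
    change pullback.diagonal (t.app i) (D.map φ x) ∈ V
    rw [← Scheme.Hom.comp_apply, ← diagonal_map, Scheme.Hom.comp_apply]
    exact hyV
  exact hj hx

end Main

end Groth.Agent.Helper7.LimProd
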