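import Mathlib
import Groth.Agent.Lib.Helper7.LimSec
import Groth.Agent.Lib.Helper7.LimRing
import Groth.Agent.Lib.Helper7.LimProd

set_option autoImplicit false
open CategoryTheory CategoryTheory.Limits AlgebraicGeometry Opposite TopologicalSpace
universe u

/-! helper7: a closed immersion into a cofiltered limit of quasi-compact schemes with affine
transition maps, locally of finite type over a base, is a closed immersion into all sufficiently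
late stages. -/

namespace Groth.Agent.Helper7.LimCl

open Groth.Agent.Helper7.LimSec Groth.Agent.Helper7.LimRing Groth.Agent.Helper7.LimProd

/-- a ring map whose range contains generators of the target over a subring in the range is
surjective. -/
theorem surjective_of_closure {R A B : Type u} [CommRing R] [CommRing A] [CommRing B]
    (β : R →+* B) (γ : A →+* B) (s : Set B) (hs : Subring.closure (Set.range β ∪ s) = ⊤)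
    (h1 : ∀ r, β r ∈ Set.range γ) (h2 : ∀ b ∈ s, b ∈ Set.range γ) : Function.Surjective γ := by
  have h3 : (⊤ : Subring B) ≤ γ.range := by
    rw [← hs, Subring.closure_le]
    rintro x (⟨r, rfl⟩ | hx)
    · exact h1 r
    · exact h2 x hx
  intro b
  exact h3 (Subring.mem_top b)

variable {I : Type u} [Category.{u} I] [IsCofiltered I] (D : I ⥤ Scheme.{u}) (c : Cone D)
  (hc : IsLimit c) [∀ {i j : I} (f : i ⟶ j), IsAffineHom (D.map f)]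

omit [IsCofiltered I] [∀ {i j : I} (f : i ⟶ j), IsAffineHom (D.map f)] in
theorem preimage_le' {Y : Scheme.{u}} (h : Y ⟶ c.pt) {i₀ k : I} (θ : k ⟶ i₀)
    (U : (D.obj i₀).Opens) :
    h ⁻¹ᵁ (c.π.app i₀ ⁻¹ᵁ U) ≤ (h ≫ c.π.app k) ⁻¹ᵁ (D.map θ ⁻¹ᵁ U) := by
  rw [Scheme.Hom.comp_preimage]
  exact h.preimage_mono (preimage_le D c θ U)

variable {S : Scheme.{u}} (t : D ⟶ (Functor.const I).obj S)

set_option backward.isDefEq.respectTransparency false in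
include hc in
theorem local_step (i₀ : I) (U : (D.obj i₀).Opens) (hU : IsAffineOpen U) (V : S.Opens)
    (hV : IsAffineOpen V) (hUV : U ≤ t.app i₀ ⁻¹ᵁ V) {Y : Scheme.{u}} (h : Y ⟶ c.pt)
    [IsClosedImmersion h] [LocallyOfFiniteType (h ≫ c.π.app i₀ ≫ t.app i₀)] :
    ∃ (j : I) (φ : j ⟶ i₀), ∀ (k : I) (ψ : k ⟶ j), Function.Surjective
      ((h ≫ c.π.app k).appLE (D.map (ψ ≫ φ) ⁻¹ᵁ U) (h ⁻¹ᵁ (c.π.app i₀ ⁻¹ᵁ U))
        (preimage_le' D c h (ψ ≫ φ) U)).hom := by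
  have : IsAffineHom (c.π.app i₀) := isAffineHom_π_app D c hc i₀
  have hUX : IsAffineOpen (c.π.app i₀ ⁻¹ᵁ U) := hU.preimage (c.π.app i₀)
  have hUY : IsAffineOpen (h ⁻¹ᵁ (c.π.app i₀ ⁻¹ᵁ U)) := hUX.preimage h
  have e0 : h ⁻¹ᵁ (c.π.app i₀ ⁻¹ᵁ U) ≤ (h ≫ c.π.app i₀ ≫ t.app i₀) ⁻¹ᵁ V := by
    rw [Scheme.Hom.comp_preimage, Scheme.Hom.comp_preimage]
    exact h.preimage_mono ((c.π.app i₀).preimage_mono hUV)
  have hfin : ((h ≫ c.π.app i₀ ≫ t.app i₀).appLE V (h ⁻¹ᵁ (c.π.app i₀ ⁻¹ᵁ U)) e0).hom.FiniteType :=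
    (h ≫ c.π.app i₀ ≫ t.app i₀).finiteType_appLE hV hUY e0
  obtain ⟨s, hs⟩ := exists_finset_closure_eq_top hfin
  have hsurj : Function.Surjective (h.app (c.π.app i₀ ⁻¹ᵁ U)).hom :=
    h.app_surjective _ hUX
  choose a ha using hsurj
  obtain ⟨j, φ, hj⟩ := eventually_forall_finite i₀ s
    (fun (b : Γ(Y, h ⁻¹ᵁ (c.π.app i₀ ⁻¹ᵁ U))) (k : I) (θ : k ⟶ i₀) =>
      ∃ a' : Γ(D.obj k, D.map θ ⁻¹ᵁ U),
        (c.π.app k).appLE (D.map θ ⁻¹ᵁ U) (c.π.app i₀ ⁻¹ᵁ U) (preimage_le D c θ U) a' = a b)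
    (fun b _ => eventually_mem_range_appLE D c hc i₀ U hU (a b))
  refine ⟨j, φ, fun k ψ => ?_⟩
  have e3 : D.map (ψ ≫ φ) ⁻¹ᵁ U ≤ (D.map (ψ ≫ φ) ≫ t.app i₀) ⁻¹ᵁ V := by
    rw [Scheme.Hom.comp_preimage]
    exact (D.map (ψ ≫ φ)).preimage_mono hUV
  have hw : (h ≫ c.π.app k) ≫ (D.map (ψ ≫ φ) ≫ t.app i₀) = h ≫ c.π.app i₀ ≫ t.app i₀ := by
    rw [Category.assoc, ← Category.assoc (c.π.app k), c.w]
  have h1 : ∀ r, ((h ≫ c.π.app i₀ ≫ t.app i₀).appLE V (h ⁻¹ᵁ (c.π.app i₀ ⁻¹ᵁ U)) e0).hom r ∈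
      Set.range ((h ≫ c.π.app k).appLE (D.map (ψ ≫ φ) ⁻¹ᵁ U) (h ⁻¹ᵁ (c.π.app i₀ ⁻¹ᵁ U))
        (preimage_le' D c h (ψ ≫ φ) U)).hom := by
    intro r
    refine ⟨((D.map (ψ ≫ φ) ≫ t.app i₀).appLE V (D.map (ψ ≫ φ) ⁻¹ᵁ U) e3).hom r, ?_⟩
    rw [← RingHom.comp_apply, ← CommRingCat.hom_comp, Scheme.Hom.appLE_comp_appLE,
      appLE_congr_hom hw V (h ⁻¹ᵁ (c.π.app i₀ ⁻¹ᵁ U))]
  have h2 : ∀ b ∈ (s : Set Γ(Y, h ⁻¹ᵁ (c.π.app i₀ ⁻¹ᵁ U))), b ∈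
      Set.range ((h ≫ c.π.app k).appLE (D.map (ψ ≫ φ) ⁻¹ᵁ U) (h ⁻¹ᵁ (c.π.app i₀ ⁻¹ᵁ U))
        (preimage_le' D c h (ψ ≫ φ) U)).hom := by
    intro b hb
    obtain ⟨a', ha'⟩ := hj k ψ b hb
    refine ⟨a', ?_⟩
    have e5 : (c.π.app k).appLE (D.map (ψ ≫ φ) ⁻¹ᵁ U) (c.π.app i₀ ⁻¹ᵁ U)
        (preimage_le D c (ψ ≫ φ) U) ≫ h.appLE (c.π.app i₀ ⁻¹ᵁ U) (h ⁻¹ᵁ (c.π.app i₀ ⁻¹ᵁ U)) le_rfl =
        (h ≫ c.π.app k).appLE (D.map (ψ ≫ φ) ⁻¹ᵁ U) (h ⁻¹ᵁ (c.π.app i₀ ⁻¹ᵁ U))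
          (preimage_le' D c h (ψ ≫ φ) U) := Scheme.Hom.appLE_comp_appLE _ _ _ _ _ _ _
    rw [← e5, CommRingCat.hom_comp, RingHom.comp_apply, Scheme.Hom.appLE_eq_app]
    have e6 : ((c.π.app k).appLE (D.map (ψ ≫ φ) ⁻¹ᵁ U) (c.π.app i₀ ⁻¹ᵁ U)
        (preimage_le D c (ψ ≫ φ) U)).hom a' = a b := ha'
    rw [e6]
    exact ha b
  have h3 := @surjective_of_closure Γ(S, V) Γ(D.obj k, D.map (ψ ≫ φ) ⁻¹ᵁ U)
    Γ(Y, h ⁻¹ᵁ (c.π.app i₀ ⁻¹ᵁ U)) _ _ _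
    ((h ≫ c.π.app i₀ ≫ t.app i₀).appLE V (h ⁻¹ᵁ (c.π.app i₀ ⁻¹ᵁ U)) e0).hom
    ((h ≫ c.π.app k).appLE (D.map (ψ ≫ φ) ⁻¹ᵁ U) (h ⁻¹ᵁ (c.π.app i₀ ⁻¹ᵁ U))
        (preimage_le' D c h (ψ ≫ φ) U)).hom (s : Set Γ(Y, h ⁻¹ᵁ (c.π.app i₀ ⁻¹ᵁ U))) hs h1 h2
  exact h3

theorem surjective_app_of_appLE {X Y : Scheme.{u}} (f : X ⟶ Y) (W W' : Y.Opens) (hW : W' = W)
    (V : X.Opens) (hV : V = f ⁻¹ᵁ W) (e : V ≤ f ⁻¹ᵁ W)
    (hs : Function.Surjective (f.appLE W V e).hom) : Function.Surjective (f.app W').hom := by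
  subst hW
  subst hV
  rw [Scheme.Hom.app_eq_appLE]
  exact hs

set_option backward.isDefEq.respectTransparency false in
include hc in
/-- a closed immersion into the limit, locally of finite type over the base, is a closed
immersion into all sufficiently late stages (the stages only need to be quasi-compact). -/
theorem eventually_isClosedImmersion_comp_π (i₀ : I) [CompactSpace (D.obj i₀)] {Y : Scheme.{u}}
    (h : Y ⟶ c.pt) [IsClosedImmersion h] [LocallyOfFiniteType (h ≫ c.π.app i₀ ≫ t.app i₀)] :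
    ∃ (j : I), ∀ (k : I) (_ : k ⟶ j), IsClosedImmersion (h ≫ c.π.app k) := by
  classical
  have hcover : ∀ x : D.obj i₀, ∃ (V : S.Opens) (U : (D.obj i₀).Opens), IsAffineOpen V ∧
      IsAffineOpen U ∧ x ∈ U ∧ U ≤ t.app i₀ ⁻¹ᵁ V := by
    intro x
    obtain ⟨_, ⟨V, hV, rfl⟩, hxV, -⟩ := S.isBasis_affineOpens.exists_subset_of_mem_open
      (Set.mem_univ (t.app i₀ x)) isOpen_univ
    obtain ⟨_, ⟨U, hU, rfl⟩, hxU, hUV⟩ := (D.obj i₀).isBasis_affineOpens.exists_subset_of_mem_open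
      (show x ∈ (t.app i₀ ⁻¹ᵁ V : Set (D.obj i₀)) from hxV) (t.app i₀ ⁻¹ᵁ V).2
    exact ⟨V, U, hV, hU, hxU, hUV⟩
  choose V U hV hU hxU hUV using hcover
  obtain ⟨F, hF⟩ := isCompact_univ.elim_finite_subcover (fun x => (U x : Set (D.obj i₀)))
    (fun x => (U x).2) (fun x _ => Set.mem_iUnion.mpr ⟨x, hxU x⟩)
  obtain ⟨j, φ, hj⟩ := eventually_forall_finite i₀ F
    (fun (x : D.obj i₀) (k : I) (θ : k ⟶ i₀) => Function.Surjective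
      ((h ≫ c.π.app k).appLE (D.map θ ⁻¹ᵁ U x) (h ⁻¹ᵁ (c.π.app i₀ ⁻¹ᵁ U x))
        (preimage_le' D c h θ (U x))).hom)
    (fun x _ => local_step D c hc t i₀ (U x) (hU x) (V x) (hV x) (hUV x) h)
  refine ⟨j, fun k ψ => ?_⟩
  have : IsAffineHom (c.π.app k) := isAffineHom_π_app D c hc k
  have hcov : ⨆ x : F, D.map (ψ ≫ φ) ⁻¹ᵁ U x.1 = ⊤ := by
    rw [eq_top_iff]
    intro y _
    have hy := hF (Set.mem_univ (D.map (ψ ≫ φ) y))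
    simp only [Set.mem_iUnion] at hy
    obtain ⟨x, hx, hyx⟩ := hy
    exact Opens.mem_iSup.mpr ⟨⟨x, hx⟩, hyx⟩
  rw [HasAffineProperty.iff_of_iSup_eq_top (P := @IsClosedImmersion)
    (fun x : F => ⟨D.map (ψ ≫ φ) ⁻¹ᵁ U x.1, (hU x.1).preimage (D.map (ψ ≫ φ))⟩) hcov]
  intro x
  refine ⟨((hU x.1).preimage (D.map (ψ ≫ φ))).preimage (h ≫ c.π.app k), ?_⟩
  change Function.Surjective
    (((h ≫ c.π.app k) ∣_ (D.map (ψ ≫ φ) ⁻¹ᵁ U x.1)).app ⊤).hom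
  simp only [morphismRestrict_app, CommRingCat.hom_comp,
    RingHom.surjective_respectsIso.cancel_right_isIso]
  refine surjective_app_of_appLE (h ≫ c.π.app k) (D.map (ψ ≫ φ) ⁻¹ᵁ U x.1) _
    (Scheme.Opens.ι_image_top _) (h ⁻¹ᵁ (c.π.app i₀ ⁻¹ᵁ U x.1)) ?_
    (preimage_le' D c h (ψ ≫ φ) (U x.1)) (hj k ψ x.1 x.2)
  rw [Scheme.Hom.comp_preimage, ← Scheme.Hom.comp_preimage (c.π.app k), c.w]

end Groth.Agent.Helper7.LimCl
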