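import Mathlib
import Groth.Prelude.Def_Curv2

set_option autoImplicit false
universe u
open CategoryTheory CategoryTheory.Limits AlgebraicGeometry

/-! helper7: base change of a scheme over a field `k` to an extension `K` (`Curv2.bc`):
rational points have one-point fibres (`subsingleton_fiber`), the projection is open, surjective,
flat and generalizing, `main7596` (dense rational points), `main7595` (preimage of a component),
`main1581` (properness descends), `fpqc_specMap_field`. -/

namespace Groth.Agent.Helper7.FieldBC

theorem resMap_eq (k : Type u) [Field k] (X : Scheme.{u}) [X.Over (Spec (CommRingCat.of k))] (x : X) :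
    Curv2.resMap k X x =
      (((Scheme.ΓSpecIso (CommRingCat.of k)).inv ≫
        (Spec (CommRingCat.of k)).Γevaluation ((X ↘ Spec (CommRingCat.of k)) x)) ≫
        (X ↘ Spec (CommRingCat.of k)).residueFieldMap x).hom := by
  rw [Category.assoc, Scheme.Γevaluation_naturality]
  rfl

theorem residueFieldMap_surjective (k : Type u) [Field k] (X : Scheme.{u})
    [X.Over (Spec (CommRingCat.of k))] (x : X) (h : Function.Surjective (Curv2.resMap k X x)) :
    Function.Surjective ((X ↘ Spec (CommRingCat.of k)).residueFieldMap x).hom := by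
  rw [resMap_eq] at h
  rw [CommRingCat.hom_comp, RingHom.coe_comp] at h
  exact Function.Surjective.of_comp h

theorem isIso_fromSpecResidueField_field (k : Type u) [Field k] (s : Spec (CommRingCat.of k)) :
    IsIso ((Spec (CommRingCat.of k)).fromSpecResidueField s) := by
  rw [← Scheme.Spec.map_residueFieldIso_inv_eq_fromSpecResidueField]
  have hmax : s.asIdeal.IsMaximal := by
    have : s.asIdeal = ⊥ := Ideal.eq_bot_of_prime s.asIdeal
    rw [this]; exact Ideal.bot_isMaximal
  have hbij : Function.Bijective (algebraMap (CommRingCat.of k) s.asIdeal.ResidueField) :=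
    ⟨(algebraMap k s.asIdeal.ResidueField).injective, Ideal.algebraMap_residueField_surjective _⟩
  have h2 : IsIso (CommRingCat.ofHom (algebraMap (CommRingCat.of k) s.asIdeal.ResidueField)) :=
    (ConcreteCategory.isIso_iff_bijective _).mpr hbij
  infer_instance

theorem isIso_of_resMap_surjective (k : Type u) [Field k] (X : Scheme.{u})
    [X.Over (Spec (CommRingCat.of k))] (x : X) (h : Function.Surjective (Curv2.resMap k X x)) :
    IsIso (X.fromSpecResidueField x ≫ (X ↘ Spec (CommRingCat.of k))) := by
  rw [← Scheme.Hom.SpecMap_residueFieldMap_fromSpecResidueField]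
  have h1 : IsIso ((X ↘ Spec (CommRingCat.of k)).residueFieldMap x) :=
    (ConcreteCategory.isIso_iff_bijective _).mpr
      ⟨((X ↘ Spec (CommRingCat.of k)).residueFieldMap x).hom.injective,
        residueFieldMap_surjective k X x h⟩
  have h2 := isIso_fromSpecResidueField_field k ((X ↘ Spec (CommRingCat.of k)) x)
  infer_instance

theorem subsingleton_fiber (k : Type u) [Field k] (X : Scheme.{u})
    [X.Over (Spec (CommRingCat.of k))] (K : Type u) [Field K] [Algebra k K] (x : X)
    (h : Function.Surjective (Curv2.resMap k X x)) :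
    ((Curv2.bcFst k X K) ⁻¹' {x}).Subsingleton := by
  have hiso := isIso_of_resMap_surjective k X x h
  let e : (Curv2.bcFst k X K).fiber x ≅ Spec (CommRingCat.of K) :=
    pullbackSymmetry _ _ ≪≫
      pullbackRightPullbackFstIso (X ↘ Spec (CommRingCat.of k))
        (Spec.map (CommRingCat.ofHom (algebraMap k K))) (X.fromSpecResidueField x) ≪≫
      asIso (pullback.snd (X.fromSpecResidueField x ≫ (X ↘ Spec (CommRingCat.of k)))
        (Spec.map (CommRingCat.ofHom (algebraMap k K))))
  have hs : Subsingleton ((Curv2.bcFst k X K).fiber x) :=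
    e.hom.homeomorph.subsingleton
  have hs2 : Subsingleton ((Curv2.bcFst k X K) ⁻¹' {x}) :=
    ((Curv2.bcFst k X K).fiberHomeo x).symm.subsingleton
  exact Set.subsingleton_coe _ |>.mp hs2

instance surjective_specMap_field (k : Type u) [Field k] (K : Type u) [Field K] [Algebra k K] :
    Surjective (Spec.map (CommRingCat.ofHom (algebraMap k K))) :=
  ⟨fun _ => ⟨(default : PrimeSpectrum K), Subsingleton.elim (α := PrimeSpectrum k) _ _⟩⟩

theorem isOpenMap_bcFst (k : Type u) [Field k] (X : Scheme.{u})
    [X.Over (Spec (CommRingCat.of k))] (K : Type u) [Field K] [Algebra k K] :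
    IsOpenMap (Curv2.bcFst k X K) := by
  have : Subsingleton (Spec (CommRingCat.of k)) :=
    inferInstanceAs (Subsingleton (PrimeSpectrum k))
  exact (Curv2.bcFst k X K).isOpenMap

theorem surjective_bcFst (k : Type u) [Field k] (X : Scheme.{u})
    [X.Over (Spec (CommRingCat.of k))] (K : Type u) [Field K] [Algebra k K] :
    Function.Surjective (Curv2.bcFst k X K) :=
  (Curv2.bcFst k X K).surjective

theorem main7596 (k : Type u) [Field k] (X : Scheme.{u}) [X.Over (Spec (CommRingCat.of k))]
    [IrreducibleSpace ↥X]
    (hd : Dense {x : ↥X | Function.Surjective (Curv2.resMap k X x)}) :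
    GeometricallyIrreducible (X ↘ (Spec (CommRingCat.of k))) := by
  refine ⟨geometrically_iff_of_commRing_of_isClosedUnderIsomorphisms.mpr fun K _ _ => ?_⟩
  have hpre : IsPreirreducible ((Curv2.bcFst k X K) ⁻¹' Set.univ) := by
    refine IsPreirreducible.preimage_of_dense_isPreirreducible_fiber (V := Set.univ)
      (PreirreducibleSpace.isPreirreducible_univ) _ (isOpenMap_bcFst k X K) ?_
    intro x _
    have hsub : {x : ↥X | Function.Surjective (Curv2.resMap k X x)} ⊆
        Set.univ ∩ {x | IsPreirreducible ((Curv2.bcFst k X K) ⁻¹' {x})} :=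
      fun y hy => ⟨trivial, (subsingleton_fiber k X K y hy).isPreirreducible⟩
    exact closure_mono hsub (hd x)
  rw [Set.preimage_univ] at hpre
  have hne : Nonempty ↥(Curv2.bc k X K) := by
    obtain ⟨x⟩ := (inferInstance : Nonempty ↥X)
    obtain ⟨y, -⟩ := surjective_bcFst k X K x
    exact ⟨y⟩
  have hp : PreirreducibleSpace ↥(Curv2.bc k X K) := ⟨hpre⟩
  exact { toPreirreducibleSpace := hp, toNonempty := hne }

instance flat_specMap_field (k : Type u) [Field k] (K : Type u) [Field K] [Algebra k K] :
    Flat (Spec.map (CommRingCat.ofHom (algebraMap k K))) := by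
  rw [HasRingHomProperty.Spec_iff (P := @Flat)]
  rw [CommRingCat.hom_ofHom, RingHom.flat_algebraMap_iff]
  infer_instance

theorem generalizingMap_bcFst (k : Type u) [Field k] (X : Scheme.{u})
    [X.Over (Spec (CommRingCat.of k))] (K : Type u) [Field K] [Algebra k K] :
    GeneralizingMap (Curv2.bcFst k X K) :=
  Flat.generalizingMap (Curv2.bcFst k X K)

theorem main7595 (k : Type u) [Field k] (X : Scheme.{u}) [X.Over (Spec (CommRingCat.of k))]
    (K : Type u) [Field K] [Algebra k K]
    (T : Set ↥X) (hT : T ∈ irreducibleComponents ↥X) :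
    (Curv2.bcFst k X K).base ⁻¹' T = ⋃₀ {Z : Set ↥(Curv2.bc k X K) |
      Z ∈ irreducibleComponents ↥(Curv2.bc k X K) ∧ Z ⊆ (Curv2.bcFst k X K).base ⁻¹' T} := by
  apply Set.Subset.antisymm
  · intro y hy
    have hTc : IsClosed T := isClosed_of_mem_irreducibleComponents T hT
    obtain ⟨η, hη⟩ := QuasiSober.sober hT.1 hTc
    have hsp : η ⤳ (Curv2.bcFst k X K) y := by
      rw [specializes_iff_mem_closure, hη.def]
      exact hy
    obtain ⟨y', hy'y, hy'η⟩ := generalizingMap_bcFst k X K hsp
    refine ⟨irreducibleComponent y', ⟨irreducibleComponent_mem_irreducibleComponents y', ?_⟩, ?_⟩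
    · -- the component maps into `T`
      have hirr : IsIrreducible (closure ((Curv2.bcFst k X K) '' irreducibleComponent y')) :=
        (isIrreducible_irreducibleComponent.image _
          (Curv2.bcFst k X K).continuous.continuousOn).closure
      have hle : T ≤ closure ((Curv2.bcFst k X K) '' irreducibleComponent y') := by
        rw [← hη.def]
        refine closure_minimal ?_ isClosed_closure
        rw [Set.singleton_subset_iff]
        exact subset_closure ⟨y', mem_irreducibleComponent, hy'η⟩
      have hge := hT.2 hirr hle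
      intro z hz
      exact hge (subset_closure ⟨z, hz, rfl⟩)
    · exact (isClosed_irreducibleComponent.closure_subset_iff.mpr
        (Set.singleton_subset_iff.mpr mem_irreducibleComponent))
        (specializes_iff_mem_closure.mp hy'y)
  · rintro y ⟨Z, ⟨-, hZ⟩, hyZ⟩
    exact hZ hyZ

theorem fpqc_specMap_field (k : Type u) [Field k] (K : Type u) [Field K] [Algebra k K] :
    (@Surjective ⊓ @Flat ⊓ @QuasiCompact : MorphismProperty Scheme.{u})
      (Spec.map (CommRingCat.ofHom (algebraMap k K))) :=
  ⟨⟨inferInstance, inferInstance⟩, inferInstance⟩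

theorem main1581 (k : Type u) [Field k] (X : Scheme.{u}) [X.Over (Spec (CommRingCat.of k))]
    (K : Type u) [Field K] [Algebra k K]
    [IsProper (Curv2.bcSnd k X K)] : IsProper (X ↘ (Spec (CommRingCat.of k))) := by
  have hQ := fpqc_specMap_field k K
  have h1 : UniversallyClosed (X ↘ (Spec (CommRingCat.of k))) :=
    MorphismProperty.of_pullback_snd_of_descendsAlong (P := @UniversallyClosed)
      (Q := @Surjective ⊓ @Flat ⊓ @QuasiCompact) hQ
      (inferInstanceAs (UniversallyClosed (Curv2.bcSnd k X K)))
  have h2 : LocallyOfFiniteType (X ↘ (Spec (CommRingCat.of k))) :=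
    MorphismProperty.of_pullback_snd_of_descendsAlong (P := @LocallyOfFiniteType)
      (Q := @Surjective ⊓ @Flat ⊓ @QuasiCompact) hQ
      (inferInstanceAs (LocallyOfFiniteType (Curv2.bcSnd k X K)))
  have h3 : (MorphismProperty.diagonal @UniversallyClosed) (X ↘ (Spec (CommRingCat.of k))) :=
    MorphismProperty.of_pullback_snd_of_descendsAlong
      (P := MorphismProperty.diagonal @UniversallyClosed)
      (Q := @Surjective ⊓ @Flat ⊓ @QuasiCompact) hQ
      (show UniversallyClosed (pullback.diagonal (Curv2.bcSnd k X K)) from inferInstance)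
  have h3' : UniversallyClosed (pullback.diagonal (X ↘ (Spec (CommRingCat.of k)))) := h3
  have h4 : IsSeparated (X ↘ (Spec (CommRingCat.of k))) :=
    ⟨IsClosedImmersion.of_isPreimmersion _
      (pullback.diagonal (X ↘ (Spec (CommRingCat.of k)))).isClosedMap.isClosed_range⟩
  exact {}

end Groth.Agent.Helper7.FieldBC
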