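import Mathlib
import Groth.Agent.Lib.Helper7.LimGen3

set_option autoImplicit false
open CategoryTheory CategoryTheory.Limits AlgebraicGeometry Opposite TopologicalSpace
universe u

/-! helper7: glue lemmas for the "if and only if eventually" statements on cofiltered limits with
affine transition maps. -/

namespace Groth.Agent.Helper7.LimIff

open Groth.Agent.Helper7.LimBC Groth.Agent.Helper7.LimStage Groth.Agent.Helper7.LimFin
open Groth.Agent.Helper7.LimGen

section NoLimit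

variable {X₀ Z₀ Z : Scheme.{u}} (f₀ : X₀ ⟶ Z₀) (s : Z ⟶ Z₀)

set_option backward.isDefEq.respectTransparency false in
/-- the plain base change versus the stage over the identity. -/
theorem snd_iff_bcHom_id (P : MorphismProperty Scheme.{u}) [P.IsStableUnderBaseChange] :
    P (pullback.snd f₀ s) ↔ P (bcHom f₀ (𝟙 Z₀) s) := by
  have h1 : IsBC f₀ (pullback.snd f₀ s) s := ⟨_, IsPullback.of_hasPullback f₀ s⟩
  have h2 : IsBC f₀ (bcHom f₀ (𝟙 Z₀) s) (pullback.fst (𝟙 Z₀) s) := isBC_bcHom f₀ (𝟙 Z₀) s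
  constructor
  · intro h
    refine IsBC.of_fac P h1 h2 (pullback.snd (𝟙 Z₀) s) ?_ h
    rw [← pullback.condition, Category.comp_id]
  · intro h
    refine IsBC.of_fac P h2 h1 (pullback.lift s (𝟙 Z) (by simp)) ?_ h
    simp

end NoLimit

variable {I : Type u} [Category.{u} I] (D : I ⥤ Scheme.{u}) (c : Cone D) {i₀ : I}

set_option backward.isDefEq.respectTransparency false in
/-- the base change to the limit is a base change of any stage. -/
theorem of_stage_presentation {X₀ Y₀ : Scheme.{u}} (f₀ : X₀ ⟶ Y₀) (g₀ : Y₀ ⟶ D.obj i₀)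
    (P : MorphismProperty Scheme.{u}) [P.IsStableUnderBaseChange] {j : I} (φ : j ⟶ i₀)
    {Xj Yj : Scheme.{u}} {fj : Xj ⟶ Yj} {gj : Yj ⟶ D.obj j} {pY : Yj ⟶ Y₀} {pX : Xj ⟶ X₀}
    (hYj : IsPullback pY gj g₀ (D.map φ)) (hXj : IsPullback pX fj f₀ pY)
    {X Y : Scheme.{u}} {f : X ⟶ Y} {g : Y ⟶ c.pt} {qY : Y ⟶ Y₀} {qX : X ⟶ X₀}
    (hY : IsPullback qY g g₀ (c.π.app i₀)) (hX : IsPullback qX f f₀ qY) (h : P fj) : P f := by
  refine IsBC.of_fac P ⟨pX, hXj⟩ ⟨qX, hX⟩
    (hYj.lift qY (g ≫ c.π.app j) (by rw [hY.w, Category.assoc, c.w])) ?_ h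
  simp

set_option backward.isDefEq.respectTransparency false in
/-- the plain form. -/
theorem snd_of_stage {Z₀ : Scheme.{u}} (ι₀ : Z₀ ⟶ D.obj i₀)
    (P : MorphismProperty Scheme.{u}) [P.IsStableUnderBaseChange] {j : I} (φ : j ⟶ i₀)
    (h : P (pullback.snd ι₀ (D.map φ))) : P (pullback.snd ι₀ (c.π.app i₀)) := by
  refine IsBC.of_fac P ⟨_, IsPullback.of_hasPullback ι₀ (D.map φ)⟩
    ⟨_, IsPullback.of_hasPullback ι₀ (c.π.app i₀)⟩ (c.π.app j) (c.w φ) h

end Groth.Agent.Helper7.LimIff
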