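import Mathlib
import Groth.Agent.Lib.Helper7.LimGen
import Groth.Agent.Lib.Helper7.LimRed
import Groth.Agent.Lib.Helper7.LimIff

set_option autoImplicit false
open CategoryTheory CategoryTheory.Limits AlgebraicGeometry Opposite TopologicalSpace Topology
universe u v

set_option linter.unusedSectionVars false

/-! helper7: the reduced induced subscheme (reducedness, surjectivity and finite presentation of the
reduction morphism) and descent of reducedness through cofiltered limits whose transition maps are
open immersions (EGA IV 8.7.1-style). -/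

namespace Groth.Agent.Helper7.LimRed2

theorem nilradical_ideal {X : Scheme.{u}} (U : X.affineOpens) :
    X.nilradical.ideal U = nilradical Γ(X, U) := by
  change (Scheme.IdealSheafData.radical ⊥).ideal U = _
  rw [Scheme.IdealSheafData.radical_ideal]
  rfl

set_option backward.isDefEq.respectTransparency false in
/-- the reduced subscheme is reduced. -/
instance isReduced_nilradical_subscheme (X : Scheme.{u}) : IsReduced X.nilradical.subscheme := by
  have : ∀ U, IsReduced (X.nilradical.subschemeCover.openCover.X U) := by
    intro U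
    have : _root_.IsReduced (Γ(X, U.1) ⧸ X.nilradical.ideal U) := by
      rw [nilradical_ideal, ← Ideal.isRadical_iff_quotient_reduced]
      exact Ideal.radical_isRadical _
    rw [Scheme.AffineOpenCover.openCover_X]
    change IsReduced (Spec (.of (Γ(X, U.1) ⧸ X.nilradical.ideal U)))
    infer_instance
  exact IsReduced.of_openCover _ X.nilradical.subschemeCover.openCover

instance surjective_nilradical_subschemeι (X : Scheme.{u}) :
    Surjective X.nilradical.subschemeι := by
  rw [surjective_iff, ← Set.range_eq_univ, Scheme.IdealSheafData.range_subschemeι]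
  rfl

set_option backward.isDefEq.respectTransparency false in
/-- the reduction morphism is locally of finite presentation if the nilradical is locally finitely
generated. -/
theorem lfp_nilradical_subschemeι (X : Scheme.{u})
    (hN : ∀ U : X.affineOpens, (nilradical Γ(X, U)).FG) :
    LocallyOfFinitePresentation X.nilradical.subschemeι := by
  rw [HasRingHomProperty.iff_appLE (P := @LocallyOfFinitePresentation)]
  intro U V e
  have hAU : IsAffineOpen (X.nilradical.subschemeι ⁻¹ᵁ U.1) := U.2.preimage _
  have h1 : (X.nilradical.subschemeι.app U.1).hom.FinitePresentation := by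
    apply RingHom.FinitePresentation.of_surjective _
      (X.nilradical.subschemeι_app_surjective U)
    rw [Scheme.IdealSheafData.ker_subschemeι_app, nilradical_ideal]
    exact hN U
  have h2 : (X.nilradical.subscheme.presheaf.map (homOfLE e).op).hom.FinitePresentation := by
    have := HasRingHomProperty.appLE (P := @LocallyOfFinitePresentation)
      (𝟙 X.nilradical.subscheme) inferInstance ⟨_, hAU⟩ V e
    have h4 : (𝟙 X.nilradical.subscheme : X.nilradical.subscheme ⟶ _).appLE
        (X.nilradical.subschemeι ⁻¹ᵁ U.1) V.1 e =
        X.nilradical.subscheme.presheaf.map (homOfLE e).op := by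
      simp [Scheme.Hom.appLE]
    rw [← h4]
    exact this
  have h3 : X.nilradical.subschemeι.appLE U.1 V.1 e =
      X.nilradical.subschemeι.app U.1 ≫ X.nilradical.subscheme.presheaf.map (homOfLE e).op := rfl
  rw [h3, CommRingCat.hom_comp]
  exact h2.comp h1

section Limit

open Groth.Agent.Helper7.LimBC Groth.Agent.Helper7.LimStage Groth.Agent.Helper7.LimGen

variable {I : Type u} [Category.{u} I] [IsCofiltered I] (D : I ⥤ Scheme.{u}) (c : Cone D)
  (hc : IsLimit c) [∀ {i j : I} (f : i ⟶ j), IsAffineHom (D.map f)]

set_option backward.isDefEq.respectTransparency false in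
include hc in
/-- reducedness of the limit descends to a stage when the transition maps are open immersions and
the nilradical of a quasi-compact stage is of finite type. -/
theorem isReduced_iff_eventually_of_isOpenImmersion (i₀ : I)
    [CompactSpace (D.obj i₀)] (hoi : ∀ (i j : I) (φ : i ⟶ j), IsOpenImmersion (D.map φ))
    (hN : ∀ U : (D.obj i₀).affineOpens, (nilradical Γ(D.obj i₀, U)).FG) :
    IsReduced c.pt ↔ ∃ (i : I) (_ : i ⟶ i₀), ∀ (j : I) (_ : j ⟶ i), IsReduced (D.obj j) := by
  constructor
  · intro h
    have hlfp := lfp_nilradical_subschemeι (D.obj i₀) hN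
    obtain ⟨f₀, hf₀⟩ : ∃ f₀ : (D.obj i₀).nilradical.subscheme ⟶ D.obj i₀,
      f₀ = (D.obj i₀).nilradical.subschemeι := ⟨_, rfl⟩
    have hci : IsClosedImmersion f₀ := hf₀ ▸ inferInstance
    have hsurj : Surjective f₀ := hf₀ ▸ inferInstance
    have hlfp' : LocallyOfFinitePresentation f₀ := hf₀ ▸ hlfp
    obtain ⟨p, hp⟩ : ∃ p : c.pt ⟶ D.obj i₀, p = c.π.app i₀ := ⟨_, rfl⟩
    have h1 : IsIso (pullback.snd f₀ p) :=
      isIso_of_isClosedImmersion_of_surjective (pullback.snd f₀ p)
    have h2 : IsIso (bcHom f₀ (𝟙 (D.obj i₀)) (c.π.app i₀)) := by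
      rw [← hp]
      exact (LimIff.snd_iff_bcHom_id f₀ p (MorphismProperty.isomorphisms Scheme.{u})).mp h1
    obtain ⟨j, φ, hj⟩ := exists_stage_isIso D c hc f₀ (𝟙 (D.obj i₀)) h2
    have h3 : IsIso (pullback.snd f₀ (D.map φ)) :=
      (LimIff.snd_iff_bcHom_id f₀ (D.map φ) (MorphismProperty.isomorphisms Scheme.{u})).mpr hj
    have := hoi j i₀ φ
    have h4 : IsReduced (pullback f₀ (D.map φ)) :=
      isReduced_of_isOpenImmersion (pullback.fst f₀ (D.map φ))
    have h5 : IsReduced (D.obj j) :=
      isReduced_of_isOpenImmersion (inv (pullback.snd f₀ (D.map φ)))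
    refine ⟨j, φ, fun k ψ => ?_⟩
    have := hoi k j ψ
    exact isReduced_of_isOpenImmersion (D.map ψ)
  · rintro ⟨i, -, h⟩
    by_contra hn
    obtain ⟨i', hi'⟩ := LimRed.eventually_not_isReduced hc hn
    obtain ⟨m, a, b, -⟩ := IsCofilteredOrEmpty.cone_objs i i'
    exact hi' m b (h m a)

end Limit

end Groth.Agent.Helper7.LimRed2
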