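import Mathlib
import Groth.Prelude.Def_SGA1

set_option autoImplicit false
open CategoryTheory CategoryTheory.Limits AlgebraicGeometry Opposite TopologicalSpace
universe u

/-! helper7: descent of morphisms along a morphism whose underlying map is a quotient map and whose
sections embed (gluing over preimages of affine opens of the target); effective epimorphisms. -/

namespace Groth.Agent.Helper7.QuotDesc

variable {S' S W : Scheme.{u}}

theorem hom_ext_of_surjective_of_app_injective (g : S' ⟶ S) (hs : Function.Surjective g.base)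
    (hinj : ∀ U : S.Opens, Function.Injective (g.app U).hom) {Z : Scheme.{u}} {a b : S ⟶ Z}
    (h : g ≫ a = g ≫ b) : a = b := by
  have hbase : a.base = b.base := by
    ext x
    obtain ⟨y, rfl⟩ := hs x
    have := congr($(h).base y)
    simpa using this
  refine Scheme.Hom.ext hbase fun U => ?_
  have hle : b ⁻¹ᵁ U ≤ a ⁻¹ᵁ U := le_of_eq congr((Opens.map $hbase.symm).obj U)
  have key : a.appLE U (b ⁻¹ᵁ U) hle ≫ g.app (b ⁻¹ᵁ U) = b.app U ≫ g.app (b ⁻¹ᵁ U) := by
    rw [Scheme.Hom.app_eq_appLE, Scheme.Hom.app_eq_appLE, Scheme.Hom.appLE_comp_appLE,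
      Scheme.Hom.appLE_comp_appLE]
    simp only [h]
  have e1 : a.app U ≫ S.presheaf.map (eqToHom congr((Opens.map $hbase.symm).obj U)).op =
      a.appLE U (b ⁻¹ᵁ U) hle := rfl
  rw [e1]
  ext t
  apply hinj (b ⁻¹ᵁ U)
  exact congr($(key).hom t)

/-- Preimage of an open of `W` under a continuous map of the underlying spaces. -/
def UU (b : C(S, W)) (V : W.Opens) : S.Opens := Opens.comap b V

theorem mem_UU (b : C(S, W)) (V : W.Opens) (x : S) : x ∈ UU b V ↔ b x ∈ V := Iff.rfl

theorem UU_mono (b : C(S, W)) {V₁ V₂ : W.Opens} (h : V₁ ≤ V₂) : UU b V₁ ≤ UU b V₂ :=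
  fun _ hx => h hx

theorem isOpenCover_UU (b : C(S, W)) : IsOpenCover (fun V : W.affineOpens => UU b V.1) := by
  rw [IsOpenCover, eq_top_iff]
  intro x _
  have hx : b x ∈ (⊤ : W.Opens) := trivial
  rw [← iSup_affineOpens_eq_top W, Opens.mem_iSup] at hx
  obtain ⟨V, hV⟩ := hx
  exact Opens.mem_iSup.mpr ⟨V, hV⟩

/-- The open cover of `S` by preimages of affine opens of `W`. -/
@[reducible] noncomputable def cov (b : C(S, W)) : S.OpenCover where
  I₀ := W.affineOpens
  X V := (UU b V.1).toScheme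
  f V := (UU b V.1).ι
  mem₀ := by
    rw [Scheme.presieve₀_mem_precoverage_iff]
    refine ⟨fun x ↦ ?_, inferInstance⟩
    have hx : b x ∈ (⊤ : W.Opens) := trivial
    rw [← iSup_affineOpens_eq_top W, Opens.mem_iSup] at hx
    obtain ⟨V, hV⟩ := hx
    exact ⟨V, ⟨x, hV⟩, rfl⟩

instance (b : C(S, W)) : Preorder (cov b).I₀ := inferInstanceAs <| Preorder W.affineOpens

noncomputable instance (b : C(S, W)) : Scheme.Cover.LocallyDirected (cov b) where
  trans {i j} hij := S.homOfLE (UU_mono b (leOfHom hij))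
  trans_id i := by
    rw [← cancel_mono (Scheme.Opens.ι _)]; simp
  trans_comp hij hjk := by
    rw [← cancel_mono (Scheme.Opens.ι _)]; simp
  w {i j} hij := by
    simp
  directed {i j} x := by
    obtain ⟨y, hy⟩ : ∃ y : S, y = (pullback.fst ((cov b).f i) ((cov b).f j) ≫ (cov b).f i) x :=
      ⟨_, rfl⟩
    have hyi : b y ∈ i.1 := by
      rw [hy, Scheme.Hom.comp_apply]
      exact ((pullback.fst ((cov b).f i) ((cov b).f j)) x).2
    have hyj : b y ∈ j.1 := by
      rw [hy, pullback.condition, Scheme.Hom.comp_apply]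
      exact ((pullback.snd ((cov b).f i) ((cov b).f j)) x).2
    obtain ⟨k, hk, hyk, hle⟩ := Opens.isBasis_iff_nbhd.mp W.isBasis_affineOpens
      (show b y ∈ i.1 ⊓ j.1 from ⟨hyi, hyj⟩)
    refine ⟨⟨k, hk⟩, homOfLE (hle.trans inf_le_left), homOfLE (hle.trans inf_le_right),
      ⟨y, hyk⟩, ?_⟩
    apply (pullback.fst ((cov b).f i) ((cov b).f j) ≫ (cov b).f i).isOpenEmbedding.injective
    rw [← Scheme.Hom.comp_apply, pullback.lift_fst_assoc, ← hy]
    simp
  property_trans {i j} hij := by infer_instance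

section RingLift

variable {A B C : Type u} [CommRing A] [CommRing B] [CommRing C]

/-- Lift a ring map through an injective ring map containing its image. -/
noncomputable def liftRing (ι : B →+* C) (hι : Function.Injective ι) (ψ : A →+* C)
    (h : ∀ a, ψ a ∈ Set.range ι) : A →+* B :=
  ((RingEquiv.ofBijective ι.rangeRestrict
    ⟨fun x y hxy => hι (congrArg Subtype.val hxy), ι.rangeRestrict_surjective⟩).symm :
      ι.range →+* B).comp
    (ψ.codRestrict ι.range (fun a => by obtain ⟨x, hx⟩ := h a; exact ⟨x, hx⟩))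

theorem liftRing_spec (ι : B →+* C) (hι : Function.Injective ι) (ψ : A →+* C)
    (h : ∀ a, ψ a ∈ Set.range ι) (a : A) : ι (liftRing ι hι ψ h a) = ψ a := by
  set eq := RingEquiv.ofBijective ι.rangeRestrict
    ⟨fun x y hxy => hι (congrArg Subtype.val hxy), ι.rangeRestrict_surjective⟩ with heq
  set r : ι.range := (ψ.codRestrict ι.range
    (fun a => by obtain ⟨x, hx⟩ := h a; exact ⟨x, hx⟩)) a with hr
  have h1 : liftRing ι hι ψ h a = eq.symm r := rfl
  have h2 : (eq (eq.symm r) : C) = ι (eq.symm r) := rfl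
  rw [h1, ← h2, RingEquiv.apply_symm_apply]
  rfl

end RingLift

section Main

variable (g : S' ⟶ S) (e : S' ⟶ W) (b : C(S, W))

theorem preimage_UU (hb : ∀ x, b (g.base x) = e.base x) (V : W.Opens) :
    g ⁻¹ᵁ (UU b V) = e ⁻¹ᵁ V := by
  ext x
  change b (g.base x) ∈ V ↔ e.base x ∈ V
  rw [hb]

variable (hb : ∀ x, b (g.base x) = e.base x)
  (hinj : ∀ U : S.Opens, Function.Injective (g.app U).hom)
  (hsec : ∀ (U : S.Opens) (V : W.Opens) (hUV : g ⁻¹ᵁ U ≤ e ⁻¹ᵁ V) (t : Γ(W, V)),
      (e.appLE V (g ⁻¹ᵁ U) hUV).hom t ∈ Set.range (g.app U).hom)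

/-- The ring map on sections. -/
noncomputable def phi (V : W.Opens) : Γ(W, V) ⟶ Γ(S, UU b V) :=
  CommRingCat.ofHom (liftRing (g.app (UU b V)).hom (hinj _)
    (e.appLE V (g ⁻¹ᵁ UU b V) (preimage_UU g e b hb V).le).hom (hsec _ _ _))

theorem phi_comp (V : W.Opens) : phi g e b hb hinj hsec V ≫ g.app (UU b V) =
    e.appLE V (g ⁻¹ᵁ UU b V) (preimage_UU g e b hb V).le := by
  ext t
  exact liftRing_spec (g.app (UU b V)).hom (hinj _)
    (e.appLE V (g ⁻¹ᵁ UU b V) (preimage_UU g e b hb V).le).hom (hsec _ _ _) t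

theorem phi_res {V₁ V₂ : W.Opens} (h : V₁ ≤ V₂) :
    phi g e b hb hinj hsec V₂ ≫ S.presheaf.map (homOfLE (UU_mono b h)).op =
      W.presheaf.map (homOfLE h).op ≫ phi g e b hb hinj hsec V₁ := by
  have key : (phi g e b hb hinj hsec V₂ ≫ S.presheaf.map (homOfLE (UU_mono b h)).op) ≫
      g.app (UU b V₁) = (W.presheaf.map (homOfLE h).op ≫ phi g e b hb hinj hsec V₁) ≫
        g.app (UU b V₁) := by
    rw [Category.assoc, Category.assoc, phi_comp, Scheme.Hom.naturality, reassoc_of% phi_comp]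
    rw [Scheme.Hom.appLE_map, Scheme.Hom.map_appLE]
  ext t
  apply hinj (UU b V₁)
  exact congr($(key).hom t)

/-- The local descended morphism. -/
noncomputable def dloc (V : W.affineOpens) : (UU b V.1).toScheme ⟶ W :=
  (UU b V.1).toSpecΓ ≫ Spec.map (phi g e b hb hinj hsec V.1) ≫ V.2.fromSpec

theorem restrict_dloc (V : W.affineOpens) :
    (g ∣_ UU b V.1) ≫ dloc g e b hb hinj hsec V = (g ⁻¹ᵁ UU b V.1).ι ≫ e := by
  rw [dloc, ← Scheme.Opens.toSpecΓ_naturality_assoc, ← Spec.map_comp_assoc, phi_comp,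
    Scheme.Opens.toSpecΓ_SpecMap_appLE_assoc, IsAffineOpen.toSpecΓ_fromSpec,
    Scheme.Hom.resLE_comp_ι]

theorem homOfLE_dloc {V₁ V₂ : W.affineOpens} (h : V₁ ≤ V₂) :
    S.homOfLE (UU_mono b h) ≫ dloc g e b hb hinj hsec V₂ = dloc g e b hb hinj hsec V₁ := by
  rw [dloc, dloc, ← Scheme.Opens.toSpecΓ_SpecMap_presheaf_map_assoc, ← Spec.map_comp_assoc,
    phi_res g e b hb hinj hsec h, Spec.map_comp_assoc, IsAffineOpen.map_fromSpec]

include hb hinj hsec in
theorem exists_desc_of_base : ∃ d : S ⟶ W, g ≫ d = e := by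
  let d : S ⟶ W := (cov b).glueMorphismsOfLocallyDirected
    (fun V => dloc g e b hb hinj hsec V)
    (fun {i j} hij => homOfLE_dloc g e b hb hinj hsec (leOfHom hij))
  have hd : ∀ V : W.affineOpens, (UU b V.1).ι ≫ d = dloc g e b hb hinj hsec V := fun V =>
    (cov b).map_glueMorphismsOfLocallyDirected _ _ V
  refine ⟨d, ?_⟩
  have hcov : IsOpenCover (fun V : W.affineOpens => g ⁻¹ᵁ UU b V.1) := by
    rw [IsOpenCover, eq_top_iff]
    intro x _
    have hx : b (g.base x) ∈ (⊤ : W.Opens) := trivial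
    rw [← iSup_affineOpens_eq_top W, Opens.mem_iSup] at hx
    obtain ⟨V, hV⟩ := hx
    exact Opens.mem_iSup.mpr ⟨V, hV⟩
  apply (S'.openCoverOfIsOpenCover _ hcov).hom_ext
  intro V
  have key : ∀ V : W.affineOpens, (g ⁻¹ᵁ UU b V.1).ι ≫ g ≫ d = (g ⁻¹ᵁ UU b V.1).ι ≫ e := by
    intro V
    rw [← morphismRestrict_ι_assoc, hd, restrict_dloc]
  exact key V

end Main

/-- General descent of a morphism along a morphism with quotient topology whose sections embed. -/
theorem existsUnique_desc (g : S' ⟶ S) (hq : Topology.IsQuotientMap g.base)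
    (hinj : ∀ U : S.Opens, Function.Injective (g.app U).hom) (e : S' ⟶ W)
    (hfib : ∀ x y : S', g.base x = g.base y → e.base x = e.base y)
    (hsec : ∀ (U : S.Opens) (V : W.Opens) (hUV : g ⁻¹ᵁ U ≤ e ⁻¹ᵁ V) (t : Γ(W, V)),
      (e.appLE V (g ⁻¹ᵁ U) hUV).hom t ∈ Set.range (g.app U).hom) :
    ∃! d : S ⟶ W, g ≫ d = e := by
  let b : C(S, W) := hq.lift ⟨e.base, e.continuous⟩ (fun x y h => hfib x y h)
  have hb : ∀ x, b (g.base x) = e.base x := fun x => by
    have := hq.lift_comp ⟨e.base, e.continuous⟩ (fun x y h => hfib x y h)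
    exact congr($this x)
  obtain ⟨d, hd⟩ := exists_desc_of_base g e b hb hinj hsec
  refine ⟨d, hd, fun d' hd' => ?_⟩
  exact hom_ext_of_surjective_of_app_injective g hq.surjective hinj (hd'.trans hd.symm)

theorem main2914 {S' S : Scheme.{u}} (g : S' ⟶ S) (hq : Topology.IsQuotientMap g.base)
    (hinj : ∀ U : S.Opens, Function.Injective (g.app U).hom)
    (heq : ∀ (U : S.Opens) (s' : Γ(S', g ⁻¹ᵁ U)),
      (SGA1.overlapFstApp g U).hom s' = (SGA1.overlapSndApp g U).hom s' →
      s' ∈ Set.range (g.app U).hom) :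
    EffectiveEpi g := by
  have main : ∀ {W : Scheme.{u}} (e : S' ⟶ W),
      (∀ {Z : Scheme.{u}} (g₁ g₂ : Z ⟶ S'), g₁ ≫ g = g₂ ≫ g → g₁ ≫ e = g₂ ≫ e) →
      ∃! d : S ⟶ W, g ≫ d = e := by
    intro W e h
    have hpb : pullback.fst g g ≫ e = pullback.snd g g ≫ e := h _ _ pullback.condition
    refine existsUnique_desc g hq hinj e ?_ ?_
    · intro x y hxy
      obtain ⟨z, rfl, rfl⟩ := Scheme.Pullback.exists_preimage_pullback x y hxy
      rw [← Scheme.Hom.comp_apply, ← Scheme.Hom.comp_apply, hpb]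
    · intro U V hUV t
      apply heq
      have h1 : e.appLE V (g ⁻¹ᵁ U) hUV ≫ SGA1.overlapFstApp g U =
          e.appLE V (g ⁻¹ᵁ U) hUV ≫ SGA1.overlapSndApp g U := by
        rw [SGA1.overlapFstApp, SGA1.overlapSndApp, Scheme.Hom.app_eq_appLE,
          Scheme.Hom.appLE_comp_appLE, Scheme.Hom.appLE_comp_appLE]
        simp only [hpb]
      exact congr($(h1).hom t)
  refine ⟨⟨{ desc := fun e h => (main e h).exists.choose
             fac := fun e h => (main e h).exists.choose_spec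
             uniq := fun e h m hm => (main e h).unique hm (main e h).exists.choose_spec }⟩⟩

end Groth.Agent.Helper7.QuotDesc
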