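import Mathlib
import Groth.Prelude.Def_SGA1
import Groth.Agent.Lib.Helper7.QuotDesc

set_option autoImplicit false
open CategoryTheory CategoryTheory.Limits AlgebraicGeometry Opposite TopologicalSpace
universe u

/-! helper7: quotients of schemes by finite groups (SGA1.IsQuot): action on sections, integrality,
orbits are fibres, quotient topology, universal property. -/

namespace Groth.Agent.Helper7.QuotGrp

variable {X Y : Scheme.{u}} {G : Type u} [Group G] (ρ : G →* Aut X) (p : X ⟶ Y)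

section Action

variable (hinv : ∀ g : G, (ρ g).hom ≫ p = p) (U : Y.Opens)

/-- The ring endomorphism of the sections over `p⁻¹U` induced by `g`. -/
noncomputable def sig (g : G) : Γ(X, p ⁻¹ᵁ U) →+* Γ(X, p ⁻¹ᵁ U) :=
  ((ρ g).hom.appLE (p ⁻¹ᵁ U) (p ⁻¹ᵁ U) (SGA1.preimage_le_of_inv ρ p hinv g U)).hom

theorem sig_one : sig ρ p hinv U 1 = RingHom.id _ := by
  have h1 : (ρ 1).hom = 𝟙 X := by rw [map_one]; rfl
  ext s
  simp only [sig, h1]
  simp only [Scheme.Hom.appLE, Scheme.Hom.id_app, CommRingCat.hom_comp, RingHom.comp_apply]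
  exact congr($(X.presheaf.map_id (op (p ⁻¹ᵁ U))).hom s)

theorem sig_mul (g h : G) :
    sig ρ p hinv U (g * h) = (sig ρ p hinv U h).comp (sig ρ p hinv U g) := by
  have h1 : (ρ (g * h)).hom = (ρ h).hom ≫ (ρ g).hom := by rw [map_mul]; rfl
  have h2 := Scheme.Hom.appLE_comp_appLE (ρ h).hom (ρ g).hom (p ⁻¹ᵁ U) (p ⁻¹ᵁ U) (p ⁻¹ᵁ U)
    (SGA1.preimage_le_of_inv ρ p hinv g U) (SGA1.preimage_le_of_inv ρ p hinv h U)
  ext s
  simp only [sig, h1, ← h2]
  rfl

/-- The action of `G` on sections over `p⁻¹U`. -/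
@[instance_reducible] noncomputable def action : MulSemiringAction G Γ(X, p ⁻¹ᵁ U) where
  smul g s := sig ρ p hinv U g⁻¹ s
  one_smul s := by
    change sig ρ p hinv U (1 : G)⁻¹ s = s
    rw [inv_one, sig_one]; rfl
  mul_smul g h s := by
    change sig ρ p hinv U (g * h)⁻¹ s = sig ρ p hinv U g⁻¹ (sig ρ p hinv U h⁻¹ s)
    rw [mul_inv_rev, sig_mul]; rfl
  smul_zero g := map_zero _
  smul_add g := map_add _
  smul_one g := map_one _
  smul_mul g := map_mul _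

end Action

section Quot

variable {ρ p} (hp : SGA1.IsQuot ρ p) (U : Y.Opens)

include hp in
theorem sig_app (g : G) (a : Γ(Y, U)) :
    sig ρ p hp.inv U g ((p.app U).hom a) = (p.app U).hom a :=
  (hp.range_iff U _).mp ⟨a, rfl⟩ g

/-- Package: the action and algebra structure with the invariance properties. -/
theorem exists_action : ∃ (i1 : MulSemiringAction G Γ(X, p ⁻¹ᵁ U))
    (i2 : Algebra Γ(Y, U) Γ(X, p ⁻¹ᵁ U)),
    @algebraMap Γ(Y, U) Γ(X, p ⁻¹ᵁ U) _ _ i2 = (p.app U).hom ∧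
    @Algebra.IsInvariant Γ(Y, U) Γ(X, p ⁻¹ᵁ U) G _ _ i2 _ i1 ∧
    @SMulCommClass G Γ(Y, U) Γ(X, p ⁻¹ᵁ U) i1.toSMul i2.toSMul ∧
    ∀ (g : G) (b : Γ(X, p ⁻¹ᵁ U)), i1.smul g b = sig ρ p hp.inv U g⁻¹ b := by
  refine ⟨action ρ p hp.inv U, (p.app U).hom.toAlgebra, rfl, ?_, ?_, fun _ _ => rfl⟩
  · let _ := action ρ p hp.inv U
    let _ := (p.app U).hom.toAlgebra
    refine ⟨fun b hb => ?_⟩
    refine (hp.range_iff U b).mpr fun g => ?_
    have := hb g⁻¹
    change sig ρ p hp.inv U (g⁻¹)⁻¹ b = b at this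
    rwa [inv_inv] at this
  · let _ := action ρ p hp.inv U
    let _ := (p.app U).hom.toAlgebra
    refine ⟨fun g a b => ?_⟩
    change sig ρ p hp.inv U g⁻¹ ((p.app U).hom a * b) =
      (p.app U).hom a * sig ρ p hp.inv U g⁻¹ b
    rw [map_mul, sig_app hp U]

include hp in
theorem isIntegral_app [Finite G] : (p.app U).hom.IsIntegral := by
  obtain ⟨i1, i2, h1, h2, h3, -⟩ := exists_action hp U
  have : Algebra.IsIntegral Γ(Y, U) Γ(X, p ⁻¹ᵁ U) :=
    Algebra.IsInvariant.isIntegral Γ(Y, U) Γ(X, p ⁻¹ᵁ U) G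
  rw [← h1]
  exact algebraMap_isIntegral_iff.mpr this

include hp in
theorem isIntegralHom [Finite G] : IsIntegralHom p :=
  { hp.affine with isIntegral_app := fun U _ => isIntegral_app hp U }

include hp in
theorem surjective [Finite G] : Function.Surjective p.base := by
  have := hp.affine
  intro y
  obtain ⟨_, ⟨U, hU, rfl⟩, hyU, -⟩ :=
    Y.isBasis_affineOpens.exists_subset_of_mem_open (Set.mem_univ y) isOpen_univ
  have hV : IsAffineOpen (p ⁻¹ᵁ U) := hU.preimage p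
  obtain ⟨Q, hQ⟩ := (isIntegral_app hp U).comap_surjective (hp.injective U)
    (hU.primeIdealOf ⟨y, hyU⟩)
  refine ⟨hV.fromSpec Q, ?_⟩
  have h1 := IsAffineOpen.SpecMap_appLE_fromSpec p hU hV le_rfl
  have h2 := congr($(h1).base Q)
  rw [Scheme.Hom.comp_apply, Scheme.Hom.comp_apply] at h2
  rw [← h2]
  rw [← Scheme.Hom.app_eq_appLE]
  have h3 : Spec.map (p.app U) Q = hU.primeIdealOf ⟨y, hyU⟩ := hQ
  rw [h3, hU.fromSpec_primeIdealOf]

include hp in
theorem exists_of_map_eq [Finite G] (x x' : X) (h : p.base x = p.base x') :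
    ∃ g : G, (ρ g).hom.base x = x' := by
  have := hp.affine
  obtain ⟨_, ⟨U, hU, rfl⟩, hyU, -⟩ :=
    Y.isBasis_affineOpens.exists_subset_of_mem_open (Set.mem_univ (p.base x)) isOpen_univ
  have hV : IsAffineOpen (p ⁻¹ᵁ U) := hU.preimage p
  have hx : x ∈ p ⁻¹ᵁ U := hyU
  have hx' : x' ∈ p ⁻¹ᵁ U := by change p.base x' ∈ U; rw [← h]; exact hyU
  obtain ⟨i1, i2, h1, h2, h3, h4⟩ := exists_action hp U
  obtain ⟨P, hP⟩ : ∃ P, P = hV.primeIdealOf ⟨x, hx⟩ := ⟨_, rfl⟩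
  obtain ⟨P', hP'⟩ : ∃ P', P' = hV.primeIdealOf ⟨x', hx'⟩ := ⟨_, rfl⟩
  have hund : P.asIdeal.under Γ(Y, U) = P'.asIdeal.under Γ(Y, U) := by
    have e1 := IsAffineOpen.comap_primeIdealOf_appLE U hU (p ⁻¹ᵁ U) hV le_rfl hx
    have e2 := IsAffineOpen.comap_primeIdealOf_appLE U hU (p ⁻¹ᵁ U) hV le_rfl hx'
    rw [← hP] at e1
    rw [← hP'] at e2
    have e3 : P.comap (p.appLE U (p ⁻¹ᵁ U) le_rfl).hom = P'.comap (p.appLE U (p ⁻¹ᵁ U) le_rfl).hom := by
      rw [e1, e2]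
      congr 1
      exact Subtype.ext h
    rw [Ideal.under, Ideal.under, h1]
    rw [← Scheme.Hom.app_eq_appLE] at e3
    exact congr($(e3).asIdeal)
  obtain ⟨g, hg⟩ := Algebra.IsInvariant.exists_smul_of_under_eq Γ(Y, U) Γ(X, p ⁻¹ᵁ U) G
    P.asIdeal P'.asIdeal hund
  refine ⟨g, ?_⟩
  have e3 := IsAffineOpen.comap_primeIdealOf_appLE (p ⁻¹ᵁ U) hV (p ⁻¹ᵁ U) hV
    (SGA1.preimage_le_of_inv ρ p hp.inv g U) hx
  rw [← hP] at e3
  have e4 : hV.primeIdealOf ⟨(ρ g).hom.base x, SGA1.preimage_le_of_inv ρ p hp.inv g U hx⟩ = P' := by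
    apply PrimeSpectrum.ext
    rw [← e3, hg]
    ext b
    rw [Ideal.mem_pointwise_smul_iff_inv_smul_mem]
    change sig ρ p hp.inv U g b ∈ P.asIdeal ↔ i1.smul g⁻¹ b ∈ P.asIdeal
    rw [h4, inv_inv]
  have e5 := congrArg (fun Q => hV.fromSpec Q) e4
  simp only [hP', IsAffineOpen.fromSpec_primeIdealOf] at e5
  exact e5

include hp in
theorem isQuotientMap [Finite G] : Topology.IsQuotientMap p.base := by
  have := isIntegralHom hp
  exact IsClosedMap.isQuotientMap p.isClosedMap p.continuous (surjective hp)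

include hp in
theorem map_eq_iff [Finite G] (x x' : X) :
    p.base x = p.base x' ↔ ∃ g : G, (ρ g).hom.base x = x' := by
  refine ⟨exists_of_map_eq hp x x', ?_⟩
  rintro ⟨g, rfl⟩
  rw [← Scheme.Hom.comp_apply, hp.inv]

theorem main2908 [Finite G] (hp : SGA1.IsQuot ρ p) :
    Function.Surjective p.base ∧
      (∀ x x' : X, p.base x = p.base x' ↔ ∃ g : G, (ρ g).hom.base x = x') ∧
      Topology.IsQuotientMap p.base :=
  ⟨surjective hp, map_eq_iff hp, isQuotientMap hp⟩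

theorem main2925 [Finite G] (hp : SGA1.IsQuot ρ p) (Z : Scheme.{u}) (h : X ⟶ Z)
    (hh : ∀ g : G, (ρ g).hom ≫ h = h) : ∃! h' : Y ⟶ Z, p ≫ h' = h := by
  refine QuotDesc.existsUnique_desc p (isQuotientMap hp) hp.injective h ?_ ?_
  · intro x y hxy
    obtain ⟨g, rfl⟩ := exists_of_map_eq hp x y hxy
    rw [← Scheme.Hom.comp_apply, hh]
  · intro U V hUV t
    rw [hp.range_iff]
    intro g
    have h1 := Scheme.Hom.appLE_comp_appLE (ρ g).hom h V (p ⁻¹ᵁ U) (p ⁻¹ᵁ U) hUV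
      (SGA1.preimage_le_of_inv ρ p hp.inv g U)
    have h2 := congr($(h1).hom t)
    simp only [hh] at h2
    exact h2

end Quot

end Groth.Agent.Helper7.QuotGrp
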