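import Mathlib
import Groth.Prelude.Def_SGA1
import Groth.Agent.Lib.Helper7.QuotGrp

set_option autoImplicit false
open CategoryTheory CategoryTheory.Limits AlgebraicGeometry Opposite TopologicalSpace
universe u

/-! helper7: a criterion for `SGA1.IsQuot` on a basis of opens closed under intersections
(`isQuot_of_basis`), and the affine case: an invariant morphism of affine schemes which identifies
the global sections of the target with the invariant global sections of the source is a quotient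
(`isQuot_of_isAffine`). -/

namespace Groth.Agent.Helper7.QuotBasis

open Groth.Agent.Helper7.QuotGrp

variable {X Y : Scheme.{u}} {G : Type u} [Group G] (ρ : G →* Aut X) (p : X ⟶ Y)
  (hinv : ∀ g : G, (ρ g).hom ≫ p = p)

/-- restriction of sections of `X` from `p⁻¹U` to `p⁻¹V`. -/
noncomputable def resX {U V : Y.Opens} (h : V ≤ U) : Γ(X, p ⁻¹ᵁ U) ⟶ Γ(X, p ⁻¹ᵁ V) :=
  X.presheaf.map (homOfLE (p.preimage_mono h)).op

/-- restriction of sections of `Y`. -/
noncomputable def resY {U V : Y.Opens} (h : V ≤ U) : Γ(Y, U) ⟶ Γ(Y, V) :=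
  Y.presheaf.map (homOfLE h).op

theorem app_resX {U V : Y.Opens} (h : V ≤ U) :
    p.app U ≫ resX p h = resY h ≫ p.app V := by
  unfold resX resY
  exact (p.naturality (homOfLE h).op).symm

theorem app_resX_apply {U V : Y.Opens} (h : V ≤ U) (a : Γ(Y, U)) :
    (resX p h).hom ((p.app U).hom a) = (p.app V).hom ((resY h).hom a) :=
  congr($(app_resX p h).hom a)

theorem sig_resX {U V : Y.Opens} (h : V ≤ U) (g : G) (s : Γ(X, p ⁻¹ᵁ U)) :
    (resX p h).hom (sig ρ p hinv U g s) = sig ρ p hinv V g ((resX p h).hom s) := by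
  have e1 : (ρ g).hom.appLE (p ⁻¹ᵁ U) (p ⁻¹ᵁ U) (SGA1.preimage_le_of_inv ρ p hinv g U) ≫
      resX p h = resX p h ≫
      (ρ g).hom.appLE (p ⁻¹ᵁ V) (p ⁻¹ᵁ V) (SGA1.preimage_le_of_inv ρ p hinv g V) := by
    unfold resX
    rw [Scheme.Hom.appLE_map, Scheme.Hom.map_appLE]
  exact congr($(e1).hom s)

theorem sig_app' (U : Y.Opens) (g : G) (a : Γ(Y, U)) :
    sig ρ p hinv U g ((p.app U).hom a) = (p.app U).hom a := by
  have e1 : p.app U ≫ (ρ g).hom.appLE (p ⁻¹ᵁ U) (p ⁻¹ᵁ U)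
      (SGA1.preimage_le_of_inv ρ p hinv g U) = p.app U := by
    rw [Scheme.Hom.app_eq_appLE, Scheme.Hom.appLE_comp_appLE]
    have key : ∀ (q : X ⟶ Y) (hq : q = p) (e : p ⁻¹ᵁ U ≤ q ⁻¹ᵁ U),
        q.appLE U (p ⁻¹ᵁ U) e = p.appLE U (p ⁻¹ᵁ U) le_rfl := by
      intro q hq e; subst hq; rfl
    exact key _ (hinv g) _
  exact congr($(e1).hom a)

theorem resX_resX {U V W : Y.Opens} (h1 : V ≤ U) (h2 : W ≤ V) (s : Γ(X, p ⁻¹ᵁ U)) :
    (resX p h2).hom ((resX p h1).hom s) = (resX p (h2.trans h1)).hom s := by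
  unfold resX
  rw [← CommRingCat.comp_apply, ← X.presheaf.map_comp]
  rfl

theorem isQuot_of_basis (haff : IsAffineHom p)
    (𝓑 : Set Y.Opens) (hB : Opens.IsBasis 𝓑) (hinter : ∀ U ∈ 𝓑, ∀ V ∈ 𝓑, U ⊓ V ∈ 𝓑)
    (hinj : ∀ U ∈ 𝓑, Function.Injective (p.app U).hom)
    (hrange : ∀ U ∈ 𝓑, ∀ s : Γ(X, p ⁻¹ᵁ U), (∀ g : G, sig ρ p hinv U g s = s) →
      s ∈ Set.range (p.app U).hom) : SGA1.IsQuot ρ p := by
  have hcover : ∀ U : Y.Opens, U ≤ ⨆ i : {V : Y.Opens // V ∈ 𝓑 ∧ V ≤ U}, i.1 := by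
    intro U x hx
    obtain ⟨V, hV, hxV, hVU⟩ := Opens.isBasis_iff_nbhd.mp hB hx
    exact Opens.mem_iSup.mpr ⟨⟨V, hV, hVU⟩, hxV⟩
  have hinjall : ∀ U : Y.Opens, Function.Injective (p.app U).hom := by
    intro U a b hab
    refine Y.sheaf.eq_of_locally_eq' (fun i : {V : Y.Opens // V ∈ 𝓑 ∧ V ≤ U} => i.1) U
      (fun i => homOfLE i.2.2) (hcover U) a b ?_
    intro i
    apply hinj i.1 i.2.1
    change (p.app i.1).hom ((resY i.2.2).hom a) = (p.app i.1).hom ((resY i.2.2).hom b)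
    rw [← app_resX_apply, ← app_resX_apply, hab]
  refine ⟨haff, hinv, hinjall, fun U s => ⟨?_, ?_⟩⟩
  · rintro ⟨a, rfl⟩ g
    exact sig_app' ρ p hinv U g a
  · intro hs
    have hloc : ∀ i : {V : Y.Opens // V ∈ 𝓑 ∧ V ≤ U},
        ∃ t : Γ(Y, i.1), (p.app i.1).hom t = (resX p i.2.2).hom s := by
      intro i
      apply hrange i.1 i.2.1
      intro g
      rw [← sig_resX]
      exact congrArg _ (hs g)
    choose t ht using hloc
    have hcompat : TopCat.Presheaf.IsCompatible Y.sheaf.1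
        (fun i : {V : Y.Opens // V ∈ 𝓑 ∧ V ≤ U} => i.1) t := by
      intro i j
      apply hinj (i.1 ⊓ j.1) (hinter _ i.2.1 _ j.2.1)
      change (p.app (i.1 ⊓ j.1)).hom ((resY inf_le_left).hom (t i)) =
        (p.app (i.1 ⊓ j.1)).hom ((resY inf_le_right).hom (t j))
      rw [← app_resX_apply, ← app_resX_apply, ht i, ht j, resX_resX, resX_resX]
    obtain ⟨a, ha, -⟩ := Y.sheaf.existsUnique_gluing'
      (fun i : {V : Y.Opens // V ∈ 𝓑 ∧ V ≤ U} => i.1) U (fun i => homOfLE i.2.2) (hcover U) t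
      hcompat
    refine ⟨a, ?_⟩
    refine X.sheaf.eq_of_locally_eq' (fun i : {V : Y.Opens // V ∈ 𝓑 ∧ V ≤ U} => p ⁻¹ᵁ i.1)
      (p ⁻¹ᵁ U) (fun i => homOfLE (p.preimage_mono i.2.2)) ?_ _ _ ?_
    · intro x hx
      have := hcover U hx
      obtain ⟨i, hi⟩ := Opens.mem_iSup.mp this
      exact Opens.mem_iSup.mpr ⟨i, hi⟩
    · intro i
      change (resX p i.2.2).hom ((p.app U).hom a) = (resX p i.2.2).hom s
      rw [app_resX_apply, ← ht i]
      exact congrArg _ (ha i)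

theorem loc_facts {X : Scheme.{u}} {T : X.Opens} (hT : IsAffineOpen T) (h : Γ(X, T)) (V : X.Opens)
    (i : V ⟶ T) (e : V = X.basicOpen h) :
    IsUnit ((X.presheaf.map i.op).hom h) ∧
    (∀ s : Γ(X, V), ∃ (n : ℕ) (a : Γ(X, T)),
      s * (X.presheaf.map i.op).hom h ^ n = (X.presheaf.map i.op).hom a) ∧
    (∀ a : Γ(X, T), (X.presheaf.map i.op).hom a = 0 → ∃ m : ℕ, h ^ m * a = 0) := by
  let _ : Algebra Γ(X, T) Γ(X, V) := (X.presheaf.map i.op).hom.toAlgebra
  have inst : IsLocalization.Away h Γ(X, V) := hT.isLocalization_of_eq_basicOpen h i e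
  refine ⟨IsLocalization.Away.algebraMap_isUnit h, fun s => IsLocalization.Away.surj h s,
    fun a ha => ?_⟩
  obtain ⟨m, hm⟩ := IsLocalization.Away.exists_of_eq (x := h) (S := Γ(X, V)) (a := a) (b := 0)
    (by rw [map_zero]; exact ha)
  exact ⟨m, by rw [hm, mul_zero]⟩

theorem isQuot_of_isAffine [Finite G] [IsAffine X] [IsAffine Y]
    (hinj : Function.Injective (p.app ⊤).hom)
    (hrange : ∀ s : Γ(X, p ⁻¹ᵁ ⊤), (∀ g : G, sig ρ p hinv ⊤ g s = s) →
      s ∈ Set.range (p.app ⊤).hom) : SGA1.IsQuot ρ p := by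
  have hXT : IsAffineOpen (p ⁻¹ᵁ (⊤ : Y.Opens)) := isAffineOpen_top X
  refine isQuot_of_basis ρ p hinv inferInstance (Set.range (Y.basicOpen : Γ(Y, ⊤) → Y.Opens))
    (isBasis_basicOpen Y) ?_ ?_ ?_
  · rintro _ ⟨f, rfl⟩ _ ⟨f', rfl⟩
    exact ⟨f * f', Scheme.basicOpen_mul _ _ _⟩
  · rintro _ ⟨f, rfl⟩
    obtain ⟨hYu, hYs, hY0⟩ := loc_facts (isAffineOpen_top Y) f (Y.basicOpen f)
      (homOfLE le_top) rfl
    obtain ⟨hXu, hXs, hX0⟩ := loc_facts hXT ((p.app ⊤).hom f) (p ⁻¹ᵁ Y.basicOpen f)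
      (homOfLE (p.preimage_mono le_top)) (Scheme.preimage_basicOpen p f)
    rw [injective_iff_map_eq_zero]
    intro a ha
    obtain ⟨n, a₀, ha₀⟩ := hYs a
    have h1 : (resX p (le_top : Y.basicOpen f ≤ ⊤)).hom ((p.app ⊤).hom a₀) = 0 := by
      rw [app_resX_apply]
      change (p.app (Y.basicOpen f)).hom ((Y.presheaf.map (homOfLE le_top).op).hom a₀) = 0
      rw [← ha₀, map_mul, ha, zero_mul]
    obtain ⟨m, hm⟩ := hX0 _ h1
    have h2 : f ^ m * a₀ = 0 := by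
      apply hinj
      rw [map_mul, map_pow, hm, map_zero]
    have h3 : (Y.presheaf.map (homOfLE (le_top : Y.basicOpen f ≤ ⊤)).op).hom a₀ = 0 := by
      have := congrArg (Y.presheaf.map (homOfLE (le_top : Y.basicOpen f ≤ ⊤)).op).hom h2
      rw [map_mul, map_pow, map_zero] at this
      exact (IsUnit.mul_right_eq_zero (hYu.pow m)).mp this
    rw [h3] at ha₀
    exact (IsUnit.mul_left_eq_zero (hYu.pow n)).mp ha₀
  · rintro _ ⟨f, rfl⟩ s hs
    obtain ⟨hYu, hYs, hY0⟩ := loc_facts (isAffineOpen_top Y) f (Y.basicOpen f)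
      (homOfLE le_top) rfl
    obtain ⟨hXu, hXs, hX0⟩ := loc_facts hXT ((p.app ⊤).hom f) (p ⁻¹ᵁ Y.basicOpen f)
      (homOfLE (p.preimage_mono le_top)) (Scheme.preimage_basicOpen p f)
    set rX := (resX p (le_top : Y.basicOpen f ≤ ⊤)).hom with hrX
    set rY := (resY (le_top : Y.basicOpen f ≤ ⊤)).hom with hrY
    set h := (p.app ⊤).hom f with hh
    have hrh : rX h = (p.app (Y.basicOpen f)).hom (rY f) := app_resX_apply p _ f
    obtain ⟨n, a, hna⟩ := hXs s
    change s * rX h ^ n = rX a at hna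
    -- invariance of `a` up to a power of `h`
    have hsigh : ∀ g : G, sig ρ p hinv ⊤ g h = h := fun g => sig_app' ρ p hinv ⊤ g f
    have hga : ∀ g : G, ∃ m : ℕ, h ^ m * (sig ρ p hinv ⊤ g a - a) = 0 := by
      intro g
      apply hX0
      change rX (sig ρ p hinv ⊤ g a - a) = 0
      rw [map_sub, sig_resX, ← hna, map_mul, map_pow, hs g, ← sig_resX, hsigh g, sub_self]
    choose mg hmg using hga
    cases nonempty_fintype G
    let m := Finset.univ.sup mg
    have hm : ∀ g : G, h ^ m * (sig ρ p hinv ⊤ g a - a) = 0 := by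
      intro g
      have hle : mg g ≤ m := Finset.le_sup (Finset.mem_univ g)
      obtain ⟨k, hk⟩ := Nat.exists_eq_add_of_le hle
      rw [hk, pow_add, mul_comm (h ^ mg g), mul_assoc, hmg g, mul_zero]
    have hinv' : ∀ g : G, sig ρ p hinv ⊤ g (h ^ m * a) = h ^ m * a := by
      intro g
      rw [map_mul, map_pow, hsigh g]
      have := hm g
      rw [mul_sub, sub_eq_zero] at this
      exact this
    obtain ⟨b, hb⟩ := hrange _ hinv'
    -- now `s * rX h ^ (n + m) = (p.app _) (rY b)`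
    have h5 : s * (p.app (Y.basicOpen f)).hom (rY f) ^ (n + m) =
        (p.app (Y.basicOpen f)).hom (rY b) := by
      rw [← hrh, pow_add, ← mul_assoc, hna, ← map_pow, ← map_mul, mul_comm a, ← hb]
      exact app_resX_apply p _ b
    obtain ⟨u, hu⟩ := hYu.pow (n + m)
    change (u : Γ(Y, Y.basicOpen f)) = rY f ^ (n + m) at hu
    refine ⟨rY b * ((u⁻¹ : (Γ(Y, Y.basicOpen f))ˣ) : Γ(Y, Y.basicOpen f)), ?_⟩
    rw [map_mul, ← h5, ← map_pow, ← hu, mul_assoc, ← map_mul, Units.mul_inv, map_one, mul_one]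

end Groth.Agent.Helper7.QuotBasis


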