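import Groth.Prelude.Def_SGA1
import Mathlib.AlgebraicGeometry.Morphisms.Proper
import Mathlib.AlgebraicGeometry.Morphisms.UniversallyOpen
import Mathlib.AlgebraicGeometry.Morphisms.Etale
import Mathlib.AlgebraicGeometry.PullbackCarrier
import Mathlib.CategoryTheory.MorphismProperty.Descent

universe u
open CategoryTheory CategoryTheory.Limits AlgebraicGeometry MorphismProperty

/-! helper7: descent along universally submersive morphisms (`SGA1.UnivSubmersive`): open / closed
maps, universally open / closed, separated and proper morphisms descend (`main2917`). -/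

namespace Groth.Agent.Helper7.SubmDesc

theorem descendsAlong_universally {C : Type*} [Category C] [HasPullbacks C]
    (P Q : MorphismProperty C) [P.DescendsAlong Q] [Q.IsStableUnderBaseChange] :
    P.universally.DescendsAlong Q where
  of_isPullback {A X Y Z fst snd f g} h hf hfst := by
    intro Y' T i₁ i₂ g' hg'
    have hb : Q (pullback.snd f i₂) := Q.pullback_snd _ _ hf
    refine DescendsAlong.of_isPullback (P := P) (Q := Q)
      (IsPullback.of_hasPullback (pullback.snd f i₂) g') hb ?_
    have hcomm : (pullback.fst (pullback.snd f i₂) g' ≫ pullback.fst f i₂) ≫ f =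
        (pullback.snd (pullback.snd f i₂) g' ≫ i₁) ≫ g := by
      rw [Category.assoc, pullback.condition, ← Category.assoc, pullback.condition,
        Category.assoc, Category.assoc, hg'.w]
    obtain ⟨e, he⟩ : ∃ e : pullback (pullback.snd f i₂) g' ⟶ A,
        e = h.lift _ _ hcomm := ⟨_, rfl⟩
    have he1 : e ≫ fst = pullback.fst (pullback.snd f i₂) g' ≫ pullback.fst f i₂ := by
      rw [he, h.lift_fst]
    have he2 : e ≫ snd = pullback.snd (pullback.snd f i₂) g' ≫ i₁ := by
      rw [he, h.lift_snd]
    have hbig : IsPullback (pullback.fst (pullback.snd f i₂) g') (e ≫ snd)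
        (pullback.fst f i₂ ≫ f) g := by
      rw [he2, pullback.condition]
      exact (IsPullback.of_hasPullback (pullback.snd f i₂) g').paste_vert hg'
    exact hfst _ _ _ (IsPullback.of_bot hbig he1.symm h)

theorem isQuotientMap {X Y : Scheme.{u}} {f : X ⟶ Y} (hf : SGA1.UnivSubmersive f) :
    Topology.IsQuotientMap f.base :=
  MorphismProperty.universally_le _ _ hf

instance : (SGA1.UnivSubmersive : MorphismProperty Scheme.{u}).IsStableUnderBaseChange :=
  MorphismProperty.universally_isStableUnderBaseChange _

instance descendsAlong_isOpenMap :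
    DescendsAlong (topologically @IsOpenMap) (SGA1.UnivSubmersive : MorphismProperty Scheme.{u}) where
  of_isPullback {A X Y Z fst snd f g} h hf hfst := by
    intro s hs
    rw [← (isQuotientMap hf).isOpen_preimage, ← Scheme.image_preimage_eq_of_isPullback h.flip]
    exact hfst _ (hs.preimage snd.continuous)

instance descendsAlong_isClosedMap :
    DescendsAlong (topologically @IsClosedMap) (SGA1.UnivSubmersive : MorphismProperty Scheme.{u}) where
  of_isPullback {A X Y Z fst snd f g} h hf hfst := by
    intro s hs
    rw [← (isQuotientMap hf).isClosed_preimage, ← Scheme.image_preimage_eq_of_isPullback h.flip]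
    exact hfst _ (hs.preimage snd.continuous)

instance descendsAlong_universallyOpen :
    DescendsAlong @UniversallyOpen (SGA1.UnivSubmersive : MorphismProperty Scheme.{u}) := by
  rw [UniversallyOpen.eq]
  exact descendsAlong_universally _ _

instance descendsAlong_universallyClosed :
    DescendsAlong @UniversallyClosed (SGA1.UnivSubmersive : MorphismProperty Scheme.{u}) := by
  rw [universallyClosed_eq]
  exact descendsAlong_universally _ _

theorem isSeparated_of_universallyClosed_diagonal {X Y : Scheme.{u}} (f : X ⟶ Y)
    (h : UniversallyClosed (pullback.diagonal f)) : IsSeparated f :=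
  ⟨IsClosedImmersion.of_isPreimmersion _ (pullback.diagonal f).isClosedMap.isClosed_range⟩

instance descendsAlong_isSeparated :
    DescendsAlong @IsSeparated (SGA1.UnivSubmersive : MorphismProperty Scheme.{u}) where
  of_isPullback {A X Y Z fst snd f g} h hf hfst := by
    have h1 : (MorphismProperty.diagonal @UniversallyClosed) fst :=
      show UniversallyClosed (pullback.diagonal fst) from inferInstance
    have h2 : (MorphismProperty.diagonal @UniversallyClosed) g :=
      DescendsAlong.of_isPullback (P := MorphismProperty.diagonal @UniversallyClosed)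
        (Q := SGA1.UnivSubmersive) h hf h1
    exact isSeparated_of_universallyClosed_diagonal g h2

/-- The base-change square of `S2917`. -/
theorem isPullback_map {S' S X Y : Scheme.{u}} (g : S' ⟶ S) (f : X ⟶ Y) (q : Y ⟶ S) :
    IsPullback (pullback.map (f ≫ q) g q g f (𝟙 S') (𝟙 S) (Category.comp_id _)
        ((Category.comp_id _).trans (Category.id_comp _).symm))
      (pullback.fst (f ≫ q) g) (pullback.fst q g) f := by
  refine IsPullback.of_right ?_ (pullback.lift_fst _ _ _) (IsPullback.of_hasPullback q g).flip
  have : pullback.map (f ≫ q) g q g f (𝟙 S') (𝟙 S) (Category.comp_id _)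
        ((Category.comp_id _).trans (Category.id_comp _).symm) ≫ pullback.snd q g =
      pullback.snd (f ≫ q) g := (pullback.lift_snd _ _ _).trans (Category.comp_id _)
  rw [this]
  exact (IsPullback.of_hasPullback (f ≫ q) g).flip

theorem main2917 {S' S X Y : Scheme.{u}} (g : S' ⟶ S) (hg : SGA1.UnivSubmersive g)
    (f : X ⟶ Y) (q : Y ⟶ S) :
    (IsOpenMap (pullback.map (f ≫ q) g q g f (𝟙 S') (𝟙 S) (Category.comp_id _) ((Category.comp_id _).trans (Category.id_comp _).symm)).base → IsOpenMap f.base) ∧
    (IsClosedMap (pullback.map (f ≫ q) g q g f (𝟙 S') (𝟙 S) (Category.comp_id _) ((Category.comp_id _).trans (Category.id_comp _).symm)).base → IsClosedMap f.base) ∧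
    (UniversallyOpen (pullback.map (f ≫ q) g q g f (𝟙 S') (𝟙 S) (Category.comp_id _) ((Category.comp_id _).trans (Category.id_comp _).symm)) → UniversallyOpen f) ∧
    (UniversallyClosed (pullback.map (f ≫ q) g q g f (𝟙 S') (𝟙 S) (Category.comp_id _) ((Category.comp_id _).trans (Category.id_comp _).symm)) → UniversallyClosed f) ∧
    (IsSeparated (pullback.map (f ≫ q) g q g f (𝟙 S') (𝟙 S) (Category.comp_id _) ((Category.comp_id _).trans (Category.id_comp _).symm)) → IsSeparated f) ∧
    (QuasiCompact g → LocallyOfFiniteType f →
      IsProper (pullback.map (f ≫ q) g q g f (𝟙 S') (𝟙 S) (Category.comp_id _) ((Category.comp_id _).trans (Category.id_comp _).symm)) → IsProper f) := by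
  have hsq := isPullback_map g f q
  have hπ : SGA1.UnivSubmersive (pullback.fst q g) :=
    MorphismProperty.pullback_fst (P := SGA1.UnivSubmersive) q g hg
  refine ⟨fun h => ?_, fun h => ?_, fun h => ?_, fun h => ?_, fun h => ?_, fun _ hlft h => ?_⟩
  · exact DescendsAlong.of_isPullback (P := topologically @IsOpenMap) (Q := SGA1.UnivSubmersive)
      hsq hπ h
  · exact DescendsAlong.of_isPullback (P := topologically @IsClosedMap) (Q := SGA1.UnivSubmersive)
      hsq hπ h
  · exact DescendsAlong.of_isPullback (P := @UniversallyOpen) (Q := SGA1.UnivSubmersive)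
      hsq hπ h
  · exact DescendsAlong.of_isPullback (P := @UniversallyClosed) (Q := SGA1.UnivSubmersive)
      hsq hπ h
  · exact DescendsAlong.of_isPullback (P := @IsSeparated) (Q := SGA1.UnivSubmersive)
      hsq hπ h
  · have h1 : UniversallyClosed f :=
      DescendsAlong.of_isPullback (P := @UniversallyClosed) (Q := SGA1.UnivSubmersive)
        hsq hπ inferInstance
    have h2 : IsSeparated f :=
      DescendsAlong.of_isPullback (P := @IsSeparated) (Q := SGA1.UnivSubmersive)
        hsq hπ inferInstance
    exact {}

end Groth.Agent.Helper7.SubmDesc
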