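import Mathlib
import Groth.Agent.Lib.Helper9.UnivHomeo2

/-! helper7: universal homeomorphisms of schemes are affine and integral. -/

namespace Groth.Agent.Helper7.UHSch
open AlgebraicGeometry CategoryTheory MorphismProperty
open Groth.Agent.Helper9.UH
universe u

section basic
variable {X Y : Scheme.{u}} (f : X ⟶ Y)

theorem isAffineHom_of_isUnivHomeo (h : FlatMor.IsUnivHomeo f) : IsAffineHom f := by
  have hh := isHomeomorph_of_isUnivHomeo f h
  apply isAffineHom_of_isInducing f hh.isInducing
  rw [hh.surjective.range_eq]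
  exact isClosed_univ

theorem isIntegralHom_of_isUnivHomeo (h : FlatMor.IsUnivHomeo f) : IsIntegralHom f := by
  rw [IsIntegralHom.iff_universallyClosed_and_isAffineHom]
  exact ⟨universallyClosed_of_isUnivHomeo f h, isAffineHom_of_isUnivHomeo f h⟩

theorem surjective_of_isUnivHomeo (h : FlatMor.IsUnivHomeo f) : Surjective f :=
  ⟨(isHomeomorph_of_isUnivHomeo f h).surjective⟩

theorem isUnivHomeo_iff :
    FlatMor.IsUnivHomeo f ↔ IsIntegralHom f ∧ UniversallyInjective f ∧ Surjective f := by
  constructor
  · intro h
    exact ⟨isIntegralHom_of_isUnivHomeo f h, universallyInjective_of_isUnivHomeo f h,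
      surjective_of_isUnivHomeo f h⟩
  · rintro ⟨h1, h2, h3⟩
    exact isUnivHomeo_of f

end basic

end Groth.Agent.Helper7.UHSch
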