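import Mathlib
import Groth.Agent.Lib.Helper7.UHSch

/-! helper7: composition and cancellation for universal homeomorphisms of schemes. -/

namespace Groth.Agent.Helper7.UHSch
open AlgebraicGeometry CategoryTheory MorphismProperty Limits
open Groth.Agent.Helper9.UH
universe u

section two
variable {X Y Z : Scheme.{u}} (g : X ⟶ Y) (h : Y ⟶ Z)

theorem isUnivHomeo_of_comp_left (hgh : FlatMor.IsUnivHomeo (g ≫ h)) (hg : FlatMor.IsUnivHomeo g) :
    FlatMor.IsUnivHomeo h := by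
  intro Y' T i₁ i₂ f' hpb
  have hsq : IsPullback (pullback.snd g i₁) (pullback.fst g i₁) i₁ g :=
    (IsPullback.of_hasPullback g i₁).flip
  have h1 : IsHomeomorph (pullback.snd g i₁) := hg _ _ _ hsq
  have h2 : IsHomeomorph (pullback.snd g i₁ ≫ f') := hgh _ _ _ (hsq.paste_horiz hpb)
  show IsHomeomorph f'
  have hcomp : ⇑(pullback.snd g i₁ ≫ f') = ⇑f' ∘ ⇑(pullback.snd g i₁) := by
    ext x; simp
  rw [hcomp] at h2
  refine ⟨f'.continuous, ?_, ?_⟩
  · intro U hU
    have : ⇑f' '' U = (⇑f' ∘ ⇑(pullback.snd g i₁)) '' (⇑(pullback.snd g i₁) ⁻¹' U) := by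
      rw [Set.image_comp, Set.image_preimage_eq _ h1.surjective]
    rw [this]
    exact h2.isOpenMap _ (hU.preimage h1.continuous)
  · exact (Function.Bijective.of_comp_iff _ h1.bijective).mp h2.bijective

theorem isUnivHomeo_of_comp_right (hgh : FlatMor.IsUnivHomeo (g ≫ h)) (hh : FlatMor.IsUnivHomeo h) :
    FlatMor.IsUnivHomeo g := by
  rw [isUnivHomeo_iff] at hgh hh ⊢
  obtain ⟨a1, a2, a3⟩ := hgh
  obtain ⟨b1, b2, b3⟩ := hh
  refine ⟨IsIntegralHom.of_comp g h, ?_, ?_⟩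
  · apply ((tfae_universallyInjective g).out 0 1).mpr
    intro K _ x₁ x₂ hx
    have hinj := ((tfae_universallyInjective (g ≫ h)).out 0 1).mp a2
    apply hinj K
    show x₁ ≫ g ≫ h = x₂ ≫ g ≫ h
    rw [← Category.assoc, ← Category.assoc]
    exact congrArg (· ≫ h) hx
  · constructor
    intro y
    obtain ⟨x, hx⟩ := a3.surj (h y)
    refine ⟨x, h.injective ?_⟩
    rw [← hx]
    simp

theorem isUnivHomeo_comp (hg : FlatMor.IsUnivHomeo g) (hh : FlatMor.IsUnivHomeo h) :
    FlatMor.IsUnivHomeo (g ≫ h) := by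
  rw [isUnivHomeo_iff] at hg hh ⊢
  obtain ⟨a1, a2, a3⟩ := hg
  obtain ⟨b1, b2, b3⟩ := hh
  exact ⟨MorphismProperty.comp_mem (W := @IsIntegralHom) g h a1 b1,
    MorphismProperty.comp_mem (W := @UniversallyInjective) g h a2 b2,
    MorphismProperty.comp_mem (W := @Surjective) g h a3 b3⟩

end two

end Groth.Agent.Helper7.UHSch
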