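import Mathlib
import Groth.Agent.Lib.Helper9.UnivHomeo2

/-! helper7: criteria for `Spec φ` to be universally injective / surjective / a universal
homeomorphism, residue field surjectivity, and the case of quotients of polynomial rings. -/

namespace Groth.Agent.Helper7.UHLib
open AlgebraicGeometry CategoryTheory Polynomial
universe u

section general

variable {A B : Type u} [CommRing A] [CommRing B] (φ : A →+* B)

/-- `K`-points criterion for universal injectivity of `Spec φ`. -/
theorem universallyInjective_specMap_iff :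
    UniversallyInjective (Spec.map (CommRingCat.ofHom φ)) ↔
      ∀ (K : Type u) [Field K] (ψ₁ ψ₂ : B →+* K), ψ₁.comp φ = ψ₂.comp φ → ψ₁ = ψ₂ := by
  have htf := (tfae_universallyInjective (Spec.map (CommRingCat.ofHom φ))).out 0 1
  rw [htf]
  constructor
  · intro h K _ ψ₁ ψ₂ he
    have := @h K _ (Spec.map (CommRingCat.ofHom ψ₁)) (Spec.map (CommRingCat.ofHom ψ₂)) (by
      show Spec.map (CommRingCat.ofHom ψ₁) ≫ Spec.map (CommRingCat.ofHom φ) =
        Spec.map (CommRingCat.ofHom ψ₂) ≫ Spec.map (CommRingCat.ofHom φ)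
      rw [← Spec.map_comp, ← Spec.map_comp, ← CommRingCat.ofHom_comp, ← CommRingCat.ofHom_comp, he])
    have h2 := Spec.map_injective this
    exact congrArg CommRingCat.Hom.hom h2
  · intro h K _ g₁ g₂ he
    obtain ⟨ψ₁, rfl⟩ := Spec.map_surjective g₁
    obtain ⟨ψ₂, rfl⟩ := Spec.map_surjective g₂
    have he' : Spec.map (CommRingCat.ofHom φ ≫ ψ₁) = Spec.map (CommRingCat.ofHom φ ≫ ψ₂) := by
      rw [Spec.map_comp, Spec.map_comp]; exact he
    have h2 := Spec.map_injective he'
    have h3 : ψ₁.hom.comp φ = ψ₂.hom.comp φ := congrArg CommRingCat.Hom.hom h2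
    have h4 := h K ψ₁.hom ψ₂.hom h3
    congr 1
    exact CommRingCat.hom_ext h4



/-- `Spec φ` is surjective as soon as every prime of `A` is the kernel of a composite `A → B → K`
to a field. -/
theorem surjective_specMap_of
    (h : ∀ p : PrimeSpectrum A, ∃ (K : Type u) (_ : Field K) (ψ : B →+* K),
      RingHom.ker (ψ.comp φ) = p.asIdeal) :
    Surjective (Spec.map (CommRingCat.ofHom φ)) := by
  rw [surjective_iff]
  intro p
  obtain ⟨K, _, ψ, hψ⟩ := h p
  refine ⟨⟨RingHom.ker ψ, RingHom.ker_isPrime ψ⟩, ?_⟩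
  apply PrimeSpectrum.ext
  rw [← hψ]
  rfl

theorem surjective_specMap_iff_of_isIntegral (hint : φ.IsIntegral) :
    Surjective (Spec.map (CommRingCat.ofHom φ)) ↔ RingHom.ker φ ≤ nilradical A := by
  rw [surjective_iff]
  constructor
  · intro h
    rw [nilradical_eq_sInf]
    refine le_sInf fun p hp => ?_
    obtain ⟨q, hq⟩ := h ⟨p, hp⟩
    have : p = q.asIdeal.comap φ := congrArg PrimeSpectrum.asIdeal hq.symm
    rw [this]
    intro a ha
    rw [Ideal.mem_comap, (RingHom.mem_ker).mp ha]
    exact zero_mem _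
  · intro h p
    have hle : RingHom.ker φ ≤ p.asIdeal := h.trans (nilradical_le_prime p.asIdeal)
    let _ : Algebra A B := φ.toAlgebra
    have : Algebra.IsIntegral A B := ⟨hint⟩
    obtain ⟨Q, -, hQ1, hQ2⟩ := Ideal.exists_ideal_over_prime_of_isIntegral
      (S := B) p.asIdeal ⊥ (show RingHom.ker (algebraMap A B) ≤ p.asIdeal from hle)
    exact ⟨⟨Q, hQ1⟩, PrimeSpectrum.ext hQ2⟩



/-- every element of the residue field is a quotient of images of ring elements -/
lemma exists_div_eq (q : Ideal B) [q.IsPrime] (z : q.ResidueField) :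
    ∃ b s : B, algebraMap B q.ResidueField s ≠ 0 ∧
      z = algebraMap B q.ResidueField b / algebraMap B q.ResidueField s := by
  obtain ⟨x, y, hy, rfl⟩ := IsFractionRing.div_surjective (A := B ⧸ q) z
  obtain ⟨b, rfl⟩ := Ideal.Quotient.mk_surjective x
  obtain ⟨s, rfl⟩ := Ideal.Quotient.mk_surjective y
  refine ⟨b, s, ?_, ?_⟩
  · rw [← Ideal.algebraMap_quotient_residueField_mk]
    intro h0
    have := (IsFractionRing.injective (B ⧸ q) q.ResidueField) (h0.trans (map_zero _).symm)
    exact nonZeroDivisors.ne_zero hy this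
  · rw [Ideal.algebraMap_quotient_residueField_mk, Ideal.algebraMap_quotient_residueField_mk]

/-- the residue field map is surjective once the images of ring elements lie in its range -/
theorem residueField_map_surjective_of (p : Ideal A) [p.IsPrime] (q : Ideal B) [q.IsPrime]
    (h : p = q.comap φ)
    (hr : ∀ b : B, algebraMap B q.ResidueField b ∈ (Ideal.ResidueField.map p q φ h).range) :
    Function.Surjective (Ideal.ResidueField.map p q φ h) := by
  intro z
  obtain ⟨b, s, hs, rfl⟩ := exists_div_eq q z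
  obtain ⟨x, hx⟩ := hr b
  obtain ⟨y, hy⟩ := hr s
  refine ⟨x / y, ?_⟩
  rw [map_div₀, hx, hy]

/-- generator version -/
theorem residueField_map_surjective_of_closure (p : Ideal A) [p.IsPrime] (q : Ideal B) [q.IsPrime]
    (h : p = q.comap φ) (T : Set B) (hT : Subring.closure (Set.range φ ∪ T) = ⊤)
    (hr : ∀ t ∈ T, algebraMap B q.ResidueField t ∈ (Ideal.ResidueField.map p q φ h).range) :
    Function.Surjective (Ideal.ResidueField.map p q φ h) := by
  apply residueField_map_surjective_of
  intro b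
  have hb : b ∈ Subring.closure (Set.range φ ∪ T) := by rw [hT]; trivial
  have hle : Subring.closure (Set.range φ ∪ T) ≤
      (Ideal.ResidueField.map p q φ h).range.comap (algebraMap B q.ResidueField) := by
    rw [Subring.closure_le]
    rintro x (⟨a, rfl⟩ | hx)
    · exact ⟨algebraMap A p.ResidueField a, Ideal.ResidueField.map_algebraMap p q φ h a⟩
    · exact hr x hx
  exact hle hb

theorem residueFieldMap_surjective_iff (y : PrimeSpectrum B) :
    Function.Surjective ((Spec.map (CommRingCat.ofHom φ)).residueFieldMap y) ↔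
      Function.Surjective
        (Ideal.ResidueField.map (PrimeSpectrum.comap φ y).asIdeal y.asIdeal φ rfl) := by
  have h1 := Groth.Agent.Helper9.UH.isIso_residueFieldMap_iff φ y
  have h2 := ConcreteCategory.isIso_iff_bijective ((Spec.map (CommRingCat.ofHom φ)).residueFieldMap y)
  constructor
  · intro h
    have hb : Function.Bijective ((Spec.map (CommRingCat.ofHom φ)).residueFieldMap y) :=
      ⟨((Spec.map (CommRingCat.ofHom φ)).residueFieldMap y).hom.injective, h⟩
    exact (h1.mp (h2.mpr hb)).2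
  · intro h
    have hb : Function.Bijective
        (Ideal.ResidueField.map (PrimeSpectrum.comap φ y).asIdeal y.asIdeal φ rfl) :=
      ⟨RingHom.injective _, h⟩
    exact (h2.mp (h1.mpr hb)).2


end general

section quotient

variable {A : Type u} [CommRing A] (I : Ideal A[X])

lemma mk_eq_aeval (g : A[X]) :
    (Ideal.Quotient.mk I g : A[X] ⧸ I) = aeval (Ideal.Quotient.mk I X : A[X] ⧸ I) g := by
  have h1 : aeval ((Ideal.Quotient.mkₐ A I) X) g = (Ideal.Quotient.mkₐ A I) (aeval (X : A[X]) g) :=
    Polynomial.aeval_algHom_apply _ _ _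
  rw [Polynomial.aeval_X_left] at h1
  simpa using h1.symm

lemma adjoin_mk_X : Algebra.adjoin A {(Ideal.Quotient.mk I X : A[X] ⧸ I)} = ⊤ := by
  rw [eq_top_iff]
  rintro b -
  obtain ⟨g, rfl⟩ := Ideal.Quotient.mk_surjective b
  rw [Algebra.adjoin_singleton_eq_range_aeval]
  exact ⟨g, (mk_eq_aeval I g).symm⟩

theorem isIntegral_quotient (f : A[X]) (hf : f.Monic) (hfI : f ∈ I) :
    (algebraMap A (A[X] ⧸ I)).IsIntegral := by
  have ht : IsIntegral A (Ideal.Quotient.mk I X : A[X] ⧸ I) := by
    refine ⟨f, hf, ?_⟩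
    have := mk_eq_aeval I f
    rw [Ideal.Quotient.eq_zero_iff_mem.mpr hfI] at this
    exact this.symm
  have hle : Algebra.adjoin A {(Ideal.Quotient.mk I X : A[X] ⧸ I)} ≤ integralClosure A (A[X] ⧸ I) :=
    Algebra.adjoin_le (Set.singleton_subset_iff.mpr ht)
  rw [adjoin_mk_X] at hle
  intro b
  exact hle (show b ∈ (⊤ : Subalgebra A (A[X] ⧸ I)) from trivial)

theorem ringHom_ext_quotient {K : Type*} [Semiring K] (ψ₁ ψ₂ : A[X] ⧸ I →+* K)
    (h : ψ₁.comp (algebraMap A _) = ψ₂.comp (algebraMap A _))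
    (hX : ψ₁ (Ideal.Quotient.mk I X) = ψ₂ (Ideal.Quotient.mk I X)) : ψ₁ = ψ₂ := by
  apply Ideal.Quotient.ringHom_ext
  apply Polynomial.ringHom_ext
  · intro a
    exact congrArg (fun k => k a) h
  · exact hX


end quotient

section quotient2
variable {A : Type u} [CommRing A] (I : Ideal A[X])

theorem isUnivHomeo_quotient (f : A[X]) (hf : f.Monic) (hfI : f ∈ I)
    (hinj : ∀ (K : Type u) [Field K] (ψ₁ ψ₂ : A[X] ⧸ I →+* K),
      ψ₁.comp (algebraMap A _) = ψ₂.comp (algebraMap A _) →
      ψ₁ (Ideal.Quotient.mk I X) = ψ₂ (Ideal.Quotient.mk I X))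
    (hsurj : ∀ p : PrimeSpectrum A, ∃ (K : Type u) (_ : Field K) (i : A →+* K) (τ : K),
      RingHom.ker i = p.asIdeal ∧ ∀ g ∈ I, g.eval₂ i τ = 0) :
    FlatMor.IsUnivHomeo (Spec.map (CommRingCat.ofHom (algebraMap A (A[X] ⧸ I)))) := by
  have h1 : IsIntegralHom (Spec.map (CommRingCat.ofHom (algebraMap A (A[X] ⧸ I)))) :=
    IsIntegralHom.SpecMap_iff.mpr (isIntegral_quotient I f hf hfI)
  have h2 : UniversallyInjective (Spec.map (CommRingCat.ofHom (algebraMap A (A[X] ⧸ I)))) := by
    rw [universallyInjective_specMap_iff]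
    intro K _ ψ₁ ψ₂ h
    exact ringHom_ext_quotient I ψ₁ ψ₂ h (hinj K ψ₁ ψ₂ h)
  have h3 : Surjective (Spec.map (CommRingCat.ofHom (algebraMap A (A[X] ⧸ I)))) := by
    apply surjective_specMap_of
    intro p
    obtain ⟨K, hK, i, τ, hker, hvan⟩ := hsurj p
    refine ⟨K, hK, Ideal.Quotient.lift I (Polynomial.eval₂RingHom i τ) hvan, ?_⟩
    rw [← hker]
    congr 1
    ext a
    show Ideal.Quotient.lift I (Polynomial.eval₂RingHom i τ) hvan (Ideal.Quotient.mk I (C a)) = i a
    rw [Ideal.Quotient.lift_mk]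
    simp
  exact Groth.Agent.Helper9.UH.isUnivHomeo_of _

theorem residueFieldMap_surjective_quotient (q : PrimeSpectrum (A[X] ⧸ I))
    (h : algebraMap (A[X] ⧸ I) q.asIdeal.ResidueField (Ideal.Quotient.mk I X) ∈
      (Ideal.ResidueField.map (PrimeSpectrum.comap (algebraMap A (A[X] ⧸ I)) q).asIdeal q.asIdeal
        (algebraMap A (A[X] ⧸ I)) rfl).range) :
    Function.Surjective
      ((Spec.map (CommRingCat.ofHom (algebraMap A (A[X] ⧸ I)))).residueFieldMap q) := by
  rw [residueFieldMap_surjective_iff]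
  apply residueField_map_surjective_of_closure (algebraMap A (A[X] ⧸ I)) _ _ rfl
    {(Ideal.Quotient.mk I X : A[X] ⧸ I)}
  · have h := adjoin_mk_X I
    have h2 := congrArg Subalgebra.toSubring h
    rw [Algebra.adjoin_eq_ring_closure] at h2
    exact h2
  · rintro t rfl
    exact h

end quotient2

end Groth.Agent.Helper7.UHLib
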