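import Mathlib
import Groth.Agent.Lib.Helper7.UHLib

/-! helper7: the cuspidal example `A[t]/(t^2 - x, t^3 - y)`. -/

namespace Groth.Agent.Helper7.UHEx
open AlgebraicGeometry CategoryTheory Polynomial Groth.Agent.Helper7.UHLib
universe u

lemma field_eq_of_sq_cube {K : Type*} [Field K] {t₁ t₂ x y : K} (h1 : t₁ ^ 2 = x) (h2 : t₁ ^ 3 = y)
    (h3 : t₂ ^ 2 = x) (h4 : t₂ ^ 3 = y) : t₁ = t₂ := by
  by_cases hx : x = 0
  · have e1 : t₁ = 0 := by rw [hx] at h1; exact pow_eq_zero_iff (two_ne_zero) |>.mp h1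
    have e2 : t₂ = 0 := by rw [hx] at h3; exact pow_eq_zero_iff (two_ne_zero) |>.mp h3
    rw [e1, e2]
  · have e1 : t₁ * x = y := by rw [← h1, ← h2]; ring
    have e2 : t₂ * x = y := by rw [← h3, ← h4]; ring
    have : t₁ * x = t₂ * x := e1.trans e2.symm
    exact mul_right_cancel₀ hx this

lemma field_root_sq_cube {K : Type*} [Field K] {x y : K} (h : x ^ 3 = y ^ 2) :
    ∃ τ : K, τ ^ 2 = x ∧ τ ^ 3 = y := by
  by_cases hx : x = 0
  · refine ⟨0, by simp [hx], ?_⟩
    rw [hx] at h
    have : y = 0 := by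
      have h' : y ^ 2 = 0 := by rw [← h]; simp
      exact pow_eq_zero_iff (two_ne_zero) |>.mp h'
    simp [this]
  · refine ⟨y / x, ?_, ?_⟩
    · rw [div_pow, ← h]; field_simp
    · rw [div_pow]
      have : y ^ 3 = y * x ^ 3 := by rw [h]; ring
      rw [this]; field_simp

variable (A : Type u) [CommRing A] (x y : A)

/-- the ideal -/
noncomputable abbrev I23 : Ideal A[X] := Ideal.span ({X ^ 2 - C x, X ^ 3 - C y} : Set A[X])

lemma mkX_sq : (Ideal.Quotient.mk (I23 A x y) X) ^ 2 = algebraMap A (A[X] ⧸ I23 A x y) x := by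
  have : Ideal.Quotient.mk (I23 A x y) (X ^ 2 - C x) = 0 :=
    Ideal.Quotient.eq_zero_iff_mem.mpr (Ideal.subset_span (by simp))
  rw [map_sub, map_pow, sub_eq_zero] at this
  rw [this]; rfl

lemma mkX_cube : (Ideal.Quotient.mk (I23 A x y) X) ^ 3 = algebraMap A (A[X] ⧸ I23 A x y) y := by
  have : Ideal.Quotient.mk (I23 A x y) (X ^ 3 - C y) = 0 :=
    Ideal.Quotient.eq_zero_iff_mem.mpr (Ideal.subset_span (by simp))
  rw [map_sub, map_pow, sub_eq_zero] at this
  rw [this]; rfl

theorem main (h : x ^ 3 = y ^ 2) :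
    FlatMor.IsUnivHomeo (Spec.map (CommRingCat.ofHom (algebraMap A (A[X] ⧸ I23 A x y)))) ∧
    ∀ q : Spec (CommRingCat.of (A[X] ⧸ I23 A x y)),
      Function.Surjective ((Spec.map (CommRingCat.ofHom (algebraMap A
        (A[X] ⧸ I23 A x y)))).residueFieldMap q) := by
  constructor
  · apply isUnivHomeo_quotient (I23 A x y) (X ^ 2 - C x) (monic_X_pow_sub_C x two_ne_zero)
      (Ideal.subset_span (by simp))
    · intro K _ ψ₁ ψ₂ hψ
      have hx : ψ₁ (algebraMap A _ x) = ψ₂ (algebraMap A _ x) := congrArg (fun k => k x) hψ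
      have hy : ψ₁ (algebraMap A _ y) = ψ₂ (algebraMap A _ y) := congrArg (fun k => k y) hψ
      apply field_eq_of_sq_cube (x := ψ₁ (algebraMap A _ x)) (y := ψ₁ (algebraMap A _ y))
      · rw [← map_pow, mkX_sq]
      · rw [← map_pow, mkX_cube]
      · rw [← map_pow, mkX_sq, hx]
      · rw [← map_pow, mkX_cube, hy]
    · intro p
      let K := p.asIdeal.ResidueField
      have hxy : (algebraMap A K x) ^ 3 = (algebraMap A K y) ^ 2 := by
        rw [← map_pow, ← map_pow, h]
      obtain ⟨τ, hτ1, hτ2⟩ := field_root_sq_cube hxy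
      refine ⟨K, inferInstance, algebraMap A K, τ, Ideal.ker_algebraMap_residueField _, ?_⟩
      intro g hg
      have hle : I23 A x y ≤ RingHom.ker (Polynomial.eval₂RingHom (algebraMap A K) τ) := by
        rw [Ideal.span_le]
        rintro g (rfl | rfl)
        · simp [hτ1]
        · simp [hτ2]
      exact hle hg
  · intro q
    apply residueFieldMap_surjective_quotient (I23 A x y) q
    set p := (PrimeSpectrum.comap (algebraMap A (A[X] ⧸ I23 A x y)) q).asIdeal with hp
    set m := Ideal.ResidueField.map p q.asIdeal (algebraMap A (A[X] ⧸ I23 A x y)) rfl with hm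
    have hxy : (algebraMap A p.ResidueField x) ^ 3 = (algebraMap A p.ResidueField y) ^ 2 := by
      rw [← map_pow, ← map_pow, h]
    obtain ⟨τ, hτ1, hτ2⟩ := field_root_sq_cube hxy
    refine ⟨τ, ?_⟩
    apply field_eq_of_sq_cube (x := m (algebraMap A p.ResidueField x))
      (y := m (algebraMap A p.ResidueField y))
    · rw [← map_pow, hτ1]
    · rw [← map_pow, hτ2]
    · rw [← map_pow, mkX_sq, hm, Ideal.ResidueField.map_algebraMap]
    · rw [← map_pow, mkX_cube, hm, Ideal.ResidueField.map_algebraMap]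

end Groth.Agent.Helper7.UHEx
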