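import Mathlib
import Groth.Agent.Lib.Helper7.UHLib

/-! helper7: the example `A[t]/(t^p - x, p t - y)`. -/

namespace Groth.Agent.Helper7.UHEx2
open AlgebraicGeometry CategoryTheory Polynomial Groth.Agent.Helper7.UHLib
universe u

lemma field_eq_of_pow_mul {K : Type*} [Field K] {p : ℕ} (hp : p.Prime) {t₁ t₂ x y : K}
    (h1 : t₁ ^ p = x) (h2 : (p : K) * t₁ = y) (h3 : t₂ ^ p = x) (h4 : (p : K) * t₂ = y) :
    t₁ = t₂ := by
  by_cases hpK : (p : K) = 0
  · have hc : CharP K p := (CharP.charP_iff_prime_eq_zero hp).mpr hpK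
    have : ExpChar K p := ExpChar.prime hp
    apply frobenius_inj K p
    show t₁ ^ p = t₂ ^ p
    rw [h1, h3]
  · have : (p : K) * t₁ = (p : K) * t₂ := h2.trans h4.symm
    exact mul_left_cancel₀ hpK this

lemma field_root_pow_mul {K : Type*} [Field K] [IsAlgClosed K] {p : ℕ} (hp : p.Prime) {x y : K}
    (h : (p : K) ^ p * x = y ^ p) : ∃ τ : K, τ ^ p = x ∧ (p : K) * τ = y := by
  by_cases hpK : (p : K) = 0
  · obtain ⟨τ, hτ⟩ := IsAlgClosed.exists_pow_nat_eq x hp.pos
    refine ⟨τ, hτ, ?_⟩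
    rw [hpK, zero_pow hp.ne_zero, zero_mul] at h
    have : y = 0 := (pow_eq_zero_iff hp.ne_zero).mp h.symm
    rw [hpK, this, zero_mul]
  · refine ⟨y / p, ?_, ?_⟩
    · rw [div_pow, ← h]; field_simp
    · field_simp

variable (A : Type u) [CommRing A] (p : ℕ) (x y : A)

/-- the ideal -/
noncomputable abbrev Ip : Ideal A[X] :=
  Ideal.span ({X ^ p - C x, C (p : A) * X - C y} : Set A[X])

lemma mkX_pow : (Ideal.Quotient.mk (Ip A p x y) X) ^ p = algebraMap A (A[X] ⧸ Ip A p x y) x := by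
  have : Ideal.Quotient.mk (Ip A p x y) (X ^ p - C x) = 0 :=
    Ideal.Quotient.eq_zero_iff_mem.mpr (Ideal.subset_span (by simp))
  rw [map_sub, map_pow, sub_eq_zero] at this
  rw [this]; rfl

lemma mkX_mul : (p : A[X] ⧸ Ip A p x y) * (Ideal.Quotient.mk (Ip A p x y) X) =
    algebraMap A (A[X] ⧸ Ip A p x y) y := by
  have : Ideal.Quotient.mk (Ip A p x y) (C (p : A) * X - C y) = 0 :=
    Ideal.Quotient.eq_zero_iff_mem.mpr (Ideal.subset_span (by simp))
  rw [map_sub, map_mul, sub_eq_zero] at this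
  have e : Ideal.Quotient.mk (Ip A p x y) (C (p : A)) = (p : A[X] ⧸ Ip A p x y) := by
    rw [map_natCast C p, map_natCast]
  rw [e] at this
  rw [this]; rfl

theorem main (hp : p.Prime) (h : (p : A) ^ p * x = y ^ p) :
    FlatMor.IsUnivHomeo (Spec.map (CommRingCat.ofHom (algebraMap A (A[X] ⧸ Ip A p x y)))) := by
  apply isUnivHomeo_quotient (Ip A p x y) (X ^ p - C x) (monic_X_pow_sub_C x hp.ne_zero)
    (Ideal.subset_span (by simp))
  · intro K _ ψ₁ ψ₂ hψ
    have hx : ψ₁ (algebraMap A _ x) = ψ₂ (algebraMap A _ x) := congrArg (fun k => k x) hψ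
    have hy : ψ₁ (algebraMap A _ y) = ψ₂ (algebraMap A _ y) := congrArg (fun k => k y) hψ
    apply field_eq_of_pow_mul hp (x := ψ₁ (algebraMap A _ x)) (y := ψ₁ (algebraMap A _ y))
    · rw [← map_pow, mkX_pow]
    · rw [← mkX_mul, map_mul, map_natCast]
    · rw [← map_pow, mkX_pow, hx]
    · rw [hy, ← mkX_mul, map_mul, map_natCast]
  · intro q
    let K := AlgebraicClosure q.asIdeal.ResidueField
    let i : A →+* K := (algebraMap q.asIdeal.ResidueField K).comp (algebraMap A q.asIdeal.ResidueField)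
    have hxy : (p : K) ^ p * (i x) = (i y) ^ p := by
      rw [← map_natCast i p, ← map_pow, ← map_pow, ← map_mul, h]
    obtain ⟨τ, hτ1, hτ2⟩ := field_root_pow_mul hp hxy
    refine ⟨K, inferInstance, i, τ, ?_, ?_⟩
    · refine Eq.trans ?_ (Ideal.ker_algebraMap_residueField q.asIdeal)
      ext a
      simp only [RingHom.mem_ker, i, RingHom.comp_apply]
      exact (map_eq_zero_iff _ (algebraMap q.asIdeal.ResidueField K).injective)
    · intro g hg
      have hle : Ip A p x y ≤ RingHom.ker (Polynomial.eval₂RingHom i τ) := by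
        rw [Ideal.span_le]
        rintro g (rfl | rfl)
        · simp [hτ1]
        · simp [hτ2]
      exact hle hg

end Groth.Agent.Helper7.UHEx2
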