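import Mathlib
import Groth.Agent.Lib.Helper7.UHLib

/-! helper7: more on universal homeomorphisms of affine schemes. -/

namespace Groth.Agent.Helper7.UHLib2
open AlgebraicGeometry CategoryTheory CategoryTheory.Limits MorphismProperty
universe u

/-- if `g ≫ f'` is universally injective and `g` is surjective, then `f'` is universally
injective. -/
theorem universallyInjective_of_comp_of_surjective {X Y Z : Scheme.{u}} (g : X ⟶ Y) (f' : Y ⟶ Z)
    [Surjective g] [UniversallyInjective (g ≫ f')] : UniversallyInjective f' := by
  rw [UniversallyInjective.iff_diagonal]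
  have h1 : Surjective (pullback.diagonal (g ≫ f')) :=
    (UniversallyInjective.iff_diagonal _).mp inferInstance
  have h2 : Surjective (pullback.map (g ≫ f') (g ≫ f') f' f' g g (𝟙 _)
      ((Category.comp_id _).trans rfl) ((Category.comp_id _).trans rfl)) :=
    MorphismProperty.pullbackMap (P := @Surjective) inferInstance inferInstance rfl rfl
  have h3 : pullback.diagonal (g ≫ f') ≫ pullback.map (g ≫ f') (g ≫ f') f' f' g g (𝟙 _)
      ((Category.comp_id _).trans rfl) ((Category.comp_id _).trans rfl) =
      g ≫ pullback.diagonal f' := by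
    ext
    · rw [Category.assoc, pullback.lift_fst, pullback.diagonal_fst_assoc, Category.assoc,
        pullback.diagonal_fst, Category.comp_id]
    · rw [Category.assoc, pullback.lift_snd, pullback.diagonal_snd_assoc, Category.assoc,
        pullback.diagonal_snd, Category.comp_id]
  have h4 : Surjective (g ≫ pullback.diagonal f') := by
    rw [← h3]; infer_instance
  exact Surjective.of_comp g (pullback.diagonal f')

end Groth.Agent.Helper7.UHLib2

namespace Groth.Agent.Helper7.UHLib2
open AlgebraicGeometry CategoryTheory CategoryTheory.Limits MorphismProperty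
universe u

/-- trivial residue field extensions descend along a surjective first factor -/
theorem residueFieldMap_surjective_of_comp {X Y Z : Scheme.{u}} (f : X ⟶ Z) (g : X ⟶ Y)
    (f' : Y ⟶ Z) (h : f = g ≫ f') [Surjective g]
    (hres : ∀ x : X, Function.Surjective (f.residueFieldMap x)) :
    ∀ y : Y, Function.Surjective (f'.residueFieldMap y) := by
  subst h
  intro y
  obtain ⟨x, rfl⟩ := g.surjective y
  have h1 := hres x
  rw [Scheme.residueFieldMap_comp] at h1
  intro z
  obtain ⟨w, hw⟩ := h1 ((g.residueFieldMap x) z)
  refine ⟨w, ?_⟩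
  have hinj : Function.Injective (g.residueFieldMap x) := (g.residueFieldMap x).hom.injective
  apply hinj
  exact hw

section Ring
variable {A B : Type u} [CommRing A] [CommRing B] (φ : A →+* B)

theorem universallyClosed_specMap_iff :
    UniversallyClosed (Spec.map (CommRingCat.ofHom φ)) ↔ φ.IsIntegral := by
  have h1 : IsIntegralHom (Spec.map (CommRingCat.ofHom φ)) ↔ φ.IsIntegral :=
    IsIntegralHom.SpecMap_iff (φ := CommRingCat.ofHom φ)
  rw [← h1, IsIntegralHom.iff_universallyClosed_and_isAffineHom]
  exact ⟨fun h => ⟨h, inferInstance⟩, fun h => h.1⟩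

theorem isUnivHomeo_specMap_iff :
    FlatMor.IsUnivHomeo (Spec.map (CommRingCat.ofHom φ)) ↔
      φ.IsIntegral ∧ UniversallyInjective (Spec.map (CommRingCat.ofHom φ)) ∧
        Surjective (Spec.map (CommRingCat.ofHom φ)) := by
  constructor
  · intro h
    refine ⟨(universallyClosed_specMap_iff φ).mp
      (Groth.Agent.Helper9.UH.universallyClosed_of_isUnivHomeo _ h),
      Groth.Agent.Helper9.UH.universallyInjective_of_isUnivHomeo _ h,
      ⟨(Groth.Agent.Helper9.UH.isHomeomorph_of_isUnivHomeo _ h).surjective⟩⟩
  · rintro ⟨h1, h2, h3⟩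
    have := (universallyClosed_specMap_iff φ).mpr h1
    exact Groth.Agent.Helper9.UH.isUnivHomeo_of _

end Ring

end Groth.Agent.Helper7.UHLib2
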