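import Mathlib
import Groth.Agent.Lib.Helper7.UHLib
import Groth.Agent.Lib.Helper7.UHLib2

/-! helper7: universal homeomorphism properties pass to subalgebras. -/

namespace Groth.Agent.Helper7.UHLib3
open AlgebraicGeometry CategoryTheory CategoryTheory.Limits MorphismProperty
open Groth.Agent.Helper7.UHLib Groth.Agent.Helper7.UHLib2
universe u
variable {A B : Type u} [CommRing A] [CommRing B] [Algebra A B] (B' : Subalgebra A B)

lemma specMap_eq : Spec.map (CommRingCat.ofHom (algebraMap A B)) =
    Spec.map (CommRingCat.ofHom B'.val.toRingHom) ≫
      Spec.map (CommRingCat.ofHom (algebraMap A B')) := by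
  rw [← Spec.map_comp]
  rfl

lemma isIntegral_sub (hint : (algebraMap A B).IsIntegral) : (algebraMap A B').IsIntegral := by
  have : Algebra.IsIntegral A B := ⟨hint⟩
  have := Algebra.IsIntegral.of_injective B'.val Subtype.val_injective
  exact this.isIntegral

lemma surjective_val (hint : (algebraMap A B).IsIntegral) :
    Surjective (Spec.map (CommRingCat.ofHom B'.val.toRingHom)) := by
  rw [surjective_specMap_iff_of_isIntegral]
  · have : RingHom.ker B'.val.toRingHom = ⊥ :=
      (RingHom.injective_iff_ker_eq_bot _).mp Subtype.val_injective
    rw [this]; exact bot_le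
  · intro b
    have h1 : IsIntegral A b := hint b
    exact IsIntegral.tower_top (A := B') h1

theorem sub_universallyClosed (h : UniversallyClosed (Spec.map (CommRingCat.ofHom (algebraMap A B)))) :
    UniversallyClosed (Spec.map (CommRingCat.ofHom (algebraMap A B'))) := by
  rw [universallyClosed_specMap_iff] at h ⊢
  exact isIntegral_sub B' h

theorem sub_universallyInjective
    (h : UniversallyClosed (Spec.map (CommRingCat.ofHom (algebraMap A B))))
    (h2 : UniversallyInjective (Spec.map (CommRingCat.ofHom (algebraMap A B)))) :
    UniversallyInjective (Spec.map (CommRingCat.ofHom (algebraMap A B'))) := by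
  rw [universallyClosed_specMap_iff] at h
  have := surjective_val B' h
  rw [specMap_eq B'] at h2
  exact universallyInjective_of_comp_of_surjective (Spec.map (CommRingCat.ofHom B'.val.toRingHom)) _

theorem sub_isUnivHomeo (h : FlatMor.IsUnivHomeo (Spec.map (CommRingCat.ofHom (algebraMap A B)))) :
    FlatMor.IsUnivHomeo (Spec.map (CommRingCat.ofHom (algebraMap A B'))) := by
  rw [isUnivHomeo_specMap_iff] at h ⊢
  obtain ⟨h1, h2, h3⟩ := h
  have hc := (universallyClosed_specMap_iff _).mpr h1
  refine ⟨isIntegral_sub B' h1, sub_universallyInjective B' hc h2, ?_⟩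
  rw [specMap_eq B'] at h3
  exact Surjective.of_comp (Spec.map (CommRingCat.ofHom B'.val.toRingHom)) _

theorem sub_residue (h : UniversallyClosed (Spec.map (CommRingCat.ofHom (algebraMap A B))))
    (hres : ∀ x : Spec (CommRingCat.of B),
        Function.Surjective ((Spec.map (CommRingCat.ofHom (algebraMap A B))).residueFieldMap x)) :
    ∀ x : Spec (CommRingCat.of B'),
        Function.Surjective ((Spec.map (CommRingCat.ofHom (algebraMap A B'))).residueFieldMap x) := by
  rw [universallyClosed_specMap_iff] at h
  have := surjective_val B' h
  exact residueFieldMap_surjective_of_comp _ _ _ (specMap_eq B') hres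

end Groth.Agent.Helper7.UHLib3
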