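import Mathlib
import Groth.Agent.Lib.Helper7.UHLib3

/-! helper7: universal homeomorphism properties pass to filtered colimits of algebras. -/

namespace Groth.Agent.Helper7.UHLib4
open AlgebraicGeometry CategoryTheory CategoryTheory.Limits MorphismProperty
open Groth.Agent.Helper7.UHLib Groth.Agent.Helper7.UHLib2
universe u

section colim
variable (A : CommRingCat.{u}) {J : Type u} [SmallCategory J] [IsFiltered J]
  (F : J ⥤ Under A) (c : Cocone F) (hc : IsColimit c)

/-- the colimit cocone in `CommRingCat` -/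
noncomputable def isColimitForget : IsColimit ((Under.forget A).mapCocone c) :=
  isColimitOfPreserves (Under.forget A) hc

include hc in
lemma exists_rep (b : c.pt.right) : ∃ (j : J) (bj : (F.obj j).right), (c.ι.app j).right bj = b := by
  have := Concrete.isColimit_exists_rep (F ⋙ Under.forget A) (isColimitForget A F c hc) b
  obtain ⟨j, y, hy⟩ := this
  exact ⟨j, y, hy⟩

include hc in
lemma exists_map_eq_zero (j : J) (bj : (F.obj j).right) (h : (c.ι.app j).right bj = 0) :
    ∃ (k : J) (f : j ⟶ k), (F.map f).right bj = 0 := by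
  have := Concrete.isColimit_exists_of_rep_eq (F ⋙ Under.forget A) (isColimitForget A F c hc)
    (i := j) (j := j) bj 0 (by
      show (c.ι.app j).right bj = (c.ι.app j).right 0
      rw [h, map_zero])
  obtain ⟨k, f, g, hfg⟩ := this
  refine ⟨k, f, ?_⟩
  have h0 : ((F ⋙ Under.forget A).map g) 0 = 0 := map_zero _
  rw [h0] at hfg
  exact hfg

omit [IsFiltered J] in
lemma hom_comp_ι (j : J) : (F.obj j).hom ≫ (c.ι.app j).right = c.pt.hom := by
  exact Under.w (c.ι.app j)

end colim

section fam
variable {A B : Type u} [CommRing A] [CommRing B] (φ : A →+* B)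
  {J : Type*} (Bj : J → Type u) [∀ j, CommRing (Bj j)]
  (φj : ∀ j, A →+* Bj j) (ιj : ∀ j, Bj j →+* B)
  (h : ∀ j, (ιj j).comp (φj j) = φ)
  (hrep : ∀ b : B, ∃ (j : J) (bj : Bj j), ιj j bj = b)

include h hrep in
theorem fam_isIntegral (hi : ∀ j, (φj j).IsIntegral) : φ.IsIntegral := by
  intro b
  obtain ⟨j, bj, rfl⟩ := hrep b
  obtain ⟨p, hp, hp0⟩ := hi j bj
  refine ⟨p, hp, ?_⟩
  rw [← h j, ← Polynomial.hom_eval₂, hp0, map_zero]

include h hrep in
theorem fam_universallyInjective
    (hi : ∀ j, UniversallyInjective (Spec.map (CommRingCat.ofHom (φj j)))) :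
    UniversallyInjective (Spec.map (CommRingCat.ofHom φ)) := by
  rw [universallyInjective_specMap_iff]
  intro K _ ψ₁ ψ₂ hψ
  ext b
  obtain ⟨j, bj, rfl⟩ := hrep b
  have := (universallyInjective_specMap_iff (φj j)).mp (hi j) K (ψ₁.comp (ιj j)) (ψ₂.comp (ιj j)) (by
    rw [RingHom.comp_assoc, RingHom.comp_assoc, h j, hψ])
  exact congrArg (fun k => k bj) this

include h hrep in
theorem fam_surjective [Nonempty J] (hi : ∀ j, (φj j).IsIntegral)
    (hs : ∀ j, Surjective (Spec.map (CommRingCat.ofHom (φj j))))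
    (hzero : ∀ (j : J) (a : A), ιj j (φj j a) = 0 → ∃ k, φj k a = 0) :
    Surjective (Spec.map (CommRingCat.ofHom φ)) := by
  rw [surjective_specMap_iff_of_isIntegral φ (fam_isIntegral φ Bj φj ιj h hrep hi)]
  intro a ha
  obtain ⟨j⟩ := ‹Nonempty J›
  have h1 : ιj j (φj j a) = 0 := by
    have := congrArg (fun k => k a) (h j)
    simp only [RingHom.comp_apply] at this
    rw [this]; exact ha
  obtain ⟨k, hk⟩ := hzero j a h1
  exact (surjective_specMap_iff_of_isIntegral (φj k) (hi k)).mp (hs k) hk

end fam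

section res
variable {A B₁ B : Type u} [CommRing A] [CommRing B₁] [CommRing B]

lemma range_comp (φ₁ : A →+* B₁) (ι : B₁ →+* B) (φ : A →+* B) (h : ι.comp φ₁ = φ)
    (q : Ideal B) [q.IsPrime] (p : Ideal A) [p.IsPrime] (hp : p = q.comap φ)
    (hp' : p = (q.comap ι).comap φ₁) (b₁ : B₁)
    (hb : algebraMap B₁ (q.comap ι).ResidueField b₁ ∈
      (Ideal.ResidueField.map p (q.comap ι) φ₁ hp').range) :
    algebraMap B q.ResidueField (ι b₁) ∈ (Ideal.ResidueField.map p q φ hp).range := by
  subst h
  obtain ⟨w, hw⟩ := hb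
  refine ⟨w, ?_⟩
  have e : Ideal.ResidueField.map p q (ι.comp φ₁) hp =
      (Ideal.ResidueField.map (q.comap ι) q ι rfl).comp
        (Ideal.ResidueField.map p (q.comap ι) φ₁ hp') := by
    apply Ideal.ResidueField.ringHom_ext
    ext a
    simp only [RingHom.comp_apply, Ideal.ResidueField.map_algebraMap]
  rw [e, RingHom.comp_apply, hw, Ideal.ResidueField.map_algebraMap]

lemma range_comp' (φ₁ : A →+* B₁) (ι : B₁ →+* B) (φ : A →+* B) (h : ι.comp φ₁ = φ)
    (q : Ideal B) [q.IsPrime] (p : Ideal A) [p.IsPrime] (hp : p = q.comap φ)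
    (p' : Ideal A) [p'.IsPrime]
    (hp' : p' = (q.comap ι).comap φ₁) (b₁ : B₁)
    (hb : algebraMap B₁ (q.comap ι).ResidueField b₁ ∈
      (Ideal.ResidueField.map p' (q.comap ι) φ₁ hp').range) :
    algebraMap B q.ResidueField (ι b₁) ∈ (Ideal.ResidueField.map p q φ hp).range := by
  have hpp : p' = p := by
    rw [hp, hp', ← h]; rfl
  subst hpp
  exact range_comp φ₁ ι φ h q p' hp hp' b₁ hb

theorem fam_residue {J : Type*} (φ : A →+* B) (Bj : J → Type u) [∀ j, CommRing (Bj j)]
    (φj : ∀ j, A →+* Bj j) (ιj : ∀ j, Bj j →+* B)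
    (h : ∀ j, (ιj j).comp (φj j) = φ)
    (hrep : ∀ b : B, ∃ (j : J) (bj : Bj j), ιj j bj = b)
    (hres : ∀ j (y : PrimeSpectrum (Bj j)), Function.Surjective
      (Ideal.ResidueField.map (PrimeSpectrum.comap (φj j) y).asIdeal y.asIdeal (φj j) rfl))
    (y : PrimeSpectrum B) :
    Function.Surjective
      (Ideal.ResidueField.map (PrimeSpectrum.comap φ y).asIdeal y.asIdeal φ rfl) := by
  apply residueField_map_surjective_of
  intro b
  obtain ⟨j, bj, rfl⟩ := hrep b
  let yj : PrimeSpectrum (Bj j) := PrimeSpectrum.comap (ιj j) y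
  have := hres j yj
  exact range_comp' (φj j) (ιj j) φ (h j) y.asIdeal _ rfl
    (PrimeSpectrum.comap (φj j) yj).asIdeal rfl bj (this _)

end res


section main
variable (A : CommRingCat.{u}) {J : Type u} [SmallCategory J] [IsFiltered J]
  (F : J ⥤ Under A) (c : Cocone F) (hc : IsColimit c)

lemma comp_eq (j : J) : ((c.ι.app j).right.hom).comp (F.obj j).hom.hom = c.pt.hom.hom := by
  rw [← CommRingCat.hom_comp, hom_comp_ι]

include hc in
lemma zero_aux (j : J) (a : A) (h0 : (c.ι.app j).right.hom ((F.obj j).hom.hom a) = 0) :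
    ∃ k, (F.obj k).hom.hom a = 0 := by
  obtain ⟨k, f, hf⟩ := exists_map_eq_zero A F c hc j ((F.obj j).hom.hom a) h0
  refine ⟨k, ?_⟩
  have hw := Under.w (F.map f)
  have := congrArg (fun g => g.hom a) hw
  simp only [CommRingCat.hom_comp, RingHom.comp_apply] at this
  rw [← this]
  exact hf

include hc in
theorem colim_universallyClosed (h : ∀ j, UniversallyClosed (Spec.map (F.obj j).hom)) :
    UniversallyClosed (Spec.map c.pt.hom) := by
  have h' : ∀ j, ((F.obj j).hom.hom).IsIntegral := fun j =>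
    (universallyClosed_specMap_iff _).mp (h j)
  exact (universallyClosed_specMap_iff c.pt.hom.hom).mpr
    (fam_isIntegral c.pt.hom.hom (fun j => (F.obj j).right) (fun j => (F.obj j).hom.hom)
      (fun j => (c.ι.app j).right.hom) (comp_eq A F c) (exists_rep A F c hc) h')

include hc in
theorem colim_universallyInjective (h : ∀ j, UniversallyInjective (Spec.map (F.obj j).hom)) :
    UniversallyInjective (Spec.map c.pt.hom) :=
  fam_universallyInjective c.pt.hom.hom (fun j => (F.obj j).right) (fun j => (F.obj j).hom.hom)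
      (fun j => (c.ι.app j).right.hom) (comp_eq A F c) (exists_rep A F c hc) h

include hc in
theorem colim_isUnivHomeo (h : ∀ j, FlatMor.IsUnivHomeo (Spec.map (F.obj j).hom)) :
    FlatMor.IsUnivHomeo (Spec.map c.pt.hom) := by
  have h' : ∀ j, ((F.obj j).hom.hom).IsIntegral ∧
      UniversallyInjective (Spec.map (CommRingCat.ofHom (F.obj j).hom.hom)) ∧
      Surjective (Spec.map (CommRingCat.ofHom (F.obj j).hom.hom)) := fun j =>
    (isUnivHomeo_specMap_iff _).mp (h j)
  refine (isUnivHomeo_specMap_iff c.pt.hom.hom).mpr ⟨?_, ?_, ?_⟩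
  · exact fam_isIntegral c.pt.hom.hom (fun j => (F.obj j).right) (fun j => (F.obj j).hom.hom)
      (fun j => (c.ι.app j).right.hom) (comp_eq A F c) (exists_rep A F c hc) fun j => (h' j).1
  · exact fam_universallyInjective c.pt.hom.hom (fun j => (F.obj j).right)
      (fun j => (F.obj j).hom.hom)
      (fun j => (c.ι.app j).right.hom) (comp_eq A F c) (exists_rep A F c hc) fun j => (h' j).2.1
  · have : Nonempty J := IsFiltered.nonempty
    exact fam_surjective c.pt.hom.hom (fun j => (F.obj j).right) (fun j => (F.obj j).hom.hom)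
      (fun j => (c.ι.app j).right.hom) (comp_eq A F c) (exists_rep A F c hc) (fun j => (h' j).1)
      (fun j => (h' j).2.2) (zero_aux A F c hc)

include hc in
theorem colim_residue
    (h : ∀ j, ∀ x : Spec (F.obj j).right,
      Function.Surjective ((Spec.map (F.obj j).hom).residueFieldMap x)) :
    ∀ x : Spec c.pt.right, Function.Surjective ((Spec.map c.pt.hom).residueFieldMap x) := by
  intro x
  have h' : ∀ j (y : PrimeSpectrum (F.obj j).right), Function.Surjective
      (Ideal.ResidueField.map (PrimeSpectrum.comap (F.obj j).hom.hom y).asIdeal y.asIdeal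
        (F.obj j).hom.hom rfl) := fun j y =>
    (residueFieldMap_surjective_iff (F.obj j).hom.hom y).mp (h j y)
  exact (residueFieldMap_surjective_iff c.pt.hom.hom x).mpr
    (fam_residue c.pt.hom.hom (fun j => (F.obj j).right) (fun j => (F.obj j).hom.hom)
      (fun j => (c.ι.app j).right.hom) (comp_eq A F c) (exists_rep A F c hc) h' x)

end main

end Groth.Agent.Helper7.UHLib4
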