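import Mathlib
import Groth.Agent.Lib.Helper7.UHLib4
import Groth.Agent.Lib.Helper7.UHEx
import Groth.Agent.Lib.Helper7.UHEx2

/-! helper7: towers of elementary extensions and universal homeomorphisms. -/

namespace Groth.Agent.Helper7.UHTower
open AlgebraicGeometry CategoryTheory CategoryTheory.Limits MorphismProperty
open Groth.Agent.Helper7.UHLib Groth.Agent.Helper7.UHLib2
universe u


section step
variable {R S : Type u} [CommRing R] [CommRing S] (φ : R →+* S)

/-- `Spec φ` is a universal homeomorphism with trivial residue field extensions -/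
def UHT : Prop :=
  FlatMor.IsUnivHomeo (Spec.map (CommRingCat.ofHom φ)) ∧
    ∀ x : Spec (CommRingCat.of S),
      Function.Surjective ((Spec.map (CommRingCat.ofHom φ)).residueFieldMap x)

lemma isIntegral_of_closure (b : S) (hgen : Subring.closure (Set.range φ ∪ {b}) = ⊤)
    (hb : φ.IsIntegralElem b) : φ.IsIntegral := by
  let _ : Algebra R S := φ.toAlgebra
  have hle : Subring.closure (Set.range φ ∪ {b}) ≤ (integralClosure R S).toSubring := by
    rw [Subring.closure_le]
    rintro z (⟨r, rfl⟩ | rfl)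
    · exact isIntegral_algebraMap (R := R) (A := S) (x := r)
    · exact hb
  rw [hgen] at hle
  intro z
  exact hle (Subring.mem_top z)

lemma ringHom_ext_of_closure {K : Type*} [Semiring K] (b : S)
    (hgen : Subring.closure (Set.range φ ∪ {b}) = ⊤)
    (ψ₁ ψ₂ : S →+* K) (h : ψ₁.comp φ = ψ₂.comp φ) (hb : ψ₁ b = ψ₂ b) : ψ₁ = ψ₂ := by
  apply RingHom.eq_of_eqOn_set_dense hgen
  rintro z (⟨r, rfl⟩ | rfl)
  · exact congrArg (fun k => k r) h
  · exact hb

lemma step1_res (b : S)
    (hgen : Subring.closure (Set.range φ ∪ {b}) = ⊤) (x y : R)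
    (hx : b ^ 2 = φ x) (hy : b ^ 3 = φ y) (hxy : x ^ 3 = y ^ 2) (q : PrimeSpectrum S) :
    Function.Surjective
      (Ideal.ResidueField.map (PrimeSpectrum.comap φ q).asIdeal q.asIdeal φ rfl) := by
  apply residueField_map_surjective_of_closure φ (PrimeSpectrum.comap φ q).asIdeal q.asIdeal rfl
    {b} hgen
  rintro t rfl
  set p := (PrimeSpectrum.comap φ q).asIdeal with hp
  set m := Ideal.ResidueField.map p q.asIdeal φ rfl with hm
  have hxy' : (algebraMap R p.ResidueField x) ^ 3 = (algebraMap R p.ResidueField y) ^ 2 := by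
    rw [← map_pow, ← map_pow, hxy]
  obtain ⟨τ, hτ1, hτ2⟩ := Groth.Agent.Helper7.UHEx.field_root_sq_cube hxy'
  refine ⟨τ, ?_⟩
  apply Groth.Agent.Helper7.UHEx.field_eq_of_sq_cube (x := m (algebraMap R p.ResidueField x))
    (y := m (algebraMap R p.ResidueField y))
  · rw [← map_pow, hτ1]
  · rw [← map_pow, hτ2]
  · rw [← map_pow, hx, hm, Ideal.ResidueField.map_algebraMap]
  · rw [← map_pow, hy, hm, Ideal.ResidueField.map_algebraMap]

theorem step1 (hinj : Function.Injective φ) (b : S)
    (hgen : Subring.closure (Set.range φ ∪ {b}) = ⊤) (x y : R)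
    (hx : b ^ 2 = φ x) (hy : b ^ 3 = φ y) : UHT φ := by
  have hint : φ.IsIntegral := by
    apply isIntegral_of_closure φ b hgen
    refine ⟨Polynomial.X ^ 2 - Polynomial.C x, Polynomial.monic_X_pow_sub_C x two_ne_zero, ?_⟩
    simp [hx]
  have hxy : x ^ 3 = y ^ 2 := by
    apply hinj
    rw [map_pow, map_pow, ← hx, ← hy]; ring
  refine ⟨(isUnivHomeo_specMap_iff φ).mpr ⟨hint, ?_, ?_⟩, ?_⟩
  · rw [universallyInjective_specMap_iff]
    intro K _ ψ₁ ψ₂ h
    apply ringHom_ext_of_closure φ b hgen ψ₁ ψ₂ h
    have e1 : ψ₁ (φ x) = ψ₂ (φ x) := congrArg (fun k => k x) h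
    have e2 : ψ₁ (φ y) = ψ₂ (φ y) := congrArg (fun k => k y) h
    apply Groth.Agent.Helper7.UHEx.field_eq_of_sq_cube (x := ψ₁ (φ x)) (y := ψ₁ (φ y))
    · rw [← map_pow, hx]
    · rw [← map_pow, hy]
    · rw [← map_pow, hx, e1]
    · rw [← map_pow, hy, e2]
  · rw [surjective_specMap_iff_of_isIntegral φ hint,
      (RingHom.injective_iff_ker_eq_bot φ).mp hinj]
    exact bot_le
  · intro q
    exact (residueFieldMap_surjective_iff φ q).mpr (step1_res φ b hgen x y hx hy hxy q)

theorem step2 (hinj : Function.Injective φ) (b : S)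
    (hgen : Subring.closure (Set.range φ ∪ {b}) = ⊤) (p : ℕ) (hp : p.Prime) (x y : R)
    (hx : b ^ p = φ x) (hy : (p : S) * b = φ y) :
    FlatMor.IsUnivHomeo (Spec.map (CommRingCat.ofHom φ)) := by
  have hint : φ.IsIntegral := by
    apply isIntegral_of_closure φ b hgen
    refine ⟨Polynomial.X ^ p - Polynomial.C x, Polynomial.monic_X_pow_sub_C x hp.ne_zero, ?_⟩
    simp [hx]
  refine (isUnivHomeo_specMap_iff φ).mpr ⟨hint, ?_, ?_⟩
  · rw [universallyInjective_specMap_iff]
    intro K _ ψ₁ ψ₂ h
    apply ringHom_ext_of_closure φ b hgen ψ₁ ψ₂ h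
    have e1 : ψ₁ (φ x) = ψ₂ (φ x) := congrArg (fun k => k x) h
    have e2 : ψ₁ (φ y) = ψ₂ (φ y) := congrArg (fun k => k y) h
    apply Groth.Agent.Helper7.UHEx2.field_eq_of_pow_mul hp (x := ψ₁ (φ x)) (y := ψ₁ (φ y))
    · rw [← map_pow, hx]
    · rw [← hy, map_mul, map_natCast]
    · rw [← map_pow, hx, e1]
    · rw [e2, ← hy, map_mul, map_natCast]
  · rw [surjective_specMap_iff_of_isIntegral φ hint,
      (RingHom.injective_iff_ker_eq_bot φ).mp hinj]
    exact bot_le

end step



section comp
variable {R S T : Type u} [CommRing R] [CommRing S] [CommRing T] (φ : R →+* S) (ψ : S →+* T)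

lemma specMap_comp' : Spec.map (CommRingCat.ofHom (ψ.comp φ)) =
    Spec.map (CommRingCat.ofHom ψ) ≫ Spec.map (CommRingCat.ofHom φ) := by
  rw [← Spec.map_comp]; rfl

theorem uh_comp (h1 : FlatMor.IsUnivHomeo (Spec.map (CommRingCat.ofHom φ)))
    (h2 : FlatMor.IsUnivHomeo (Spec.map (CommRingCat.ofHom ψ))) :
    FlatMor.IsUnivHomeo (Spec.map (CommRingCat.ofHom (ψ.comp φ))) := by
  rw [isUnivHomeo_specMap_iff] at h1 h2 ⊢
  obtain ⟨a1, b1, c1⟩ := h1
  obtain ⟨a2, b2, c2⟩ := h2
  refine ⟨a1.trans _ _ a2, ?_, ?_⟩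
  · rw [universallyInjective_specMap_iff] at b1 b2 ⊢
    intro K _ ψ₁ ψ₂ h
    apply b2 K ψ₁ ψ₂
    apply b1 K (ψ₁.comp ψ) (ψ₂.comp ψ)
    rw [RingHom.comp_assoc, RingHom.comp_assoc, h]
  · rw [specMap_comp']
    infer_instance

theorem res_comp
    (h1 : ∀ x : Spec (CommRingCat.of S),
      Function.Surjective ((Spec.map (CommRingCat.ofHom φ)).residueFieldMap x))
    (h2 : ∀ x : Spec (CommRingCat.of T),
      Function.Surjective ((Spec.map (CommRingCat.ofHom ψ)).residueFieldMap x)) :
    ∀ x : Spec (CommRingCat.of T),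
      Function.Surjective ((Spec.map (CommRingCat.ofHom (ψ.comp φ))).residueFieldMap x) := by
  have key : ∀ (f : Spec (CommRingCat.of T) ⟶ Spec (CommRingCat.of R))
      (hf : f = Spec.map (CommRingCat.ofHom ψ) ≫ Spec.map (CommRingCat.ofHom φ))
      (x : Spec (CommRingCat.of T)), Function.Surjective (f.residueFieldMap x) := by
    intro f hf x
    subst hf
    rw [Scheme.residueFieldMap_comp]
    exact (h2 x).comp (h1 _)
  exact key _ (specMap_comp' φ ψ)

theorem uh_of_comp (hψ : Function.Injective ψ)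
    (h : FlatMor.IsUnivHomeo (Spec.map (CommRingCat.ofHom (ψ.comp φ)))) :
    FlatMor.IsUnivHomeo (Spec.map (CommRingCat.ofHom ψ)) := by
  rw [isUnivHomeo_specMap_iff] at h ⊢
  obtain ⟨a, b, c⟩ := h
  have hint : ψ.IsIntegral := RingHom.IsIntegral.tower_top φ ψ a
  refine ⟨hint, ?_, ?_⟩
  · rw [universallyInjective_specMap_iff] at b ⊢
    intro K _ ψ₁ ψ₂ h
    apply b K ψ₁ ψ₂
    rw [← RingHom.comp_assoc, ← RingHom.comp_assoc, h]
  · rw [surjective_specMap_iff_of_isIntegral ψ hint,
      (RingHom.injective_iff_ker_eq_bot ψ).mp hψ]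
    exact bot_le

theorem res_of_comp
    (h : ∀ x : Spec (CommRingCat.of T),
      Function.Surjective ((Spec.map (CommRingCat.ofHom (ψ.comp φ))).residueFieldMap x)) :
    ∀ x : Spec (CommRingCat.of T),
      Function.Surjective ((Spec.map (CommRingCat.ofHom ψ)).residueFieldMap x) := by
  have key : ∀ (f : Spec (CommRingCat.of T) ⟶ Spec (CommRingCat.of R))
      (hf : f = Spec.map (CommRingCat.ofHom ψ) ≫ Spec.map (CommRingCat.ofHom φ))
      (_ : ∀ x, Function.Surjective (f.residueFieldMap x))
      (x : Spec (CommRingCat.of T)),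
      Function.Surjective ((Spec.map (CommRingCat.ofHom ψ)).residueFieldMap x) := by
    intro f hf hs x
    subst hf
    have := hs x
    rw [Scheme.residueFieldMap_comp] at this
    exact Function.Surjective.of_comp this
  exact key _ (specMap_comp' φ ψ) h

end comp



section lists
variable {A B : Type u} [CommRing A] [CommRing B] [Algebra A B]

/-- the subalgebra generated by the entries of a list -/
def adj (A : Type u) {B : Type u} [CommRing A] [CommRing B] [Algebra A B] (l : List B) :
    Subalgebra A B := Algebra.adjoin A {b | b ∈ l}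

/-- goodness of a list w.r.t. a step predicate, in the form used by the statements -/
def Good (St : Subalgebra A B → B → Prop) (l : List B) : Prop :=
  ∀ i : Fin l.length,
    St (Algebra.adjoin A {b : B | ∃ j : Fin l.length, j < i ∧ b = l.get j}) (l.get i)

omit [CommRing B] [Algebra A B] in
lemma prefix_set (l : List B) (i : Fin l.length) :
    {b : B | ∃ j : Fin l.length, j < i ∧ b = l.get j} = {b | b ∈ l.take i} := by
  ext b
  simp only [Set.mem_ofPred_eq, List.mem_take_iff_getElem]
  constructor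
  · rintro ⟨j, hj, rfl⟩
    exact ⟨j.1, by simp only [lt_min_iff]; exact ⟨hj, j.2⟩, rfl⟩
  · rintro ⟨j, hj, rfl⟩
    rw [lt_min_iff] at hj
    exact ⟨⟨j, hj.2⟩, hj.1, rfl⟩

lemma good_iff (St : Subalgebra A B → B → Prop) (l : List B) :
    Good St l ↔ ∀ (i : ℕ) (hi : i < l.length), St (adj A (l.take i)) l[i] := by
  constructor
  · intro h i hi
    have := h ⟨i, hi⟩
    rw [prefix_set] at this
    exact this
  · intro h i
    rw [prefix_set]
    exact h i.1 i.2

lemma good_snoc (St : Subalgebra A B → B → Prop) (l : List B) (b : B) :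
    Good St (l ++ [b]) ↔ Good St l ∧ St (adj A l) b := by
  rw [good_iff, good_iff]
  constructor
  · intro h
    constructor
    · intro i hi
      have := h i (by simp; omega)
      rw [List.take_append_of_le_length hi.le, List.getElem_append_left hi] at this
      exact this
    · have := h l.length (by simp)
      simpa using this
  · rintro ⟨h1, h2⟩ i hi
    simp only [List.length_append, List.length_singleton] at hi
    rcases Nat.lt_succ_iff_lt_or_eq.mp hi with hlt | rfl
    · rw [List.take_append_of_le_length hlt.le, List.getElem_append_left hlt]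
      exact h1 i hlt
    · simpa using h2

lemma good_nil (St : Subalgebra A B → B → Prop) : Good St ([] : List B) := by
  intro i
  exact absurd i.2 (by simp)

lemma adj_mono {l₁ l₂ : List B} (h : ∀ b ∈ l₁, b ∈ l₂) : adj A l₁ ≤ adj A l₂ :=
  Algebra.adjoin_mono h

lemma good_append (St : Subalgebra A B → B → Prop)
    (hmono : ∀ C C' : Subalgebra A B, C ≤ C' → ∀ b, St C b → St C' b)
    (l₁ l₂ : List B) (h1 : Good St l₁) (h2 : Good St l₂) : Good St (l₁ ++ l₂) := by
  induction l₂ using List.reverseRecOn with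
  | nil => simpa using h1
  | append_singleton l b ih =>
    rw [good_snoc] at h2
    rw [← List.append_assoc, good_snoc]
    refine ⟨ih h2.1, hmono _ _ (adj_mono fun x hx => List.mem_append_right _ hx) b h2.2⟩

end lists



section bij
variable {R S : Type u} [CommRing R] [CommRing S] (φ : R →+* S)

theorem uh_bijective (hinj : Function.Injective φ) (hsurj : Function.Surjective φ) :
    FlatMor.IsUnivHomeo (Spec.map (CommRingCat.ofHom φ)) := by
  have hint : φ.IsIntegral := RingHom.isIntegral_of_surjective φ hsurj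
  refine (isUnivHomeo_specMap_iff φ).mpr ⟨hint, ?_, ?_⟩
  · rw [universallyInjective_specMap_iff]
    intro K _ ψ₁ ψ₂ h
    ext s
    obtain ⟨r, rfl⟩ := hsurj s
    exact congrArg (fun k => k r) h
  · rw [surjective_specMap_iff_of_isIntegral φ hint,
      (RingHom.injective_iff_ker_eq_bot φ).mp hinj]
    exact bot_le

theorem res_surjective (hsurj : Function.Surjective φ) :
    ∀ x : Spec (CommRingCat.of S),
      Function.Surjective ((Spec.map (CommRingCat.ofHom φ)).residueFieldMap x) := by
  intro q
  rw [residueFieldMap_surjective_iff]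
  apply residueField_map_surjective_of
  intro s
  obtain ⟨r, rfl⟩ := hsurj s
  exact ⟨algebraMap R _ r, Ideal.ResidueField.map_algebraMap _ _ _ _ r⟩

end bij

section sub
variable {A B : Type u} [CommRing A] [CommRing B] [Algebra A B]

/-- adjoining one more element: generators of the bigger subalgebra over the smaller one -/
lemma closure_inclusion (s : Set B) (b : B) :
    Subring.closure (Set.range (Subalgebra.inclusion
        (Algebra.adjoin_mono (Set.subset_insert b s) :
          Algebra.adjoin A s ≤ Algebra.adjoin A (insert b s))).toRingHom ∪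
      {(⟨b, Algebra.subset_adjoin (Set.mem_insert b s)⟩ : Algebra.adjoin A (insert b s))}) = ⊤ := by
  rw [eq_top_iff]
  rintro ⟨z, hz⟩ -
  induction hz using Algebra.adjoin_induction with
  | mem x hx =>
    rcases hx with rfl | hx
    · exact Subring.subset_closure (Or.inr rfl)
    · exact Subring.subset_closure (Or.inl ⟨⟨x, Algebra.subset_adjoin hx⟩, rfl⟩)
  | algebraMap r =>
    exact Subring.subset_closure (Or.inl ⟨algebraMap A _ r, rfl⟩)
  | add x y hx hy h1 h2 =>
    have := Subring.add_mem _ h1 h2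
    exact this
  | mul x y hx hy h1 h2 =>
    have := Subring.mul_mem _ h1 h2
    exact this

end sub


end Groth.Agent.Helper7.UHTower
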