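import Mathlib
import Groth.Agent.Lib.Helper7.UHTower
import Groth.Agent.Lib.Helper6.SubInt

/-! helper7: characterisation of universal homeomorphisms of ring extensions via towers. -/

namespace Groth.Agent.Helper7.UHTower2
open AlgebraicGeometry CategoryTheory CategoryTheory.Limits MorphismProperty
open Groth.Agent.Helper7.UHLib Groth.Agent.Helper7.UHLib2 Groth.Agent.Helper7.UHTower
open Groth.Agent.Helper7.UHLib4
universe u

section sub

variable {A B : Type u} [CommRing A] [CommRing B] [Algebra A B]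

/-- abbreviations -/
def UHs (C : Subalgebra A B) : Prop :=
  FlatMor.IsUnivHomeo (Spec.map (CommRingCat.ofHom (algebraMap A C)))

def Ress (C : Subalgebra A B) : Prop :=
  ∀ x : Spec (CommRingCat.of C),
    Function.Surjective ((Spec.map (CommRingCat.ofHom (algebraMap A C))).residueFieldMap x)

/-- step predicates -/
def St1 (C : Subalgebra A B) (b : B) : Prop := b ^ 2 ∈ C ∧ b ^ 3 ∈ C

def St2 (C : Subalgebra A B) (b : B) : Prop :=
  (b ^ 2 ∈ C ∧ b ^ 3 ∈ C) ∨ ∃ p : ℕ, p.Prime ∧ (p : B) * b ∈ C ∧ b ^ p ∈ C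

lemma St1_mono (C C' : Subalgebra A B) (h : C ≤ C') (b : B) : St1 C b → St1 C' b :=
  fun hb => ⟨h hb.1, h hb.2⟩

lemma St2_mono (C C' : Subalgebra A B) (h : C ≤ C') (b : B) : St2 C b → St2 C' b := by
  rintro (hb | ⟨p, hp, h1, h2⟩)
  · exact Or.inl ⟨h hb.1, h hb.2⟩
  · exact Or.inr ⟨p, hp, h h1, h h2⟩

lemma UHs_congr {C C' : Subalgebra A B} (h : C = C') : UHs C → UHs C' := by
  subst h; exact id

lemma Ress_congr {C C' : Subalgebra A B} (h : C = C') : Ress C → Ress C' := by
  subst h; exact id

lemma adj_nil_bijective (hinj : Function.Injective (algebraMap A B)) :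
    Function.Bijective (algebraMap A (adj A ([] : List B))) := by
  constructor
  · intro a a' h
    apply hinj
    exact congrArg Subtype.val h
  · rintro ⟨z, hz⟩
    have h0 : {b : B | b ∈ ([] : List B)} = ∅ := by ext; simp
    rw [adj, h0, Algebra.adjoin_empty, Algebra.mem_bot] at hz
    obtain ⟨a, rfl⟩ := hz
    exact ⟨a, rfl⟩

lemma adj_snoc (l : List B) (x : B) :
    adj A (l ++ [x]) = Algebra.adjoin A (insert x {b | b ∈ l}) := by
  unfold adj
  congr 1
  ext b
  simp [or_comm]

lemma incl_comp (C C' : Subalgebra A B) (h : C ≤ C') :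
    (Subalgebra.inclusion h).toRingHom.comp (algebraMap A C) = algebraMap A C' := rfl

theorem step_sub1 (s : Set B) (x : B) (hx2 : x ^ 2 ∈ Algebra.adjoin A s)
    (hx3 : x ^ 3 ∈ Algebra.adjoin A s) :
    (UHs (Algebra.adjoin A s) → UHs (Algebra.adjoin A (insert x s))) ∧
    (Ress (Algebra.adjoin A s) → Ress (Algebra.adjoin A (insert x s))) := by
  have hle : Algebra.adjoin A s ≤ Algebra.adjoin A (insert x s) :=
    Algebra.adjoin_mono (Set.subset_insert x s)
  have hst := step1 (Subalgebra.inclusion hle).toRingHom (Subalgebra.inclusion_injective hle)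
    ⟨x, Algebra.subset_adjoin (Set.mem_insert x s)⟩ (closure_inclusion s x)
    ⟨x ^ 2, hx2⟩ ⟨x ^ 3, hx3⟩ (Subtype.ext rfl) (Subtype.ext rfl)
  constructor
  · intro h
    have := uh_comp _ _ h hst.1
    rw [incl_comp] at this
    exact this
  · intro h
    have := res_comp _ _ h hst.2
    rw [incl_comp] at this
    exact this

theorem step_sub2 (s : Set B) (x : B) (p : ℕ) (hp : p.Prime)
    (hx2 : (p : B) * x ∈ Algebra.adjoin A s)
    (hx3 : x ^ p ∈ Algebra.adjoin A s) :
    UHs (Algebra.adjoin A s) → UHs (Algebra.adjoin A (insert x s)) := by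
  have hle : Algebra.adjoin A s ≤ Algebra.adjoin A (insert x s) :=
    Algebra.adjoin_mono (Set.subset_insert x s)
  have hst := step2 (Subalgebra.inclusion hle).toRingHom (Subalgebra.inclusion_injective hle)
    ⟨x, Algebra.subset_adjoin (Set.mem_insert x s)⟩ (closure_inclusion s x) p hp
    ⟨x ^ p, hx3⟩ ⟨(p : B) * x, hx2⟩ (Subtype.ext rfl) (Subtype.ext (by simp))
  intro h
  have := uh_comp _ _ h hst
  rw [incl_comp] at this
  exact this


theorem tower1 (hinj : Function.Injective (algebraMap A B)) (l : List B) (h : Good (A := A) St1 l) :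
    UHs (adj A l) ∧ Ress (adj A l) := by
  induction l using List.reverseRecOn with
  | nil =>
    have hb := adj_nil_bijective (A := A) (B := B) hinj
    exact ⟨uh_bijective _ hb.1 hb.2, res_surjective _ hb.2⟩
  | append_singleton l x ih =>
    rw [good_snoc] at h
    obtain ⟨ih1, ih2⟩ := ih h.1
    have hs := step_sub1 (A := A) {b | b ∈ l} x h.2.1 h.2.2
    exact ⟨UHs_congr (adj_snoc l x).symm (hs.1 ih1), Ress_congr (adj_snoc l x).symm (hs.2 ih2)⟩

theorem tower2 (hinj : Function.Injective (algebraMap A B)) (l : List B) (h : Good (A := A) St2 l) :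
    UHs (adj A l) := by
  induction l using List.reverseRecOn with
  | nil =>
    have hb := adj_nil_bijective (A := A) (B := B) hinj
    exact uh_bijective _ hb.1 hb.2
  | append_singleton l x ih =>
    rw [good_snoc] at h
    have ih1 := ih h.1
    rcases h.2 with h2 | ⟨p, hp, h2, h3⟩
    · have hs := step_sub1 (A := A) {b | b ∈ l} x h2.1 h2.2
      exact UHs_congr (adj_snoc l x).symm (hs.1 ih1)
    · have hs := step_sub2 (A := A) {b | b ∈ l} x p hp h2 h3
      exact UHs_congr (adj_snoc l x).symm (hs ih1)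



theorem union_uh
    (hcov : ∀ E : Finset B, ∃ C : Subalgebra A B, (↑E : Set B) ⊆ C ∧ UHs C) :
    FlatMor.IsUnivHomeo (Spec.map (CommRingCat.ofHom (algebraMap A B))) := by
  choose C hC1 hC2 using hcov
  have hrep : ∀ b : B, ∃ (E : Finset B) (bj : C E), (C E).val.toRingHom bj = b := by
    intro b
    exact ⟨{b}, ⟨b, hC1 {b} (by simp)⟩, rfl⟩
  have h' : ∀ E, ((algebraMap A (C E))).IsIntegral ∧
      UniversallyInjective (Spec.map (CommRingCat.ofHom (algebraMap A (C E)))) ∧
      Surjective (Spec.map (CommRingCat.ofHom (algebraMap A (C E)))) := fun E =>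
    (isUnivHomeo_specMap_iff _).mp (hC2 E)
  refine (isUnivHomeo_specMap_iff _).mpr ⟨?_, ?_, ?_⟩
  · exact fam_isIntegral (algebraMap A B) (fun E => C E) (fun E => algebraMap A (C E))
      (fun E => (C E).val.toRingHom) (fun E => rfl) hrep fun E => (h' E).1
  · exact fam_universallyInjective (algebraMap A B) (fun E => C E) (fun E => algebraMap A (C E))
      (fun E => (C E).val.toRingHom) (fun E => rfl) hrep fun E => (h' E).2.1
  · exact fam_surjective (algebraMap A B) (fun E => C E) (fun E => algebraMap A (C E))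
      (fun E => (C E).val.toRingHom) (fun E => rfl) hrep (fun E => (h' E).1) (fun E => (h' E).2.2)
      (fun E a h0 => ⟨E, Subtype.val_injective h0⟩)

theorem union_res
    (hcov : ∀ E : Finset B, ∃ C : Subalgebra A B, (↑E : Set B) ⊆ C ∧ Ress C) :
    ∀ x : Spec (CommRingCat.of B),
      Function.Surjective ((Spec.map (CommRingCat.ofHom (algebraMap A B))).residueFieldMap x) := by
  choose C hC1 hC2 using hcov
  have hrep : ∀ b : B, ∃ (E : Finset B) (bj : C E), (C E).val.toRingHom bj = b := by
    intro b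
    exact ⟨{b}, ⟨b, hC1 {b} (by simp)⟩, rfl⟩
  intro x
  have h' : ∀ E (y : PrimeSpectrum (C E)), Function.Surjective
      (Ideal.ResidueField.map (PrimeSpectrum.comap (algebraMap A (C E)) y).asIdeal y.asIdeal
        (algebraMap A (C E)) rfl) := fun E y =>
    (residueFieldMap_surjective_iff (algebraMap A (C E)) y).mp (hC2 E y)
  exact (residueFieldMap_surjective_iff (algebraMap A B) x).mpr
    (fam_residue (algebraMap A B) (fun E => C E) (fun E => algebraMap A (C E))
      (fun E => (C E).val.toRingHom) (fun E => rfl) hrep h' x)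


section reachsec


variable (St : Subalgebra A B → B → Prop)
  (hmono : ∀ C C' : Subalgebra A B, C ≤ C' → ∀ b, St C b → St C' b)

/-- the elements reachable by good lists -/
def reach : Subalgebra A B := ⨆ l : {l : List B // Good St l}, adj A l.1

include hmono in
lemma mem_reach (x : B) : x ∈ reach St ↔ ∃ l : List B, Good St l ∧ x ∈ adj A l := by
  have : Nonempty {l : List B // Good St l} := ⟨⟨[], good_nil St⟩⟩
  have dir : Directed (· ≤ ·) (fun l : {l : List B // Good St l} => adj A l.1) := by
    intro l₁ l₂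
    refine ⟨⟨l₁.1 ++ l₂.1, good_append St hmono _ _ l₁.2 l₂.2⟩, ?_, ?_⟩
    · exact adj_mono fun b hb => List.mem_append_left _ hb
    · exact adj_mono fun b hb => List.mem_append_right _ hb
  rw [reach, ← SetLike.mem_coe, Subalgebra.coe_iSup_of_directed dir, Set.mem_iUnion]
  constructor
  · rintro ⟨l, hl⟩
    exact ⟨l.1, l.2, hl⟩
  · rintro ⟨l, h1, h2⟩
    exact ⟨⟨l, h1⟩, h2⟩

include hmono in
lemma exists_list (h : reach St = ⊤) (E : Finset B) :
    ∃ l : List B, Good St l ∧ (↑E : Set B) ⊆ adj A l := by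
  classical
  induction E using Finset.induction_on with
  | empty => exact ⟨[], good_nil St, by simp⟩
  | insert b E _ ih =>
    obtain ⟨l₁, h1, h2⟩ := ih
    have hb : b ∈ reach St := by rw [h]; trivial
    obtain ⟨l₂, h3, h4⟩ := (mem_reach St hmono b).mp hb
    refine ⟨l₁ ++ l₂, good_append St hmono _ _ h1 h3, ?_⟩
    intro x hx
    rw [Finset.coe_insert] at hx
    rcases hx with rfl | hx
    · exact adj_mono (fun b hb => List.mem_append_right _ hb) h4
    · exact adj_mono (fun b hb => List.mem_append_left _ hb) (h2 hx)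

include hmono in
/-- closure of `reach` under steps -/
lemma mem_reach_of_step (b : B) (h : St (reach St) b)
    (hfin : ∀ C : Subalgebra A B, St C b → ∃ E : Finset B, (↑E : Set B) ⊆ C ∧
      ∀ C' : Subalgebra A B, (↑E : Set B) ⊆ C' → St C' b) : b ∈ reach St := by
  obtain ⟨E, hE1, hE2⟩ := hfin _ h
  have : ∃ l : List B, Good St l ∧ (↑E : Set B) ⊆ adj A l := by
    classical
    clear hE2
    induction E using Finset.induction_on with
    | empty => exact ⟨[], good_nil St, by simp⟩
    | insert c E _ ih =>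
      rw [Finset.coe_insert, Set.insert_subset_iff] at hE1
      obtain ⟨l₁, h1, h2⟩ := ih hE1.2
      obtain ⟨l₂, h3, h4⟩ := (mem_reach St hmono c).mp hE1.1
      refine ⟨l₁ ++ l₂, good_append St hmono _ _ h1 h3, ?_⟩
      intro x hx
      rw [Finset.coe_insert] at hx
      rcases hx with rfl | hx
      · exact adj_mono (fun b hb => List.mem_append_right _ hb) h4
      · exact adj_mono (fun b hb => List.mem_append_left _ hb) (h2 hx)
  obtain ⟨l, hl1, hl2⟩ := this
  rw [mem_reach St hmono]
  refine ⟨l ++ [b], (good_snoc St l b).mpr ⟨hl1, hE2 _ hl2⟩, ?_⟩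
  exact Algebra.subset_adjoin (by simp)


end reachsec


lemma St1_fin (b : B) (C : Subalgebra A B) (h : St1 C b) :
    ∃ E : Finset B, (↑E : Set B) ⊆ C ∧ ∀ C' : Subalgebra A B, (↑E : Set B) ⊆ C' → St1 C' b := by
  classical
  refine ⟨{b ^ 2, b ^ 3}, ?_, ?_⟩
  · intro x hx
    simp only [Finset.coe_insert, Finset.coe_singleton, Set.mem_insert_iff,
      Set.mem_singleton_iff] at hx
    rcases hx with rfl | rfl
    · exact h.1
    · exact h.2
  · intro C' hC'
    exact ⟨hC' (by simp), hC' (by simp)⟩

lemma St2_fin (b : B) (C : Subalgebra A B) (h : St2 C b) :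
    ∃ E : Finset B, (↑E : Set B) ⊆ C ∧ ∀ C' : Subalgebra A B, (↑E : Set B) ⊆ C' → St2 C' b := by
  classical
  rcases h with h | ⟨p, hp, h1, h2⟩
  · refine ⟨{b ^ 2, b ^ 3}, ?_, ?_⟩
    · intro x hx
      simp only [Finset.coe_insert, Finset.coe_singleton, Set.mem_insert_iff,
        Set.mem_singleton_iff] at hx
      rcases hx with rfl | rfl
      · exact h.1
      · exact h.2
    · intro C' hC'
      exact Or.inl ⟨hC' (by simp), hC' (by simp)⟩
  · refine ⟨{(p : B) * b, b ^ p}, ?_, ?_⟩
    · intro x hx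
      simp only [Finset.coe_insert, Finset.coe_singleton, Set.mem_insert_iff,
        Set.mem_singleton_iff] at hx
      rcases hx with rfl | rfl
      · exact h1
      · exact h2
    · intro C' hC'
      exact Or.inr ⟨p, hp, hC' (by simp), hC' (by simp)⟩

lemma mem_of_mem_range (C : Subalgebra A B) {b : B} (h : b ∈ C.val.toRingHom.range) : b ∈ C := by
  obtain ⟨c, rfl⟩ := h
  exact c.2

theorem reach_top1
    (hU : FlatMor.IsUnivHomeo (Spec.map (CommRingCat.ofHom (algebraMap A B))))
    (hres : ∀ x : Spec (CommRingCat.of B),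
      Function.Surjective ((Spec.map (CommRingCat.ofHom (algebraMap A B))).residueFieldMap x)) :
    reach (A := A) (B := B) St1 = ⊤ := by
  by_contra hne
  set C := reach (A := A) (B := B) St1 with hC
  have hψinj : Function.Injective C.val.toRingHom := Subtype.val_injective
  have hns : ¬ Function.Surjective C.val.toRingHom := by
    intro hs
    apply hne
    rw [eq_top_iff]
    intro b _
    obtain ⟨c, rfl⟩ := hs b
    exact c.2
  have hUψ := uh_of_comp (algebraMap A C) C.val.toRingHom hψinj hU
  have hresψ := res_of_comp (algebraMap A C) C.val.toRingHom hres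
  obtain ⟨b, hb, h2, h3⟩ := Groth.Agent.Lib.Helper6.SubInt.main7398 C.val.toRingHom hψinj hns
    hUψ hresψ
  apply hb
  have : b ∈ C := mem_reach_of_step St1 St1_mono b
    ⟨mem_of_mem_range C h2, mem_of_mem_range C h3⟩ (St1_fin b)
  exact ⟨⟨b, this⟩, rfl⟩

theorem reach_top2
    (hU : FlatMor.IsUnivHomeo (Spec.map (CommRingCat.ofHom (algebraMap A B)))) :
    reach (A := A) (B := B) St2 = ⊤ := by
  by_contra hne
  set C := reach (A := A) (B := B) St2 with hC
  have hψinj : Function.Injective C.val.toRingHom := Subtype.val_injective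
  have hns : ¬ Function.Surjective C.val.toRingHom := by
    intro hs
    apply hne
    rw [eq_top_iff]
    intro b _
    obtain ⟨c, rfl⟩ := hs b
    exact c.2
  have hUψ := uh_of_comp (algebraMap A C) C.val.toRingHom hψinj hU
  rcases Groth.Agent.Lib.Helper6.SubInt.main7399 C.val.toRingHom hψinj hns hUψ with
    ⟨b, hb, h2, h3⟩ | ⟨p, b, hp, hb, h2, h3⟩
  · apply hb
    have : b ∈ C := mem_reach_of_step St2 St2_mono b
      (Or.inl ⟨mem_of_mem_range C h2, mem_of_mem_range C h3⟩) (St2_fin b)
    exact ⟨⟨b, this⟩, rfl⟩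
  · apply hb
    have : b ∈ C := mem_reach_of_step St2 St2_mono b
      (Or.inr ⟨p, hp, mem_of_mem_range C h2, mem_of_mem_range C h3⟩) (St2_fin b)
    exact ⟨⟨b, this⟩, rfl⟩


end sub

end Groth.Agent.Helper7.UHTower2
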