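import Mathlib
import Groth.Agent.Lib.Helper7.UHTower2

/-! helper7: criteria `Crit`, `CritRes` for universal homeomorphisms and their propagation along
elementary steps. -/

namespace Groth.Agent.Helper7.FPColim
open AlgebraicGeometry CategoryTheory CategoryTheory.Limits
open Groth.Agent.Helper7.UHLib Groth.Agent.Helper7.UHLib2 Groth.Agent.Helper7.UHTower
open Groth.Agent.Helper7.UHLib4
universe u

section crit
variable {A C : Type u} [CommRing A] [CommRing C] (α : A →+* C)

/-- integrality plus the field-point criterion for universal injectivity -/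
def Crit : Prop :=
  α.IsIntegral ∧ ∀ (K : Type u) [Field K] (ψ ψ' : C →+* K), ψ.comp α = ψ'.comp α → ψ = ψ'

/-- the residue field criterion -/
def CritRes : Prop :=
  ∀ (q : PrimeSpectrum C) (c : C), algebraMap C q.asIdeal.ResidueField c ∈
    (Ideal.ResidueField.map (PrimeSpectrum.comap α q).asIdeal q.asIdeal α rfl).range

/-- `x` is obtained by an elementary step from an algebra satisfying `Crit` -/
def StepFrom (x : C) : Prop :=
  ∃ (C' : Type u) (_ : CommRing C') (α' : A →+* C') (β : C' →+* C), β.comp α' = α ∧ Crit α' ∧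
    ((x ^ 2 ∈ β.range ∧ x ^ 3 ∈ β.range) ∨
      ∃ p : ℕ, p.Prime ∧ (p : C) * x ∈ β.range ∧ x ^ p ∈ β.range)

/-- residue version (only steps of the first kind) -/
def StepFromRes (x : C) : Prop :=
  ∃ (C' : Type u) (_ : CommRing C') (α' : A →+* C') (β : C' →+* C), β.comp α' = α ∧ CritRes α' ∧
    x ^ 2 ∈ β.range ∧ x ^ 3 ∈ β.range

lemma isIntegralElem_map {C' : Type u} [CommRing C'] (α' : A →+* C') (β : C' →+* C)
    (h : β.comp α' = α) (c : C') (hc : α'.IsIntegralElem c) : α.IsIntegralElem (β c) := by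
  obtain ⟨p, hp, hp0⟩ := hc
  refine ⟨p, hp, ?_⟩
  rw [← h, ← Polynomial.hom_eval₂, hp0, map_zero]

lemma isIntegralElem_of_pow (x : C) (n : ℕ) (hn : 0 < n) (h : α.IsIntegralElem (x ^ n)) :
    α.IsIntegralElem x := by
  let _ : Algebra A C := α.toAlgebra
  exact IsIntegral.of_pow (R := A) hn h

theorem crit_of_gen (G : Set C) (hG : Subring.closure (Set.range α ∪ G) = ⊤)
    (h : ∀ x ∈ G, StepFrom α x) : Crit α := by
  constructor
  · let _ : Algebra A C := α.toAlgebra
    have hle : Subring.closure (Set.range α ∪ G) ≤ (integralClosure A C).toSubring := by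
      rw [Subring.closure_le]
      rintro z (⟨r, rfl⟩ | hz)
      · exact isIntegral_algebraMap (R := A) (A := C) (x := r)
      · obtain ⟨C', _, α', β, hβ, hcrit, hstep⟩ := h z hz
        rcases hstep with ⟨⟨c, hc⟩, -⟩ | ⟨p, hp, -, ⟨c, hc⟩⟩
        · apply isIntegralElem_of_pow α z 2 (by norm_num)
          rw [← hc]
          exact isIntegralElem_map α α' β hβ c (hcrit.1 c)
        · apply isIntegralElem_of_pow α z p hp.pos
          rw [← hc]
          exact isIntegralElem_map α α' β hβ c (hcrit.1 c)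
    rw [hG] at hle
    intro z
    exact hle (Subring.mem_top z)
  · intro K _ ψ ψ' hψ
    apply RingHom.eq_of_eqOn_set_dense hG
    rintro z (⟨r, rfl⟩ | hz)
    · exact congrArg (fun k => k r) hψ
    · obtain ⟨C', _, α', β, hβ, hcrit, hstep⟩ := h z hz
      have hβψ : ψ.comp β = ψ'.comp β := by
        apply hcrit.2 K
        rw [RingHom.comp_assoc, RingHom.comp_assoc, hβ, hψ]
      have key : ∀ w ∈ β.range, ψ w = ψ' w := by
        rintro _ ⟨c, rfl⟩
        exact congrArg (fun k => k c) hβψ
      rcases hstep with ⟨h2, h3⟩ | ⟨p, hp, h2, h3⟩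
      · apply Groth.Agent.Helper7.UHEx.field_eq_of_sq_cube (x := ψ (z ^ 2)) (y := ψ (z ^ 3))
        · rw [map_pow]
        · rw [map_pow]
        · rw [key _ h2, map_pow]
        · rw [key _ h3, map_pow]
      · apply Groth.Agent.Helper7.UHEx2.field_eq_of_pow_mul hp (x := ψ (z ^ p))
          (y := ψ ((p : C) * z))
        · rw [map_pow]
        · rw [map_mul, map_natCast]
        · rw [key _ h3, map_pow]
        · rw [key _ h2, map_mul, map_natCast]

lemma field_mem_of_sq_cube {K : Type*} [Field K] {L : Type*} [Field L] (f : L →+* K) (a : K)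
    (h2 : a ^ 2 ∈ f.range) (h3 : a ^ 3 ∈ f.range) : a ∈ f.range := by
  by_cases ha : a = 0
  · rw [ha]; exact ⟨0, map_zero f⟩
  · obtain ⟨u, hu⟩ := h2
    obtain ⟨v, hv⟩ := h3
    refine ⟨v / u, ?_⟩
    rw [map_div₀, hu, hv]
    field_simp

theorem critRes_of_gen (G : Set C) (hG : Subring.closure (Set.range α ∪ G) = ⊤)
    (h : ∀ x ∈ G, StepFromRes α x) : CritRes α := by
  intro q c
  set F := (Ideal.ResidueField.map (PrimeSpectrum.comap α q).asIdeal q.asIdeal α rfl).range
    with hF
  have hle : Subring.closure (Set.range α ∪ G) ≤ F.comap (algebraMap C q.asIdeal.ResidueField) := by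
    rw [Subring.closure_le]
    rintro z (⟨r, rfl⟩ | hz)
    · exact ⟨algebraMap A _ r, Ideal.ResidueField.map_algebraMap _ _ _ _ r⟩
    · obtain ⟨C', _, α', β, hβ, hcrit, ⟨c2, hc2⟩, ⟨c3, hc3⟩⟩ := h z hz
      have key : ∀ c' : C', algebraMap C q.asIdeal.ResidueField (β c') ∈ F := by
        intro c'
        exact range_comp' α' β α hβ q.asIdeal _ rfl
          (PrimeSpectrum.comap α' (PrimeSpectrum.comap β q)).asIdeal rfl c'
          (hcrit (PrimeSpectrum.comap β q) c')
      show algebraMap C q.asIdeal.ResidueField z ∈ F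
      apply field_mem_of_sq_cube
      · rw [← map_pow, ← hc2]; exact key c2
      · rw [← map_pow, ← hc3]; exact key c3
  rw [hG] at hle
  exact hle (Subring.mem_top c)

theorem uh_iff_crit :
    FlatMor.IsUnivHomeo (Spec.map (CommRingCat.ofHom α)) ↔
      Crit α ∧ RingHom.ker α ≤ nilradical A := by
  rw [isUnivHomeo_specMap_iff]
  constructor
  · rintro ⟨h1, h2, h3⟩
    exact ⟨⟨h1, (universallyInjective_specMap_iff α).mp h2⟩,
      (surjective_specMap_iff_of_isIntegral α h1).mp h3⟩
  · rintro ⟨⟨h1, h2⟩, h3⟩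
    exact ⟨h1, (universallyInjective_specMap_iff α).mpr h2,
      (surjective_specMap_iff_of_isIntegral α h1).mpr h3⟩

theorem res_iff_critRes :
    (∀ x : Spec (CommRingCat.of C),
      Function.Surjective ((Spec.map (CommRingCat.ofHom α)).residueFieldMap x)) ↔ CritRes α := by
  constructor
  · intro h q c
    exact (residueFieldMap_surjective_iff α q).mp (h q) _
  · intro h q
    exact (residueFieldMap_surjective_iff α q).mpr
      (residueField_map_surjective_of α _ _ rfl (h q))

end crit

end Groth.Agent.Helper7.FPColim
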