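import Mathlib
import Groth.Agent.Lib.Helper7.FPCrit

/-! helper7: the largest subalgebra whose spectrum maps by a universal homeomorphism. -/

namespace Groth.Agent.Helper7.UHSub
open AlgebraicGeometry CategoryTheory
open Groth.Agent.Helper7.FPColim Groth.Agent.Helper7.UHTower2
universe u

section sub
variable {A B : Type u} [CommRing A] [CommRing B] [Algebra A B]

/-- the subalgebra generated by a family of subalgebras -/
noncomputable def gen (𝒰 : Set (Subalgebra A B)) : Subalgebra A B :=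
  Algebra.adjoin A {b | ∃ C ∈ 𝒰, b ∈ C}

lemma le_gen (𝒰 : Set (Subalgebra A B)) {C : Subalgebra A B} (hC : C ∈ 𝒰) : C ≤ gen 𝒰 :=
  fun _ hb => Algebra.subset_adjoin ⟨C, hC, hb⟩

lemma closure_gen (𝒰 : Set (Subalgebra A B)) :
    Subring.closure (Set.range (algebraMap A (gen 𝒰)) ∪
      {x : gen 𝒰 | ∃ C ∈ 𝒰, (x : B) ∈ C}) = ⊤ := by
  rw [eq_top_iff]
  rintro ⟨z, hz⟩ -
  unfold gen at hz
  induction hz using Algebra.adjoin_induction with
  | mem x hx =>
    exact Subring.subset_closure (Or.inr hx)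
  | algebraMap r =>
    exact Subring.subset_closure (Or.inl ⟨r, rfl⟩)
  | add x y hx hy h1 h2 =>
    have := Subring.add_mem _ h1 h2
    exact this
  | mul x y hx hy h1 h2 =>
    have := Subring.mul_mem _ h1 h2
    exact this

theorem crit_gen (𝒰 : Set (Subalgebra A B)) (h : ∀ C ∈ 𝒰, Crit (algebraMap A C)) :
    Crit (algebraMap A (gen 𝒰)) := by
  apply crit_of_gen _ _ (closure_gen 𝒰)
  rintro x ⟨C, hC, hx⟩
  refine ⟨C, inferInstance, algebraMap A C, (Subalgebra.inclusion (le_gen 𝒰 hC)).toRingHom, rfl,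
    h C hC, Or.inl ⟨⟨⟨x.1, hx⟩ ^ 2, ?_⟩, ⟨⟨x.1, hx⟩ ^ 3, ?_⟩⟩⟩
  · rw [map_pow]; rfl
  · rw [map_pow]; rfl

theorem critRes_gen (𝒰 : Set (Subalgebra A B)) (h : ∀ C ∈ 𝒰, CritRes (algebraMap A C)) :
    CritRes (algebraMap A (gen 𝒰)) := by
  apply critRes_of_gen _ _ (closure_gen 𝒰)
  rintro x ⟨C, hC, hx⟩
  refine ⟨C, inferInstance, algebraMap A C, (Subalgebra.inclusion (le_gen 𝒰 hC)).toRingHom, rfl,
    h C hC, ⟨⟨x.1, hx⟩ ^ 2, ?_⟩, ⟨⟨x.1, hx⟩ ^ 3, ?_⟩⟩
  · rw [map_pow]; rfl
  · rw [map_pow]; rfl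

lemma closure_range {C : Type u} [CommRing C] [Algebra A C] (g : C →ₐ[A] B) :
    Subring.closure (Set.range (algebraMap A g.range) ∪ (Set.univ : Set g.range)) = ⊤ := by
  rw [eq_top_iff]
  intro z _
  exact Subring.subset_closure (Or.inr trivial)

theorem crit_range {C : Type u} [CommRing C] [Algebra A C] (g : C →ₐ[A] B)
    (h : Crit (algebraMap A C)) : Crit (algebraMap A g.range) := by
  apply crit_of_gen _ _ (closure_range g)
  rintro ⟨x, c, rfl⟩ -
  refine ⟨C, inferInstance, algebraMap A C, g.rangeRestrict.toRingHom, ?_, h,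
    Or.inl ⟨⟨c ^ 2, ?_⟩, ⟨c ^ 3, ?_⟩⟩⟩
  · exact g.rangeRestrict.comp_algebraMap
  · rw [map_pow]; rfl
  · rw [map_pow]; rfl

theorem critRes_range {C : Type u} [CommRing C] [Algebra A C] (g : C →ₐ[A] B)
    (h : CritRes (algebraMap A C)) : CritRes (algebraMap A g.range) := by
  apply critRes_of_gen _ _ (closure_range g)
  rintro ⟨x, c, rfl⟩ -
  refine ⟨C, inferInstance, algebraMap A C, g.rangeRestrict.toRingHom, ?_, h,
    ⟨c ^ 2, ?_⟩, ⟨c ^ 3, ?_⟩⟩
  · exact g.rangeRestrict.comp_algebraMap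
  · rw [map_pow]; rfl
  · rw [map_pow]; rfl

lemma ker_sub (C : Subalgebra A B) : RingHom.ker (algebraMap A C) = RingHom.ker (algebraMap A B) := by
  ext a
  rw [RingHom.mem_ker, RingHom.mem_ker]
  constructor
  · intro h
    exact congrArg Subtype.val h
  · intro h
    exact Subtype.ext h

lemma ker_le_of_dominant [IsDominant (Spec.map (CommRingCat.ofHom (algebraMap A B)))] :
    RingHom.ker (algebraMap A B) ≤ nilradical A := by
  have h : DenseRange (Spec.map (CommRingCat.ofHom (algebraMap A B))).base :=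
    IsDominant.denseRange
  exact (PrimeSpectrum.denseRange_comap_iff_ker_le_nilRadical (f := algebraMap A B)).mp h

/-- the family of subalgebras which are universal homeomorphisms -/
def fam1 (A B : Type u) [CommRing A] [CommRing B] [Algebra A B] : Set (Subalgebra A B) :=
  {C | Crit (algebraMap A C)}

/-- the family with trivial residue field extensions -/
def fam2 (A B : Type u) [CommRing A] [CommRing B] [Algebra A B] : Set (Subalgebra A B) :=
  {C | Crit (algebraMap A C) ∧ CritRes (algebraMap A C)}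

theorem main1 [IsDominant (Spec.map (CommRingCat.ofHom (algebraMap A B)))] :
    ∃ B' : Subalgebra A B, FlatMor.IsUnivHomeo (Spec.map (CommRingCat.ofHom (algebraMap A B'))) ∧
      ∀ (C : Type u) [CommRing C] [Algebra A C] (g : C →ₐ[A] B),
        FlatMor.IsUnivHomeo (Spec.map (CommRingCat.ofHom (algebraMap A C))) → g.range ≤ B' := by
  refine ⟨gen (fam1 A B), ?_, ?_⟩
  · rw [uh_iff_crit]
    refine ⟨crit_gen _ (fun C hC => hC), ?_⟩
    rw [ker_sub]
    exact ker_le_of_dominant
  · intro C _ _ g hg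
    apply le_gen
    exact crit_range g ((uh_iff_crit _).mp hg).1

theorem main2 [IsDominant (Spec.map (CommRingCat.ofHom (algebraMap A B)))] :
    ∃ B' : Subalgebra A B, (FlatMor.IsUnivHomeo (Spec.map (CommRingCat.ofHom (algebraMap A B'))) ∧
      ∀ x : Spec (CommRingCat.of B'),
        Function.Surjective ((Spec.map (CommRingCat.ofHom (algebraMap A B'))).residueFieldMap x)) ∧
      ∀ (C : Type u) [CommRing C] [Algebra A C] (g : C →ₐ[A] B),
        FlatMor.IsUnivHomeo (Spec.map (CommRingCat.ofHom (algebraMap A C))) →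
        (∀ x : Spec (CommRingCat.of C),
          Function.Surjective ((Spec.map (CommRingCat.ofHom (algebraMap A C))).residueFieldMap x)) →
        g.range ≤ B' := by
  refine ⟨gen (fam2 A B), ⟨?_, ?_⟩, ?_⟩
  · rw [uh_iff_crit]
    refine ⟨crit_gen _ (fun C hC => hC.1), ?_⟩
    rw [ker_sub]
    exact ker_le_of_dominant
  · rw [res_iff_critRes]
    exact critRes_gen _ (fun C hC => hC.2)
  · intro C _ _ g hg hres
    apply le_gen
    exact ⟨crit_range g ((uh_iff_crit _).mp hg).1, critRes_range g ((res_iff_critRes _).mp hres)⟩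

end sub

end Groth.Agent.Helper7.UHSub
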