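import Mathlib
import Groth.Agent.Lib.Helper7.UHSub
import Groth.Prelude.Def_HTop2

/-! helper7: existence of the absolute weak normalization of a ring, as the largest subalgebra of
the product of the algebraic closures of the residue fields whose spectrum maps by a universal
homeomorphism. -/

namespace Groth.Agent.Helper7.AWN
open AlgebraicGeometry CategoryTheory
open Groth.Agent.Helper7.FPColim Groth.Agent.Helper7.UHLib Groth.Agent.Helper7.UHLib2
universe u

section ext
variable {A C : Type u} [CommRing A] [CommRing C] (ψ : A →+* C)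

/-- extension of a map to an algebraically closed field along an integral ring map -/
theorem exists_extension (hψ : ψ.IsIntegral) {K : Type u} [Field K] [IsAlgClosed K] (i : A →+* K)
    (q : Ideal C) [q.IsPrime] (hker : RingHom.ker i = q.comap ψ) :
    ∃ g : C →+* K, g.comp ψ = i := by
  let p : Ideal A := q.comap ψ
  have hp : p.IsPrime := Ideal.comap_isPrime ψ q
  let ψ' : A ⧸ p →+* C ⧸ q := Ideal.quotientMap q ψ le_rfl
  have hψ' : ψ'.IsIntegral := RingHom.IsIntegral.quotient ψ hψ
  have hψ'inj : Function.Injective ψ' := Ideal.quotientMap_injective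
  let i' : A ⧸ p →+* K := Ideal.Quotient.lift p i (by
    intro a ha
    have : a ∈ RingHom.ker i := by rw [hker]; exact ha
    exact this)
  have hi'inj : Function.Injective i' := by
    apply RingHom.lift_injective_of_ker_le_ideal
    rw [hker]
  let _ : Algebra (A ⧸ p) (C ⧸ q) := ψ'.toAlgebra
  let _ : Algebra (A ⧸ p) K := i'.toAlgebra
  have : FaithfulSMul (A ⧸ p) (C ⧸ q) := (faithfulSMul_iff_algebraMap_injective _ _).mpr hψ'inj
  have : FaithfulSMul (A ⧸ p) K := (faithfulSMul_iff_algebraMap_injective _ _).mpr hi'inj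
  have : Algebra.IsIntegral (A ⧸ p) (C ⧸ q) := ⟨hψ'⟩
  have : Algebra.IsAlgebraic (A ⧸ p) (C ⧸ q) := inferInstance
  let g' : (C ⧸ q) →ₐ[A ⧸ p] K := IsAlgClosed.lift
  refine ⟨g'.toRingHom.comp (Ideal.Quotient.mk q), ?_⟩
  ext a
  have h1 : g' (algebraMap (A ⧸ p) (C ⧸ q) (Ideal.Quotient.mk p a)) =
      algebraMap (A ⧸ p) K (Ideal.Quotient.mk p a) := g'.commutes _
  exact h1

end ext

section omega
variable (A : Type u) [CommRing A]

/-- algebraic closures of the residue fields -/
abbrev K (p : PrimeSpectrum A) : Type u := AlgebraicClosure p.asIdeal.ResidueField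

/-- the canonical maps -/
noncomputable def i (p : PrimeSpectrum A) : A →+* K A p :=
  (algebraMap p.asIdeal.ResidueField (K A p)).comp (algebraMap A p.asIdeal.ResidueField)

lemma ker_i (p : PrimeSpectrum A) : RingHom.ker (i A p) = p.asIdeal := by
  ext a
  have h1 : i A p a = 0 ↔ algebraMap A p.asIdeal.ResidueField a = 0 :=
    map_eq_zero_iff (algebraMap p.asIdeal.ResidueField (K A p))
      (algebraMap p.asIdeal.ResidueField (K A p)).injective
  rw [RingHom.mem_ker, h1, ← RingHom.mem_ker, Ideal.ker_algebraMap_residueField]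

/-- the big product -/
abbrev Ω : Type u := ∀ p : PrimeSpectrum A, K A p

/-- the diagonal map -/
noncomputable def ι : A →+* Ω A := RingHom.pi (i A)

noncomputable instance instAlgΩ : Algebra A (Ω A) := (ι A).toAlgebra

lemma algebraMap_Ω_apply (a : A) (p : PrimeSpectrum A) : algebraMap A (Ω A) a p = i A p a := rfl

instance instDominant : IsDominant (Spec.map (CommRingCat.ofHom (algebraMap A (Ω A)))) := by
  constructor
  apply (PrimeSpectrum.denseRange_comap_iff_ker_le_nilRadical (f := algebraMap A (Ω A))).mpr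
  intro a ha
  rw [nilradical_eq_sInf, Ideal.mem_sInf]
  intro p hp
  have h1 : algebraMap A (Ω A) a = 0 := ha
  have h2 : i A ⟨p, hp⟩ a = 0 := by
    rw [← algebraMap_Ω_apply, h1]; rfl
  have h3 : a ∈ RingHom.ker (i A ⟨p, hp⟩) := h2
  rw [ker_i] at h3
  exact h3

theorem exists_awn :
    ∃ (B : Type u) (_ : CommRing B) (φ : A →+* B), HTop.IsRingAWN φ := by
  obtain ⟨B', hB', hmax⟩ := Groth.Agent.Helper7.UHSub.main1 (A := A) (B := Ω A)
  refine ⟨B', inferInstance, algebraMap A B', hB', ?_⟩
  intro C _ ψ hψ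
  have hψ' := (isUnivHomeo_specMap_iff ψ).mp hψ
  have hcrit := ((uh_iff_crit ψ).mp hψ).1
  have hsurj := (surjective_iff _).mp hψ'.2.2
  -- maps to the factors
  have hg : ∀ p : PrimeSpectrum A, ∃ g : C →+* K A p, g.comp ψ = i A p := by
    intro p
    obtain ⟨q, hq⟩ := hsurj p
    have hq' : (q : PrimeSpectrum C).asIdeal.comap ψ = p.asIdeal :=
      congrArg PrimeSpectrum.asIdeal hq
    have : (q : PrimeSpectrum C).asIdeal.IsPrime := q.2
    exact exists_extension ψ hψ'.1 (i A p) (q : PrimeSpectrum C).asIdeal (by rw [ker_i, hq'])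
  choose g hg using hg
  let _ : Algebra A C := ψ.toAlgebra
  let G : C →ₐ[A] Ω A :=
    { RingHom.pi g with
      commutes' := by
        intro a
        funext p
        exact congrArg (fun k => k a) (hg p) }
  have hG : G.range ≤ B' := hmax C G hψ
  let χ : C →ₐ[A] B' := G.codRestrict B' (fun c => hG ⟨c, rfl⟩)
  refine ⟨χ.toRingHom, χ.comp_algebraMap, ?_⟩
  intro χ' hχ'
  have key : ∀ p : PrimeSpectrum A,
      ((Pi.evalRingHom (K A) p).comp (B'.val.toRingHom.comp χ')) =
      ((Pi.evalRingHom (K A) p).comp (B'.val.toRingHom.comp χ.toRingHom)) := by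
    intro p
    apply hcrit.2
    have e : χ.toRingHom.comp ψ = algebraMap A B' := χ.comp_algebraMap
    rw [RingHom.comp_assoc, RingHom.comp_assoc, RingHom.comp_assoc, RingHom.comp_assoc, hχ', e]
  ext c p
  exact congrArg (fun k => k c) (key p)

end omega

end Groth.Agent.Helper7.AWN
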