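import Mathlib
import Groth.Agent.Lib.Helper7.AWN
import Groth.Agent.Lib.Helper7.UHEx
import Groth.Agent.Lib.Helper7.UHEx2

/-! helper7: a final universal homeomorphism out of a ring has absolutely weakly normal target. -/

namespace Groth.Agent.Helper7.AWN
open AlgebraicGeometry CategoryTheory Polynomial
open Groth.Agent.Helper7.FPColim Groth.Agent.Helper7.UHLib Groth.Agent.Helper7.UHLib2
open Groth.Agent.Helper7.UHTower Groth.Agent.Helper7.UHEx Groth.Agent.Helper7.UHEx2
universe u

section final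
variable {A W : Type u} [CommRing A] [CommRing W] (φ : A →+* W)

/-- a retraction of a universal homeomorphism out of a final object -/
lemma retraction_unique (hφ : HTop.IsRingAWN φ) {W' : Type u} [CommRing W'] (α : W →+* W')
    (hα : FlatMor.IsUnivHomeo (Spec.map (CommRingCat.ofHom α))) (r r' : W' →+* W)
    (hr : r.comp α = RingHom.id W) (hr' : r'.comp α = RingHom.id W) : r = r' := by
  obtain ⟨χ, -, hχ⟩ := hφ.2 W' (α.comp φ) (uh_comp φ α hφ.1 hα)
  have h1 : r = χ := hχ r (by
    show r.comp (α.comp φ) = φ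
    rw [← RingHom.comp_assoc, hr, RingHom.id_comp])
  have h2 : r' = χ := hχ r' (by
    show r'.comp (α.comp φ) = φ
    rw [← RingHom.comp_assoc, hr', RingHom.id_comp])
  rw [h1, h2]

lemma exists_retraction (hφ : HTop.IsRingAWN φ) {W' : Type u} [CommRing W'] (α : W →+* W')
    (hα : FlatMor.IsUnivHomeo (Spec.map (CommRingCat.ofHom α))) :
    ∃ r : W' →+* W, r.comp α = RingHom.id W := by
  obtain ⟨χ, hχ1, -⟩ := hφ.2 W' (α.comp φ) (uh_comp φ α hφ.1 hα)
  refine ⟨χ, ?_⟩
  obtain ⟨χ₀, -, hχ₀⟩ := hφ.2 W φ hφ.1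
  have h1 : χ.comp α = χ₀ := hχ₀ _ (by
    show (χ.comp α).comp φ = φ
    rw [RingHom.comp_assoc, hχ1])
  have h2 : RingHom.id W = χ₀ := hχ₀ _ (RingHom.id_comp φ)
  rw [h1, h2]

theorem isSeminormalRing_of_final (hφ : HTop.IsRingAWN φ) : HTop.IsSeminormalRing W := by
  intro x y hxy
  obtain ⟨r, hr⟩ := exists_retraction φ hφ (algebraMap W (W[X] ⧸ I23 W x y))
    (Groth.Agent.Helper7.UHEx.main W x y hxy).1
  have hr' : ∀ w : W, r (algebraMap W _ w) = w := fun w => congrArg (fun k => k w) hr
  refine ⟨r (Ideal.Quotient.mk _ X), ⟨?_, ?_⟩, ?_⟩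
  · rw [← map_pow, mkX_sq, hr']
  · rw [← map_pow, mkX_cube, hr']
  · rintro a' ⟨h1, h2⟩
    let r' : W[X] ⧸ I23 W x y →+* W :=
      Ideal.Quotient.lift (I23 W x y) (Polynomial.eval₂RingHom (RingHom.id W) a') (by
        intro g hg
        have hle : I23 W x y ≤ RingHom.ker (Polynomial.eval₂RingHom (RingHom.id W) a') := by
          rw [Ideal.span_le]
          rintro g (rfl | rfl)
          · simp [h1]
          · simp [h2]
        exact hle hg)
    have hr2 : r'.comp (algebraMap W (W[X] ⧸ I23 W x y)) = RingHom.id W := by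
      ext w
      show r' (Ideal.Quotient.mk _ (C w)) = w
      simp [r']
    have := retraction_unique φ hφ _ (Groth.Agent.Helper7.UHEx.main W x y hxy).1 r' r hr2 hr
    rw [← this]
    simp [r']

theorem isAWNRing_of_final (hφ : HTop.IsRingAWN φ) : HTop.IsAWNRing W := by
  refine ⟨isSeminormalRing_of_final φ hφ, ?_⟩
  intro p hp x y hxy
  obtain ⟨r, hr⟩ := exists_retraction φ hφ (algebraMap W (W[X] ⧸ Ip W p x y))
    (Groth.Agent.Helper7.UHEx2.main W p x y hp hxy)
  have hr' : ∀ w : W, r (algebraMap W _ w) = w := fun w => congrArg (fun k => k w) hr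
  refine ⟨r (Ideal.Quotient.mk _ X), ⟨?_, ?_⟩, ?_⟩
  · rw [← map_pow, mkX_pow, hr']
  · have := congrArg r (mkX_mul W p x y)
    rw [map_mul, map_natCast, hr'] at this
    exact this.symm
  · rintro a' ⟨h1, h2⟩
    let r' : W[X] ⧸ Ip W p x y →+* W :=
      Ideal.Quotient.lift (Ip W p x y) (Polynomial.eval₂RingHom (RingHom.id W) a') (by
        intro g hg
        have hle : Ip W p x y ≤ RingHom.ker (Polynomial.eval₂RingHom (RingHom.id W) a') := by
          rw [Ideal.span_le]
          rintro g (rfl | rfl)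
          · simp [h1]
          · simp [h2]
        exact hle hg)
    have hr2 : r'.comp (algebraMap W (W[X] ⧸ Ip W p x y)) = RingHom.id W := by
      ext w
      show r' (Ideal.Quotient.mk _ (C w)) = w
      simp [r']
    have := retraction_unique φ hφ _ (Groth.Agent.Helper7.UHEx2.main W p x y hp hxy) r' r hr2 hr
    rw [← this]
    simp [r']

end final

end Groth.Agent.Helper7.AWN
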