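import Mathlib
import Groth.Agent.Lib.Helper7.AWN2

/-! helper7: a universal homeomorphism between absolutely weakly normal rings is bijective;
characterisation of the absolute weak normalization. -/

namespace Groth.Agent.Helper7.AWN
open AlgebraicGeometry CategoryTheory Polynomial
open Groth.Agent.Helper7.FPColim Groth.Agent.Helper7.UHLib Groth.Agent.Helper7.UHLib2
open Groth.Agent.Helper7.UHTower Groth.Agent.Helper7.UHEx Groth.Agent.Helper7.UHEx2
universe u

section comp
variable {A B W : Type u} [CommRing A] [CommRing B] [CommRing W]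

lemma exists_algClosed_point (q : Ideal B) [q.IsPrime] :
    ∃ (K : Type u) (_ : Field K) (_ : IsAlgClosed K) (j : B →+* K), RingHom.ker j = q :=
  ⟨K B ⟨q, inferInstance⟩, inferInstance, inferInstance, i B ⟨q, inferInstance⟩,
    ker_i B ⟨q, inferInstance⟩⟩

/-- cancellation: if `χ ∘ ψ` and `ψ` induce universal homeomorphisms then so does `χ` -/
theorem uh_of_comp_of_uh (ψ : A →+* B) (χ : B →+* W)
    (hψ : FlatMor.IsUnivHomeo (Spec.map (CommRingCat.ofHom ψ)))
    (hφ : FlatMor.IsUnivHomeo (Spec.map (CommRingCat.ofHom (χ.comp ψ)))) :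
    FlatMor.IsUnivHomeo (Spec.map (CommRingCat.ofHom χ)) := by
  rw [uh_iff_crit] at hψ hφ ⊢
  obtain ⟨⟨hψ1, hψ2⟩, hψ3⟩ := hψ
  obtain ⟨⟨hφ1, hφ2⟩, hφ3⟩ := hφ
  refine ⟨⟨RingHom.IsIntegral.tower_top ψ χ hφ1, ?_⟩, ?_⟩
  · intro K _ ψ₁ ψ₂ h
    apply hφ2
    rw [← RingHom.comp_assoc, ← RingHom.comp_assoc, h]
  · intro b hb
    rw [nilradical_eq_sInf, Ideal.mem_sInf]
    intro q hq
    have : q.IsPrime := hq
    obtain ⟨K, _, _, j, hj⟩ := exists_algClosed_point q
    -- a prime of `W` over the kernel of `j ∘ ψ`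
    have hker : RingHom.ker (j.comp ψ) = q.comap ψ := by
      ext a
      constructor
      · intro h
        have h' : ψ a ∈ RingHom.ker j := h
        rw [hj] at h'
        exact h'
      · intro h
        have h' : ψ a ∈ q := h
        rw [← hj] at h'
        exact h'
    have hle : RingHom.ker (χ.comp ψ) ≤ q.comap ψ := hφ3.trans (nilradical_le_prime _)
    let _ : Algebra A W := (χ.comp ψ).toAlgebra
    have : Algebra.IsIntegral A W := ⟨hφ1⟩
    obtain ⟨Q, -, hQ1, hQ2⟩ := Ideal.exists_ideal_over_prime_of_isIntegral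
      (S := W) (q.comap ψ) ⊥ (show RingHom.ker (algebraMap A W) ≤ q.comap ψ from hle)
    have hQ2' : Q.comap (χ.comp ψ) = q.comap ψ := hQ2
    obtain ⟨g, hg⟩ := exists_extension (χ.comp ψ) hφ1 (j.comp ψ) Q (by rw [hker, hQ2'])
    have hgj : g.comp χ = j := by
      apply hψ2
      rw [RingHom.comp_assoc, hg]
    have : j b = 0 := by
      rw [← hgj]
      show g (χ b) = 0
      rw [(RingHom.mem_ker).mp hb, map_zero]
    have hb' : b ∈ RingHom.ker j := this
    rw [hj] at hb'
    exact hb'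

end comp

section bij
variable {B W : Type u} [CommRing B] [CommRing W]

lemma isReduced_of_isSeminormalRing (h : HTop.IsSeminormalRing B) : IsReduced B := by
  constructor
  intro x hx
  -- reduce to squares
  have key : ∀ z : B, z ^ 2 = 0 → z = 0 := by
    intro z hz
    obtain ⟨a, -, ha⟩ := h 0 0 (by simp)
    have h1 : z = a := ha z ⟨hz.symm, by rw [pow_succ, hz, zero_mul]⟩
    have h2 : (0 : B) = a := ha 0 ⟨by simp, by simp⟩
    rw [h1, ← h2]
  obtain ⟨n, hn⟩ := hx
  induction n using Nat.strong_induction_on generalizing x with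
  | _ n ih =>
    rcases Nat.lt_or_ge n 2 with h2 | h2
    · interval_cases n
      · rw [pow_zero] at hn
        have : x = x * 1 := (mul_one x).symm
        rw [this, hn, mul_zero]
      · rwa [pow_one] at hn
    · -- x^(n) = 0 with n ≥ 2 : then (x^(n-1))^2 = 0
      have h3 : (x ^ (n - 1)) ^ 2 = 0 := by
        rw [← pow_mul]
        have : (n - 1) * 2 = n + (n - 2) := by omega
        rw [this, pow_add, hn, zero_mul]
      exact ih (n - 1) (by omega) x (key _ h3)

theorem bijective_of_isAWNRing (χ : B →+* W)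
    (hχ : FlatMor.IsUnivHomeo (Spec.map (CommRingCat.ofHom χ)))
    (hB : HTop.IsAWNRing B) (hW : HTop.IsAWNRing W) : Function.Bijective χ := by
  have hred := isReduced_of_isSeminormalRing hB.1
  have hker := ((uh_iff_crit χ).mp hχ).2
  have hinj : Function.Injective χ := by
    rw [injective_iff_map_eq_zero]
    intro b hb
    have : b ∈ nilradical B := hker hb
    rw [nilradical_eq_zero, Ideal.zero_eq_bot, Ideal.mem_bot] at this
    exact this
  refine ⟨hinj, ?_⟩
  by_contra hns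
  rcases Groth.Agent.Lib.Helper6.SubInt.main7399 χ hinj hns hχ with
    ⟨b, hb, ⟨x, hx⟩, ⟨y, hy⟩⟩ | ⟨p, b, hp, hb, ⟨y, hy⟩, ⟨x, hx⟩⟩
  · have hxy : x ^ 3 = y ^ 2 := by
      apply hinj
      rw [map_pow, map_pow, hx, hy]; ring
    obtain ⟨a, ⟨ha1, ha2⟩, -⟩ := hB.1 x y hxy
    obtain ⟨w, -, hw⟩ := hW.1 (b ^ 2) (b ^ 3) (by ring)
    have h1 : b = w := hw b ⟨rfl, rfl⟩
    have h2 : χ a = w := hw (χ a) ⟨by rw [← map_pow, ← ha1, hx], by rw [← map_pow, ← ha2, hy]⟩
    exact hb ⟨a, by rw [h2, ← h1]⟩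
  · have hxy : (p : B) ^ p * x = y ^ p := by
      apply hinj
      rw [map_mul, map_pow, map_pow, map_natCast, hx, hy]; ring
    obtain ⟨a, ⟨ha1, ha2⟩, -⟩ := hB.2 p hp x y hxy
    obtain ⟨w, -, hw⟩ := hW.2 p hp (b ^ p) ((p : W) * b) (by ring)
    have h1 : b = w := hw b ⟨rfl, rfl⟩
    have h2 : χ a = w := hw (χ a) ⟨by rw [← map_pow, ← ha1, hx], by
      rw [← hy, ha2, map_mul, map_natCast]⟩
    exact hb ⟨a, by rw [h2, ← h1]⟩

end bij

section main
variable {A B W : Type u} [CommRing A] [CommRing B] [CommRing W]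

lemma isAWNRing_of_bijective (χ : B →+* W) (hχ : Function.Bijective χ) (hW : HTop.IsAWNRing W) :
    HTop.IsAWNRing B := by
  let e : B ≃+* W := RingEquiv.ofBijective χ hχ
  constructor
  · intro x y hxy
    obtain ⟨w, ⟨hw1, hw2⟩, hw3⟩ := hW.1 (e x) (e y) (by rw [← map_pow, ← map_pow, hxy])
    refine ⟨e.symm w, ⟨?_, ?_⟩, ?_⟩
    · apply e.injective; rw [map_pow, e.apply_symm_apply, hw1]
    · apply e.injective; rw [map_pow, e.apply_symm_apply, hw2]
    · rintro a ⟨h1, h2⟩
      apply e.injective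
      rw [e.apply_symm_apply]
      exact hw3 (e a) ⟨by rw [h1, map_pow], by rw [h2, map_pow]⟩
  · intro p hp x y hxy
    obtain ⟨w, ⟨hw1, hw2⟩, hw3⟩ := hW.2 p hp (e x) (e y) (by
      rw [← map_pow, ← hxy, map_mul, map_pow, map_natCast])
    refine ⟨e.symm w, ⟨?_, ?_⟩, ?_⟩
    · apply e.injective; rw [map_pow, e.apply_symm_apply, hw1]
    · apply e.injective; rw [map_mul, map_natCast, e.apply_symm_apply, hw2]
    · rintro a ⟨h1, h2⟩
      apply e.injective
      rw [e.apply_symm_apply]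
      exact hw3 (e a) ⟨by rw [h1, map_pow], by rw [h2, map_mul, map_natCast]⟩

theorem main7423 (φ : A →+* W) (hφ : HTop.IsRingAWN φ) (ψ : A →+* B)
    (hψ : FlatMor.IsUnivHomeo (Spec.map (CommRingCat.ofHom ψ))) (χ : B →+* W)
    (hχ : χ.comp ψ = φ) :
    Function.Bijective χ ↔ HTop.IsAWNRing B := by
  have hW := isAWNRing_of_final φ hφ
  constructor
  · intro h
    exact isAWNRing_of_bijective χ h hW
  · intro hB
    apply bijective_of_isAWNRing χ _ hB hW
    apply uh_of_comp_of_uh ψ χ hψ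
    rw [hχ]
    exact hφ.1

end main

end Groth.Agent.Helper7.AWN
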