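import Mathlib
import Groth.Agent.Lib.Helper7.AWN3
import Groth.Agent.S8992

/-! helper7: the perfect closure is an absolute weak normalization. -/

namespace Groth.Agent.Helper7.AWN
open AlgebraicGeometry CategoryTheory
open Groth.Agent.Helper7.FPColim Groth.Agent.Helper7.UHLib Groth.Agent.Helper7.UHLib2
universe u

section transfer
variable {A B W : Type u} [CommRing A] [CommRing B] [CommRing W]

theorem isRingAWN_of_bijective (φ : A →+* W) (hφ : HTop.IsRingAWN φ) (ψ : A →+* B)
    (hψ : FlatMor.IsUnivHomeo (Spec.map (CommRingCat.ofHom ψ))) (χ : B →+* W)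
    (hχ : χ.comp ψ = φ) (hbij : Function.Bijective χ) : HTop.IsRingAWN ψ := by
  let e : B ≃+* W := RingEquiv.ofBijective χ hbij
  have he : ∀ b, e b = χ b := fun b => rfl
  refine ⟨hψ, ?_⟩
  intro C _ ψ' hψ'
  obtain ⟨χ', hχ'1, hχ'2⟩ := hφ.2 C ψ' hψ'
  refine ⟨e.symm.toRingHom.comp χ', ?_, ?_⟩
  · ext a
    show e.symm (χ' (ψ' a)) = ψ a
    apply e.injective
    rw [e.apply_symm_apply, he]
    have h1 := congrArg (fun k => k a) hχ'1
    have h2 := congrArg (fun k => k a) hχ
    exact h1.trans h2.symm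
  · intro θ hθ
    have h1 : χ.comp θ = χ' := hχ'2 _ (by
      show (χ.comp θ).comp ψ' = φ
      rw [RingHom.comp_assoc, hθ, hχ])
    ext c
    show θ c = e.symm (χ' c)
    apply e.injective
    rw [e.apply_symm_apply, he, ← h1]
    rfl

end transfer

section perfect
variable (p : ℕ) [Fact p.Prime] (A : Type u) [CommRing A] [CharP A p]

lemma exists_pow_eq_of (z : PerfectClosure A p) : ∃ (n : ℕ) (a : A), z ^ p ^ n = PerfectClosure.of A p a := by
  induction z using PerfectClosure.induction_on with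
  | _ x =>
    obtain ⟨n, a⟩ := x
    refine ⟨n, a, ?_⟩
    rw [← PerfectClosure.iterate_frobenius_mk, iterate_frobenius]

theorem uh_of : FlatMor.IsUnivHomeo (Spec.map (CommRingCat.ofHom (PerfectClosure.of A p))) := by
  have hp : p.Prime := Fact.out
  rw [uh_iff_crit]
  refine ⟨⟨?_, ?_⟩, ?_⟩
  · intro z
    obtain ⟨n, a, hz⟩ := exists_pow_eq_of p A z
    apply isIntegralElem_of_pow _ z (p ^ n) (pow_pos hp.pos n)
    rw [hz]
    exact RingHom.isIntegralElem_map _
  · intro K _ ψ₁ ψ₂ h
    have hpK : (p : K) = 0 := by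
      have : ψ₁ ((p : ℕ) : PerfectClosure A p) = 0 := by
        rw [CharP.cast_eq_zero, map_zero]
      rwa [map_natCast] at this
    have hc : CharP K p := (CharP.charP_iff_prime_eq_zero hp).mpr hpK
    have : ExpChar K p := ExpChar.prime hp
    ext z
    obtain ⟨n, a, hz⟩ := exists_pow_eq_of p A z
    apply iterateFrobenius_inj K p n
    rw [iterateFrobenius_def, iterateFrobenius_def, ← map_pow, ← map_pow, hz]
    exact congrArg (fun k => k a) h
  · intro a ha
    rw [RingHom.mem_ker, PerfectClosure.of_apply, PerfectClosure.zero_def,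
      PerfectClosure.mk_eq_iff] at ha
    obtain ⟨z, hz⟩ := ha
    simp only [zero_add, iterate_frobenius, zero_pow (pow_pos hp.pos z).ne'] at hz
    exact ⟨p ^ z, hz⟩

theorem isRingAWN_of : HTop.IsRingAWN (PerfectClosure.of A p) := by
  obtain ⟨W, _, φ, hφ⟩ := exists_awn A
  have hU := uh_of p A
  obtain ⟨χ, hχ, -⟩ := hφ.2 _ _ hU
  let _ : Algebra (ZMod p) (PerfectClosure A p) := ZMod.algebra _ p
  have hawn : HTop.IsAWNRing (PerfectClosure A p) :=
    (Groth.Agent.S8992.result p (PerfectClosure A p)).mpr inferInstance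
  exact isRingAWN_of_bijective φ hφ _ hU χ hχ ((main7423 φ hφ _ hU χ hχ).mpr hawn)

end perfect

end Groth.Agent.Helper7.AWN
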