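import Mathlib
import Groth.Agent.Lib.Helper7.AWN4

/-! helper7: universal homeomorphisms in characteristic `p` and perfect closures. -/

namespace Groth.Agent.Helper7.AWN
open AlgebraicGeometry CategoryTheory
open Groth.Agent.Helper7.FPColim Groth.Agent.Helper7.UHLib Groth.Agent.Helper7.UHLib2
open Groth.Agent.Helper7.UHTower
universe u
set_option linter.unusedSectionVars false

section pow
variable {A B : Type u} [CommRing A] [CommRing B] (φ : A →+* B)

/-- a ring map in characteristic `p` which is surjective up to `p`-power roots and nilpotents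
induces a universal homeomorphism -/
theorem uh_of_pow_mem (p : ℕ) (hp : p.Prime) (hpB : (p : B) = 0)
    (hpow : ∀ b : B, ∃ (n : ℕ) (a : A), φ a = b ^ p ^ n) (hker : RingHom.ker φ ≤ nilradical A) :
    FlatMor.IsUnivHomeo (Spec.map (CommRingCat.ofHom φ)) := by
  rw [uh_iff_crit]
  refine ⟨⟨?_, ?_⟩, hker⟩
  · intro z
    obtain ⟨n, a, hz⟩ := hpow z
    apply isIntegralElem_of_pow _ z (p ^ n) (pow_pos hp.pos n)
    rw [← hz]
    exact RingHom.isIntegralElem_map _
  · intro K _ ψ₁ ψ₂ h
    have hpK : (p : K) = 0 := by
      have : ψ₁ ((p : ℕ) : B) = 0 := by rw [hpB, map_zero]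
      rwa [map_natCast] at this
    have hc : CharP K p := (CharP.charP_iff_prime_eq_zero hp).mpr hpK
    have : ExpChar K p := ExpChar.prime hp
    ext z
    obtain ⟨n, a, hz⟩ := hpow z
    apply iterateFrobenius_inj K p n
    rw [iterateFrobenius_def, iterateFrobenius_def, ← map_pow, ← map_pow, ← hz]
    exact congrArg (fun k => k a) h

end pow

section perf
variable (p : ℕ) [Fact p.Prime]
  {A B A' B' : Type u} [CommRing A] [CommRing B] [CommRing A'] [CommRing B']
  [CharP A p] [CharP B p] [CharP A' p] [CharP B' p] [PerfectRing A' p] [PerfectRing B' p]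

omit [CharP A p] [PerfectRing A' p] in
theorem uh_of_isPRadical (i : A →+* A') [IsPRadical i p] :
    FlatMor.IsUnivHomeo (Spec.map (CommRingCat.ofHom i)) := by
  apply uh_of_pow_mem i p Fact.out (CharP.cast_eq_zero A' p) (IsPRadical.pow_mem i p)
  exact (IsPRadical.ker_le i p).trans pNilradical_le_nilradical

include p in
omit [CharP A p] [CharP B p] in
theorem bijective_of_uh_perfect (φ' : A' →+* B')
    (h : FlatMor.IsUnivHomeo (Spec.map (CommRingCat.ofHom φ'))) : Function.Bijective φ' := by
  let _ : Algebra (ZMod p) A' := ZMod.algebra _ p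
  let _ : Algebra (ZMod p) B' := ZMod.algebra _ p
  have hA : HTop.IsAWNRing A' := (Groth.Agent.S8992.result p A').mpr inferInstance
  have hB : HTop.IsAWNRing B' := (Groth.Agent.S8992.result p B').mpr inferInstance
  exact bijective_of_isAWNRing φ' h hA hB

theorem main14254 (φ : A →+* B) (i : A →+* A') (j : B →+* B') [IsPerfectClosure i p]
    [IsPerfectClosure j p] (φ' : A' →+* B') (hφ : φ'.comp i = j.comp φ) :
    FlatMor.IsUnivHomeo (Spec.map (CommRingCat.ofHom φ)) ↔ Function.Bijective φ' := by
  have hp : p.Prime := Fact.out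
  have hi := uh_of_isPRadical p i
  have hj := uh_of_isPRadical p j
  constructor
  · intro h
    apply bijective_of_uh_perfect p
    apply uh_of_comp_of_uh i φ' hi
    rw [hφ]
    exact uh_comp φ j h hj
  · intro hbij
    apply uh_of_pow_mem φ p hp (CharP.cast_eq_zero B p)
    · intro b
      obtain ⟨a', ha'⟩ := hbij.2 (j b)
      obtain ⟨m, a, ha⟩ := IsPRadical.pow_mem i p a'
      have h1 : j (b ^ p ^ m - φ a) = 0 := by
        rw [map_sub, map_pow, ← ha', ← map_pow, ← ha]
        have := congrArg (fun k => k a) hφ
        simp only [RingHom.comp_apply] at this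
        rw [this, sub_self]
      have h2 : b ^ p ^ m - φ a ∈ pNilradical B p := IsPRadical.ker_le j p h1
      obtain ⟨k, hk⟩ := mem_pNilradical.mp h2
      rw [sub_pow_expChar_pow, sub_eq_zero, ← pow_mul, ← pow_add, ← map_pow] at hk
      exact ⟨m + k, a ^ p ^ k, hk.symm⟩
    · intro a ha
      have h1 : φ' (i a) = 0 := by
        have := congrArg (fun k => k a) hφ
        simp only [RingHom.comp_apply] at this
        rw [this, (RingHom.mem_ker).mp ha, map_zero]
      have h2 : i a = 0 := hbij.1 (h1.trans (map_zero φ').symm)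
      exact pNilradical_le_nilradical (IsPRadical.ker_le i p h2)

end perf

end Groth.Agent.Helper7.AWN
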