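import Mathlib
import Groth.Agent.Lib.Helper7.UHSch2
import Groth.Agent.Lib.Helper7.AWN5

/-! helper7: restriction of universal homeomorphisms to affine opens and isomorphism criteria. -/

namespace Groth.Agent.Helper7.UHSch
open AlgebraicGeometry CategoryTheory MorphismProperty Limits
open Groth.Agent.Helper9.UH
universe u

instance : (FlatMor.IsUnivHomeo : MorphismProperty Scheme.{u}).RespectsIso := by
  unfold FlatMor.IsUnivHomeo; infer_instance

instance : (FlatMor.IsUnivHomeo : MorphismProperty Scheme.{u}).IsStableUnderBaseChange := by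
  unfold FlatMor.IsUnivHomeo; infer_instance

section restrict
variable {X Y : Scheme.{u}} (f : X ⟶ Y)

theorem isUnivHomeo_morphismRestrict (hf : FlatMor.IsUnivHomeo f) (U : Y.Opens) :
    FlatMor.IsUnivHomeo (f ∣_ U) :=
  MorphismProperty.of_isPullback (isPullback_morphismRestrict f U).flip hf

/-- for a universal homeomorphism between affine schemes, the map on global sections induces a
universal homeomorphism -/
theorem isUnivHomeo_specMap_appTop [IsAffine X] [IsAffine Y] (hf : FlatMor.IsUnivHomeo f) :
    FlatMor.IsUnivHomeo (Spec.map f.appTop) :=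
  ((FlatMor.IsUnivHomeo).arrow_mk_iso_iff (arrowIsoSpecΓOfIsAffine f)).mp hf

theorem isIso_of_bijective_appTop [IsAffine X] [IsAffine Y]
    (h : Function.Bijective f.appTop.hom) : IsIso f := by
  have h1 : IsIso (Spec.map f.appTop) := isIso_SpecMap_iff.mpr h
  exact ((isomorphisms Scheme).arrow_mk_iso_iff (arrowIsoSpecΓOfIsAffine f)).mpr h1

/-- a universal homeomorphism is an isomorphism as soon as its restrictions over affine opens
induce bijections on global sections -/
theorem isIso_of_forall_bijective (hf : FlatMor.IsUnivHomeo f)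
    (h : ∀ U : Y.affineOpens, Function.Bijective (f ∣_ U.1).appTop.hom) : IsIso f := by
  have haff := isAffineHom_of_isUnivHomeo f hf
  have := (IsZariskiLocalAtTarget.iff_of_iSup_eq_top (P := isomorphisms Scheme) (f := f)
    (fun U : Y.affineOpens => U.1) (iSup_affineOpens_eq_top Y)).mpr
  apply this
  intro U
  have h1 : IsAffine (U.1 : Y.Opens).toScheme := U.2
  have h2 : IsAffine (f ⁻¹ᵁ U.1).toScheme := U.2.preimage f
  exact isIso_of_bijective_appTop (f ∣_ U.1) (h U)

end restrict

end Groth.Agent.Helper7.UHSch
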