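import Mathlib
import Groth.Agent.Lib.Helper7.UHSch3

/-! helper7: weakly etale universal homeomorphisms are isomorphisms. -/

namespace Groth.Agent.Helper7.UHSch
open AlgebraicGeometry CategoryTheory Limits
universe u

theorem main0425 {X Y : Scheme.{u}} (f : X ⟶ Y) [WeaklyEtale f] (h : FlatMor.IsUnivHomeo f) :
    IsIso f := by
  have haff := isAffineHom_of_isUnivHomeo f h
  have hsurj := surjective_of_isUnivHomeo f h
  have hinj : UniversallyInjective f :=
    Groth.Agent.Helper9.UH.universallyInjective_of_isUnivHomeo f h
  have hds : Surjective (pullback.diagonal f) := ((tfae_universallyInjective f).out 0 3).mp hinj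
  have hdiso : IsIso (pullback.diagonal f) := Flat.isIso_of_surjective_of_mono _
  have hmono : Mono f := (pullback.isIso_diagonal_iff f).mp hdiso
  exact Flat.isIso_of_surjective_of_mono f

end Groth.Agent.Helper7.UHSch
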