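import Mathlib
import Groth.Agent.Lib.Helper7.UHSch5
import Groth.Agent.Lib.Helper7.UHSch2
import Groth.Agent.Lib.Helper7.UHSch3

set_option autoImplicit false
universe u
open CategoryTheory CategoryTheory.Limits AlgebraicGeometry

/-! helper7: topological invariance of etale morphisms: for `p : X ⟶ S` etale and a universal
homeomorphism `π : Y' ⟶ Y` over `S`, morphisms `Y ⟶ X` over `S` correspond to morphisms `Y' ⟶ X`
over `S` (`eq_of_surjective_comp`, `exists_descent`), `isOpenImmersion_of_section`, `main0076`,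
`main0117`. -/

namespace Groth.Agent.Helper7.TopInv

open Groth.Agent.Helper7.UHSch

/-- two morphisms into a scheme with open diagonal which agree after a surjective map agree -/
theorem eq_of_surjective_comp {X Y Y' S : Scheme.{u}} (p : X ⟶ S)
    [IsOpenImmersion (pullback.diagonal p)] (φ₁ φ₂ : Y ⟶ X) (h : φ₁ ≫ p = φ₂ ≫ p)
    (π : Y' ⟶ Y) [Surjective π] (hπ : π ≫ φ₁ = π ≫ φ₂) : φ₁ = φ₂ := by
  let l : Y ⟶ pullback p p := pullback.lift φ₁ φ₂ h
  let ι : pullback (pullback.diagonal p) l ⟶ Y := pullback.snd _ _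
  have hι : ι ≫ φ₁ = ι ≫ φ₂ := by
    have h1 : ι ≫ l = pullback.fst (pullback.diagonal p) l ≫ pullback.diagonal p :=
      pullback.condition.symm
    have h2 := congrArg (· ≫ pullback.fst p p) h1
    have h3 := congrArg (· ≫ pullback.snd p p) h1
    simp only [Category.assoc, l, pullback.lift_fst, pullback.lift_snd,
      pullback.diagonal_fst, pullback.diagonal_snd, Category.comp_id] at h2 h3
    rw [h2, h3]
  have hfac : ∃ t : Y' ⟶ pullback (pullback.diagonal p) l, t ≫ ι = π := by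
    refine ⟨pullback.lift (π ≫ φ₁) π ?_, pullback.lift_snd _ _ _⟩
    apply pullback.hom_ext
    · simp only [Category.assoc, pullback.diagonal_fst, Category.comp_id, l, pullback.lift_fst]
    · simp only [Category.assoc, pullback.diagonal_snd, Category.comp_id, l, pullback.lift_snd, hπ]
  obtain ⟨t, ht⟩ := hfac
  have hsurj : Surjective ι := by
    have : Surjective (t ≫ ι) := by rw [ht]; infer_instance
    exact Surjective.of_comp t ι
  have hiso : IsIso ι := by
    refine isIso_of_isOpenImmersion_of_opensRange_eq_top ι ?_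
    refine TopologicalSpace.Opens.ext ?_
    rw [Scheme.Hom.coe_opensRange, TopologicalSpace.Opens.coe_top]
    exact Set.range_eq_univ.mpr ι.surjective
  exact (cancel_epi ι).mp hι

theorem isOpenImmersion_of_section {Z W : Scheme.{u}} (q : Z ⟶ W) [Etale q] (σ : W ⟶ Z)
    (h : σ ≫ q = 𝟙 W) : IsOpenImmersion σ := by
  have h1 : Etale (σ ≫ q) := by rw [h]; infer_instance
  have h2 : Etale σ := MorphismProperty.of_postcomp (W := @Etale) (W' := @Etale) σ q
    inferInstance h1
  have h3 : Mono (σ ≫ q) := by rw [h]; infer_instance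
  have h4 : Mono σ := mono_of_mono σ q
  exact IsOpenImmersion.of_flat_of_mono σ

theorem exists_descent {X Y Y' S : Scheme.{u}} (p : X ⟶ S) [Etale p] (y : Y ⟶ S)
    (π : Y' ⟶ Y) (hπ : FlatMor.IsUnivHomeo π) (ψ₀ : Y' ⟶ X) (hψ : ψ₀ ≫ p = π ≫ y) :
    ∃ φ : Y ⟶ X, φ ≫ p = y ∧ π ≫ φ = ψ₀ := by
  obtain ⟨q, hq⟩ : ∃ q : pullback y p ⟶ Y, q = pullback.fst y p := ⟨_, rfl⟩
  obtain ⟨r, hr⟩ : ∃ r : pullback y p ⟶ X, r = pullback.snd y p := ⟨_, rfl⟩
  have hqr : q ≫ y = r ≫ p := by rw [hq, hr]; exact pullback.condition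
  have hqet : Etale q := by rw [hq]; infer_instance
  obtain ⟨γ, hγq, hγr⟩ : ∃ γ : Y' ⟶ pullback y p, γ ≫ q = π ∧ γ ≫ r = ψ₀ :=
    ⟨pullback.lift π ψ₀ hψ.symm, by rw [hq]; exact pullback.lift_fst _ _ _,
      by rw [hr]; exact pullback.lift_snd _ _ _⟩
  obtain ⟨a, ha⟩ : ∃ a : pullback q π ⟶ pullback y p, a = pullback.fst q π := ⟨_, rfl⟩
  obtain ⟨q', hq'⟩ : ∃ q' : pullback q π ⟶ Y', q' = pullback.snd q π := ⟨_, rfl⟩
  have haUH : FlatMor.IsUnivHomeo a := by
    rw [ha]; exact MorphismProperty.pullback_fst (P := FlatMor.IsUnivHomeo) q π hπ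
  have hq'et : Etale q' := by rw [hq']; infer_instance
  obtain ⟨σ, hσa, hσq'⟩ : ∃ σ : Y' ⟶ pullback q π, σ ≫ a = γ ∧ σ ≫ q' = 𝟙 Y' :=
    ⟨pullback.lift γ (𝟙 Y') (by rw [hγq, Category.id_comp]),
      by rw [ha]; exact pullback.lift_fst _ _ _, by rw [hq']; exact pullback.lift_snd _ _ _⟩
  have hσo : IsOpenImmersion σ := isOpenImmersion_of_section q' σ hσq'
  have hahomeo : IsHomeomorph a := Groth.Agent.Helper9.UH.isHomeomorph_of_isUnivHomeo a haUH
  -- the open subscheme of the fibre product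
  let U : (pullback y p).Opens := ⟨a '' (σ.opensRange : Set _), hahomeo.isOpenMap _ σ.opensRange.2⟩
  have hU : a ⁻¹ᵁ U = σ.opensRange := by
    refine TopologicalSpace.Opens.ext ?_
    exact Set.preimage_image_eq _ hahomeo.injective
  obtain ⟨γU, hγU, hγUUH⟩ : ∃ γU : Y' ⟶ U, γU ≫ U.ι = γ ∧ FlatMor.IsUnivHomeo γU := by
    refine ⟨σ.isoOpensRange.hom ≫ ((pullback q π).isoOfEq hU.symm).hom ≫ (a ∣_ U), ?_, ?_⟩
    · rw [Category.assoc, Category.assoc, morphismRestrict_ι, Scheme.isoOfEq_hom_ι_assoc,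
        Scheme.Hom.isoOpensRange_hom_ι_assoc, hσa]
    · have h1 : FlatMor.IsUnivHomeo (a ∣_ U) := isUnivHomeo_morphismRestrict a haUH U
      rw [← Category.assoc]
      exact (MorphismProperty.cancel_left_of_respectsIso (P := FlatMor.IsUnivHomeo) _ _).mpr h1
  have huUH : FlatMor.IsUnivHomeo (U.ι ≫ q) := by
    refine isUnivHomeo_of_comp_left γU (U.ι ≫ q) ?_ hγUUH
    rw [← Category.assoc, hγU, hγq]
    exact hπ
  have huiso : IsIso (U.ι ≫ q) := main0425 (U.ι ≫ q) huUH
  refine ⟨inv (U.ι ≫ q) ≫ U.ι ≫ r, ?_, ?_⟩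
  · rw [Category.assoc, Category.assoc, ← hqr, ← Category.assoc U.ι, IsIso.inv_hom_id_assoc]
  · have h1 : π = γU ≫ (U.ι ≫ q) := by rw [← Category.assoc, hγU, hγq]
    rw [h1, Category.assoc, IsIso.hom_inv_id_assoc, ← Category.assoc, hγU, hγr]

theorem main0076 {S S' : Scheme.{u}} (g : S' ⟶ S) [IsIntegralHom g] [UniversallyInjective g]
    [Surjective g] (X Y : Over S) [AlgebraicGeometry.Etale X.hom] :
    Function.Bijective (fun φ : Y ⟶ X => (Over.pullback g).map φ) := by
  have hg : FlatMor.IsUnivHomeo g := Groth.Agent.Helper9.UH.isUnivHomeo_of g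
  have hπ : FlatMor.IsUnivHomeo (pullback.fst Y.hom g) :=
    MorphismProperty.pullback_fst (P := FlatMor.IsUnivHomeo) Y.hom g hg
  have hsurj : Surjective (pullback.fst Y.hom g) := surjective_of_isUnivHomeo _ hπ
  constructor
  · intro φ₁ φ₂ h
    have h' : ((Over.pullback g).map φ₁).left = ((Over.pullback g).map φ₂).left :=
      congrArg (fun t => t.left) h
    have h1 := congrArg (· ≫ pullback.fst X.hom g) h'
    simp only [Over.pullback_map_left, pullback.lift_fst] at h1
    apply Over.OverMorphism.ext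
    exact eq_of_surjective_comp X.hom φ₁.left φ₂.left (by rw [Over.w, Over.w])
      (pullback.fst Y.hom g) h1
  · intro ψ
    have hw : ψ.left ≫ pullback.snd X.hom g = pullback.snd Y.hom g := Over.w ψ
    obtain ⟨φ, hφ1, hφ2⟩ := exists_descent X.hom Y.hom (pullback.fst Y.hom g) hπ
      (ψ.left ≫ pullback.fst X.hom g) (by
        rw [Category.assoc, pullback.condition, ← Category.assoc, hw, pullback.condition])
    refine ⟨Over.homMk φ hφ1, ?_⟩
    apply Over.OverMorphism.ext
    apply pullback.hom_ext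
    · simp only [Over.pullback_map_left, pullback.lift_fst, Over.homMk_left]
      exact hφ2
    · simp only [Over.pullback_map_left, pullback.lift_snd]
      exact hw.symm

theorem main0117 {S S₀ : Scheme.{u}} (i : S₀ ⟶ S) [IsClosedImmersion i] [Surjective i]
    (X Y : Over S) [AlgebraicGeometry.Etale X.hom] :
    Function.Bijective (fun φ : Y ⟶ X => (Over.pullback i).map φ) :=
  main0076 i X Y

end Groth.Agent.Helper7.TopInv
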