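import Mathlib

set_option autoImplicit false
universe u
open CategoryTheory AlgebraicGeometry TopologicalSpace

/-! helper7: standard smooth / standard etale affine neighbourhoods over a given affine open
of the target. -/

namespace Groth.Agent.Helper7.StdNbhd

set_option backward.isDefEq.respectTransparency false in
lemma comp_ι_appLE {X S : Scheme.{u}} (f : X ⟶ S) (W : X.Opens) (V : S.Opens)
    (U' : W.toScheme.Opens) (e' : U' ≤ (W.ι ≫ f) ⁻¹ᵁ V) (e'' : W.ι ''ᵁ U' ≤ f ⁻¹ᵁ V) :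
    (W.ι ≫ f).appLE V U' e' = f.appLE V (W.ι ''ᵁ U') e'' := by
  simp only [Scheme.Hom.appLE, Scheme.Hom.comp_app]
  rw [Category.assoc, Scheme.Opens.ι_app, Scheme.Opens.toScheme_presheaf_map, ← Functor.map_comp]
  rfl

set_option backward.defeqAttrib.useBackward true in
set_option backward.isDefEq.respectTransparency false in
/-- if `g` is smooth, then around any point there is an affine open mapping into a given affine
open of the target on which `g` is standard smooth -/
lemma exists_isStandardSmooth_appLE {Y S : Scheme.{u}} (g : Y ⟶ S) [Smooth g] (y : Y)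
    {V : S.Opens} (hV : IsAffineOpen V) (hyV : g y ∈ V) :
    ∃ (U : Y.Opens) (_ : IsAffineOpen U) (_ : y ∈ U) (e : U ≤ g ⁻¹ᵁ V),
      (g.appLE V U e).hom.IsStandardSmooth := by
  obtain ⟨_, ⟨U', hU', rfl⟩, hyU', hU'V⟩ :=
    Y.isBasis_affineOpens.exists_subset_of_mem_open hyV (V.2.preimage g.continuous)
  have hsm := g.smooth_appLE hV hU' hU'V
  algebraize [(g.appLE V U' hU'V).hom]
  have : Algebra.Smooth Γ(S, V) Γ(Y, U') := hsm
  obtain ⟨r, hry, hr⟩ := Algebra.IsSmoothAt.exists_notMem_isStandardSmooth Γ(S, V)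
    (hU'.primeIdealOf ⟨y, hyU'⟩).asIdeal
  refine ⟨_, hU'.basicOpen r, ?_, (Y.basicOpen_le r).trans hU'V, ?_⟩
  · rwa [← PrimeSpectrum.mem_basicOpen, IsAffineOpen.primeIdealOf,
      ← hU'.fromSpec_preimage_basicOpen, Scheme.Hom.mem_preimage, ← Scheme.Hom.comp_apply,
      IsAffineOpen.isoSpec_hom, IsAffineOpen.toSpecΓ_fromSpec] at hry
  · have := hU'.isLocalization_basicOpen r
    rw [← RingHom.isStandardSmooth_algebraMap] at hr
    convert!
      RingHom.isStandardSmooth_respectsIso.1 _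
        (IsLocalization.algEquiv (.powers r) _ Γ(Y, Y.basicOpen r)).toRingEquiv hr
    ext
    dsimp
    simp only [IsScalarTower.algebraMap_apply Γ(S, V) Γ(Y, U') (Localization _),
      IsLocalization.map_eq]
    simp only [RingHom.algebraMap_toAlgebra, RingHomCompTriple.comp_apply, ← ConcreteCategory.comp_apply,
      Scheme.Hom.appLE_map]

set_option backward.isDefEq.respectTransparency false in
theorem smooth_nhd_iff {X S : Scheme.{u}} (f : X ⟶ S) (x : X)
    (V : S.Opens) (hV : IsAffineOpen V) (hxV : f x ∈ V) :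
    (∃ W : X.Opens, x ∈ W ∧ Smooth (W.ι ≫ f)) ↔
      ∃ (U : X.Opens) (_ : IsAffineOpen U) (_ : x ∈ U) (e : U ≤ f ⁻¹ᵁ V),
        (f.appLE V U e).hom.IsStandardSmooth := by
  constructor
  · rintro ⟨W, hxW, hsm⟩
    obtain ⟨U', hU', hyU', e', hstd⟩ :=
      exists_isStandardSmooth_appLE (W.ι ≫ f) ⟨x, hxW⟩ hV (by simpa using hxV)
    have e'' : W.ι ''ᵁ U' ≤ f ⁻¹ᵁ V := by
      rintro _ ⟨u, hu, rfl⟩
      exact e' hu
    refine ⟨W.ι ''ᵁ U', hU'.image_of_isOpenImmersion W.ι, ⟨⟨x, hxW⟩, hyU', rfl⟩, e'', ?_⟩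
    rw [← comp_ι_appLE f W V U' e' e'']
    exact hstd
  · rintro ⟨U, hU, hxU, e, hstd⟩
    refine ⟨U, hxU, ?_⟩
    rw [← Scheme.Hom.resLE_comp_ι f e]
    have : Smooth (f.resLE V U e) := by
      have : IsAffine U.toScheme := hU
      have : IsAffine V.toScheme := hV
      rw [HasRingHomProperty.iff_of_isAffine (P := @Smooth)]
      exact (RingHom.Smooth.propertyIsLocal.respectsIso.arrow_mk_iso_iff
        (arrowResLEAppIso f V U e)).mpr hstd.smooth
    infer_instance

set_option backward.defeqAttrib.useBackward true in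
set_option backward.isDefEq.respectTransparency false in
/-- if `g` is étale, then around any point there is an affine open mapping into a given affine
open of the target on which `g` is standard étale -/
lemma exists_isStandardEtale_appLE {Y S : Scheme.{u}} (g : Y ⟶ S) [Etale g] (y : Y)
    {V : S.Opens} (hV : IsAffineOpen V) (hyV : g y ∈ V) :
    ∃ (U : Y.Opens) (_ : IsAffineOpen U) (_ : y ∈ U) (e : U ≤ g ⁻¹ᵁ V),
      letI := (g.appLE V U e).hom.toAlgebra
      Algebra.IsStandardEtale Γ(S, V) Γ(Y, U) := by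
  obtain ⟨_, ⟨U', hU', rfl⟩, hyU', hU'V⟩ :=
    Y.isBasis_affineOpens.exists_subset_of_mem_open hyV (V.2.preimage g.continuous)
  have het := g.etale_appLE hV hU' hU'V
  algebraize [(g.appLE V U' hU'V).hom]
  have : Algebra.Etale Γ(S, V) Γ(Y, U') := het
  have hloc : Algebra.etaleLocus Γ(S, V) Γ(Y, U') = Set.univ :=
    Algebra.etaleLocus_eq_univ_iff_etale.mpr this
  have : Algebra.IsEtaleAt Γ(S, V) (hU'.primeIdealOf ⟨y, hyU'⟩).asIdeal := by
    have : hU'.primeIdealOf ⟨y, hyU'⟩ ∈ Algebra.etaleLocus Γ(S, V) Γ(Y, U') := by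
      rw [hloc]; trivial
    exact this
  obtain ⟨r, hry, hr⟩ := Algebra.IsEtaleAt.exists_isStandardEtale (R := Γ(S, V))
    (hU'.primeIdealOf ⟨y, hyU'⟩).asIdeal
  refine ⟨_, hU'.basicOpen r, ?_, (Y.basicOpen_le r).trans hU'V, ?_⟩
  · rwa [← PrimeSpectrum.mem_basicOpen, IsAffineOpen.primeIdealOf,
      ← hU'.fromSpec_preimage_basicOpen, Scheme.Hom.mem_preimage, ← Scheme.Hom.comp_apply,
      IsAffineOpen.isoSpec_hom, IsAffineOpen.toSpecΓ_fromSpec] at hry
  · have := hU'.isLocalization_basicOpen r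
    let _ : Algebra Γ(S, V) Γ(Y, Y.basicOpen r) :=
      (g.appLE V (Y.basicOpen r) ((Y.basicOpen_le r).trans hU'V)).hom.toAlgebra
    have : IsScalarTower Γ(S, V) Γ(Y, U') Γ(Y, Y.basicOpen r) := by
      apply IsScalarTower.of_algebraMap_eq'
      simp only [RingHom.algebraMap_toAlgebra]
      have := g.appLE_map hU'V (homOfLE (Y.basicOpen_le r)).op
      exact congr($(this).hom).symm
    let e : Localization.Away r ≃ₐ[Γ(S, V)] Γ(Y, Y.basicOpen r) :=
      (IsLocalization.algEquiv (.powers r) _ Γ(Y, Y.basicOpen r)).restrictScalars Γ(S, V)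
    exact Algebra.IsStandardEtale.of_equiv e

set_option backward.isDefEq.respectTransparency false in
theorem etale_nhd_iff {X S : Scheme.{u}} (f : X ⟶ S) (x : X)
    (V : S.Opens) (hV : IsAffineOpen V) (hxV : f x ∈ V) :
    (∃ W : X.Opens, x ∈ W ∧ Etale (W.ι ≫ f)) ↔
      ∃ (U : X.Opens) (_ : IsAffineOpen U) (_ : x ∈ U) (e : U ≤ f ⁻¹ᵁ V),
        letI := (f.appLE V U e).hom.toAlgebra
        Algebra.IsStandardEtale Γ(S, V) Γ(X, U) := by
  constructor
  · rintro ⟨W, hxW, hsm⟩
    obtain ⟨U', hU', hyU', e', hstd⟩ :=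
      exists_isStandardEtale_appLE (W.ι ≫ f) ⟨x, hxW⟩ hV (by simpa using hxV)
    have e'' : W.ι ''ᵁ U' ≤ f ⁻¹ᵁ V := by
      rintro _ ⟨u, hu, rfl⟩
      exact e' hu
    refine ⟨W.ι ''ᵁ U', hU'.image_of_isOpenImmersion W.ι, ⟨⟨x, hxW⟩, hyU', rfl⟩, e'', ?_⟩
    have h := comp_ι_appLE f W V U' e' e''
    change @Algebra.IsStandardEtale Γ(S, V) Γ(X, W.ι ''ᵁ U') _ _
      (f.appLE V (W.ι ''ᵁ U') e'').hom.toAlgebra
    rw [← h]
    exact hstd
  · rintro ⟨U, hU, hxU, e, hstd⟩
    refine ⟨U, hxU, ?_⟩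
    rw [← Scheme.Hom.resLE_comp_ι f e]
    have : Etale (f.resLE V U e) := by
      have : IsAffine U.toScheme := hU
      have : IsAffine V.toScheme := hV
      rw [HasRingHomProperty.iff_of_isAffine (P := @Etale)]
      refine (RingHom.Etale.propertyIsLocal.respectsIso.arrow_mk_iso_iff
        (arrowResLEAppIso f V U e)).mpr ?_
      let _ : Algebra Γ(S, V) Γ(X, U) := (f.appLE V U e).hom.toAlgebra
      have : Algebra.IsStandardEtale Γ(S, V) Γ(X, U) := hstd
      change Algebra.Etale Γ(S, V) Γ(X, U)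
      infer_instance
    infer_instance

end Groth.Agent.Helper7.StdNbhd
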