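import Mathlib

/-! helper7: recognising filtered colimits in `Under A` elementwise. -/

namespace Groth.Agent.Helper7.UnderColim
open CategoryTheory CategoryTheory.Limits
universe u

variable (A : CommRingCat.{u}) {J : Type u} [SmallCategory J] [IsFiltered J]
  (F : J ⥤ Under A) (c : Cocone F)

/-- recognising filtered colimits in `Under A` elementwise -/
theorem isColimit_of_elementwise
    (hsurj : ∀ x : c.pt.right, ∃ (j : J) (y : (F.obj j).right), (c.ι.app j).right y = x)
    (hinj : ∀ (j : J) (y y' : (F.obj j).right), (c.ι.app j).right y = (c.ι.app j).right y' →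
      ∃ (k : J) (f : j ⟶ k), (F.map f).right y = (F.map f).right y') :
    Nonempty (IsColimit c) := by
  let G : Under A ⥤ Type u := Under.forget A ⋙ forget CommRingCat
  have : G.ReflectsIsomorphisms := inferInstance
  have : HasColimit F := inferInstance
  have : PreservesColimit F G := inferInstance
  have : ReflectsColimit F G := reflectsColimit_of_reflectsIsomorphisms F G
  refine ⟨isColimitOfReflects G ?_⟩
  refine Types.FilteredColimit.isColimitOf' (F ⋙ G) (G.mapCocone c) ?_ ?_
  · intro x
    obtain ⟨j, y, hy⟩ := hsurj x
    exact ⟨j, y, hy.symm⟩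
  · intro j y y' h
    exact hinj j y y' h

end Groth.Agent.Helper7.UnderColim
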