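import Mathlib

set_option autoImplicit false

/-! helper7: connected components of spectral spaces: intersection of clopens (Stacks 04PL) and
Hausdorffness of the space of connected components. -/

namespace Groth.Agent.Helper7.SpecTop

open Topology Set Filter

universe u

/-- Stacks 04PL: in a compact prespectral quasi-separated space, the connected component of a point
is the intersection of its clopen neighbourhoods. -/
theorem connectedComponent_eq_iInter_isClopen {X : Type*} [TopologicalSpace X] [CompactSpace X]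
    [PrespectralSpace X] [QuasiSeparatedSpace X] (x : X) :
    connectedComponent x = ⋂ s : { s : Set X // IsClopen s ∧ x ∈ s }, s := by
  apply Subset.antisymm connectedComponent_subset_iInter_isClopen
  refine IsPreconnected.subset_connectedComponent ?_ (mem_iInter.2 fun s => s.2.2)
  have hs : @IsClosed X _ (⋂ s : { s : Set X // IsClopen s ∧ x ∈ s }, s) :=
    isClosed_iInter fun s => s.2.1.1
  rw [isPreconnected_iff_subset_of_fully_disjoint_closed hs]
  intro a b ha hb hab ab_disj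
  obtain ⟨u, huc, huo, hau, hub⟩ := PrespectralSpace.exists_isCompact_and_isOpen_between
    ha.isCompact hb.isOpen_compl ab_disj.subset_compl_right
  obtain ⟨v, hvc, hvo, hbv, hva⟩ := PrespectralSpace.exists_isCompact_and_isOpen_between
    hb.isCompact ha.isOpen_compl ab_disj.subset_compl_left
  have h1 : (u ∩ v) ∩ ⋂ s : { s : Set X // IsClopen s ∧ x ∈ s }, (s : Set X) = ∅ := by
    rw [← subset_empty_iff]
    rintro y ⟨⟨hyu, hyv⟩, hyS⟩
    rcases hab hyS with h | h
    · exact hva hyv h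
    · exact hub hyu h
  have h2 : (u ∪ v)ᶜ ∩ ⋂ s : { s : Set X // IsClopen s ∧ x ∈ s }, (s : Set X) = ∅ := by
    rw [← subset_empty_iff]
    rintro y ⟨hy, hyS⟩
    rcases hab hyS with h | h
    · exact hy (Or.inl (hau h))
    · exact hy (Or.inr (hbv h))
  obtain ⟨F1, hF1⟩ := (huc.inter_of_isOpen hvc huo hvo).elim_finite_subfamily_closed _
    (fun s : { s : Set X // IsClopen s ∧ x ∈ s } => s.2.1.1) h1
  obtain ⟨F2, hF2⟩ := (huo.union hvo).isClosed_compl.isCompact.elim_finite_subfamily_closed _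
    (fun s : { s : Set X // IsClopen s ∧ x ∈ s } => s.2.1.1) h2
  have hs1 : IsClopen (⋂ i ∈ F1, (i : Set X)) := isClopen_biInter_finset fun i _ => i.2.1
  have hs2 : IsClopen (⋂ i ∈ F2, (i : Set X)) := isClopen_biInter_finset fun i _ => i.2.1
  have hx1 : x ∈ ⋂ i ∈ F1, (i : Set X) := mem_iInter₂.2 fun s _ => s.2.2
  have hx2 : x ∈ ⋂ i ∈ F2, (i : Set X) := mem_iInter₂.2 fun s _ => s.2.2
  set s1 := ⋂ i ∈ F1, (i : Set X)
  set s2 := ⋂ i ∈ F2, (i : Set X)
  have hsub : s1 ∩ s2 ⊆ u ∪ v := by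
    intro y hy
    by_contra hc
    have : y ∈ (u ∪ v)ᶜ ∩ s2 := ⟨hc, hy.2⟩
    rw [hF2] at this
    exact this
  have hdis : ∀ y, y ∈ s1 ∩ s2 → y ∈ u → y ∈ v → False := by
    intro y hy hyu hyv
    have : y ∈ (u ∩ v) ∩ s1 := ⟨⟨hyu, hyv⟩, hy.1⟩
    rw [hF1] at this
    exact this
  have hcl : IsClopen (s1 ∩ s2) := hs1.inter hs2
  have hu' : IsClopen ((s1 ∩ s2) ∩ u) := by
    refine ⟨?_, hcl.2.inter huo⟩
    have : (s1 ∩ s2) ∩ u = (s1 ∩ s2) ∩ vᶜ := by
      ext y
      constructor
      · rintro ⟨hy, hyu⟩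
        exact ⟨hy, fun hyv => hdis y hy hyu hyv⟩
      · rintro ⟨hy, hyv⟩
        exact ⟨hy, (hsub hy).resolve_right hyv⟩
    rw [this]
    exact hcl.1.inter hvo.isClosed_compl
  have hv' : IsClopen ((s1 ∩ s2) ∩ v) := by
    refine ⟨?_, hcl.2.inter hvo⟩
    have : (s1 ∩ s2) ∩ v = (s1 ∩ s2) ∩ uᶜ := by
      ext y
      constructor
      · rintro ⟨hy, hyv⟩
        exact ⟨hy, fun hyu => hdis y hy hyu hyv⟩
      · rintro ⟨hy, hyu⟩
        exact ⟨hy, (hsub hy).resolve_left hyu⟩
    rw [this]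
    exact hcl.1.inter huo.isClosed_compl
  have hxS : x ∈ ⋂ s : { s : Set X // IsClopen s ∧ x ∈ s }, (s : Set X) :=
    mem_iInter.2 fun s => s.2.2
  by_cases hxu : x ∈ u
  · left
    have hsub' : (⋂ s : { s : Set X // IsClopen s ∧ x ∈ s }, (s : Set X)) ⊆ (s1 ∩ s2) ∩ u :=
      iInter_subset (fun s : { s : Set X // IsClopen s ∧ x ∈ s } => s.1)
        ⟨(s1 ∩ s2) ∩ u, hu', ⟨⟨hx1, hx2⟩, hxu⟩⟩
    intro y hy
    rcases hab hy with h | h
    · exact h
    · exact absurd h (hub (hsub' hy).2)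
  · right
    have hxv : x ∈ v := (hsub ⟨hx1, hx2⟩).resolve_left hxu
    have hsub' : (⋂ s : { s : Set X // IsClopen s ∧ x ∈ s }, (s : Set X)) ⊆ (s1 ∩ s2) ∩ v :=
      iInter_subset (fun s : { s : Set X // IsClopen s ∧ x ∈ s } => s.1)
        ⟨(s1 ∩ s2) ∩ v, hv', ⟨⟨hx1, hx2⟩, hxv⟩⟩
    intro y hy
    rcases hab hy with h | h
    · exact absurd h (hva (hsub' hy).2)
    · exact h

/-- `ConnectedComponents X` is Hausdorff when `X` is compact, prespectral, quasi-separated. -/
theorem t2Space_connectedComponents (X : Type*) [TopologicalSpace X] [CompactSpace X]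
    [PrespectralSpace X] [QuasiSeparatedSpace X] : T2Space (ConnectedComponents X) := by
  refine ⟨ConnectedComponents.surjective_coe.forall₂.2 fun a b ne => ?_⟩
  rw [ConnectedComponents.coe_ne_coe] at ne
  have h := connectedComponent_disjoint ne
  rw [connectedComponent_eq_iInter_isClopen b, disjoint_iff_inter_eq_empty] at h
  obtain ⟨U, V, hU, ha, hb, rfl⟩ : ∃ (U : Set X) (V : Set (ConnectedComponents X)),
      IsClopen U ∧ connectedComponent a ∩ U = ∅ ∧ connectedComponent b ⊆ U ∧ (↑) ⁻¹' V = U := by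
    have h :=
      (isClosed_connectedComponent (α := X)).isCompact.elim_finite_subfamily_closed
        _ (fun s : { s : Set X // IsClopen s ∧ b ∈ s } => s.2.1.1) h
    obtain ⟨fin_a, ha⟩ := h
    set U : Set X := ⋂ (i : { s // IsClopen s ∧ b ∈ s }) (_ : i ∈ fin_a), i
    have hU : IsClopen U := isClopen_biInter_finset fun i _ => i.2.1
    exact ⟨U, (↑) '' U, hU, ha, subset_iInter₂ fun s _ => s.2.1.connectedComponent_subset s.2.2,
      (connectedComponents_preimage_image U).symm ▸ hU.biUnion_connectedComponent_eq⟩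
  rw [ConnectedComponents.isQuotientMap_coe.isClopen_preimage] at hU
  refine ⟨Vᶜ, V, hU.compl.isOpen, hU.isOpen, ?_, hb mem_connectedComponent, disjoint_compl_left⟩
  exact fun h => flip Set.Nonempty.ne_empty ha ⟨a, mem_connectedComponent, h⟩

end Groth.Agent.Helper7.SpecTop
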