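import Mathlib
import Groth.Agent.Lib.Helper7.SpecTop

set_option autoImplicit false
set_option linter.unusedSectionVars false

/-! helper7: spectral spaces: closed subspaces, products with profinite spaces, and the fibre
product of a spectral space with a profinite space over the space of connected components
(spectral, with the expected space of components; w-local variant). -/

namespace Groth.Agent.Helper7.SpecTop

open Topology Set Filter

universe u

theorem quasiSeparatedSpace_of_isClosedEmbedding {X Y : Type*} [TopologicalSpace X]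
    [TopologicalSpace Y] [QuasiSeparatedSpace X] [PrespectralSpace X] {f : Y → X}
    (hf : IsClosedEmbedding f) : QuasiSeparatedSpace Y := by
  refine ⟨fun U V hUo hUc hVo hVc => ?_⟩
  have key : ∀ W : Set Y, IsOpen W → IsCompact W →
      ∃ W' : Set X, IsOpen W' ∧ IsCompact W' ∧ f ⁻¹' W' = W := by
    intro W hWo hWc
    obtain ⟨W₀, hW₀o, rfl⟩ := hf.isInducing.isOpen_iff.mp hWo
    obtain ⟨W', hc, ho, h1, h2⟩ := PrespectralSpace.exists_isCompact_and_isOpen_between
      (hWc.image hf.continuous) hW₀o (image_preimage_subset f W₀)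
    refine ⟨W', ho, hc, ?_⟩
    apply Subset.antisymm
    · exact preimage_mono h2
    · intro y hy
      exact h1 ⟨y, hy, rfl⟩
  obtain ⟨U', hU'o, hU'c, rfl⟩ := key U hUo hUc
  obtain ⟨V', hV'o, hV'c, rfl⟩ := key V hVo hVc
  rw [← preimage_inter]
  exact hf.isCompact_preimage (QuasiSeparatedSpace.inter_isCompact U' V' hU'o hU'c hV'o hV'c)

theorem spectralSpace_of_isClosedEmbedding {X Y : Type*} [TopologicalSpace X]
    [TopologicalSpace Y] [SpectralSpace X] {f : Y → X}
    (hf : IsClosedEmbedding f) : SpectralSpace Y where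
  __ := hf.quasiSober
  __ := PrespectralSpace.of_isClosedEmbedding f hf
  __ := quasiSeparatedSpace_of_isClosedEmbedding hf
  __ := hf.isEmbedding.t0Space
  __ := hf.compactSpace

theorem prespectralSpace_of_profinite (T : Type*) [TopologicalSpace T] [CompactSpace T] [T2Space T]
    [TotallyDisconnectedSpace T] : PrespectralSpace T :=
  PrespectralSpace.of_isTopologicalBasis isTopologicalBasis_isClopen
    (fun _ hU => hU.isClosed.isCompact)

theorem prespectralSpace_prod (X T : Type*) [TopologicalSpace X] [TopologicalSpace T]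
    [PrespectralSpace X] [PrespectralSpace T] : PrespectralSpace (X × T) :=
  PrespectralSpace.of_isTopologicalBasis
    ((PrespectralSpace.isTopologicalBasis (X := X)).prod
      (PrespectralSpace.isTopologicalBasis (X := T)))
    (by
      rintro _ ⟨U, hU, V, hV, rfl⟩
      exact hU.2.prod hV.2)

theorem quasiSeparatedSpace_prod (X T : Type*) [TopologicalSpace X] [TopologicalSpace T]
    [PrespectralSpace X] [PrespectralSpace T] [QuasiSeparatedSpace X] [QuasiSeparatedSpace T] :
    QuasiSeparatedSpace (X × T) := by
  let ι := {U : Set X // IsOpen U ∧ IsCompact U} × {V : Set T // IsOpen V ∧ IsCompact V}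
  let b : ι → Set (X × T) := fun p => p.1.1 ×ˢ p.2.1
  apply QuasiSeparatedSpace.of_isTopologicalBasis (b := b)
  · have := (PrespectralSpace.isTopologicalBasis (X := X)).prod
      (PrespectralSpace.isTopologicalBasis (X := T))
    convert this using 1
    ext s
    constructor
    · rintro ⟨⟨U, V⟩, rfl⟩
      exact ⟨U.1, U.2, V.1, V.2, rfl⟩
    · rintro ⟨U, hU, V, hV, rfl⟩
      exact ⟨(⟨U, hU⟩, ⟨V, hV⟩), rfl⟩
  · intro i j
    rw [Set.prod_inter_prod]
    exact (QuasiSeparatedSpace.inter_isCompact _ _ i.1.2.1 i.1.2.2 j.1.2.1 j.1.2.2).prod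
      (QuasiSeparatedSpace.inter_isCompact _ _ i.2.2.1 i.2.2.2 j.2.2.1 j.2.2.2)

theorem quasiSober_prod_of_t2 (X T : Type*) [TopologicalSpace X] [TopologicalSpace T]
    [QuasiSober X] [T2Space T] : QuasiSober (X × T) := by
  refine ⟨fun {S} hSi hSc => ?_⟩
  have h2 : (Prod.snd '' S).Subsingleton :=
    (hSi.image Prod.snd continuous_snd.continuousOn).isPreirreducible.subsingleton
  obtain ⟨⟨x0, t⟩, hx0⟩ := hSi.nonempty
  have hS2 : ∀ p ∈ S, p.2 = t := fun p hp => h2 ⟨p, hp, rfl⟩ ⟨_, hx0, rfl⟩
  let i : X → X × T := fun x => (x, t)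
  have hi : Continuous i := by fun_prop
  have hZ'c : IsClosed (i ⁻¹' S) := hSc.preimage hi
  have hZ'eq : i ⁻¹' S = Prod.fst '' S := by
    ext x
    constructor
    · intro hx
      exact ⟨(x, t), hx, rfl⟩
    · rintro ⟨p, hp, rfl⟩
      have := hS2 p hp
      show (p.1, t) ∈ S
      rw [← this]
      exact hp
  have hZ'i : IsIrreducible (i ⁻¹' S) :=
    hZ'eq ▸ hSi.image Prod.fst continuous_fst.continuousOn
  obtain ⟨η, hη⟩ := QuasiSober.sober hZ'i hZ'c
  refine ⟨(η, t), ?_⟩
  rw [IsGenericPoint, ← Set.singleton_prod_singleton, closure_prod_eq, hη.def, closure_singleton]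
  ext p
  constructor
  · rintro ⟨h1, h2⟩
    have h3 : p.2 = t := h2
    have : p = (p.1, t) := by rw [← h3]
    rw [this]
    exact h1
  · intro hp
    have h3 := hS2 p hp
    refine ⟨?_, h3⟩
    show (p.1, t) ∈ S
    rw [← h3]
    exact hp

theorem spectralSpace_prod (X T : Type*) [TopologicalSpace X] [TopologicalSpace T]
    [SpectralSpace X] [CompactSpace T] [T2Space T] [TotallyDisconnectedSpace T] :
    SpectralSpace (X × T) := by
  have : PrespectralSpace T := prespectralSpace_of_profinite T
  exact
  { __ := quasiSober_prod_of_t2 X T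
    __ := prespectralSpace_prod X T
    __ := quasiSeparatedSpace_prod X T
    __ := (inferInstance : T0Space (X × T))
    __ := (inferInstance : CompactSpace (X × T)) }

section Main

variable (X T : Type u) [TopologicalSpace X] [SpectralSpace X]
    [TopologicalSpace T] [CompactSpace T] [T2Space T] [TotallyDisconnectedSpace T]
    (g : C(T, ConnectedComponents X))

theorem isClosed_fibreProduct :
    IsClosed {p : X × T | ConnectedComponents.mk p.1 = g p.2} := by
  have : T2Space (ConnectedComponents X) := t2Space_connectedComponents X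
  exact isClosed_eq (ConnectedComponents.continuous_coe.comp continuous_fst)
    (g.continuous.comp continuous_snd)

theorem spectralSpace_fibreProduct :
    SpectralSpace {p : X × T // ConnectedComponents.mk p.1 = g p.2} := by
  have : SpectralSpace (X × T) := spectralSpace_prod X T
  exact spectralSpace_of_isClosedEmbedding
    (isClosed_fibreProduct X T g).isClosedEmbedding_subtypeVal

theorem fibre_connected (y y' : {p : X × T // ConnectedComponents.mk p.1 = g p.2})
    (h : y.1.2 = y'.1.2) : y' ∈ connectedComponent y := by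
  obtain ⟨⟨x₀, t⟩, hy⟩ := y
  obtain ⟨⟨x₁, t'⟩, hy'⟩ := y'
  obtain rfl : t = t' := h
  have hmem : ∀ x ∈ connectedComponent x₀, ConnectedComponents.mk x = g t := by
    intro x hx
    rw [← hy]
    exact ConnectedComponents.coe_eq_coe'.mpr hx
  let j : connectedComponent x₀ → {p : X × T // ConnectedComponents.mk p.1 = g p.2} :=
    fun x => ⟨(x.1, t), hmem x.1 x.2⟩
  have hj : Continuous j := by
    apply Continuous.subtype_mk
    fun_prop
  have : PreconnectedSpace (connectedComponent x₀) :=
    Subtype.preconnectedSpace isPreconnected_connectedComponent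
  have hr : IsPreconnected (range j) := isPreconnected_range hj
  have h0 : (⟨(x₀, t), hy⟩ : {p : X × T // ConnectedComponents.mk p.1 = g p.2}) ∈ range j :=
    ⟨⟨x₀, mem_connectedComponent⟩, rfl⟩
  have h1 : (⟨(x₁, t), hy'⟩ : {p : X × T // ConnectedComponents.mk p.1 = g p.2}) ∈ range j := by
    have : x₁ ∈ connectedComponent x₀ := by
      apply ConnectedComponents.coe_eq_coe'.mp
      rw [hy', hy]
    exact ⟨⟨x₁, this⟩, rfl⟩
  exact hr.subset_connectedComponent h0 h1

theorem exists_homeomorph_fibreProduct :
    ∃ e : ConnectedComponents {p : X × T // ConnectedComponents.mk p.1 = g p.2} ≃ₜ T,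
      ∀ y : {p : X × T // ConnectedComponents.mk p.1 = g p.2},
        e (ConnectedComponents.mk y) = y.1.2 := by
  have hS := spectralSpace_fibreProduct X T g
  let p2 : {p : X × T // ConnectedComponents.mk p.1 = g p.2} → T := fun y => y.1.2
  have hp2 : Continuous p2 := by fun_prop
  let l := hp2.connectedComponentsLift
  have hl : Continuous l := hp2.connectedComponentsLift_continuous
  have hlc : ∀ y, l (ConnectedComponents.mk y) = y.1.2 := fun y =>
    hp2.connectedComponentsLift_apply_coe y
  have hbij : Function.Bijective l := by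
    constructor
    · refine ConnectedComponents.surjective_coe.forall₂.2 fun a b hab => ?_
      change l (ConnectedComponents.mk a) = l (ConnectedComponents.mk b) at hab
      rw [hlc, hlc] at hab
      exact (ConnectedComponents.coe_eq_coe'.mpr (fibre_connected X T g a b hab)).symm
    · intro t
      obtain ⟨x, hx⟩ := ConnectedComponents.surjective_coe (g t)
      exact ⟨ConnectedComponents.mk ⟨(x, t), hx⟩, hlc _⟩
  refine ⟨Continuous.homeoOfEquivCompactToT2 (f := Equiv.ofBijective l hbij) hl, fun y => ?_⟩
  exact hlc y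

end Main


section WLocal

variable (X T : Type u) [TopologicalSpace X] [SpectralSpace X]
    [TopologicalSpace T] [CompactSpace T] [T2Space T] [TotallyDisconnectedSpace T]
    (g : C(T, ConnectedComponents X))

theorem isClosed_singleton_iff_forall_specializes {Z : Type*} [TopologicalSpace Z] (y : Z) :
    IsClosed ({y} : Set Z) ↔ ∀ y', y ⤳ y' → y' = y := by
  constructor
  · intro h y' hy'
    have := specializes_iff_mem_closure.mp hy'
    rw [h.closure_eq] at this
    exact this
  · intro h
    rw [← closure_subset_iff_isClosed]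
    intro y' hy'
    exact h y' (specializes_iff_mem_closure.mpr hy')

theorem mk_eq_of_specializes {x x' : X} (h : x ⤳ x') :
    ConnectedComponents.mk x' = ConnectedComponents.mk x := by
  apply ConnectedComponents.coe_eq_coe'.mpr
  have h1 : IsPreconnected (closure ({x} : Set X)) := isPreconnected_singleton.closure
  exact h1.subset_connectedComponent (subset_closure rfl) (specializes_iff_mem_closure.mp h)

theorem specializes_fibreProduct_iff
    (y y' : {p : X × T // ConnectedComponents.mk p.1 = g p.2}) :
    y ⤳ y' ↔ y.1.1 ⤳ y'.1.1 ∧ y.1.2 = y'.1.2 := by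
  rw [subtype_specializes_iff]
  obtain ⟨⟨x, t⟩, h⟩ := y
  obtain ⟨⟨x', t'⟩, h'⟩ := y'
  simp only [specializes_prod, specializes_iff_eq]

theorem isClosed_singleton_fibreProduct_iff
    (y : {p : X × T // ConnectedComponents.mk p.1 = g p.2}) :
    IsClosed ({y} : Set _) ↔ IsClosed ({y.1.1} : Set X) := by
  rw [isClosed_singleton_iff_forall_specializes, isClosed_singleton_iff_forall_specializes]
  constructor
  · intro h x' hx'
    have hmem : ConnectedComponents.mk x' = g y.1.2 := by
      rw [mk_eq_of_specializes X hx']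
      exact y.2
    have := h ⟨(x', y.1.2), hmem⟩
      ((specializes_fibreProduct_iff X T g y ⟨(x', y.1.2), hmem⟩).mpr ⟨hx', rfl⟩)
    exact congrArg (fun z : {p : X × T // ConnectedComponents.mk p.1 = g p.2} => z.1.1) this
  · intro h y' hy'
    obtain ⟨h1, h2⟩ := (specializes_fibreProduct_iff X T g y y').mp hy'
    have h3 := h _ h1
    apply Subtype.ext
    apply Prod.ext
    · exact h3
    · exact h2.symm

theorem isSpectralMap_fst :
    IsSpectralMap (fun y : {p : X × T // ConnectedComponents.mk p.1 = g p.2} => y.1.1) := by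
  refine ⟨by fun_prop, fun s hso hsc => ?_⟩
  have h1 : IsCompact (s ×ˢ (univ : Set T)) := hsc.prod isCompact_univ
  have h2 := (isClosed_fibreProduct X T g).isClosedEmbedding_subtypeVal.isCompact_preimage h1
  have h3 : (fun y : {p : X × T // ConnectedComponents.mk p.1 = g p.2} => y.1.1) ⁻¹' s =
      (Subtype.val : {p : X × T // ConnectedComponents.mk p.1 = g p.2} → X × T) ⁻¹'
        (s ×ˢ (univ : Set T)) := by
    ext y
    simp
  rw [h3]
  exact h2

theorem wLocal_fibreProduct
    (hc : IsClosed {x : X | IsClosed ({x} : Set X)})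
    (hu : ∀ x : X, ∃! y : X, IsClosed ({y} : Set X) ∧ x ⤳ y) :
    IsClosed {y : {p : X × T // ConnectedComponents.mk p.1 = g p.2} | IsClosed ({y} : Set _)} ∧
    (∀ y : {p : X × T // ConnectedComponents.mk p.1 = g p.2}, ∃! y', IsClosed ({y'} : Set _) ∧
      y ⤳ y') ∧
    {y : {p : X × T // ConnectedComponents.mk p.1 = g p.2} | IsClosed ({y} : Set _)} =
      (fun y : {p : X × T // ConnectedComponents.mk p.1 = g p.2} => y.1.1) ⁻¹'
        {x : X | IsClosed ({x} : Set X)} := by
  have h3 : {y : {p : X × T // ConnectedComponents.mk p.1 = g p.2} | IsClosed ({y} : Set _)} =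
      (fun y : {p : X × T // ConnectedComponents.mk p.1 = g p.2} => y.1.1) ⁻¹'
        {x : X | IsClosed ({x} : Set X)} := by
    ext y
    exact isClosed_singleton_fibreProduct_iff X T g y
  refine ⟨?_, ?_, h3⟩
  · rw [h3]
    exact hc.preimage (by fun_prop)
  · intro y
    obtain ⟨x', ⟨hx'c, hx's⟩, hx'u⟩ := hu y.1.1
    have hmem : ConnectedComponents.mk x' = g y.1.2 := by
      rw [mk_eq_of_specializes X hx's]
      exact y.2
    refine ⟨⟨(x', y.1.2), hmem⟩, ⟨?_, ?_⟩, ?_⟩
    · exact (isClosed_singleton_fibreProduct_iff X T g _).mpr hx'c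
    · exact (specializes_fibreProduct_iff X T g y _).mpr ⟨hx's, rfl⟩
    · rintro y'' ⟨hc'', hs''⟩
      obtain ⟨h1, h2⟩ := (specializes_fibreProduct_iff X T g y y'').mp hs''
      have h4 := hx'u y''.1.1 ⟨(isClosed_singleton_fibreProduct_iff X T g _).mp hc'', h1⟩
      apply Subtype.ext
      apply Prod.ext
      · exact h4
      · exact h2.symm

end WLocal

end Groth.Agent.Helper7.SpecTop
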