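import Mathlib
import Groth.Agent.Lib.Helper7.AWN3

/-! helper7: seminormal and absolutely weakly normal rings: uniqueness is automatic in reduced
rings. -/

namespace Groth.Agent.Helper7.SN
open Groth.Agent.Helper7.AWN
universe u

section uniq
variable {B : Type u} [CommRing B]

/-- equality in a reduced ring can be tested in fields -/
lemma eq_of_forall_field [IsReduced B] (a b : B)
    (h : ∀ (K : Type u) [Field K] (j : B →+* K), j a = j b) : a = b := by
  rw [← sub_eq_zero]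
  have : a - b ∈ nilradical B := by
    rw [nilradical_eq_sInf, Ideal.mem_sInf]
    intro q hq
    have : q.IsPrime := hq
    obtain ⟨K, _, _, j, hj⟩ := exists_algClosed_point q
    rw [← hj, RingHom.mem_ker, map_sub, sub_eq_zero]
    exact h K j
  rw [nilradical_eq_zero, Ideal.zero_eq_bot, Ideal.mem_bot] at this
  exact this

lemma eq_of_sq_cube [IsReduced B] (a b : B) (h2 : a ^ 2 = b ^ 2) (h3 : a ^ 3 = b ^ 3) : a = b := by
  apply eq_of_forall_field
  intro K _ j
  apply Groth.Agent.Helper7.UHEx.field_eq_of_sq_cube (x := j (a ^ 2)) (y := j (a ^ 3))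
  · rw [map_pow]
  · rw [map_pow]
  · rw [h2, map_pow]
  · rw [h3, map_pow]

lemma eq_of_pow_mul [IsReduced B] (p : ℕ) (hp : p.Prime) (a b : B) (h2 : a ^ p = b ^ p)
    (h3 : (p : B) * a = (p : B) * b) : a = b := by
  apply eq_of_forall_field
  intro K _ j
  apply Groth.Agent.Helper7.UHEx2.field_eq_of_pow_mul hp (x := j (a ^ p)) (y := j ((p : B) * a))
  · rw [map_pow]
  · rw [map_mul, map_natCast]
  · rw [h2, map_pow]
  · rw [h3, map_mul, map_natCast]

theorem sn_iff : HTop.IsSeminormalRing B ↔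
    IsReduced B ∧ ∀ x y : B, x ^ 3 = y ^ 2 → ∃ a : B, x = a ^ 2 ∧ y = a ^ 3 := by
  constructor
  · intro h
    refine ⟨isReduced_of_isSeminormalRing h, fun x y hxy => ?_⟩
    obtain ⟨a, ha, -⟩ := h x y hxy
    exact ⟨a, ha⟩
  · rintro ⟨hred, h⟩ x y hxy
    obtain ⟨a, ha1, ha2⟩ := h x y hxy
    refine ⟨a, ⟨ha1, ha2⟩, ?_⟩
    rintro b ⟨hb1, hb2⟩
    exact eq_of_sq_cube b a (hb1.symm.trans ha1) (hb2.symm.trans ha2)

theorem awn_iff : HTop.IsAWNRing B ↔
    HTop.IsSeminormalRing B ∧ ∀ p : ℕ, p.Prime → ∀ x y : B, (p : B) ^ p * x = y ^ p →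
      ∃ a : B, x = a ^ p ∧ y = (p : B) * a := by
  constructor
  · intro h
    refine ⟨h.1, fun p hp x y hxy => ?_⟩
    obtain ⟨a, ha, -⟩ := h.2 p hp x y hxy
    exact ⟨a, ha⟩
  · rintro ⟨hsn, h⟩
    refine ⟨hsn, ?_⟩
    intro p hp x y hxy
    have hred := isReduced_of_isSeminormalRing hsn
    obtain ⟨a, ha1, ha2⟩ := h p hp x y hxy
    refine ⟨a, ⟨ha1, ha2⟩, ?_⟩
    rintro b ⟨hb1, hb2⟩
    exact eq_of_pow_mul p hp b a (hb1.symm.trans ha1) (hb2.symm.trans ha2)

end uniq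

end Groth.Agent.Helper7.SN
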