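import Mathlib
import Groth.Agent.Lib.Helper7.SNLib

/-! helper7: seminormality and absolute weak normality pass to localizations away from an
element. -/

namespace Groth.Agent.Helper7.SN
open Groth.Agent.Helper7.AWN
universe u

section loc
variable {A S : Type u} [CommRing A] [CommRing S] [Algebra A S] (f : A) [IsLocalization.Away f S]

omit [IsLocalization.Away f S] in
lemma rep_mono (z : S) (n : ℕ) (a : A) (h : z * algebraMap A S f ^ n = algebraMap A S a)
    (n' : ℕ) (hn : n ≤ n') :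
    z * algebraMap A S f ^ n' = algebraMap A S (a * f ^ (n' - n)) := by
  obtain ⟨d, rfl⟩ := Nat.exists_eq_add_of_le hn
  rw [Nat.add_sub_cancel_left, map_mul, map_pow, ← h, pow_add, mul_assoc]

include f in
lemma isReduced_away [IsReduced A] : IsReduced S :=
  isReduced_localizationPreserves (Submonoid.powers f) S inferInstance

/-- representatives for a cuspidal pair -/
lemma exists_rep23 (x y : S) (hxy : x ^ 3 = y ^ 2) :
    ∃ (N : ℕ) (x₂ y₂ : A), algebraMap A S x₂ = x * algebraMap A S f ^ (2 * N) ∧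
      algebraMap A S y₂ = y * algebraMap A S f ^ (3 * N) ∧ x₂ ^ 3 = y₂ ^ 2 := by
  obtain ⟨k, x₀, hx₀⟩ := IsLocalization.Away.surj f x
  obtain ⟨l, y₀, hy₀⟩ := IsLocalization.Away.surj f y
  set u := algebraMap A S f with hu
  have hx₁ := rep_mono f x k x₀ hx₀ (2 * (k + l)) (by omega)
  have hy₁ := rep_mono f y l y₀ hy₀ (3 * (k + l)) (by omega)
  set x₁ := x₀ * f ^ (2 * (k + l) - k) with hx₁def
  set y₁ := y₀ * f ^ (3 * (k + l) - l) with hy₁def
  have h0 : algebraMap A S (x₁ ^ 3) = algebraMap A S (y₁ ^ 2) := by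
    rw [map_pow, map_pow, ← hx₁, ← hy₁, mul_pow, mul_pow, hxy, ← pow_mul, ← pow_mul]
    congr 2
    ring
  obtain ⟨m, hm⟩ := IsLocalization.Away.exists_of_eq f h0
  refine ⟨k + l + m, f ^ (2 * m) * x₁, f ^ (3 * m) * y₁, ?_, ?_, ?_⟩
  · rw [map_mul, map_pow, ← hx₁, ← hu]
    have : 2 * (k + l + m) = 2 * m + 2 * (k + l) := by ring
    rw [this, pow_add]
    ring
  · rw [map_mul, map_pow, ← hy₁, ← hu]
    have : 3 * (k + l + m) = 3 * m + 3 * (k + l) := by ring
    rw [this, pow_add]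
    ring
  · have e1 : (f ^ (2 * m) * x₁) ^ 3 = f ^ (5 * m) * (f ^ m * x₁ ^ 3) := by
      rw [mul_pow, ← pow_mul, ← mul_assoc, ← pow_add]
      congr 2
      ring
    have e2 : (f ^ (3 * m) * y₁) ^ 2 = f ^ (5 * m) * (f ^ m * y₁ ^ 2) := by
      rw [mul_pow, ← pow_mul, ← mul_assoc, ← pow_add]
      congr 2
      ring
    rw [e1, e2, hm]

lemma unit_pow_mul_inv (u v : S) (h : u * v = 1) (n : ℕ) : u ^ n * v ^ n = 1 := by
  rw [← mul_pow, h, one_pow]

include f in
theorem isSeminormalRing_away (hA : HTop.IsSeminormalRing A) : HTop.IsSeminormalRing S := by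
  rw [sn_iff] at hA ⊢
  obtain ⟨hred, hex⟩ := hA
  refine ⟨isReduced_away f, ?_⟩
  intro x y hxy
  obtain ⟨N, x₂, y₂, hx₂, hy₂, h⟩ := exists_rep23 f x y hxy
  obtain ⟨a, ha1, ha2⟩ := hex x₂ y₂ h
  obtain ⟨v, hv⟩ := (IsLocalization.Away.algebraMap_isUnit (S := S) f).exists_right_inv
  refine ⟨algebraMap A S a * v ^ N, ?_, ?_⟩
  · have h1 : algebraMap A S a ^ 2 = x * algebraMap A S f ^ (2 * N) := by
      rw [← map_pow, ← ha1, hx₂]
    rw [mul_pow, h1, ← pow_mul, mul_comm N 2, mul_assoc, unit_pow_mul_inv _ _ hv, mul_one]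
  · have h1 : algebraMap A S a ^ 3 = y * algebraMap A S f ^ (3 * N) := by
      rw [← map_pow, ← ha2, hy₂]
    rw [mul_pow, h1, ← pow_mul, mul_comm N 3, mul_assoc, unit_pow_mul_inv _ _ hv, mul_one]

/-- representatives for the second kind of pair -/
lemma exists_repp (p : ℕ) (hp : 0 < p) (x y : S) (hxy : (p : S) ^ p * x = y ^ p) :
    ∃ (N : ℕ) (x₂ y₂ : A), algebraMap A S x₂ = x * algebraMap A S f ^ (p * N) ∧
      algebraMap A S y₂ = y * algebraMap A S f ^ N ∧ (p : A) ^ p * x₂ = y₂ ^ p := by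
  obtain ⟨k, x₀, hx₀⟩ := IsLocalization.Away.surj f x
  obtain ⟨l, y₀, hy₀⟩ := IsLocalization.Away.surj f y
  set u := algebraMap A S f with hu
  have hkp : k ≤ p * (k + l) := by
    calc k ≤ k + l := Nat.le_add_right _ _
      _ = 1 * (k + l) := (one_mul _).symm
      _ ≤ p * (k + l) := Nat.mul_le_mul_right _ hp
  have hx₁ := rep_mono f x k x₀ hx₀ (p * (k + l)) hkp
  have hy₁ := rep_mono f y l y₀ hy₀ (k + l) (by omega)
  set x₁ := x₀ * f ^ (p * (k + l) - k) with hx₁def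
  set y₁ := y₀ * f ^ (k + l - l) with hy₁def
  have h0 : algebraMap A S ((p : A) ^ p * x₁) = algebraMap A S (y₁ ^ p) := by
    rw [map_mul, map_pow, map_pow, map_natCast, ← hx₁, ← hy₁, mul_pow, ← hxy, ← pow_mul]
    rw [mul_comm (k + l) p]
    ring
  obtain ⟨m, hm⟩ := IsLocalization.Away.exists_of_eq f h0
  refine ⟨k + l + m, f ^ (p * m) * x₁, f ^ m * y₁, ?_, ?_, ?_⟩
  · rw [map_mul, map_pow, ← hx₁, ← hu]
    have : p * (k + l + m) = p * m + p * (k + l) := by ring
    rw [this, pow_add]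
    ring
  · rw [map_mul, map_pow, ← hy₁, ← hu]
    have : (k + l + m) = m + (k + l) := by ring
    rw [this, pow_add]
    ring
  · obtain ⟨d, hd⟩ : ∃ d, p * m = d + m := ⟨p * m - m, by
      have : m ≤ p * m := by
        calc m = 1 * m := (one_mul _).symm
          _ ≤ p * m := Nat.mul_le_mul_right _ hp
      omega⟩
    have e1 : (p : A) ^ p * (f ^ (p * m) * x₁) = f ^ d * (f ^ m * ((p : A) ^ p * x₁)) := by
      rw [hd, pow_add]; ring
    have e2 : (f ^ m * y₁) ^ p = f ^ d * (f ^ m * y₁ ^ p) := by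
      rw [mul_pow, ← pow_mul, mul_comm m p, hd, pow_add]; ring
    rw [e1, e2, hm]

include f in
theorem isAWNRing_away (hA : HTop.IsAWNRing A) : HTop.IsAWNRing S := by
  rw [awn_iff] at hA ⊢
  obtain ⟨hsn, hex⟩ := hA
  refine ⟨isSeminormalRing_away f hsn, ?_⟩
  intro p hp x y hxy
  obtain ⟨N, x₂, y₂, hx₂, hy₂, h⟩ := exists_repp f p hp.pos x y hxy
  obtain ⟨a, ha1, ha2⟩ := hex p hp x₂ y₂ h
  obtain ⟨v, hv⟩ := (IsLocalization.Away.algebraMap_isUnit (S := S) f).exists_right_inv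
  refine ⟨algebraMap A S a * v ^ N, ?_, ?_⟩
  · have h1 : algebraMap A S a ^ p = x * algebraMap A S f ^ (p * N) := by
      rw [← map_pow, ← ha1, hx₂]
    rw [mul_pow, h1, ← pow_mul, mul_comm N p, mul_assoc, unit_pow_mul_inv _ _ hv, mul_one]
  · have h1 : (p : S) * algebraMap A S a = y * algebraMap A S f ^ N := by
      rw [← hy₂, ha2, map_mul, map_natCast]
    rw [← mul_assoc, h1, mul_assoc, unit_pow_mul_inv _ _ hv, mul_one]

end loc

end Groth.Agent.Helper7.SN
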