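import Mathlib
import Groth.Agent.Lib.Helper7.AWN4
import Groth.Agent.Lib.Helper7.SNLoc

/-! helper7: base change of universal homeomorphisms of rings, the epimorphism property and the
recognition of absolute weak normalizations. -/

namespace Groth.Agent.Helper7.AWN
open AlgebraicGeometry CategoryTheory TensorProduct
open Groth.Agent.Helper7.FPColim Groth.Agent.Helper7.UHLib Groth.Agent.Helper7.UHLib2
open Groth.Agent.Helper7.UHTower Groth.Agent.Helper7.SN
universe u

section bc
variable (R R' W : Type u) [CommRing R] [CommRing R'] [CommRing W] [Algebra R R'] [Algebra R W]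

/-- base change of a universal homeomorphism -/
theorem uh_baseChange
    (h : FlatMor.IsUnivHomeo (Spec.map (CommRingCat.ofHom (algebraMap R W)))) :
    FlatMor.IsUnivHomeo (Spec.map (CommRingCat.ofHom (algebraMap R' (R' ⊗[R] W)))) := by
  rw [uh_iff_crit] at h ⊢
  obtain ⟨⟨h1, h2⟩, h3⟩ := h
  have : Algebra.IsIntegral R W := ⟨h1⟩
  refine ⟨⟨?_, ?_⟩, ?_⟩
  · exact (inferInstance : Algebra.IsIntegral R' (R' ⊗[R] W)).isIntegral
  · intro K _ ψ₁ ψ₂ hψ
    have hW : ψ₁.comp (Algebra.TensorProduct.includeRight : W →ₐ[R] R' ⊗[R] W).toRingHom =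
        ψ₂.comp (Algebra.TensorProduct.includeRight : W →ₐ[R] R' ⊗[R] W).toRingHom := by
      apply h2
      ext a
      show ψ₁ ((1 : R') ⊗ₜ[R] (algebraMap R W a)) = ψ₂ ((1 : R') ⊗ₜ[R] (algebraMap R W a))
      have e : (1 : R') ⊗ₜ[R] (algebraMap R W a) =
          algebraMap R' (R' ⊗[R] W) (algebraMap R R' a) := by
        calc (1 : R') ⊗ₜ[R] (algebraMap R W a) = (1 : R') ⊗ₜ[R] (a • (1 : W)) := by
              rw [Algebra.algebraMap_eq_smul_one]
          _ = (a • (1 : R')) ⊗ₜ[R] (1 : W) := (TensorProduct.smul_tmul a 1 1).symm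
          _ = (algebraMap R R' a) ⊗ₜ[R] (1 : W) := by rw [Algebra.algebraMap_eq_smul_one]
          _ = algebraMap R' (R' ⊗[R] W) (algebraMap R R' a) := by
              rw [Algebra.TensorProduct.algebraMap_apply]; rfl
      rw [e]
      exact congrArg (fun k => k (algebraMap R R' a)) hψ
    apply RingHom.ext
    intro z
    induction z using TensorProduct.induction_on with
    | zero => rw [map_zero, map_zero]
    | tmul x y =>
      have e : x ⊗ₜ[R] y = algebraMap R' (R' ⊗[R] W) x * (1 : R') ⊗ₜ[R] y := by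
        rw [Algebra.TensorProduct.algebraMap_apply, Algebra.TensorProduct.tmul_mul_tmul]
        simp
      rw [e, map_mul, map_mul]
      congr 1
      · exact congrArg (fun k => k x) hψ
      · exact congrArg (fun k => k y) hW
    | add x y hx hy => rw [map_add, map_add, hx, hy]
  · intro b hb
    rw [nilradical_eq_sInf, Ideal.mem_sInf]
    intro q hq
    have : q.IsPrime := hq
    obtain ⟨K, _, _, j, hj⟩ := exists_algClosed_point q
    -- extend `j ∘ algebraMap R R'` to `W`
    have : (RingHom.ker (j.comp (algebraMap R R'))).IsPrime := RingHom.ker_isPrime _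
    have hle : RingHom.ker (algebraMap R W) ≤ RingHom.ker (j.comp (algebraMap R R')) :=
      h3.trans (nilradical_le_prime _)
    obtain ⟨Q, -, hQ1, hQ2⟩ := Ideal.exists_ideal_over_prime_of_isIntegral
      (S := W) (RingHom.ker (j.comp (algebraMap R R'))) ⊥ hle
    obtain ⟨g, hg⟩ := exists_extension (algebraMap R W) h1 (j.comp (algebraMap R R')) Q hQ2.symm
    let _ : Algebra R K := (j.comp (algebraMap R R')).toAlgebra
    let J : R' →ₐ[R] K := { j with commutes' := fun a => rfl }
    let G : W →ₐ[R] K := { g with commutes' := fun a => congrArg (fun k => k a) hg }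
    let Θ : R' ⊗[R] W →ₐ[R] K := Algebra.TensorProduct.productMap J G
    have hΘ : Θ (algebraMap R' (R' ⊗[R] W) b) = j b := by
      rw [Algebra.TensorProduct.algebraMap_apply]
      show Θ (b ⊗ₜ[R] (1 : W)) = j b
      rw [Algebra.TensorProduct.productMap_apply_tmul, map_one, mul_one]
      rfl
    have : j b = 0 := by
      rw [← hΘ, (RingHom.mem_ker).mp hb, map_zero]
    rw [← hj]
    exact this

end bc

section epi
variable {A B M : Type u} [CommRing A] [CommRing B] [CommRing M]

/-- maps inducing universal homeomorphisms are epimorphisms towards reduced rings -/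
theorem uh_epi_reduced (φ : A →+* B)
    (h : FlatMor.IsUnivHomeo (Spec.map (CommRingCat.ofHom φ))) [IsReduced M]
    (l₁ l₂ : B →+* M) (hl : l₁.comp φ = l₂.comp φ) : l₁ = l₂ := by
  have hcrit := ((uh_iff_crit φ).mp h).1
  ext b
  apply eq_of_forall_field
  intro K _ j
  have : (j.comp l₁) = (j.comp l₂) := by
    apply hcrit.2
    rw [RingHom.comp_assoc, RingHom.comp_assoc, hl]
  exact congrArg (fun k => k b) this

/-- a universal homeomorphism to an absolutely weakly normal ring is an absolute weak
normalization -/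
theorem isRingAWN_of_uh_awn (ψ : A →+* B)
    (h : FlatMor.IsUnivHomeo (Spec.map (CommRingCat.ofHom ψ))) (hB : HTop.IsAWNRing B) :
    HTop.IsRingAWN ψ := by
  obtain ⟨W, _, φ, hφ⟩ := exists_awn A
  obtain ⟨χ, hχ, -⟩ := hφ.2 _ _ h
  exact isRingAWN_of_bijective φ hφ ψ h χ hχ ((main7423 φ hφ ψ h χ hχ).mpr hB)

/-- comparison of two absolute weak normalizations -/
theorem bijective_of_isRingAWN {W W' : Type u} [CommRing W] [CommRing W'] (φ : A →+* W)
    (φ' : A →+* W') (hφ : HTop.IsRingAWN φ) (hφ' : HTop.IsRingAWN φ') (χ : W →+* W')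
    (hχ : χ.comp φ = φ') : Function.Bijective χ :=
  (main7423 φ' hφ' φ hφ.1 χ hχ).mpr (isAWNRing_of_final φ hφ)

end epi

end Groth.Agent.Helper7.AWN
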