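import Mathlib
import Groth.Agent.Lib.Helper7.AWN6

/-! helper7: a functorial choice of absolute weak normalizations of rings, compatible with
localization away from an element. -/

namespace Groth.Agent.Helper7.AWNFun
open AlgebraicGeometry CategoryTheory TensorProduct
open Groth.Agent.Helper7.AWN Groth.Agent.Helper7.SN
universe u

section choice
variable (R : Type u) [CommRing R]

/-- a chosen absolute weak normalization -/
noncomputable def Wt : Type u := (exists_awn R).choose

noncomputable instance instCommRingWt : CommRing (Wt R) := (exists_awn R).choose_spec.choose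

/-- the structure map -/
noncomputable def φ : R →+* Wt R := (exists_awn R).choose_spec.choose_spec.choose

lemma φ_awn : HTop.IsRingAWN (φ R) := (exists_awn R).choose_spec.choose_spec.choose_spec

noncomputable instance instAlgebraWt : Algebra R (Wt R) := (φ R).toAlgebra

lemma isAWNRing_Wt : HTop.IsAWNRing (Wt R) := isAWNRing_of_final (φ R) (φ_awn R)

instance isReduced_Wt : IsReduced (Wt R) := isReduced_of_isSeminormalRing (isAWNRing_Wt R).1

end choice

section map
variable (R R' : Type u) [CommRing R] [CommRing R'] [Algebra R R']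

/-- the base change -/
abbrev T : Type u := R' ⊗[R] Wt R

lemma uh_T : FlatMor.IsUnivHomeo (Spec.map (CommRingCat.ofHom (algebraMap R' (T R R')))) :=
  uh_baseChange R R' (Wt R) (φ_awn R).1

/-- the comparison map -/
noncomputable def χ : T R R' →+* Wt R' :=
  ((φ_awn R').2 (T R R') (algebraMap R' (T R R')) (uh_T R R')).exists.choose

lemma χ_comp : (χ R R').comp (algebraMap R' (T R R')) = φ R' :=
  ((φ_awn R').2 (T R R') (algebraMap R' (T R R')) (uh_T R R')).exists.choose_spec

/-- the induced map -/
noncomputable def mapW' : Wt R →+* Wt R' :=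
  (χ R R').comp (Algebra.TensorProduct.includeRight : Wt R →ₐ[R] T R R').toRingHom

lemma mapW'_comp : (mapW' R R').comp (φ R) = (φ R').comp (algebraMap R R') := by
  ext a
  show χ R R' ((1 : R') ⊗ₜ[R] (algebraMap R (Wt R) a)) = φ R' (algebraMap R R' a)
  rw [← χ_comp R R']
  show _ = χ R R' (algebraMap R' (T R R') (algebraMap R R' a))
  congr 1
  calc (1 : R') ⊗ₜ[R] (algebraMap R (Wt R) a) = (1 : R') ⊗ₜ[R] (a • (1 : Wt R)) := by
        rw [Algebra.algebraMap_eq_smul_one]
    _ = (a • (1 : R')) ⊗ₜ[R] (1 : Wt R) := (TensorProduct.smul_tmul a 1 1).symm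
    _ = (algebraMap R R' a) ⊗ₜ[R] (1 : Wt R) := by rw [Algebra.algebraMap_eq_smul_one]
    _ = algebraMap R' (T R R') (algebraMap R R' a) := by
        rw [Algebra.TensorProduct.algebraMap_apply]; rfl

lemma mapW'_unique (l : Wt R →+* Wt R') (hl : l.comp (φ R) = (φ R').comp (algebraMap R R')) :
    l = mapW' R R' :=
  uh_epi_reduced (φ R) (φ_awn R).1 l (mapW' R R') (hl.trans (mapW'_comp R R').symm)

end map

section loc
variable (R R' : Type u) [CommRing R] [CommRing R'] [Algebra R R']

attribute [local instance] Algebra.TensorProduct.rightAlgebra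

lemma χ_bijective (r : R) [IsLocalization.Away r R'] : Function.Bijective (χ R R') := by
  have h1 : IsLocalization (Algebra.algebraMapSubmonoid (Wt R) (Submonoid.powers r)) (T R R') :=
    (Algebra.isLocalization_iff_isPushout (Submonoid.powers r) R').mpr inferInstance
  have h2 : Algebra.algebraMapSubmonoid (Wt R) (Submonoid.powers r) =
      Submonoid.powers (algebraMap R (Wt R) r) := by
    unfold Algebra.algebraMapSubmonoid
    rw [Submonoid.map_powers]
  rw [h2] at h1
  have h3 : IsLocalization.Away (algebraMap R (Wt R) r) (T R R') := h1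
  have hT : HTop.IsAWNRing (T R R') := isAWNRing_away (algebraMap R (Wt R) r) (isAWNRing_Wt R)
  have hawn : HTop.IsRingAWN (algebraMap R' (T R R')) :=
    isRingAWN_of_uh_awn _ (uh_T R R') hT
  exact bijective_of_isRingAWN _ _ hawn (φ_awn R') (χ R R') (χ_comp R R')

/-- the absolute weak normalization commutes with localization away from an element -/
theorem isLocalization_mapW' (r : R) [IsLocalization.Away r R'] :
    @IsLocalization.Away (Wt R) _ (φ R r) (Wt R') _ (mapW' R R').toAlgebra := by
  have h1 : IsLocalization (Algebra.algebraMapSubmonoid (Wt R) (Submonoid.powers r)) (T R R') :=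
    (Algebra.isLocalization_iff_isPushout (Submonoid.powers r) R').mpr inferInstance
  have h2 : Algebra.algebraMapSubmonoid (Wt R) (Submonoid.powers r) =
      Submonoid.powers (algebraMap R (Wt R) r) := by
    unfold Algebra.algebraMapSubmonoid
    rw [Submonoid.map_powers]
  rw [h2] at h1
  let _ : Algebra (Wt R) (Wt R') := (mapW' R R').toAlgebra
  let e : T R R' ≃+* Wt R' := RingEquiv.ofBijective (χ R R') (χ_bijective R R' r)
  let e' : T R R' ≃ₐ[Wt R] Wt R' :=
    { e with
      commutes' := by
        intro w
        rfl }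
  exact IsLocalization.isLocalization_of_algEquiv (Submonoid.powers (algebraMap R (Wt R) r)) e'

end loc

section functor

/-- the induced map for a ring map -/
noncomputable def mapW {R R' : Type u} [CommRing R] [CommRing R'] (ρ : R →+* R') : Wt R →+* Wt R' :=
  @mapW' R R' _ _ ρ.toAlgebra

lemma mapW_comp {R R' : Type u} [CommRing R] [CommRing R'] (ρ : R →+* R') :
    (mapW ρ).comp (φ R) = (φ R').comp ρ :=
  @mapW'_comp R R' _ _ ρ.toAlgebra

lemma mapW_unique {R R' : Type u} [CommRing R] [CommRing R'] (ρ : R →+* R')
    (l : Wt R →+* Wt R') (hl : l.comp (φ R) = (φ R').comp ρ) : l = mapW ρ :=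
  @mapW'_unique R R' _ _ ρ.toAlgebra l hl


/-- localization statement for a ring map -/
theorem isLocalization_mapW {R R' : Type u} [CommRing R] [CommRing R'] (ρ : R →+* R') (r : R)
    (h : @IsLocalization.Away R _ r R' _ ρ.toAlgebra) :
    @IsLocalization.Away (Wt R) _ (φ R r) (Wt R') _ (mapW ρ).toAlgebra :=
  @isLocalization_mapW' R R' _ _ ρ.toAlgebra r h

/-- the absolute weak normalization functor -/
noncomputable def awnFunctor : CommRingCat.{u} ⥤ CommRingCat.{u} where
  obj R := CommRingCat.of (Wt R)
  map f := CommRingCat.ofHom (mapW f.hom)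
  map_id R := by
    apply CommRingCat.hom_ext
    symm
    exact mapW_unique _ _ rfl
  map_comp f g := by
    apply CommRingCat.hom_ext
    symm
    apply mapW_unique
    show ((mapW g.hom).comp (mapW f.hom)).comp (φ _) = (φ _).comp (g.hom.comp f.hom)
    rw [RingHom.comp_assoc, mapW_comp, ← RingHom.comp_assoc, mapW_comp, RingHom.comp_assoc]

/-- the structure transformation -/
noncomputable def η : 𝟭 CommRingCat.{u} ⟶ awnFunctor where
  app R := CommRingCat.ofHom (φ R)
  naturality {R R'} f := by
    apply CommRingCat.hom_ext
    exact (mapW_comp f.hom).symm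

end functor

end Groth.Agent.Helper7.AWNFun
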