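import Mathlib
import Groth.Agent.Lib.Helper7.SNLoc

/-! helper7: gluing elements over a finite cover by basic opens; seminormality and absolute weak
normality are local. -/

namespace Groth.Agent.Helper7.SN
open Groth.Agent.Helper7.AWN
universe u

section glue
variable {A : Type u} [CommRing A]

/-- the comparison maps to the double localization -/
noncomputable abbrev gR (i j : A) : Localization.Away i →+* Localization.Away (i * j) :=
  IsLocalization.Away.awayToAwayRight i j

noncomputable abbrev gL (i j : A) : Localization.Away j →+* Localization.Away (i * j) :=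
  IsLocalization.Away.awayToAwayLeft j i

lemma gR_algebraMap (i j : A) (a : A) :
    gR i j (algebraMap A _ a) = algebraMap A (Localization.Away (i * j)) a :=
  IsLocalization.Away.awayToAwayRight_eq i j a

lemma gL_algebraMap (i j : A) (a : A) :
    gL i j (algebraMap A _ a) = algebraMap A (Localization.Away (i * j)) a :=
  IsLocalization.Away.awayToAwayLeft_eq j i a

lemma glue_step (i j : A) (ai : Localization.Away i) (aj : Localization.Away j)
    (h : gR i j ai = gL i j aj) (m : ℕ) (c : A)
    (hc : aj * algebraMap A (Localization.Away j) j ^ m = algebraMap A _ c) :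
    ∃ N₀ : ℕ, ∀ N, N₀ ≤ N → algebraMap A (Localization.Away i) (j ^ N * c) =
      algebraMap A (Localization.Away i) j ^ (N + m) * ai := by
  obtain ⟨k, c', hc'⟩ := IsLocalization.Away.surj i ai
  have h1 : algebraMap A (Localization.Away (i * j)) (c * i ^ k) =
      algebraMap A (Localization.Away (i * j)) (c' * j ^ m) := by
    have e1 := congrArg (gL i j) hc
    have e2 := congrArg (gR i j) hc'
    rw [map_mul, map_pow, gL_algebraMap, gL_algebraMap] at e1
    rw [map_mul, map_pow, gR_algebraMap, gR_algebraMap] at e2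
    rw [map_mul, map_mul, map_pow, map_pow, ← e1, ← e2, h]
    ring
  obtain ⟨N₀, hN₀⟩ := IsLocalization.Away.exists_of_eq (i * j) h1
  refine ⟨N₀, fun N hN => ?_⟩
  obtain ⟨d, rfl⟩ := Nat.exists_eq_add_of_le hN
  have hN : (i * j) ^ (N₀ + d) * (c * i ^ k) = (i * j) ^ (N₀ + d) * (c' * j ^ m) := by
    calc (i * j) ^ (N₀ + d) * (c * i ^ k) = (i * j) ^ d * ((i * j) ^ N₀ * (c * i ^ k)) := by
          rw [pow_add]; ring
      _ = (i * j) ^ d * ((i * j) ^ N₀ * (c' * j ^ m)) := by rw [hN₀]
      _ = (i * j) ^ (N₀ + d) * (c' * j ^ m) := by rw [pow_add]; ring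
  have h2 := congrArg (algebraMap A (Localization.Away i)) hN
  have hu : IsUnit (algebraMap A (Localization.Away i) i ^ (N₀ + d + k)) :=
    (IsLocalization.Away.algebraMap_isUnit i).pow _
  apply hu.mul_left_cancel
  simp only [map_mul, map_pow] at h2 ⊢
  rw [← hc'] at h2
  calc algebraMap A (Localization.Away i) i ^ (N₀ + d + k) *
        (algebraMap A (Localization.Away i) j ^ (N₀ + d) * algebraMap A (Localization.Away i) c)
      = (algebraMap A (Localization.Away i) i * algebraMap A (Localization.Away i) j) ^ (N₀ + d) *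
        (algebraMap A (Localization.Away i) c * algebraMap A (Localization.Away i) i ^ k) := by
        rw [pow_add (algebraMap A (Localization.Away i) i)]; ring
    _ = (algebraMap A (Localization.Away i) i * algebraMap A (Localization.Away i) j) ^ (N₀ + d) *
        (ai * algebraMap A (Localization.Away i) i ^ k *
          algebraMap A (Localization.Away i) j ^ m) := h2
    _ = algebraMap A (Localization.Away i) i ^ (N₀ + d + k) *
        (algebraMap A (Localization.Away i) j ^ (N₀ + d + m) * ai) := by
        rw [pow_add (algebraMap A (Localization.Away i) i), pow_add _ (N₀ + d) m]; ring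

/-- injectivity of the map to the localizations of a cover -/
lemma eq_of_forall_away (s : Finset A) (hs : Ideal.span (s : Set A) = ⊤) (u v : A)
    (h : ∀ i ∈ s, algebraMap A (Localization.Away i) u = algebraMap A (Localization.Away i) v) :
    u = v := by
  rw [← sub_eq_zero]
  have : u - v ∈ (⊥ : Submodule A A) := by
    apply Submodule.mem_of_span_eq_top_of_smul_pow_mem _ (s : Set A) hs
    rintro ⟨i, hi⟩
    obtain ⟨n, hn⟩ := IsLocalization.Away.exists_of_eq i (h i hi)
    refine ⟨n, ?_⟩
    rw [Submodule.mem_bot, smul_eq_mul, mul_sub, hn, sub_self]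
  exact (Submodule.mem_bot A).mp this

/-- gluing elements of the localizations of a cover -/
theorem glue (s : Finset A) (hs : Ideal.span (s : Set A) = ⊤)
    (a : ∀ i : s, Localization.Away (i : A))
    (hcompat : ∀ i j : s, gR (i : A) (j : A) (a i) = gL (i : A) (j : A) (a j)) :
    ∃ a₀ : A, ∀ i : s, algebraMap A (Localization.Away (i : A)) a₀ = a i := by
  let P := ∀ i : s, Localization.Away (i : A)
  let M' : Submodule A P := LinearMap.range (Algebra.linearMap A P)
  have hmem : (a : P) ∈ M' := by
    apply Submodule.mem_of_span_eq_top_of_smul_pow_mem _ (s : Set A) hs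
    intro j
    obtain ⟨m, c, hc⟩ := IsLocalization.Away.surj (j : A) (a j)
    have hstep := fun i : s => glue_step (i : A) (j : A) (a i) (a j) (hcompat i j) m c hc
    choose N₀ hN₀ using hstep
    let N := Finset.univ.sup N₀
    refine ⟨N + m, algebraMap A A ((j : A) ^ N * c), ?_⟩
    funext i
    have := hN₀ i N (Finset.le_sup (f := N₀) (Finset.mem_univ i))
    show algebraMap A (Localization.Away (i : A)) ((j : A) ^ N * c) = ((j : A) ^ (N + m)) • (a i)
    rw [this, Algebra.smul_def, map_pow]
  obtain ⟨a₀, ha₀⟩ := hmem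
  exact ⟨a₀, fun i => congrFun ha₀ i⟩

lemma isReduced_of_away (s : Finset A) (hs : Ideal.span (s : Set A) = ⊤)
    (h : ∀ i ∈ s, IsReduced (Localization.Away i)) : IsReduced A := by
  constructor
  intro z hz
  apply eq_of_forall_away s hs
  intro i hi
  have := h i hi
  rw [map_zero]
  exact (hz.map (algebraMap A (Localization.Away i))).eq_zero

theorem isSeminormalRing_of_away (s : Finset A) (hs : Ideal.span (s : Set A) = ⊤)
    (h : ∀ i ∈ s, HTop.IsSeminormalRing (Localization.Away i)) : HTop.IsSeminormalRing A := by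
  have hred : IsReduced A :=
    isReduced_of_away s hs fun i hi => isReduced_of_isSeminormalRing (h i hi)
  rw [sn_iff]
  refine ⟨hred, ?_⟩
  intro x y hxy
  have hex : ∀ i : s, ∃ a : Localization.Away (i : A),
      algebraMap A _ x = a ^ 2 ∧ algebraMap A _ y = a ^ 3 := by
    intro i
    obtain ⟨a, ha, -⟩ := h i i.2 (algebraMap A _ x) (algebraMap A _ y) (by
      rw [← map_pow, ← map_pow, hxy])
    exact ⟨a, ha⟩
  choose a ha using hex
  obtain ⟨a₀, ha₀⟩ := glue s hs a (by
    intro i j
    apply eq_of_sq_cube
    · rw [← map_pow, ← map_pow, ← (ha i).1, ← (ha j).1, gR_algebraMap, gL_algebraMap]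
    · rw [← map_pow, ← map_pow, ← (ha i).2, ← (ha j).2, gR_algebraMap, gL_algebraMap])
  refine ⟨a₀, ?_, ?_⟩
  · apply eq_of_forall_away s hs
    intro i hi
    rw [map_pow, ha₀ ⟨i, hi⟩, (ha ⟨i, hi⟩).1]
  · apply eq_of_forall_away s hs
    intro i hi
    rw [map_pow, ha₀ ⟨i, hi⟩, (ha ⟨i, hi⟩).2]

theorem isAWNRing_of_away (s : Finset A) (hs : Ideal.span (s : Set A) = ⊤)
    (h : ∀ i ∈ s, HTop.IsAWNRing (Localization.Away i)) : HTop.IsAWNRing A := by
  have hsn : HTop.IsSeminormalRing A := isSeminormalRing_of_away s hs fun i hi => (h i hi).1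
  have hred : IsReduced A := isReduced_of_isSeminormalRing hsn
  rw [awn_iff]
  refine ⟨hsn, ?_⟩
  intro p hp x y hxy
  have hex : ∀ i : s, ∃ a : Localization.Away (i : A),
      algebraMap A _ x = a ^ p ∧ algebraMap A _ y = (p : Localization.Away (i : A)) * a := by
    intro i
    obtain ⟨a, ha, -⟩ := (h i i.2).2 p hp (algebraMap A _ x) (algebraMap A _ y) (by
      rw [← map_pow, ← hxy, map_mul, map_pow, map_natCast])
    exact ⟨a, ha⟩
  choose a ha using hex
  obtain ⟨a₀, ha₀⟩ := glue s hs a (by
    intro i j
    apply eq_of_pow_mul p hp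
    · rw [← map_pow, ← map_pow, ← (ha i).1, ← (ha j).1, gR_algebraMap, gL_algebraMap]
    · have e1 := congrArg (gR (i : A) (j : A)) (ha i).2
      have e2 := congrArg (gL (i : A) (j : A)) (ha j).2
      rw [gR_algebraMap, map_mul, map_natCast] at e1
      rw [gL_algebraMap, map_mul, map_natCast] at e2
      rw [← e1, ← e2])
  refine ⟨a₀, ?_, ?_⟩
  · apply eq_of_forall_away s hs
    intro i hi
    rw [map_pow, ha₀ ⟨i, hi⟩, (ha ⟨i, hi⟩).1]
  · apply eq_of_forall_away s hs
    intro i hi
    rw [map_mul, map_natCast, ha₀ ⟨i, hi⟩, (ha ⟨i, hi⟩).2]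

end glue

end Groth.Agent.Helper7.SN
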