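import Mathlib
import Groth.Agent.Lib.Helper7.SNGlue

/-! helper7: ring properties local for basic opens hold on all affine opens of a scheme as soon as
they hold on an affine cover; seminormal and absolutely weakly normal schemes. -/

namespace Groth.Agent.Helper7.SN
open Groth.Agent.Helper7.AWN AlgebraicGeometry
universe u

section transfer
variable {B W : Type u} [CommRing B] [CommRing W]

lemma isSeminormalRing_of_bijective (χ : B →+* W) (hχ : Function.Bijective χ)
    (hW : HTop.IsSeminormalRing W) : HTop.IsSeminormalRing B := by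
  let e : B ≃+* W := RingEquiv.ofBijective χ hχ
  intro x y hxy
  obtain ⟨w, ⟨hw1, hw2⟩, hw3⟩ := hW (e x) (e y) (by rw [← map_pow, ← map_pow, hxy])
  refine ⟨e.symm w, ⟨?_, ?_⟩, ?_⟩
  · apply e.injective; rw [map_pow, e.apply_symm_apply, hw1]
  · apply e.injective; rw [map_pow, e.apply_symm_apply, hw2]
  · rintro a ⟨h1, h2⟩
    apply e.injective
    rw [e.apply_symm_apply]
    exact hw3 (e a) ⟨by rw [h1, map_pow], by rw [h2, map_pow]⟩

end transfer

section scheme

/-- a local ring property holds on all affine opens as soon as it holds on an affine cover -/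
theorem affine_of_local (R : ∀ (A : Type u) [CommRing A], Prop)
    (hiso : ∀ (B W : Type u) [CommRing B] [CommRing W] (χ : B →+* W), Function.Bijective χ →
      R W → R B)
    (hloc : ∀ (A S : Type u) [CommRing A] [CommRing S] [Algebra A S] (f : A)
      [IsLocalization.Away f S], R A → R S)
    (hglue : ∀ (A : Type u) [CommRing A] (s : Finset A), Ideal.span (s : Set A) = ⊤ →
      (∀ i ∈ s, R (Localization.Away i)) → R A)
    (X : Scheme.{u}) :
    (∀ x : X, ∃ U : X.affineOpens, x ∈ (U : X.Opens) ∧ R Γ(X, U)) ↔
      ∀ U : X.affineOpens, R Γ(X, U) := by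
  constructor
  · intro h
    choose U hxU hU using h
    have hS : (⨆ x, (U x : X.Opens)) = ⊤ := by
      rw [eq_top_iff]
      intro x _
      exact TopologicalSpace.Opens.mem_iSup.mpr ⟨x, hxU x⟩
    intro V
    induction V using of_affine_open_cover U hS with
    | basicOpen U f hN =>
      have := U.prop.isLocalization_basicOpen f
      exact hloc Γ(X, U) Γ(X, X.basicOpen f) f hN
    | openCover U s hs hN =>
      apply hglue _ s hs
      intro f hf
      have h1 : R Γ(X, X.basicOpen f) := hN ⟨f, hf⟩
      have := U.prop.isLocalization_basicOpen f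
      let hEq := IsLocalization.algEquiv (.powers f) (Localization.Away f) Γ(X, X.basicOpen f)
      exact hiso _ _ hEq.toRingEquiv.toRingHom hEq.toRingEquiv.bijective h1
    | hU i => exact hU i
  · intro h x
    obtain ⟨_, ⟨U, hU, rfl⟩, hxU, -⟩ :=
      X.isBasis_affineOpens.exists_subset_of_mem_open (Set.mem_univ x) isOpen_univ
    exact ⟨⟨U, hU⟩, hxU, h ⟨U, hU⟩⟩

theorem main7420 (X : Scheme.{u}) :
    (HTop.IsSeminormal X ↔ ∀ U : X.affineOpens, HTop.IsSeminormalRing Γ(X, U)) ∧
    (HTop.IsAWN X ↔ ∀ U : X.affineOpens, HTop.IsAWNRing Γ(X, U)) := by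
  constructor
  · exact affine_of_local (fun A _ => HTop.IsSeminormalRing A)
      (fun B W _ _ χ hχ h => isSeminormalRing_of_bijective χ hχ h)
      (fun A S _ _ _ f _ h => isSeminormalRing_away f h)
      (fun A _ s hs h => isSeminormalRing_of_away s hs h) X
  · exact affine_of_local (fun A _ => HTop.IsAWNRing A)
      (fun B W _ _ χ hχ h => isAWNRing_of_bijective χ hχ h)
      (fun A S _ _ _ f _ h => isAWNRing_away f h)
      (fun A _ s hs h => isAWNRing_of_away s hs h) X

end scheme

end Groth.Agent.Helper7.SN
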