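import Mathlib
import Groth.Agent.Lib.Helper7.AWNFun
import Groth.Agent.Lib.Helper7.UHSch3
import Groth.Agent.Lib.Helper7.SNScheme

/-! helper7: construction of the absolute weak normalization of a scheme by relative gluing;
it is a universal homeomorphism from a reduced absolutely weakly normal scheme. -/

namespace Groth.Agent.Helper7.SchAWN
open AlgebraicGeometry CategoryTheory Limits
open AlgebraicGeometry.Scheme.AffineZariskiSite
open Groth.Agent.Helper7.AWNFun
universe u

instance isZariskiLocalAtTarget_isUnivHomeo :
    IsZariskiLocalAtTarget (FlatMor.IsUnivHomeo : MorphismProperty Scheme.{u}) := by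
  unfold FlatMor.IsUnivHomeo
  apply universally_isZariskiLocalAtTarget
  intro X Y f ι U hU H
  simp_rw [topologically, morphismRestrict_base] at H
  exact (hU.isHomeomorph_iff_restrictPreimage f.continuous).mpr H

section general

/-- the ring of sections over the range of an open immersion from an affine scheme -/
lemma isAWNRing_opensRange {Y : Scheme.{u}} {R : CommRingCat.{u}} (j : Spec R ⟶ Y)
    [IsOpenImmersion j] (hR : HTop.IsAWNRing R) : HTop.IsAWNRing Γ(Y, j.opensRange) := by
  let e : Γ(Y, j.opensRange) ≅ R := (IsOpenImmersion.ΓIsoTop j).symm ≪≫ Scheme.ΓSpecIso R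
  have hb : Function.Bijective e.hom.hom :=
    ConcreteCategory.bijective_of_isIso e.hom
  exact AWN.isAWNRing_of_bijective e.hom.hom hb hR

/-- a scheme covered by spectra of absolutely weakly normal rings is absolutely weakly normal -/
lemma isAWN_of_openCover {Y : Scheme.{u}} (𝒰 : Y.OpenCover) (R : 𝒰.I₀ → CommRingCat.{u})
    (e : ∀ i, 𝒰.X i = Spec (R i)) (hR : ∀ i, HTop.IsAWNRing (R i)) : HTop.IsAWN Y := by
  intro y
  obtain ⟨i, z, hz⟩ := 𝒰.exists_eq y
  have key : ∀ (Z : Scheme.{u}) (hZ : Z = Spec (R i)) (j : Z ⟶ Y) [IsOpenImmersion j],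
      y ∈ Set.range j → ∃ U : Y.affineOpens, y ∈ (U : Y.Opens) ∧ HTop.IsAWNRing Γ(Y, U) := by
    intro Z hZ
    subst hZ
    intro j _ hy
    exact ⟨⟨j.opensRange, isAffineOpen_opensRange j⟩, hy, isAWNRing_opensRange j (hR i)⟩
  exact key _ (e i) (𝒰.f i) ⟨z, hz⟩

/-- over an affine open, a universal homeomorphism induces a universal homeomorphism on spectra of
rings of sections -/
lemma isUnivHomeo_specMap_app {X Y : Scheme.{u}} (π : Y ⟶ X) (hπ : FlatMor.IsUnivHomeo π)
    {U : X.Opens} (hU : IsAffineOpen U) (hU' : IsAffineOpen (π ⁻¹ᵁ U)) :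
    FlatMor.IsUnivHomeo (Spec.map (π.app U)) := by
  have hp : IsPullback (Spec.map (π.app U)) hU'.fromSpec hU.fromSpec π := by
    apply IsOpenImmersion.isPullback
    · rw [Scheme.Hom.app_eq_appLE, IsAffineOpen.SpecMap_appLE_fromSpec]
    · rw [IsAffineOpen.opensRange_fromSpec, IsAffineOpen.opensRange_fromSpec]
  exact MorphismProperty.of_isPullback hp.flip hπ

end general

section construction
variable (X : Scheme.{u})

/-- the presheaf of absolute weak normalizations on the affine opens -/
noncomputable def F : X.AffineZariskiSiteᵒᵖ ⥤ CommRingCat.{u} :=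
  ((toOpensFunctor X).op ⋙ X.presheaf) ⋙ awnFunctor

/-- its structure map -/
noncomputable def α : (toOpensFunctor X).op ⋙ X.presheaf ⟶ F X where
  app _ := η.app _
  naturality {_ _} _ := η.naturality _

lemma coequifibered_α : (α X).Coequifibered := by
  refine coequifibered_iff_forall_isLocalizationAway.mpr fun U r => ?_
  exact isLocalization_mapW _ r (U.2.isLocalization_basicOpen r)

/-- the gluing data -/
noncomputable def d : (directedCover X).RelativeGluingData := relativeGluingData (coequifibered_α X)

/-- the absolute weak normalization -/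
noncomputable abbrev awn : Scheme.{u} := (d X).glued

/-- the structure map of the absolute weak normalization -/
noncomputable def ν : awn X ⟶ X := (d X).toBase

lemma natTrans_app (U : X.AffineZariskiSite) :
    (d X).natTrans.app U = Spec.map (CommRingCat.ofHom (φ Γ(X, U.1))) ≫ U.2.isoSpec.inv := rfl

lemma isUnivHomeo_natTrans_app (U : X.AffineZariskiSite) :
    FlatMor.IsUnivHomeo ((d X).natTrans.app U) := by
  rw [natTrans_app]
  exact (MorphismProperty.cancel_right_of_respectsIso (P := FlatMor.IsUnivHomeo) _ _).mpr
    (φ_awn Γ(X, U.1)).1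

theorem isUnivHomeo_ν : FlatMor.IsUnivHomeo (ν X) := by
  apply IsZariskiLocalAtTarget.of_openCover (directedCover X)
  intro U
  have hp := ((d X).isPullback_natTrans_ι_toBase U).flip
  have h1 : hp.isoPullback.hom ≫ pullback.snd _ _ = (d X).natTrans.app U := hp.isoPullback_hom_snd
  have h2 := isUnivHomeo_natTrans_app X U
  rw [← h1] at h2
  exact (MorphismProperty.cancel_left_of_respectsIso (P := FlatMor.IsUnivHomeo) _ _).mp h2

lemma cover_X (U : X.AffineZariskiSite) :
    (d X).cover.X U = Spec (CommRingCat.of (Wt Γ(X, U.1))) := rfl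

instance isReduced_awn : IsReduced (awn X) := by
  have : ∀ U, IsReduced ((d X).cover.X U) := by
    intro U
    rw [cover_X]
    infer_instance
  exact IsReduced.of_openCover _ (d X).cover

theorem isAWN_awn : HTop.IsAWN (awn X) :=
  isAWN_of_openCover (d X).cover (fun U => CommRingCat.of (Wt Γ(X, U.1))) (cover_X X)
    (fun U => isAWNRing_Wt Γ(X, U.1))

end construction

end Groth.Agent.Helper7.SchAWN
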