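import Mathlib
import Groth.Agent.Lib.Helper7.AWNFun
import Groth.Agent.Lib.Helper7.UHSch3
import Groth.Agent.Lib.Helper7.SNScheme
import Groth.Agent.Lib.Helper7.SchAWN

/-! helper7: the universal property of the absolute weak normalization of a scheme. -/

namespace Groth.Agent.Helper7.SchAWN
open AlgebraicGeometry CategoryTheory Limits
open AlgebraicGeometry.Scheme.AffineZariskiSite
open Groth.Agent.Helper7.AWNFun Groth.Agent.Helper7.AWN
universe u

section universal
variable {X Y : Scheme.{u}} (π : Y ⟶ X) (hπ : FlatMor.IsUnivHomeo π)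

include hπ in
lemma isAffineOpen_preimage (U : X.AffineZariskiSite) : IsAffineOpen (π ⁻¹ᵁ U.1) := by
  have := UHSch.isAffineHom_of_isUnivHomeo π hπ
  exact U.2.preimage π

/-- the comparison ring map -/
noncomputable def χU (U : X.AffineZariskiSite) : Γ(Y, π ⁻¹ᵁ U.1) →+* Wt Γ(X, U.1) :=
  ((φ_awn Γ(X, U.1)).2 Γ(Y, π ⁻¹ᵁ U.1) (π.app U.1).hom
    (isUnivHomeo_specMap_app π hπ U.2 (isAffineOpen_preimage π hπ U))).exists.choose

lemma χU_comp (U : X.AffineZariskiSite) :
    (χU π hπ U).comp (π.app U.1).hom = φ Γ(X, U.1) :=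
  ((φ_awn Γ(X, U.1)).2 Γ(Y, π ⁻¹ᵁ U.1) (π.app U.1).hom
    (isUnivHomeo_specMap_app π hπ U.2 (isAffineOpen_preimage π hπ U))).exists.choose_spec

/-- the local pieces of the comparison map -/
noncomputable def ιU (U : X.AffineZariskiSite) : (d X).functor.obj U ⟶ Y :=
  Spec.map (CommRingCat.ofHom (χU π hπ U)) ≫ (isAffineOpen_preimage π hπ U).fromSpec

lemma ιU_naturality {U V : X.AffineZariskiSite} (i : U ⟶ V) :
    (d X).functor.map i ≫ ιU π hπ V = ιU π hπ U := by
  have hle : π ⁻¹ᵁ U.1 ≤ π ⁻¹ᵁ V.1 := π.preimage_mono (toOpens_mono i.le)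
  have h1 := (isAffineOpen_preimage π hπ V).map_fromSpec (isAffineOpen_preimage π hπ U)
    (homOfLE hle).op
  unfold ιU
  rw [← h1]
  show Spec.map ((F X).map i.op) ≫ Spec.map _ ≫ _ = Spec.map _ ≫ Spec.map _ ≫ _
  rw [← Spec.map_comp_assoc, ← Spec.map_comp_assoc]
  congr 2
  apply CommRingCat.hom_ext
  have hred : _root_.IsReduced ((F X).obj (Opposite.op U)) :=
    (inferInstance : _root_.IsReduced (Wt Γ(X, U.1)))
  apply uh_epi_reduced (π.app V.1).hom
    (isUnivHomeo_specMap_app π hπ V.2 (isAffineOpen_preimage π hπ V))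
  have e1 : (CommRingCat.ofHom (χU π hπ V) ≫ (F X).map i.op).hom.comp (π.app V.1).hom
      = (mapW (X.presheaf.map ((toOpensFunctor X).map i).op).hom).comp
        ((χU π hπ V).comp (π.app V.1).hom) := rfl
  have e1' : (mapW (X.presheaf.map ((toOpensFunctor X).map i).op).hom).comp
        ((χU π hπ V).comp (π.app V.1).hom) =
      (φ Γ(X, U.1)).comp (X.presheaf.map ((toOpensFunctor X).map i).op).hom :=
    (congrArg (fun t => (mapW (X.presheaf.map ((toOpensFunctor X).map i).op).hom).comp t)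
      (χU_comp π hπ V)).trans (mapW_comp _)
  have e2 : (Y.presheaf.map (homOfLE hle).op ≫ CommRingCat.ofHom (χU π hπ U)).hom.comp
      (π.app V.1).hom
      = (χU π hπ U).comp ((π.app V.1 ≫ Y.presheaf.map (homOfLE hle).op).hom) := rfl
  have e3 : π.app V.1 ≫ Y.presheaf.map (homOfLE hle).op =
      X.presheaf.map ((toOpensFunctor X).map i).op ≫ π.app U.1 :=
    (π.naturality ((toOpensFunctor X).map i).op).symm
  have e4 : (χU π hπ U).comp ((π.app V.1 ≫ Y.presheaf.map (homOfLE hle).op).hom) =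
      (φ Γ(X, U.1)).comp (X.presheaf.map ((toOpensFunctor X).map i).op).hom := by
    rw [e3]
    show ((χU π hπ U).comp (π.app U.1).hom).comp _ = _
    rw [χU_comp]
    rfl
  exact e1.trans (e1'.trans (e2.trans e4).symm)

instance (X : Scheme.{u}) : ((d X).functor ⋙ Scheme.forget).IsLocallyDirected :=
  Scheme.Cover.RelativeGluingData.instIsLocallyDirectedI₀CompFunctorForgetOfIsThin ..

/-- the comparison map out of the absolute weak normalization -/
noncomputable def desc : awn X ⟶ Y :=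
  colimit.desc (d X).functor
    { pt := Y
      ι := { app := fun U => ιU π hπ U
             naturality := fun U V i => by
               rw [ιU_naturality π hπ i]
               exact (Category.comp_id _).symm } }

lemma ι_desc (U : X.AffineZariskiSite) :
    colimit.ι (d X).functor U ≫ desc π hπ = ιU π hπ U :=
  colimit.ι_desc _ _

lemma ιU_comp (U : X.AffineZariskiSite) :
    ιU π hπ U ≫ π = Spec.map (CommRingCat.ofHom (φ Γ(X, U.1))) ≫ U.2.fromSpec := by
  unfold ιU
  have h0 := IsAffineOpen.SpecMap_appLE_fromSpec π U.2 (isAffineOpen_preimage π hπ U) le_rfl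
  rw [Category.assoc, ← h0]
  have h3 : π.appLE U.1 (π ⁻¹ᵁ U.1) le_rfl ≫ CommRingCat.ofHom (χU π hπ U) =
      CommRingCat.ofHom (φ Γ(X, U.1)) := by
    rw [← Scheme.Hom.app_eq_appLE]
    apply CommRingCat.hom_ext
    exact χU_comp π hπ U
  rw [← h3, Spec.map_comp, Category.assoc]
  rfl

theorem desc_comp : desc π hπ ≫ π = ν X := by
  apply colimit.hom_ext
  intro (U : X.AffineZariskiSite)
  have h1 : colimit.ι (d X).functor U ≫ desc π hπ ≫ π = ιU π hπ U ≫ π := by
    rw [← Category.assoc, ι_desc]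
  have h2 : colimit.ι (d X).functor U ≫ ν X = (d X).natTrans.app U ≫ (directedCover X).f U :=
    (d X).ι_toBase U
  refine h1.trans (Eq.trans ?_ h2.symm)
  rw [ιU_comp, natTrans_app]
  exact (Category.assoc _ _ _).symm

include hπ in
theorem hom_unique (h₁ h₂ : awn X ⟶ Y) (e₁ : h₁ ≫ π = ν X) (e₂ : h₂ ≫ π = ν X) : h₁ = h₂ := by
  have haff := UHSch.isAffineHom_of_isUnivHomeo π hπ
  have hinj : UniversallyInjective π := Groth.Agent.Helper9.UH.universallyInjective_of_isUnivHomeo π hπ
  have hK := ((tfae_universallyInjective π).out 0 1).mp hinj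
  refine ext_of_fromSpecResidueField_eq h₁ h₂ π Set.univ dense_univ ?_ (e₁.trans e₂.symm)
  intro x _
  apply hK ((awn X).residueField x)
  show ((awn X).fromSpecResidueField x ≫ h₁) ≫ π = ((awn X).fromSpecResidueField x ≫ h₂) ≫ π
  rw [Category.assoc, Category.assoc, e₁, e₂]

theorem isAWNormalization_ν : HTop.IsAWNormalization (ν X) := by
  refine ⟨isUnivHomeo_ν X, ?_⟩
  intro Y π hπ
  exact ⟨desc π hπ, desc_comp π hπ, fun h hh => hom_unique π hπ h _ hh (desc_comp π hπ)⟩

end universal

end Groth.Agent.Helper7.SchAWN
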