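import Mathlib
import Groth.Agent.Lib.Helper7.SchAWN2

/-! helper7: characterizations of absolutely weakly normal schemes via the absolute weak
normalization. -/

namespace Groth.Agent.Helper7.SchAWN
open AlgebraicGeometry CategoryTheory Limits
open Groth.Agent.Helper7.AWNFun Groth.Agent.Helper7.AWN
universe u

theorem isUnivHomeo_of_isIso {X Y : Scheme.{u}} (f : X ⟶ Y) [IsIso f] : FlatMor.IsUnivHomeo f :=
  Groth.Agent.Helper9.UH.isUnivHomeo_of f

section ringlevel
variable {A B : Type u} [CommRing A] [CommRing B]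

/-- a universal homeomorphism from an absolutely weakly normal ring to a reduced ring is bijective -/
theorem bijective_of_uh_of_isAWNRing (ψ : A →+* B)
    (h : FlatMor.IsUnivHomeo (Spec.map (CommRingCat.ofHom ψ))) (hA : HTop.IsAWNRing A)
    [IsReduced B] : Function.Bijective ψ := by
  have hid : FlatMor.IsUnivHomeo (Spec.map (CommRingCat.ofHom (RingHom.id A))) := by
    have : IsIso (Spec.map (CommRingCat.ofHom (RingHom.id A))) := by
      have : CommRingCat.ofHom (RingHom.id A) = 𝟙 (CommRingCat.of A) := rfl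
      rw [this]
      infer_instance
    exact isUnivHomeo_of_isIso _
  have hawn : HTop.IsRingAWN (RingHom.id A) := isRingAWN_of_uh_awn _ hid hA
  obtain ⟨χ, hχ, -⟩ := hawn.2 B ψ h
  have h1 : (ψ.comp χ).comp ψ = (RingHom.id B).comp ψ := by
    rw [RingHom.comp_assoc, hχ]
    rfl
  have h2 : ψ.comp χ = RingHom.id B := uh_epi_reduced ψ h _ _ h1
  constructor
  · intro a b hab
    have := congrArg χ hab
    have e : ∀ x, χ (ψ x) = x := fun x => congrArg (fun f => f x) hχ
    rwa [e, e] at this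
  · intro b
    exact ⟨χ b, congrArg (fun f => f b) h2⟩

end ringlevel

section schemelevel
variable {X Y : Scheme.{u}} (f : Y ⟶ X)

/-- a universal homeomorphism inducing bijections on sections over affine opens is an isomorphism -/
theorem isIso_of_forall_bijective_app (hf : FlatMor.IsUnivHomeo f)
    (h : ∀ U : X.affineOpens, Function.Bijective (f.app U.1).hom) : IsIso f := by
  apply UHSch.isIso_of_forall_bijective f hf
  intro U
  rw [morphismRestrict_appTop]
  have hU : IsAffineOpen (U.1.ι ''ᵁ ⊤) := by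
    have : U.1.ι ''ᵁ ⊤ = U.1 := by simp
    rw [this]
    exact U.2
  have h1 := h ⟨_, hU⟩
  have h2 : Function.Bijective (Y.presheaf.map
      (eqToHom (image_morphismRestrict_preimage f U.1 ⊤)).op).hom :=
    ConcreteCategory.bijective_of_isIso _
  exact h2.comp h1

/-- K1: a universal homeomorphism from a reduced scheme to an absolutely weakly normal scheme is an
isomorphism -/
theorem isIso_of_isAWN (hf : FlatMor.IsUnivHomeo f) (hX : HTop.IsAWN X) [IsReduced Y] :
    IsIso f := by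
  apply isIso_of_forall_bijective_app f hf
  intro U
  have hA : HTop.IsAWNRing Γ(X, U.1) := ((SN.main7420 X).2.mp hX) U
  have haff := UHSch.isAffineHom_of_isUnivHomeo f hf
  have hU' : IsAffineOpen (f ⁻¹ᵁ U.1) := U.2.preimage f
  have huh := isUnivHomeo_specMap_app f hf U.2 hU'
  exact bijective_of_uh_of_isAWNRing (f.app U.1).hom huh hA

/-- K2: absolute weak normality is invariant under isomorphism -/
theorem isAWN_of_iso (e : Y ≅ X) (hX : HTop.IsAWN X) : HTop.IsAWN Y := by
  have hall := (SN.main7420 X).2.mp hX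
  intro y
  obtain ⟨_, ⟨U, hU, rfl⟩, hyU, -⟩ :=
    Y.isBasis_affineOpens.exists_subset_of_mem_open (Set.mem_univ y) isOpen_univ
  refine ⟨⟨U, hU⟩, hyU, ?_⟩
  have hV : IsAffineOpen (e.hom ''ᵁ U) := hU.image_of_isOpenImmersion e.hom
  have h1 : HTop.IsAWNRing Γ(X, e.hom ''ᵁ U) := hall ⟨_, hV⟩
  have hb : Function.Bijective (e.hom.appIso U).inv.hom :=
    ConcreteCategory.bijective_of_isIso (e.hom.appIso U).inv
  exact isAWNRing_of_bijective _ hb h1

end schemelevel

section uniqueness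
variable {X X₁ X₂ : Scheme.{u}}

/-- two absolute weak normalizations are isomorphic -/
theorem exists_iso_of_isAWNormalization (ν₁ : X₁ ⟶ X) (ν₂ : X₂ ⟶ X)
    (h₁ : HTop.IsAWNormalization ν₁) (h₂ : HTop.IsAWNormalization ν₂) :
    ∃ e : X₁ ≅ X₂, e.hom ≫ ν₂ = ν₁ := by
  obtain ⟨a, ha, -⟩ := h₁.2 X₂ ν₂ h₂.1
  obtain ⟨b, hb, -⟩ := h₂.2 X₁ ν₁ h₁.1
  obtain ⟨c₁, -, hc₁⟩ := h₁.2 X₁ ν₁ h₁.1
  obtain ⟨c₂, -, hc₂⟩ := h₂.2 X₂ ν₂ h₂.1
  have e1 : a ≫ b = 𝟙 X₁ := by
    rw [hc₁ (a ≫ b) (by beta_reduce; rw [Category.assoc, hb, ha]), hc₁ (𝟙 X₁) (Category.id_comp _)]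
  have e2 : b ≫ a = 𝟙 X₂ := by
    rw [hc₂ (b ≫ a) (by beta_reduce; rw [Category.assoc, ha, hb]), hc₂ (𝟙 X₂) (Category.id_comp _)]
  exact ⟨⟨a, b, e1, e2⟩, ha⟩

theorem isAWN_of_isAWNormalization (ν₁ : X₁ ⟶ X) (h₁ : HTop.IsAWNormalization ν₁) :
    HTop.IsAWN X₁ := by
  obtain ⟨e, -⟩ := exists_iso_of_isAWNormalization ν₁ (ν X) h₁ isAWNormalization_ν
  exact isAWN_of_iso e (isAWN_awn X)

theorem isReduced_of_isAWNormalization (ν₁ : X₁ ⟶ X) (h₁ : HTop.IsAWNormalization ν₁) :
    IsReduced X₁ := by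
  obtain ⟨e, -⟩ := exists_iso_of_isAWNormalization ν₁ (ν X) h₁ isAWNormalization_ν
  exact isReduced_of_isOpenImmersion e.hom

/-- being an absolute weak normalization is invariant under isomorphisms of the source -/
theorem isAWNormalization_of_iso (ν₁ : X₁ ⟶ X) (h₁ : HTop.IsAWNormalization ν₁) (e : X₂ ≅ X₁) :
    HTop.IsAWNormalization (e.hom ≫ ν₁) := by
  refine ⟨UHSch.isUnivHomeo_comp _ _ (isUnivHomeo_of_isIso e.hom) h₁.1, ?_⟩
  intro Y π hπ
  obtain ⟨a, ha, hu⟩ := h₁.2 Y π hπ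
  refine ⟨e.hom ≫ a, by beta_reduce; rw [Category.assoc, ha], ?_⟩
  intro b hb
  have : e.inv ≫ b = a := hu _ (by beta_reduce; rw [Category.assoc, hb, Iso.inv_hom_id_assoc])
  rw [← this, Iso.hom_inv_id_assoc]

end uniqueness

section main
variable {X X' Y : Scheme.{u}}

theorem main7425 (ν' : X' ⟶ X) (hν : HTop.IsAWNormalization ν') (π : Y ⟶ X)
    (hπ : FlatMor.IsUnivHomeo π) (h : X' ⟶ Y) (hh : h ≫ π = ν') :
    IsIso h ↔ HTop.IsAWN Y := by
  have hX' := isAWN_of_isAWNormalization ν' hν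
  have hred := isReduced_of_isAWNormalization ν' hν
  constructor
  · intro hiso
    exact isAWN_of_iso (asIso h).symm hX'
  · intro hY
    have huh : FlatMor.IsUnivHomeo h := UHSch.isUnivHomeo_of_comp_right h π (hh ▸ hν.1) hπ
    exact isIso_of_isAWN h huh hY

theorem main7426a (X : Scheme.{u}) : HTop.IsAWN X ↔ HTop.IsAWNormalization (𝟙 X) := by
  constructor
  · intro hX
    have hiso : IsIso (ν X) := isIso_of_isAWN (ν X) (isUnivHomeo_ν X) hX
    have := isAWNormalization_of_iso (ν X) isAWNormalization_ν (asIso (ν X)).symm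
    simpa using this
  · intro hid
    exact isAWN_of_isAWNormalization (𝟙 X) hid

theorem main7426b (X : Scheme.{u}) : HTop.IsAWN X ↔
    ∀ (Y : Scheme.{u}) (π : Y ⟶ X), FlatMor.IsUnivHomeo π → IsReduced Y → IsIso π := by
  constructor
  · intro hX Y π hπ hY
    exact isIso_of_isAWN π hπ hX
  · intro hall
    have hiso : IsIso (ν X) := hall _ (ν X) (isUnivHomeo_ν X) inferInstance
    exact isAWN_of_iso (asIso (ν X)).symm (isAWN_awn X)

end main

end Groth.Agent.Helper7.SchAWN
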