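import Mathlib
import Groth.Prelude.Def_Frob
import Groth.Agent.Lib.Helper7.SchAWN3

/-! helper7: the absolute and relative Frobenius morphisms are universal homeomorphisms; a local
criterion for universal homeomorphisms. -/

namespace Groth.Agent.Helper7.FrobUH
open AlgebraicGeometry CategoryTheory Limits
open Groth.Agent.Helper7.FPColim
universe u

/-- a morphism which over every affine open is given by a universal homeomorphism of spectra is a
universal homeomorphism -/
theorem isUnivHomeo_of_forall_specMap_app {X Y : Scheme.{u}} (π : Y ⟶ X)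
    (h : ∀ U : X.affineOpens, IsAffineOpen (π ⁻¹ᵁ U.1) ∧
      FlatMor.IsUnivHomeo (Spec.map (π.app U.1))) :
    FlatMor.IsUnivHomeo π := by
  apply IsZariskiLocalAtTarget.of_openCover (Scheme.AffineZariskiSite.directedCover X)
  intro (U : X.AffineZariskiSite)
  obtain ⟨hU', huh⟩ := h ⟨U.1, U.2⟩
  have hp : IsPullback (Spec.map (π.app U.1) ≫ U.2.isoSpec.inv) hU'.fromSpec U.1.ι π := by
    apply IsOpenImmersion.isPullback
    · rw [Scheme.Hom.app_eq_appLE, Category.assoc]
      exact (IsAffineOpen.SpecMap_appLE_fromSpec π U.2 hU' le_rfl).symm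
    · rw [Scheme.Opens.opensRange_ι, IsAffineOpen.opensRange_fromSpec]
  have h1 : hp.flip.isoPullback.hom ≫ pullback.snd _ _ = Spec.map (π.app U.1) ≫ U.2.isoSpec.inv :=
    hp.flip.isoPullback_hom_snd
  have h2 : FlatMor.IsUnivHomeo (Spec.map (π.app U.1) ≫ U.2.isoSpec.inv) :=
    (MorphismProperty.cancel_right_of_respectsIso (P := FlatMor.IsUnivHomeo) _ _).mpr huh
  rw [← h1] at h2
  exact (MorphismProperty.cancel_left_of_respectsIso (P := FlatMor.IsUnivHomeo) _ _).mp h2

section ring
variable (p : ℕ) [Fact p.Prime] (A : Type u) [CommRing A] (h : (p : A) = 0)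

theorem uh_powHom : FlatMor.IsUnivHomeo (Spec.map (CommRingCat.ofHom (FrobSch.powHom p A h))) := by
  have hp : p.Prime := Fact.out
  rw [uh_iff_crit]
  refine ⟨⟨?_, ?_⟩, ?_⟩
  · intro s
    refine ⟨Polynomial.X ^ p - Polynomial.C s, Polynomial.monic_X_pow_sub_C s hp.ne_zero, ?_⟩
    simp [Polynomial.eval₂_sub, Polynomial.eval₂_pow]
  · intro K _ ψ ψ' hψ
    have hK : (p : K) = 0 := by
      have := congrArg ψ h
      simpa using this
    have : CharP K p := (CharP.charP_iff_prime_eq_zero hp).2 hK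
    ext a
    have e := congrArg (fun f => f a) hψ
    simp only [RingHom.comp_apply, FrobSch.powHom_apply, map_pow] at e
    exact frobenius_inj K p e
  · intro a ha
    rw [RingHom.mem_ker, FrobSch.powHom_apply] at ha
    exact ⟨p, ha⟩

end ring

section scheme
variable (p : ℕ) [Fact p.Prime]

theorem isUnivHomeo_frob (X : Scheme.{u}) [FrobSch.IsCharP X p] :
    FlatMor.IsUnivHomeo (FrobSch.frob X p) := by
  apply isUnivHomeo_of_forall_specMap_app
  intro U
  refine ⟨U.2, ?_⟩
  exact uh_powHom p Γ(X, U.1) (FrobSch.natCast_eq_zero_app X p U.1)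

theorem purelyInseparable_of_isUnivHomeo {X Y : Scheme.{u}} (f : X ⟶ Y)
    (hf : FlatMor.IsUnivHomeo f) (x : X) : (f.residueFieldMap x).hom.IsPurelyInseparable := by
  have hinj : UniversallyInjective f :=
    Groth.Agent.Helper9.UH.universallyInjective_of_isUnivHomeo f hf
  have h2 : Function.Injective f ∧ ∀ x, (f.residueFieldMap x).hom.IsPurelyInseparable :=
    ((tfae_universallyInjective f).out 0 2).mp hinj
  exact h2.2 x

theorem main14929 (X : Scheme.{u}) [FrobSch.IsCharP X p] :
    FlatMor.IsUnivHomeo (FrobSch.frob X p) ∧ IsIntegralHom (FrobSch.frob X p) ∧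
      ∀ x : X, ((FrobSch.frob X p).residueFieldMap x).hom.IsPurelyInseparable :=
  ⟨isUnivHomeo_frob p X, UHSch.isIntegralHom_of_isUnivHomeo _ (isUnivHomeo_frob p X),
    purelyInseparable_of_isUnivHomeo _ (isUnivHomeo_frob p X)⟩

theorem isUnivHomeo_relFrob {X S : Scheme.{u}} [FrobSch.IsCharP S p] (f : X ⟶ S) :
    FlatMor.IsUnivHomeo (FrobSch.relFrob f p) := by
  have hX : FrobSch.IsCharP X p := FrobSch.IsCharP.of_hom f p
  have h1 : FlatMor.IsUnivHomeo (pullback.fst f (FrobSch.frob S p)) :=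
    MorphismProperty.pullback_fst _ _ (isUnivHomeo_frob p S)
  have h2 : FlatMor.IsUnivHomeo (FrobSch.relFrob f p ≫ pullback.fst f (FrobSch.frob S p)) := by
    rw [FrobSch.relFrob_fst]
    exact isUnivHomeo_frob p X
  exact UHSch.isUnivHomeo_of_comp_right _ _ h2 h1

theorem main14930 {X S : Scheme.{u}} [FrobSch.IsCharP S p] (f : X ⟶ S) :
    FlatMor.IsUnivHomeo (FrobSch.relFrob f p) ∧ IsIntegralHom (FrobSch.relFrob f p) ∧
      ∀ x : X, ((FrobSch.relFrob f p).residueFieldMap x).hom.IsPurelyInseparable :=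
  ⟨isUnivHomeo_relFrob p f, UHSch.isIntegralHom_of_isUnivHomeo _ (isUnivHomeo_relFrob p f),
    purelyInseparable_of_isUnivHomeo _ (isUnivHomeo_relFrob p f)⟩

end scheme

end Groth.Agent.Helper7.FrobUH
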