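import Mathlib

set_option autoImplicit false
set_option linter.style.haveILetI false
universe u

open CategoryTheory Limits

/-! helper7: transfer of a ring pushout along a surjection to the standard quotient model; nilpotent Nakayama; finite type and formally unramified lift along nilpotent thickenings. -/

namespace Groth.Agent.Helper7.ThickAlg

section Transfer

variable {A' A B' B : CommRingCat.{u}} {φ' : A' ⟶ B'} {q : A' ⟶ A} {qB : B' ⟶ B} {φ : A ⟶ B}

/-- the standard model of the base-changed map. -/
noncomputable abbrev stdMap {A' B' : Type u} [CommRing A'] [CommRing B'] (φ' : A' →+* B')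
    (I : Ideal A') : A' ⧸ I →+* B' ⧸ I.map φ' :=
  Ideal.quotientMap (I.map φ') φ' Ideal.le_comap_map

theorem exists_equiv_std (H : IsPushout φ' q qB φ) (hq : Function.Surjective q.hom) :
    ∃ (eA : A ≃+* A' ⧸ RingHom.ker q.hom)
      (eB : B ≃+* B' ⧸ (RingHom.ker q.hom).map φ'.hom),
      (∀ a, eA (q.hom a) = Ideal.Quotient.mk _ a) ∧
      (∀ b, eB (qB.hom b) = Ideal.Quotient.mk _ b) ∧
      (∀ a, eB (φ.hom a) = stdMap φ'.hom (RingHom.ker q.hom) (eA a)) := by
  set I := RingHom.ker q.hom with hI
  let eA : A ≃+* A' ⧸ I := (RingHom.quotientKerEquivOfSurjective hq).symm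
  have heA : ∀ a, eA (q.hom a) = Ideal.Quotient.mk _ a := by
    intro a
    exact RingHom.quotientKerEquivOfSurjective_symm_apply hq a
  -- forward map
  let fwd : B ⟶ CommRingCat.of (B' ⧸ I.map φ'.hom) :=
    H.desc (CommRingCat.ofHom (Ideal.Quotient.mk _))
      (CommRingCat.ofHom ((stdMap φ'.hom I).comp eA.toRingHom)) (by
        ext a
        simp only [CommRingCat.hom_comp, CommRingCat.hom_ofHom, RingHom.coe_comp,
          Function.comp_apply, RingEquiv.toRingHom_eq_coe, RingHom.coe_coe]
        rw [heA]
        simp [stdMap])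
  have hfwd1 : ∀ b, fwd.hom (qB.hom b) = Ideal.Quotient.mk _ b := by
    intro b
    have := congrArg (fun g => g.hom b) (H.inl_desc (CommRingCat.ofHom (Ideal.Quotient.mk _))
      (CommRingCat.ofHom ((stdMap φ'.hom I).comp eA.toRingHom)) (by
        ext a
        simp only [CommRingCat.hom_comp, CommRingCat.hom_ofHom, RingHom.coe_comp,
          Function.comp_apply, RingEquiv.toRingHom_eq_coe, RingHom.coe_coe]
        rw [heA]
        simp [stdMap]))
    exact this
  have hfwd2 : ∀ a, fwd.hom (φ.hom a) = stdMap φ'.hom I (eA a) := by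
    intro a
    have := congrArg (fun g => g.hom a) (H.inr_desc (CommRingCat.ofHom (Ideal.Quotient.mk _))
      (CommRingCat.ofHom ((stdMap φ'.hom I).comp eA.toRingHom)) (by
        ext a
        simp only [CommRingCat.hom_comp, CommRingCat.hom_ofHom, RingHom.coe_comp,
          Function.comp_apply, RingEquiv.toRingHom_eq_coe, RingHom.coe_coe]
        rw [heA]
        simp [stdMap]))
    exact this
  -- backward map
  let bwd : B' ⧸ I.map φ'.hom →+* B := Ideal.Quotient.lift _ qB.hom (by
    intro b hb
    have hle : I.map φ'.hom ≤ RingHom.ker qB.hom := by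
      rw [Ideal.map_le_iff_le_comap]
      intro a ha
      rw [Ideal.mem_comap, RingHom.mem_ker]
      have h1 : qB.hom (φ'.hom a) = φ.hom (q.hom a) := by
        have := congrArg (fun g => g.hom a) H.w
        exact this
      rw [h1, (RingHom.mem_ker).mp ha, map_zero]
    exact hle hb)
  have h1 : ∀ x, bwd (fwd.hom x) = x := by
    have : fwd ≫ CommRingCat.ofHom bwd = 𝟙 B := by
      apply H.hom_ext
      · ext b
        simp only [CommRingCat.hom_comp, CommRingCat.hom_ofHom, RingHom.coe_comp,
          Function.comp_apply, Category.comp_id]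
        rw [hfwd1]
        simp [bwd]
      · ext a
        simp only [CommRingCat.hom_comp, CommRingCat.hom_ofHom, RingHom.coe_comp,
          Function.comp_apply, Category.comp_id]
        rw [hfwd2]
        obtain ⟨a', rfl⟩ := hq a
        rw [heA]
        simp only [stdMap, Ideal.quotientMap_mk, bwd, Ideal.Quotient.lift_mk]
        have := congrArg (fun g => g.hom a') H.w
        exact this
    intro x
    exact congrArg (fun g => g.hom x) this
  have h2 : ∀ y, fwd.hom (bwd y) = y := by
    intro y
    obtain ⟨b, rfl⟩ := Ideal.Quotient.mk_surjective y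
    simp only [bwd, Ideal.Quotient.lift_mk]
    exact hfwd1 b
  let eB : B ≃+* B' ⧸ I.map φ'.hom := RingEquiv.ofRingHom fwd.hom bwd
    (RingHom.ext h2) (RingHom.ext h1)
  exact ⟨eA, eB, heA, hfwd1, hfwd2⟩

end Transfer

section Std

open TensorProduct

variable {A' B' : Type u} [CommRing A'] [CommRing B'] [Algebra A' B'] (I : Ideal A')

attribute [local instance] Algebra.TensorProduct.rightAlgebra in
lemma isPushout_std :
    Algebra.IsPushout A' (A' ⧸ I) B' (B' ⧸ I.map (algebraMap A' B')) := by
  refine Algebra.IsPushout.of_equiv (R := A') (R' := A' ⧸ I) (S := B')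
    (S' := (A' ⧸ I) ⊗[A'] B') (Algebra.TensorProduct.quotIdealMapEquivQuotTensor B' I).symm ?_
  ext b
  simp only [RingHom.coe_comp, Function.comp_apply]
  change (Algebra.TensorProduct.quotIdealMapEquivQuotTensor B' I).symm (1 ⊗ₜ b) = _
  rw [AlgEquiv.symm_apply_eq]
  rfl

/-- Nakayama for a nilpotent ideal, no finiteness. -/
lemma nak {R M : Type*} [CommRing R] [AddCommGroup M] [Module R M] (J : Ideal R)
    (hJ : IsNilpotent J) (N : Submodule R M) (h : N ⊔ J • ⊤ = ⊤) : N = ⊤ := by
  obtain ⟨n, hn⟩ := hJ
  have key : ∀ k : ℕ, N ⊔ (J ^ k) • (⊤ : Submodule R M) = ⊤ := by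
    intro k
    induction k with
    | zero => simp
    | succ k ih =>
      rw [eq_top_iff]
      calc (⊤ : Submodule R M) = N ⊔ J • (⊤ : Submodule R M) := h.symm
        _ = N ⊔ J • (N ⊔ (J ^ k) • (⊤ : Submodule R M)) := by rw [ih]
        _ = N ⊔ (J • N ⊔ J • ((J ^ k) • (⊤ : Submodule R M))) := by rw [Submodule.smul_sup]
        _ ≤ N ⊔ (J ^ (k + 1)) • (⊤ : Submodule R M) := by
          rw [← mul_smul, ← pow_succ']
          refine sup_le le_sup_left (sup_le ?_ le_sup_right)
          exact le_trans Submodule.smul_le_right le_sup_left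
  have := key n
  rw [hn] at this
  simpa using this

lemma smul_top_eq_top_of_subsingleton_tensor {R M : Type*} [CommRing R] [AddCommGroup M]
    [Module R M] (J : Ideal R) (h : Subsingleton ((R ⧸ J) ⊗[R] M)) :
    J • (⊤ : Submodule R M) = ⊤ := by
  have e := TensorProduct.quotTensorEquivQuotSMul M J
  have : Subsingleton (M ⧸ J • (⊤ : Submodule R M)) := e.symm.toEquiv.subsingleton
  exact Submodule.Quotient.subsingleton_iff.mp this

lemma kaehler_smul_top_eq_top
    (h : Algebra.FormallyUnramified (A' ⧸ I) (B' ⧸ I.map (algebraMap A' B'))) :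
    I • (⊤ : Submodule A' (Ω[B'⁄A'])) = ⊤ := by
  haveI := isPushout_std (B' := B') I
  apply smul_top_eq_top_of_subsingleton_tensor
  exact (KaehlerDifferential.tensorKaehlerEquivBase A' (A' ⧸ I) B'
    (B' ⧸ I.map (algebraMap A' B'))).toEquiv.subsingleton

theorem formallyUnramified_of_std (hI : IsNilpotent I)
    (h : Algebra.FormallyUnramified (A' ⧸ I) (B' ⧸ I.map (algebraMap A' B'))) :
    Algebra.FormallyUnramified A' B' := by
  constructor
  have h1 := kaehler_smul_top_eq_top I h
  have h2 := nak I hI (⊥ : Submodule A' (Ω[B'⁄A'])) (by rw [bot_sup_eq, h1])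
  exact (Submodule.subsingleton_iff A').mp (subsingleton_of_bot_eq_top h2)

lemma map_le_nilradical (hI : I ≤ nilradical A') :
    I.map (algebraMap A' B') ≤ nilradical B' := by
  rw [Ideal.map_le_iff_le_comap]
  intro a ha
  rw [Ideal.mem_comap, mem_nilradical]
  exact (mem_nilradical.mp (hI ha)).map _

/-- Nakayama for a nil ideal and a finitely generated module. -/
lemma nak_fg {R M : Type*} [CommRing R] [AddCommGroup M] [Module R M] [Module.Finite R M]
    (J : Ideal R) (hJ : J ≤ nilradical R) (h : J • (⊤ : Submodule R M) = ⊤) :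
    Subsingleton M := by
  have h1 : (⊤ : Submodule R M) = ⊥ :=
    Submodule.eq_bot_of_le_smul_of_le_jacobson_bot J ⊤ Module.Finite.fg_top (by rw [h])
      (hJ.trans ((nilradical_le_jacobson R).trans_eq Ideal.jacobson_bot.symm))
  exact (Submodule.subsingleton_iff R).mp (subsingleton_of_bot_eq_top h1.symm)

lemma map_smul_top_eq_top {M : Type*} [AddCommGroup M] [Module A' M] [Module B' M]
    [IsScalarTower A' B' M] (h : I • (⊤ : Submodule A' M) = ⊤) :
    (I.map (algebraMap A' B')) • (⊤ : Submodule B' M) = ⊤ := by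
  rw [eq_top_iff]
  intro m _
  have hm : m ∈ I • (⊤ : Submodule A' M) := by rw [h]; trivial
  refine Submodule.smul_induction_on hm ?_ ?_
  · intro a ha n _
    rw [← algebraMap_smul B' a n]
    exact Submodule.smul_mem_smul (Ideal.mem_map_of_mem _ ha) trivial
  · intro x y hx hy
    exact Submodule.add_mem _ hx hy

theorem formallyUnramified_of_std_of_finiteType (hI : I ≤ nilradical A')
    [Algebra.FiniteType A' B']
    (h : Algebra.FormallyUnramified (A' ⧸ I) (B' ⧸ I.map (algebraMap A' B'))) :
    Algebra.FormallyUnramified A' B' := by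
  constructor
  have h1 := kaehler_smul_top_eq_top I h
  have h2 := map_smul_top_eq_top (B' := B') I h1
  exact nak_fg (I.map (algebraMap A' B')) (map_le_nilradical I hI) h2

/-- lifting a polynomial presentation: the comparison of evaluation maps. -/
lemma mk_aeval_eq {n : ℕ} (t : Fin n → B')
    (ψ' : MvPolynomial (Fin n) (A' ⧸ I) →ₐ[A' ⧸ I] (B' ⧸ I.map (algebraMap A' B')))
    (ht : ∀ i, Ideal.Quotient.mk (I.map (algebraMap A' B')) (t i) = ψ' (MvPolynomial.X i))
    (P : MvPolynomial (Fin n) A') :
    Ideal.Quotient.mk (I.map (algebraMap A' B')) (MvPolynomial.aeval t P) =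
      ψ' (MvPolynomial.map (Ideal.Quotient.mk I) P) := by
  have : ((Ideal.Quotient.mk (I.map (algebraMap A' B'))).comp
      (MvPolynomial.aeval (R := A') t).toRingHom) =
      ψ'.toRingHom.comp (MvPolynomial.map (Ideal.Quotient.mk I)) := by
    apply MvPolynomial.ringHom_ext
    · intro a
      simp only [RingHom.coe_comp, Function.comp_apply, AlgHom.toRingHom_eq_coe, RingHom.coe_coe,
        MvPolynomial.aeval_C, MvPolynomial.map_C]
      rw [← MvPolynomial.algebraMap_eq, ψ'.commutes]
      rfl
    · intro i
      simp only [RingHom.coe_comp, Function.comp_apply, AlgHom.toRingHom_eq_coe, RingHom.coe_coe,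
        MvPolynomial.aeval_X, MvPolynomial.map_X]
      exact ht i
  exact congrArg (fun g => g P) this

theorem finiteType_of_std (hI : IsNilpotent I)
    (h : Algebra.FiniteType (A' ⧸ I) (B' ⧸ I.map (algebraMap A' B'))) :
    Algebra.FiniteType A' B' := by
  obtain ⟨n, ψ', hψ'⟩ := Algebra.FiniteType.iff_quotient_mvPolynomial''.mp h
  choose t ht using fun i => Ideal.Quotient.mk_surjective (ψ' (MvPolynomial.X i))
  let ψ : MvPolynomial (Fin n) A' →ₐ[A'] B' := MvPolynomial.aeval t
  have hsup : LinearMap.range ψ.toLinearMap ⊔ I • (⊤ : Submodule A' B') = ⊤ := by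
    rw [eq_top_iff]
    intro b _
    obtain ⟨P', hP'⟩ := hψ' (Ideal.Quotient.mk _ b)
    obtain ⟨P, rfl⟩ := MvPolynomial.map_surjective _ Ideal.Quotient.mk_surjective P'
    have h1 : Ideal.Quotient.mk (I.map (algebraMap A' B')) (b - ψ P) = 0 := by
      rw [map_sub, mk_aeval_eq I t ψ' ht P, hP', sub_self]
    have h2 : b - ψ P ∈ I.map (algebraMap A' B') := Ideal.Quotient.eq_zero_iff_mem.mp h1
    have h3 : b - ψ P ∈ I • (⊤ : Submodule A' B') := by
      rw [Ideal.smul_top_eq_map]
      exact h2
    have : b = ψ P + (b - ψ P) := by ring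
    rw [this]
    exact Submodule.add_mem_sup ⟨P, rfl⟩ h3
  have htop := nak I hI _ hsup
  have hsurj : Function.Surjective ψ := by
    intro b
    have : b ∈ LinearMap.range ψ.toLinearMap := by rw [htop]; trivial
    exact this
  exact Algebra.FiniteType.of_surjective ψ hsurj

end Std

end Groth.Agent.Helper7.ThickAlg
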