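import Mathlib
import Groth.Agent.Lib.Helper7.ThickAlg1

set_option autoImplicit false
set_option linter.style.haveILetI false
universe u

open CategoryTheory Limits TensorProduct

/-! helper7: surjectivity lifts along nil thickenings for finite type algebras. -/

namespace Groth.Agent.Helper7.ThickAlg

section Surj

variable {A' B' : Type u} [CommRing A'] [CommRing B'] [Algebra A' B'] (I : Ideal A')

lemma exists_sub_mem_of_std_surjective
    (h : Function.Surjective (stdMap (algebraMap A' B') I)) (b : B') :
    ∃ a : A', b - algebraMap A' B' a ∈ I.map (algebraMap A' B') := by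
  obtain ⟨a', ha'⟩ := h (Ideal.Quotient.mk _ b)
  obtain ⟨a, rfl⟩ := Ideal.Quotient.mk_surjective a'
  refine ⟨a, ?_⟩
  rw [← Ideal.Quotient.eq_zero_iff_mem, map_sub, ← ha']
  simp [stdMap]

theorem surjective_of_std (hI : I ≤ nilradical A') [Algebra.FiniteType A' B']
    (h : Function.Surjective (stdMap (algebraMap A' B') I)) :
    Function.Surjective (algebraMap A' B') := by
  have hint : Algebra.IsIntegral A' B' := by
    refine ⟨fun b => ?_⟩
    obtain ⟨a, ha⟩ := exists_sub_mem_of_std_surjective I h b
    have h1 : IsNilpotent (b - algebraMap A' B' a) :=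
      mem_nilradical.mp (map_le_nilradical I hI ha)
    have h2 : IsIntegral A' (b - algebraMap A' B' a) := by
      obtain ⟨n, hn⟩ := h1
      exact ⟨Polynomial.X ^ n, Polynomial.monic_X_pow n, by simp [hn]⟩
    have h3 : IsIntegral A' (algebraMap A' B' a) := isIntegral_algebraMap
    have : b = (b - algebraMap A' B' a) + algebraMap A' B' a := by ring
    rw [this]
    exact h2.add h3
  haveI : Module.Finite A' B' := Algebra.IsIntegral.finite
  have hle : (⊤ : Submodule A' B') ≤ LinearMap.range (Algebra.linearMap A' B') := by
    apply Submodule.le_of_le_smul_of_le_jacobson_bot (I := I) Module.Finite.fg_top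
      (hI.trans ((nilradical_le_jacobson A').trans_eq Ideal.jacobson_bot.symm))
    intro b _
    obtain ⟨a, ha⟩ := exists_sub_mem_of_std_surjective I h b
    have h3 : b - algebraMap A' B' a ∈ I • (⊤ : Submodule A' B') := by
      rw [Ideal.smul_top_eq_map]
      exact ha
    have : b = algebraMap A' B' a + (b - algebraMap A' B' a) := by ring
    rw [this]
    exact Submodule.add_mem_sup ⟨a, rfl⟩ h3
  intro b
  exact hle (Submodule.mem_top : b ∈ ⊤)

end Surj

end Groth.Agent.Helper7.ThickAlg
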