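import Mathlib
import Groth.Prelude.Def_MoreMor

set_option autoImplicit false
set_option linter.style.haveILetI false
universe u

open AlgebraicGeometry CategoryTheory Limits

/-! helper7: affine-local pushout squares for base change along a closed immersion (thickening cluster). -/

namespace Groth.Agent.Helper7.ThickAff

variable {X X' Y Y' : Scheme.{u}} {iX : X ⟶ X'} {iY : Y ⟶ Y'} {f : X ⟶ Y} {f' : X' ⟶ Y'}

/-- the open of `X` sitting over `U'` and `iY⁻¹ V'`. -/
def UU (iX : X ⟶ X') (iY : Y ⟶ Y') (f : X ⟶ Y) (V' : Y'.Opens) (U' : X'.Opens) : X.Opens :=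
  iX ⁻¹ᵁ U' ⊓ f ⁻¹ᵁ (iY ⁻¹ᵁ V')

lemma UU_le_left (V' : Y'.Opens) (U' : X'.Opens) : UU iX iY f V' U' ≤ iX ⁻¹ᵁ U' := inf_le_left
lemma UU_le_right (V' : Y'.Opens) (U' : X'.Opens) : UU iX iY f V' U' ≤ f ⁻¹ᵁ (iY ⁻¹ᵁ V') :=
  inf_le_right

set_option backward.isDefEq.respectTransparency false in
lemma UU_eq (hc : IsPullback iX f f' iY) (V' : Y'.Opens) (U' : X'.Opens) (e' : U' ≤ f' ⁻¹ᵁ V') :
    UU iX iY f V' U' = iX ⁻¹ᵁ U' := by
  apply le_antisymm inf_le_left
  refine le_inf le_rfl ?_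
  intro x hx
  have h1 : f'.base (iX.base x) ∈ V' := e' hx
  have h2 : f'.base (iX.base x) = iY.base (f.base x) := by
    have := congrArg (fun g => g.base x) hc.w
    exact this
  rw [h2] at h1
  exact h1

set_option backward.isDefEq.respectTransparency false in
lemma isPushout_appLE (hc : IsPullback iX f f' iY) [IsAffineHom iY]
    (V' : Y'.Opens) (hV' : IsAffineOpen V') (U' : X'.Opens) (hU' : IsAffineOpen U')
    (e' : U' ≤ f' ⁻¹ᵁ V') :
    IsPushout (f'.appLE V' U' e') (iY.appLE V' (iY ⁻¹ᵁ V') le_rfl)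
      (iX.appLE U' (UU iX iY f V' U') (UU_le_left V' U'))
      (f.appLE (iY ⁻¹ᵁ V') (UU iX iY f V' U') (UU_le_right V' U')) := by
  have hV : IsAffineOpen (iY ⁻¹ᵁ V') := hV'.preimage iY
  have := isIso_pushoutSection_of_isAffineOpen hc (US := V') (UT := iY ⁻¹ᵁ V') (UX := U')
    le_rfl e' (UY := UU iX iY f V' U') rfl hV' hV hU'
  exact (isIso_pushoutSection_iff hc le_rfl e' rfl).mp this

set_option backward.isDefEq.respectTransparency false in
lemma isAffineOpen_UU (hc : IsPullback iX f f' iY) [IsAffineHom iY]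
    (V' : Y'.Opens) (U' : X'.Opens) (hU' : IsAffineOpen U')
    (e' : U' ≤ f' ⁻¹ᵁ V') : IsAffineOpen (UU iX iY f V' U') := by
  haveI : IsAffineHom iX := MorphismProperty.of_isPullback hc.flip inferInstance
  rw [UU_eq hc V' U' e']
  exact hU'.preimage iX

lemma appLE_surjective [IsClosedImmersion iY] (V' : Y'.Opens) (hV' : IsAffineOpen V') :
    Function.Surjective (iY.appLE V' (iY ⁻¹ᵁ V') le_rfl).hom := by
  rw [← Scheme.Hom.app_eq_appLE]
  exact iY.app_surjective V' hV'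

lemma ker_appLE_pow_eq_bot [IsClosedImmersion iY] {n : ℕ} (hn : iY.ker ^ n = 0)
    (V' : Y'.Opens) (hV' : IsAffineOpen V') :
    (RingHom.ker (iY.appLE V' (iY ⁻¹ᵁ V') le_rfl).hom) ^ n = ⊥ := by
  rw [← Scheme.Hom.app_eq_appLE, ← Scheme.Hom.ker_apply iY ⟨V', hV'⟩]
  have := congrArg (fun I => I.ideal ⟨V', hV'⟩) hn
  simpa using this

lemma ker_appLE_le_nilradical [IsClosedImmersion iY] (hs : Function.Surjective iY.base)
    (V' : Y'.Opens) (hV' : IsAffineOpen V') :
    RingHom.ker (iY.appLE V' (iY ⁻¹ᵁ V') le_rfl).hom ≤ nilradical Γ(Y', V') := by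
  intro a ha
  rw [mem_nilradical, Scheme.isNilpotent_iff_basicOpen_eq_bot_of_isCompact hV'.isCompact]
  rw [RingHom.mem_ker, ← Scheme.Hom.app_eq_appLE] at ha
  have h1 : iY ⁻¹ᵁ (Y'.basicOpen a) = ⊥ := by
    rw [Scheme.preimage_basicOpen]
    have : (iY.app V').hom a = 0 := ha
    erw [this]
    exact Scheme.basicOpen_zero _ _
  ext y'
  simp only [TopologicalSpace.Opens.coe_bot, Set.mem_empty_iff_false, iff_false]
  intro hy'
  obtain ⟨y, rfl⟩ := hs y'
  have : y ∈ iY ⁻¹ᵁ (Y'.basicOpen a) := hy'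
  rw [h1] at this
  exact this

end Groth.Agent.Helper7.ThickAff
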