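import Mathlib
import Groth.Prelude.Def_MoreMor
import Groth.Agent.Lib.Helper7.ThickAff
import Groth.Agent.Lib.Helper7.ThickAlg1

set_option autoImplicit false
set_option linter.style.haveILetI false
universe u

open AlgebraicGeometry CategoryTheory Limits

/-! helper7: scheme-level wrapper for lifting ring-hom properties along thickenings; S1309, S1310,
S1314. -/

namespace Groth.Agent.Helper7.ThickSch

open Groth.Agent.Helper7.ThickAff Groth.Agent.Helper7.ThickAlg

section RingHomForm

variable {A' B' : Type u} [CommRing A'] [CommRing B'] (φ : A' →+* B') (I : Ideal A')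

lemma alg_eq :
    letI := φ.toAlgebra
    (Ideal.Quotient.algebraQuotientMapQuotient :
      Algebra (A' ⧸ I) (B' ⧸ I.map (algebraMap A' B'))) = (stdMap φ I).toAlgebra := by
  letI := φ.toAlgebra
  exact Algebra.algebra_ext _ _ (fun _ => rfl)

lemma ringHom_finiteType_of_std (hI : IsNilpotent I) (h : (stdMap φ I).FiniteType) :
    φ.FiniteType := by
  letI := φ.toAlgebra
  have h' : Algebra.FiniteType (A' ⧸ I) (B' ⧸ I.map (algebraMap A' B')) := by
    have h2 : @Algebra.FiniteType (A' ⧸ I) (B' ⧸ I.map φ) _ _ (stdMap φ I).toAlgebra := h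
    rw [← alg_eq φ I] at h2
    exact h2
  exact finiteType_of_std I hI h'

lemma ringHom_formallyUnramified_of_std (hI : IsNilpotent I)
    (h : (stdMap φ I).FormallyUnramified) : φ.FormallyUnramified := by
  letI := φ.toAlgebra
  have h' : Algebra.FormallyUnramified (A' ⧸ I) (B' ⧸ I.map (algebraMap A' B')) := by
    have h2 : @Algebra.FormallyUnramified (A' ⧸ I) (B' ⧸ I.map φ) _ _ (stdMap φ I).toAlgebra := h
    rw [← alg_eq φ I] at h2
    exact h2
  exact formallyUnramified_of_std I hI h'

lemma ringHom_formallyUnramified_of_std_of_finiteType (hI : I ≤ nilradical A')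
    (hft : φ.FiniteType)
    (h : (stdMap φ I).FormallyUnramified) : φ.FormallyUnramified := by
  letI := φ.toAlgebra
  haveI : Algebra.FiniteType A' B' := hft
  have h' : Algebra.FormallyUnramified (A' ⧸ I) (B' ⧸ I.map (algebraMap A' B')) := by
    have h2 : @Algebra.FormallyUnramified (A' ⧸ I) (B' ⧸ I.map φ) _ _ (stdMap φ I).toAlgebra := h
    rw [← alg_eq φ I] at h2
    exact h2
  exact formallyUnramified_of_std_of_finiteType I hI h'

end RingHomForm

variable {X X' Y Y' : Scheme.{u}} {iX : X ⟶ X'} {iY : Y ⟶ Y'} {f : X ⟶ Y} {f' : X' ⟶ Y'}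

/-- generic wrapper: a property with a ring-hom characterisation lifts along a closed immersion
base change as soon as the corresponding ring-hom property lifts from the standard model. -/
theorem of_std {P : MorphismProperty Scheme.{u}}
    {Q : ∀ {R S : Type u} [CommRing R] [CommRing S], (R →+* S) → Prop}
    [HasRingHomProperty P Q]
    (hQcomp : RingHom.StableUnderCompositionWithLocalizationAwaySource Q)
    (hc : IsPullback iX f f' iY) [IsClosedImmersion iY]
    (Halg : ∀ (V' : Y'.Opens) (hV' : IsAffineOpen V') (U' : X'.Opens) (hU' : IsAffineOpen U')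
      (e' : U' ≤ f' ⁻¹ᵁ V'),
      Q (stdMap (f'.appLE V' U' e').hom (RingHom.ker (iY.appLE V' (iY ⁻¹ᵁ V') le_rfl).hom)) →
      Q (f'.appLE V' U' e').hom)
    (hf : P f) : P f' := by
  rw [HasRingHomProperty.iff_exists_appLE (P := P) hQcomp]
  intro x'
  obtain ⟨_, ⟨V', hV', rfl⟩, hxV', -⟩ :=
    Y'.isBasis_affineOpens.exists_subset_of_mem_open (Set.mem_univ (f'.base x')) isOpen_univ
  obtain ⟨_, ⟨U', hU', rfl⟩, hxU', e'⟩ :=
    X'.isBasis_affineOpens.exists_subset_of_mem_open hxV' (f' ⁻¹ᵁ V').isOpen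
  refine ⟨⟨V', hV'⟩, ⟨U', hU'⟩, hxU', e', ?_⟩
  apply Halg V' hV' U' hU' e'
  have hV : IsAffineOpen (iY ⁻¹ᵁ V') := hV'.preimage iY
  have hU : IsAffineOpen (UU iX iY f V' U') := isAffineOpen_UU hc V' U' hU' e'
  have hQ := HasRingHomProperty.appLE P f hf ⟨_, hV⟩ ⟨_, hU⟩ (UU_le_right V' U')
  have H := isPushout_appLE hc V' hV' U' hU' e'
  obtain ⟨eA, eB, h1, h2, h3⟩ := exists_equiv_std H (appLE_surjective V' hV')
  have hresp : RingHom.RespectsIso Q := (HasRingHomProperty.isLocal_ringHomProperty P).respectsIso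
  have heq : stdMap (f'.appLE V' U' e').hom (RingHom.ker (iY.appLE V' (iY ⁻¹ᵁ V') le_rfl).hom) =
      (eB.toRingHom.comp (f.appLE (iY ⁻¹ᵁ V') (UU iX iY f V' U') (UU_le_right V' U')).hom).comp
        eA.symm.toRingHom := by
    ext a
    simp only [RingEquiv.toRingHom_eq_coe, RingHom.coe_comp, RingHom.coe_coe,
      Function.comp_apply]
    rw [h3, RingEquiv.apply_symm_apply]
  rw [heq]
  exact hresp.2 _ eA.symm (hresp.1 _ eB hQ)

theorem S1309_main (hS : MoreMor.IsFiniteOrderThickening iY) (hc : IsPullback iX f f' iY) :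
    LocallyOfFiniteType f ↔ LocallyOfFiniteType f' := by
  obtain ⟨⟨hcl, hsurj⟩, n, hn⟩ := hS
  haveI := hcl
  refine ⟨fun hf => ?_, fun hf' => MorphismProperty.of_isPullback hc hf'⟩
  refine of_std (P := @LocallyOfFiniteType)
    (RingHom.finiteType_stableUnderComposition.stableUnderCompositionWithLocalizationAway
      RingHom.finiteType_holdsForLocalizationAway).1 hc ?_ hf
  intro V' hV' U' hU' e' h
  exact ringHom_finiteType_of_std _ _ ⟨n, ker_appLE_pow_eq_bot hn V' hV'⟩ h

theorem S1310_main (hS : MoreMor.IsFiniteOrderThickening iY) (hc : IsPullback iX f f' iY) :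
    FormallyUnramified f ↔ FormallyUnramified f' := by
  obtain ⟨⟨hcl, hsurj⟩, n, hn⟩ := hS
  haveI := hcl
  refine ⟨fun hf => ?_, fun hf' => MorphismProperty.of_isPullback hc hf'⟩
  refine of_std (P := @FormallyUnramified)
    (RingHom.FormallyUnramified.stableUnderComposition.stableUnderCompositionWithLocalizationAway
      RingHom.FormallyUnramified.holdsForLocalizationAway).1 hc ?_ hf
  intro V' hV' U' hU' e' h
  exact ringHom_formallyUnramified_of_std _ _ ⟨n, ker_appLE_pow_eq_bot hn V' hV'⟩ h

theorem S1314_main (hY : MoreMor.IsThickening iY) (hc : IsPullback iX f f' iY)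
    [LocallyOfFiniteType f] [LocallyOfFiniteType f'] :
    FormallyUnramified f ↔ FormallyUnramified f' := by
  obtain ⟨hcl, hsurj⟩ := hY
  haveI := hcl
  refine ⟨fun hf => ?_, fun hf' => MorphismProperty.of_isPullback hc hf'⟩
  refine of_std (P := @FormallyUnramified)
    (RingHom.FormallyUnramified.stableUnderComposition.stableUnderCompositionWithLocalizationAway
      RingHom.FormallyUnramified.holdsForLocalizationAway).1 hc ?_ hf
  intro V' hV' U' hU' e' h
  refine ringHom_formallyUnramified_of_std_of_finiteType _ _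
    (ker_appLE_le_nilradical hsurj.surj V' hV') ?_ h
  exact HasRingHomProperty.appLE @LocallyOfFiniteType f' inferInstance ⟨V', hV'⟩ ⟨U', hU'⟩ e'

end Groth.Agent.Helper7.ThickSch
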