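import Mathlib
import Groth.Prelude.Def_MoreMor
import Groth.Agent.Lib.Helper7.ThickSch
import Groth.Agent.Lib.Helper7.ThickAlg2

set_option autoImplicit false
set_option linter.style.haveILetI false
set_option linter.unusedVariables false
universe u

open AlgebraicGeometry CategoryTheory Limits

/-! helper7: thickening library part 2 (closed immersions along thickenings; S1313). -/

namespace Groth.Agent.Helper7.ThickSch

open Groth.Agent.Helper7.ThickAff Groth.Agent.Helper7.ThickAlg

variable {X X' Y Y' : Scheme.{u}} {iX : X ⟶ X'} {iY : Y ⟶ Y'} {f : X ⟶ Y} {f' : X' ⟶ Y'}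

/-- transfer of a ring hom property to the standard model. -/
theorem std_of_appLE {Q : ∀ {R S : Type u} [CommRing R] [CommRing S], (R →+* S) → Prop}
    (hresp : RingHom.RespectsIso Q)
    (hc : IsPullback iX f f' iY) [IsClosedImmersion iY]
    (V' : Y'.Opens) (hV' : IsAffineOpen V') (U' : X'.Opens) (hU' : IsAffineOpen U')
    (e' : U' ≤ f' ⁻¹ᵁ V')
    (hQ : Q (f.appLE (iY ⁻¹ᵁ V') (UU iX iY f V' U') (UU_le_right V' U')).hom) :
    Q (stdMap (f'.appLE V' U' e').hom (RingHom.ker (iY.appLE V' (iY ⁻¹ᵁ V') le_rfl).hom)) := by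
  have H := isPushout_appLE hc V' hV' U' hU' e'
  obtain ⟨eA, eB, h1, h2, h3⟩ := exists_equiv_std H (appLE_surjective V' hV')
  have heq : stdMap (f'.appLE V' U' e').hom (RingHom.ker (iY.appLE V' (iY ⁻¹ᵁ V') le_rfl).hom) =
      (eB.toRingHom.comp (f.appLE (iY ⁻¹ᵁ V') (UU iX iY f V' U') (UU_le_right V' U')).hom).comp
        eA.symm.toRingHom := by
    ext a
    simp only [RingEquiv.toRingHom_eq_coe, RingHom.coe_comp, RingHom.coe_coe,
      Function.comp_apply]
    rw [h3, RingEquiv.apply_symm_apply]
  rw [heq]
  exact hresp.2 _ eA.symm (hresp.1 _ eB hQ)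

/-- the kernel of the base-changed surjection. -/
theorem ker_appLE_eq_map (hc : IsPullback iX f f' iY) [IsClosedImmersion iY]
    (V' : Y'.Opens) (hV' : IsAffineOpen V') (U' : X'.Opens) (hU' : IsAffineOpen U')
    (e' : U' ≤ f' ⁻¹ᵁ V') :
    RingHom.ker (iX.appLE U' (UU iX iY f V' U') (UU_le_left V' U')).hom =
      (RingHom.ker (iY.appLE V' (iY ⁻¹ᵁ V') le_rfl).hom).map (f'.appLE V' U' e').hom := by
  have H := isPushout_appLE hc V' hV' U' hU' e'
  obtain ⟨eA, eB, h1, h2, h3⟩ := exists_equiv_std H (appLE_surjective V' hV')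
  ext b
  rw [RingHom.mem_ker, ← Ideal.Quotient.eq_zero_iff_mem, ← h2 b]
  constructor
  · intro h; rw [h, map_zero]
  · intro h; exact eB.injective (by rw [map_zero]; exact h)

lemma isHomeomorph_of_thickening {Z Z' : Scheme.{u}} (i : Z ⟶ Z') [IsClosedImmersion i]
    (hs : Function.Surjective i.base) : IsHomeomorph i.base :=
  isHomeomorph_iff_isEmbedding_surjective.mpr ⟨i.isClosedEmbedding.isEmbedding, hs⟩

lemma isClosedImmersion_left (hc : IsPullback iX f f' iY) [IsClosedImmersion iY] :
    IsClosedImmersion iX := MorphismProperty.of_isPullback hc.flip inferInstance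

lemma surjective_left (hc : IsPullback iX f f' iY) (hs : Surjective iY) :
    Surjective iX := MorphismProperty.of_isPullback hc.flip hs

set_option backward.isDefEq.respectTransparency false in
lemma base_comm (hc : IsPullback iX f f' iY) (x : X) :
    f'.base (iX.base x) = iY.base (f.base x) := by
  have := congrArg (fun g => g.base x) hc.w
  exact this

set_option backward.isDefEq.respectTransparency false in
lemma isClosedEmbedding_of_thickening (hc : IsPullback iX f f' iY) [IsClosedImmersion iY]
    (hs : Surjective iY) (hf : Topology.IsClosedEmbedding f.base) :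
    Topology.IsClosedEmbedding f'.base := by
  haveI := isClosedImmersion_left hc
  have hsX := surjective_left hc hs
  have hX : IsHomeomorph iX.base := isHomeomorph_of_thickening iX hsX.surj
  let eX := hX.homeomorph
  have h1 : Topology.IsClosedEmbedding (fun x => iY.base (f.base x)) :=
    iY.isClosedEmbedding.comp hf
  have h2 : (f'.base : X' → Y') = (fun x => iY.base (f.base x)) ∘ eX.symm := by
    funext x'
    obtain ⟨x, rfl⟩ := hsX.surj x'
    have : eX.symm (iX.base x) = x := eX.symm_apply_apply x
    simp only [Function.comp_apply, this]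
    exact base_comm hc x
  rw [h2]
  exact h1.comp eX.symm.isClosedEmbedding

set_option backward.isDefEq.respectTransparency false in
lemma appLE_surjective_of_ge {Z W : Scheme.{u}} (g : Z ⟶ W) [IsClosedImmersion g]
    (V : W.Opens) (hV : IsAffineOpen V) (U : Z.Opens) (e : U ≤ g ⁻¹ᵁ V) (e2 : g ⁻¹ᵁ V ≤ U) :
    Function.Surjective (g.appLE V U e).hom := by
  have hUeq : U = g ⁻¹ᵁ V := le_antisymm e e2
  subst hUeq
  rw [← Scheme.Hom.app_eq_appLE]
  exact g.app_surjective V hV

lemma ringHom_surjective_of_std {A' B' : Type u} [CommRing A'] [CommRing B'] (φ : A' →+* B')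
    (I : Ideal A') (hI : I ≤ nilradical A') (hft : φ.FiniteType)
    (h : Function.Surjective (stdMap φ I)) : Function.Surjective φ := by
  letI := φ.toAlgebra
  haveI : Algebra.FiniteType A' B' := hft
  exact surjective_of_std I hI h

set_option backward.isDefEq.respectTransparency false in
theorem S1313_main (hY : MoreMor.IsThickening iY) (hc : IsPullback iX f f' iY)
    [LocallyOfFiniteType f] [LocallyOfFiniteType f'] :
    IsClosedImmersion f ↔ IsClosedImmersion f' := by
  obtain ⟨hcl, hsurj⟩ := hY
  haveI := hcl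
  refine ⟨fun hf => ?_, fun hf' => MorphismProperty.of_isPullback hc hf'⟩
  have hemb := isClosedEmbedding_of_thickening hc hsurj f.isClosedEmbedding
  haveI : IsAffineHom f' := isAffineHom_of_isInducing f' hemb.isInducing hemb.isClosed_range
  rw [isClosedImmersion_iff_isAffineHom]
  refine ⟨inferInstance, fun V' hV' => ?_⟩
  have hU' : IsAffineOpen (f' ⁻¹ᵁ V') := hV'.preimage f'
  rw [Scheme.Hom.app_eq_appLE]
  have hft : (f'.appLE V' (f' ⁻¹ᵁ V') le_rfl).hom.FiniteType :=
    HasRingHomProperty.appLE @LocallyOfFiniteType f' inferInstance ⟨V', hV'⟩ ⟨_, hU'⟩ le_rfl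
  refine ringHom_surjective_of_std _ _ (ker_appLE_le_nilradical hsurj.surj V' hV') hft ?_
  refine std_of_appLE (Q := fun φ => Function.Surjective φ) RingHom.surjective_respectsIso hc V' hV'
    _ hU' le_rfl ?_
  apply appLE_surjective_of_ge f _ (hV'.preimage iY)
  intro x hx
  refine ⟨?_, hx⟩
  have : f'.base (iX.base x) ∈ V' := by
    rw [base_comm hc x]; exact hx
  exact this

end Groth.Agent.Helper7.ThickSch
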