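import Mathlib
import Groth.Prelude.Def_MoreMor
import Groth.Agent.Lib.Helper7.ThickSch2

set_option autoImplicit false
set_option linter.style.haveILetI false
set_option linter.unusedVariables false
universe u

open AlgebraicGeometry CategoryTheory Limits

/-! helper7: thickening library part 3 (monomorphisms and immersions along thickenings; S1311, S1315, S1316). -/

namespace Groth.Agent.Helper7.ThickSch

open Groth.Agent.Helper7.ThickAff Groth.Agent.Helper7.ThickAlg

variable {X X' Y Y' : Scheme.{u}} {iX : X ⟶ X'} {iY : Y ⟶ Y'} {f : X ⟶ Y} {f' : X' ⟶ Y'}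

lemma mono_of_isPullback (hc : IsPullback iX f f' iY) [Mono f'] : Mono f :=
  MorphismProperty.of_isPullback (P := MorphismProperty.monomorphisms Scheme.{u}) hc
    (MorphismProperty.monomorphisms.infer_property f')

set_option backward.isDefEq.respectTransparency false in
/-- the comparison of self-products is a base change of `iX`. -/
lemma isPullback_pullbackMap (hc : IsPullback iX f f' iY) :
    IsPullback (pullback.map f f f' f' iX iX iY hc.w.symm hc.w.symm) (pullback.fst f f)
      (pullback.fst f' f') iX := by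
  have h1 : IsPullback (pullback.snd f f ≫ iX) (pullback.fst f f) f' (f ≫ iY) :=
    (IsPullback.of_hasPullback f f).flip.paste_horiz hc
  have h2 : IsPullback (pullback.snd f' f') (pullback.fst f' f') f' f' :=
    (IsPullback.of_hasPullback f' f').flip
  have h3 : IsPullback (pullback.map f f f' f' iX iX iY hc.w.symm hc.w.symm ≫ pullback.snd f' f')
      (pullback.fst f f) f' (iX ≫ f') := by
    have e1 : pullback.map f f f' f' iX iX iY hc.w.symm hc.w.symm ≫ pullback.snd f' f' =
        pullback.snd f f ≫ iX := by simp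
    have e2 : iX ≫ f' = f ≫ iY := hc.w
    rw [e1, e2]
    exact h1
  refine IsPullback.of_right h3 ?_ h2
  simp

lemma ker_appLE_congr {Z W : Scheme.{u}} (g : Z ⟶ W) (U : W.Opens) (W₁ W₂ : Z.Opens) (h : W₁ = W₂)
    (e₁ : W₁ ≤ g ⁻¹ᵁ U) (e₂ : W₂ ≤ g ⁻¹ᵁ U) :
    RingHom.ker (g.appLE U W₁ e₁).hom = RingHom.ker (g.appLE U W₂ e₂).hom := by
  subst h; rfl

set_option backward.isDefEq.respectTransparency false in
/-- a base change of a finite order thickening is a finite order thickening (kernel part). -/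
lemma ker_pow_eq_bot_of_isPullback (hc : IsPullback iX f f' iY) [IsClosedImmersion iY] (n : ℕ)
    (hn : iY.ker ^ n = ⊥) : iX.ker ^ n = ⊥ := by
  haveI := isClosedImmersion_left hc
  let ι := {p : Y'.affineOpens × X'.affineOpens // p.2.1 ≤ f' ⁻¹ᵁ p.1.1}
  refine Scheme.IdealSheafData.ext_of_iSup_eq_top (ι := ι) (fun p => p.1.2) ?_ ?_
  · rw [eq_top_iff]
    intro x' _
    obtain ⟨_, ⟨V', hV', rfl⟩, hxV, -⟩ :=
      Y'.isBasis_affineOpens.exists_subset_of_mem_open (Set.mem_univ (f'.base x')) isOpen_univ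
    obtain ⟨_, ⟨U', hU', rfl⟩, hxU, hUV : U' ≤ f' ⁻¹ᵁ V'⟩ :=
      X'.isBasis_affineOpens.exists_subset_of_mem_open hxV (f' ⁻¹ᵁ V').isOpen
    exact TopologicalSpace.Opens.mem_iSup.mpr ⟨⟨⟨⟨V', hV'⟩, ⟨U', hU'⟩⟩, hUV⟩, hxU⟩
  · rintro ⟨⟨⟨V', hV'⟩, ⟨U', hU'⟩⟩, e'⟩
    simp only [Scheme.IdealSheafData.ideal_pow, Scheme.IdealSheafData.ideal_bot, Pi.bot_apply,
      Pi.pow_apply]
    rw [Scheme.Hom.ker_apply, Scheme.Hom.app_eq_appLE,
      ker_appLE_congr iX U' _ _ (UU_eq hc V' U' e').symm le_rfl (UU_le_left V' U'),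
      ker_appLE_eq_map hc V' hV' U' hU' e', ← Ideal.map_pow,
      ker_appLE_pow_eq_bot hn V' hV', Ideal.map_bot]

set_option backward.isDefEq.respectTransparency false in
theorem S1315_main (hY : MoreMor.IsThickening iY) (hc : IsPullback iX f f' iY)
    [LocallyOfFiniteType f] [LocallyOfFiniteType f'] :
    Mono f ↔ Mono f' := by
  refine ⟨fun hf => ?_, fun hf' => mono_of_isPullback hc⟩
  have hfu : FormallyUnramified f := inferInstance
  haveI : FormallyUnramified f' := (S1314_main hY hc).mp hfu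
  obtain ⟨hcl, hsurj⟩ := hY
  haveI := hcl
  have hsX : Surjective iX := surjective_left hc hsurj
  have hj : Surjective (pullback.map f f f' f' iX iX iY hc.w.symm hc.w.symm) :=
    MorphismProperty.of_isPullback (isPullback_pullbackMap hc).flip hsX
  have hcomm : pullback.diagonal f ≫ pullback.map f f f' f' iX iX iY hc.w.symm hc.w.symm =
      iX ≫ pullback.diagonal f' := by
    apply pullback.hom_ext <;> simp
  haveI : Surjective (pullback.diagonal f') := by
    constructor
    intro z'
    obtain ⟨z, rfl⟩ := hj.surj z'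
    obtain ⟨x, rfl⟩ := (pullback.diagonal f).surjective z
    refine ⟨iX.base x, ?_⟩
    have := congrArg (fun g => g.base x) hcomm
    exact this.symm
  haveI : IsIso (pullback.diagonal f') :=
    (isIso_iff_isOpenImmersion_and_surjective _).mpr ⟨inferInstance, inferInstance⟩
  exact (pullback.isIso_diagonal_iff f').mp inferInstance

set_option backward.isDefEq.respectTransparency false in
theorem S1311_main (hS : MoreMor.IsFiniteOrderThickening iY) (hc : IsPullback iX f f' iY) :
    Mono f ↔ Mono f' := by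
  refine ⟨fun hf => ?_, fun hf' => mono_of_isPullback hc⟩
  have hfu : FormallyUnramified f := inferInstance
  haveI : FormallyUnramified f' := (S1310_main hS hc).mp hfu
  obtain ⟨⟨hcl, hsurj⟩, n, hn⟩ := hS
  haveI := hcl
  constructor
  intro T a b hab
  have hp := IsPullback.of_hasPullback (a ≫ f') iY
  have hi : IsNilpotent (pullback.fst (a ≫ f') iY).ker :=
    ⟨n, ker_pow_eq_bot_of_isPullback hp n hn⟩
  have wa : (pullback.fst (a ≫ f') iY ≫ a) ≫ f' = pullback.snd (a ≫ f') iY ≫ iY := by
    rw [Category.assoc, pullback.condition]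
  have wb : (pullback.fst (a ≫ f') iY ≫ b) ≫ f' = pullback.snd (a ≫ f') iY ≫ iY := by
    rw [Category.assoc, ← hab, pullback.condition]
  have hab₀ : hc.lift _ _ wa = hc.lift _ _ wb := by
    rw [← cancel_mono f]; simp
  have hig : pullback.fst (a ≫ f') iY ≫ a = pullback.fst (a ≫ f') iY ≫ b := by
    rw [← hc.lift_fst _ _ wa, hab₀, hc.lift_fst]
  exact FormallyUnramified.hom_ext _ hi f' hig hab

set_option backward.isDefEq.respectTransparency false in
theorem S1316_main (hY : MoreMor.IsThickening iY) (hc : IsPullback iX f f' iY)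
    [LocallyOfFiniteType f] [LocallyOfFiniteType f'] :
    IsImmersion f ↔ IsImmersion f' := by
  refine ⟨fun hf => ?_, fun hf' => MorphismProperty.of_isPullback hc hf'⟩
  obtain ⟨hcl, hsurj⟩ := hY
  haveI := hcl
  have hsX : Surjective iX := surjective_left hc hsurj
  have hY : IsHomeomorph iY.base := isHomeomorph_of_thickening iY hsurj.surj
  -- the open of `Y'` corresponding to the coborder of the range of `f`
  let W' : Y'.Opens := ⟨iY.base '' (f.coborderRange : Set Y), hY.isOpenMap _ f.coborderRange.isOpen⟩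
  have hW : f.coborderRange = iY ⁻¹ᵁ W' := by
    ext y
    constructor
    · intro hy; exact ⟨y, hy, rfl⟩
    · rintro ⟨y₀, hy₀, h⟩
      have := hY.injective h
      rw [← this]; exact hy₀
  let g₀ : X ⟶ iY ⁻¹ᵁ W' := f.liftCoborder ≫ (Y.isoOfEq hW).hom
  have hg₀ : g₀ ≫ (iY ⁻¹ᵁ W').ι = f := by
    simp only [g₀, Category.assoc, Scheme.isoOfEq_hom_ι, Scheme.Hom.liftCoborder_ι]
  have hrange : Set.range f'.base ⊆ Set.range W'.ι.base := by
    rw [Scheme.Opens.range_ι]
    rintro _ ⟨x', rfl⟩
    obtain ⟨x, rfl⟩ := hsX.surj x'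
    rw [base_comm hc x]
    exact ⟨f.base x, subset_coborder ⟨x, rfl⟩, rfl⟩
  let g' : X' ⟶ W' := IsOpenImmersion.lift W'.ι f' hrange
  have hg' : g' ≫ W'.ι = f' := IsOpenImmersion.lift_fac _ _ _
  have hbot := isPullback_morphismRestrict iY W'
  have hbig : IsPullback iX (g₀ ≫ (iY ⁻¹ᵁ W').ι) (g' ≫ W'.ι) iY := by
    rw [hg₀, hg']; exact hc
  have hcomm : iX ≫ g' = g₀ ≫ (iY ∣_ W') := by
    rw [← cancel_mono W'.ι, Category.assoc, Category.assoc, hg', morphismRestrict_ι,
      ← Category.assoc, hg₀, hc.w]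
  have hsq : IsPullback iX g₀ g' (iY ∣_ W') := IsPullback.of_bot hbig hcomm hbot
  have hthick : MoreMor.IsThickening (iY ∣_ W') :=
    ⟨MorphismProperty.of_isPullback hbot.flip hcl, MorphismProperty.of_isPullback hbot.flip hsurj⟩
  haveI : LocallyOfFiniteType g₀ := inferInstance
  haveI : LocallyOfFiniteType (g' ≫ W'.ι) := by rw [hg']; infer_instance
  haveI : LocallyOfFiniteType g' := locallyOfFiniteType_of_comp g' W'.ι
  haveI : IsClosedImmersion g' := (S1313_main hthick hsq).mp inferInstance
  rw [← hg']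
  infer_instance

end Groth.Agent.Helper7.ThickSch
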