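import Mathlib
import Groth.Prelude.Def_MoreMor
import Groth.Prelude.Def_FSch2
import Groth.Agent.Lib.Helper7.ThickSch3
import Groth.Agent.S1304

set_option autoImplicit false
set_option linter.style.haveILetI false
set_option linter.unusedVariables false
universe u

open AlgebraicGeometry CategoryTheory Limits

/-! helper7: properness along adic systems of thickenings (S5738). -/

namespace Groth.Agent.Helper7.FormalProper

open Groth.Agent.Helper7.ThickSch Groth.Agent.Helper7.ThickAff

variable {X X' Y Y' : Scheme.{u}} {iX : X ⟶ X'} {iY : Y ⟶ Y'} {f : X ⟶ Y} {f' : X' ⟶ Y'}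

set_option backward.isDefEq.respectTransparency false in
/-- separatedness passes up a cartesian square over a thickening. -/
theorem isSeparated_of_thickening (hY : MoreMor.IsThickening iY) (hc : IsPullback iX f f' iY)
    [IsSeparated f] : IsSeparated f' := by
  obtain ⟨hcl, hsurj⟩ := hY
  haveI := hcl
  haveI := isClosedImmersion_left hc
  have hsX := surjective_left hc hsurj
  refine ⟨IsClosedImmersion.of_isPreimmersion _ ?_⟩
  have hmP := isPullback_pullbackMap hc
  haveI hmc : IsClosedImmersion (pullback.map f f f' f' iX iX iY hc.w.symm hc.w.symm) :=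
    MorphismProperty.of_isPullback hmP.flip (inferInstance : IsClosedImmersion iX)
  have hcomm : iX ≫ pullback.diagonal f' =
      pullback.diagonal f ≫ pullback.map f f f' f' iX iX iY hc.w.symm hc.w.symm := by
    apply pullback.hom_ext <;> simp
  have hr : Set.range (pullback.diagonal f') =
      (pullback.map f f f' f' iX iX iY hc.w.symm hc.w.symm) ''
        Set.range (pullback.diagonal f) := by
    ext z
    constructor
    · rintro ⟨x', rfl⟩
      obtain ⟨x, rfl⟩ := hsX.surj x'
      refine ⟨pullback.diagonal f x, ⟨x, rfl⟩, ?_⟩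
      have := congrArg (fun g => g.base x) hcomm
      exact this.symm
    · rintro ⟨_, ⟨x, rfl⟩, rfl⟩
      refine ⟨iX x, ?_⟩
      have := congrArg (fun g => g.base x) hcomm
      exact this
  rw [hr]
  exact (pullback.map f f f' f' iX iX iY hc.w.symm hc.w.symm).isClosedEmbedding.isClosedMap _
    (pullback.diagonal f).isClosedEmbedding.isClosed_range

set_option backward.isDefEq.respectTransparency false in
/-- properness passes up a cartesian square over a finite order thickening. -/
theorem isProper_of_thickening (hY : MoreMor.IsFiniteOrderThickening iY)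
    (hc : IsPullback iX f f' iY) [IsProper f] : IsProper f' := by
  haveI : IsClosedImmersion iY := hY.1.1
  haveI := isClosedImmersion_left hc
  have hsX := surjective_left hc hY.1.2
  haveI : IsSeparated f' := isSeparated_of_thickening hY.1 hc
  haveI : UniversallyClosed f' :=
    (Groth.Agent.S1304.result iX iY f f' ⟨inferInstance, hsX⟩ hY.1 hc.w).1 inferInstance
  haveI : LocallyOfFiniteType f' := (S1309_main hY hc).1 inferInstance
  exact {}

set_option backward.isDefEq.respectTransparency false in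
/-- if the ideal of `Z'` in `Z''` is the `m`-th power of the ideal of `Z`, then the ideal of `Z` in `Z'`
has vanishing `m`-th power. -/
lemma ker_pow_eq_bot_of_comp {Z Z' Z'' : Scheme.{u}} (p : Z ⟶ Z') (v : Z' ⟶ Z'')
    [IsClosedImmersion p] [IsClosedImmersion v] (m : ℕ) (h : v.ker = (p ≫ v).ker ^ m) :
    p.ker ^ m = ⊥ := by
  refine Scheme.IdealSheafData.ext_of_iSup_eq_top (ι := Z''.affineOpens)
    (fun U => ⟨v ⁻¹ᵁ U.1, U.2.preimage v⟩) ?_ ?_
  · rw [eq_top_iff]
    intro x _
    obtain ⟨_, ⟨V', hV', rfl⟩, hxV, -⟩ :=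
      Z''.isBasis_affineOpens.exists_subset_of_mem_open (Set.mem_univ (v.base x)) isOpen_univ
    exact TopologicalSpace.Opens.mem_iSup.mpr ⟨⟨V', hV'⟩, hxV⟩
  · rintro ⟨U, hU⟩
    simp only [Scheme.IdealSheafData.ideal_pow, Scheme.IdealSheafData.ideal_bot, Pi.bot_apply,
      Pi.pow_apply]
    rw [Scheme.Hom.ker_apply]
    have hsurj : Function.Surjective (v.app U).hom := v.app_surjective U hU
    have h1 : RingHom.ker (p.app (v ⁻¹ᵁ U)).hom =
        (RingHom.ker ((p ≫ v).app U).hom).map (v.app U).hom := by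
      rw [Scheme.Hom.comp_app, CommRingCat.hom_comp, ← RingHom.comap_ker,
        Ideal.map_comap_of_surjective _ hsurj]
    have h2 : RingHom.ker ((p ≫ v).app U).hom ^ m = RingHom.ker (v.app U).hom := by
      have := congrArg (fun I => I.ideal ⟨U, hU⟩) h
      simp only [Scheme.IdealSheafData.ideal_pow, Pi.pow_apply, Scheme.Hom.ker_apply] at this
      exact this.symm
    rw [h1, ← Ideal.map_pow, h2]
    exact (Ideal.map_eq_bot_iff_le_ker _).mpr le_rfl

variable (𝔛 : FSch.Sys.{u})

lemma isClosedImmersion_toX (h : 𝔛.IsFormal) (n : ℕ) : IsClosedImmersion (𝔛.toX n) := by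
  induction n with
  | zero => exact (inferInstance : IsClosedImmersion (𝟙 _))
  | succ n ih =>
    haveI := ih
    haveI := (h n).1
    exact (inferInstance : IsClosedImmersion (𝔛.toX n ≫ 𝔛.ι n))

lemma toX_ker_pow (h : 𝔛.IsFormal) (ha : 𝔛.IsAdic) (n : ℕ) :
    (𝔛.toX (n + 1)).ker ^ (n + 2) = ⊥ := by
  haveI := isClosedImmersion_toX 𝔛 h (n + 1)
  haveI := (h (n + 1)).1
  exact ker_pow_eq_bot_of_comp (𝔛.toX (n + 1)) (𝔛.ι (n + 1)) (n + 2) (ha (n + 1))

lemma isFiniteOrderThickening_ι (h : 𝔛.IsFormal) (ha : 𝔛.IsAdic) (n : ℕ) :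
    MoreMor.IsFiniteOrderThickening (𝔛.ι n) := by
  refine ⟨⟨(h n).1, ⟨(h n).2⟩⟩, 2, ?_⟩
  rw [ha n, ← pow_mul, show (n + 1) * 2 = (n + 2) + n by ring, pow_add, toX_ker_pow 𝔛 h ha n]
  exact zero_mul _

theorem S5738_main {𝔛 𝔖 : FSch.Sys.{u}} (f : 𝔛 ⟶ 𝔖)
    (h𝔖 : 𝔖.IsLocNoethFormal) (hf : FSch.IsAdicHom f)
    [IsProper ((f : FSch.Hom 𝔛 𝔖).app 0)] (n : ℕ) :
    IsProper ((f : FSch.Hom 𝔛 𝔖).app n) := by
  induction n with
  | zero => infer_instance
  | succ n ih =>
    haveI := ih
    exact isProper_of_thickening (isFiniteOrderThickening_ι 𝔖 h𝔖.1 h𝔖.2.1 n) (hf n)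

end Groth.Agent.Helper7.FormalProper
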