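import Mathlib
import Groth.Prelude.Def_MoreMor
import Groth.Prelude.Def_FSch2
import Groth.Prelude.Def_FSch3
import Groth.Agent.Lib.Helper7.FormalProper

set_option autoImplicit false
set_option linter.style.haveILetI false
set_option linter.unusedVariables false
universe u

open AlgebraicGeometry CategoryTheory Limits

/-! helper7: locally Noetherian adic systems under adic base change (S3857). -/

namespace Groth.Agent.Helper7.FormalNoeth

open Groth.Agent.Helper7.ThickSch Groth.Agent.Helper7.ThickAff Groth.Agent.Helper7.FormalProper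

/-- a surjection onto a Noetherian ring with finitely generated kernel made of nilpotents has Noetherian
source (via Cohen's theorem). -/
lemma isNoetherianRing_of_surjective_of_ker_fg {A' A : Type*} [CommRing A'] [CommRing A]
    (φ : A' →+* A) (hφ : Function.Surjective φ) (hK : (RingHom.ker φ).FG)
    (hnil : RingHom.ker φ ≤ nilradical A') [IsNoetherianRing A] : IsNoetherianRing A' := by
  classical
  refine IsNoetherianRing.of_prime fun P hP => ?_
  have hKP : RingHom.ker φ ≤ P := hnil.trans (nilradical_le_prime P)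
  obtain ⟨t, ht⟩ := (IsNoetherian.noetherian (P.map φ) : (P.map φ).FG)
  have hmem : ∀ y ∈ t, ∃ p ∈ P, φ p = y := by
    intro y hy
    have : y ∈ P.map φ := by rw [← ht]; exact Ideal.subset_span hy
    exact (Ideal.mem_map_iff_of_surjective _ hφ).mp this
  choose! c hcP hc using hmem
  have hP' : P = Ideal.span ((t.image c : Finset A') : Set A') ⊔ RingHom.ker φ := by
    apply le_antisymm
    · intro z hz
      have hz' : φ z ∈ (Ideal.span ((t.image c : Finset A') : Set A')).map φ := by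
        rw [Ideal.map_span]
        have : φ z ∈ Ideal.span (t : Set A) := by
          have h1 : φ z ∈ P.map φ := Ideal.mem_map_of_mem _ hz
          rw [← ht] at h1
          exact h1
        refine Ideal.span_mono ?_ this
        intro y hy
        refine ⟨c y, ?_, hc y hy⟩
        simp only [Finset.coe_image, Set.mem_image, Finset.mem_coe]
        exact ⟨y, hy, rfl⟩
      obtain ⟨a, ha, hae⟩ := (Ideal.mem_map_iff_of_surjective _ hφ).mp hz'
      have hza : z - a ∈ RingHom.ker φ := by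
        rw [RingHom.mem_ker, map_sub, hae, sub_self]
      have hz2 : z = a + (z - a) := by ring
      rw [hz2]
      exact Submodule.add_mem_sup ha hza
    · refine sup_le ?_ hKP
      rw [Ideal.span_le]
      intro p hp
      simp only [Finset.coe_image, Set.mem_image, Finset.mem_coe] at hp
      obtain ⟨y, hy, rfl⟩ := hp
      exact hcP y hy
  rw [hP']
  exact Submodule.FG.sup ⟨_, rfl⟩ hK

variable {X X' Y Y' : Scheme.{u}} {iX : X ⟶ X'} {iY : Y ⟶ Y'} {f : X ⟶ Y} {f' : X' ⟶ Y'}

set_option backward.isDefEq.respectTransparency false in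
/-- the ideal of a base-changed closed immersion is the extension of the ideal. -/
lemma ker_ideal_eq_map (hc : IsPullback iX f f' iY) [IsClosedImmersion iY]
    (V' : Y'.Opens) (hV' : IsAffineOpen V') (U' : X'.Opens) (hU' : IsAffineOpen U')
    (e' : U' ≤ f' ⁻¹ᵁ V') :
    iX.ker.ideal ⟨U', hU'⟩ = (iY.ker.ideal ⟨V', hV'⟩).map (f'.appLE V' U' e').hom := by
  haveI := isClosedImmersion_left hc
  rw [Scheme.Hom.ker_apply, Scheme.Hom.ker_apply, Scheme.Hom.app_eq_appLE,
    Scheme.Hom.app_eq_appLE,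
    ker_appLE_congr iX U' _ _ (UU_eq hc V' U' e').symm le_rfl (UU_le_left V' U'),
    ker_appLE_eq_map hc V' hV' U' hU' e']

/-- the indexing type for the standard cover of `X'` by affines lying over affines of `Y'`. -/
abbrev Pairs (f' : X' ⟶ Y') : Type u :=
  {p : Y'.affineOpens × X'.affineOpens // p.2.1 ≤ f' ⁻¹ᵁ p.1.1}

set_option backward.isDefEq.respectTransparency false in
lemma iSup_pairs_eq_top (f' : X' ⟶ Y') :
    (⨆ p : Pairs f', (p.1.2 : X'.Opens)) = ⊤ := by
  rw [eq_top_iff]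
  intro x' _
  obtain ⟨_, ⟨V', hV', rfl⟩, hxV, -⟩ :=
    Y'.isBasis_affineOpens.exists_subset_of_mem_open (Set.mem_univ (f'.base x')) isOpen_univ
  obtain ⟨_, ⟨U', hU', rfl⟩, hxU, hUV : U' ≤ f' ⁻¹ᵁ V'⟩ :=
    X'.isBasis_affineOpens.exists_subset_of_mem_open hxV (f' ⁻¹ᵁ V').isOpen
  exact TopologicalSpace.Opens.mem_iSup.mpr ⟨⟨⟨⟨V', hV'⟩, ⟨U', hU'⟩⟩, hUV⟩, hxU⟩

set_option backward.isDefEq.respectTransparency false in
/-- a thickening obtained by base change from a thickening of a locally Noetherian scheme, with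
locally Noetherian thin part, is locally Noetherian. -/
theorem isLocallyNoetherian_of_isPullback (hY : MoreMor.IsThickening iY)
    (hc : IsPullback iX f f' iY) [IsLocallyNoetherian Y'] [IsLocallyNoetherian X] :
    IsLocallyNoetherian X' := by
  obtain ⟨hcl, hsurj⟩ := hY
  haveI := hcl
  haveI := isClosedImmersion_left hc
  have hsX := surjective_left hc hsurj
  refine isLocallyNoetherian_of_affine_cover (ι := Pairs f') (S := fun p => p.1.2)
    (iSup_pairs_eq_top f') ?_
  rintro ⟨⟨⟨V', hV'⟩, ⟨U', hU'⟩⟩, e'⟩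
  haveI : IsNoetherianRing Γ(Y', V') := IsLocallyNoetherian.component_noetherian ⟨V', hV'⟩
  haveI : IsNoetherianRing Γ(X, iX ⁻¹ᵁ U') :=
    IsLocallyNoetherian.component_noetherian ⟨iX ⁻¹ᵁ U', hU'.preimage iX⟩
  refine isNoetherianRing_of_surjective_of_ker_fg (iX.app U').hom (iX.app_surjective U' hU') ?_ ?_
  · rw [← Scheme.Hom.ker_apply iX ⟨U', hU'⟩, ker_ideal_eq_map hc V' hV' U' hU' e']
    exact Ideal.FG.map (IsNoetherian.noetherian _) _
  · rw [Scheme.Hom.app_eq_appLE]
    exact ker_appLE_le_nilradical hsX.surj U' hU'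

set_option backward.isDefEq.respectTransparency false in
/-- adicity passes to base changes. -/
theorem ker_eq_pow_of_isPullback {X₀ Y₀ : Scheme.{u}} {jX : X₀ ⟶ X'} {jY : Y₀ ⟶ Y'}
    {f₀ : X₀ ⟶ Y₀} (hc : IsPullback iX f f' iY) (hc₀ : IsPullback jX f₀ f' jY)
    [IsClosedImmersion iY] [IsClosedImmersion jY] (m : ℕ) (h : iY.ker = jY.ker ^ m) :
    iX.ker = jX.ker ^ m := by
  refine Scheme.IdealSheafData.ext_of_iSup_eq_top (ι := Pairs f') (fun p => p.1.2)
    (iSup_pairs_eq_top f') ?_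
  rintro ⟨⟨⟨V', hV'⟩, ⟨U', hU'⟩⟩, e'⟩
  simp only [Scheme.IdealSheafData.ideal_pow, Pi.pow_apply]
  rw [ker_ideal_eq_map hc V' hV' U' hU' e', ker_ideal_eq_map hc₀ V' hV' U' hU' e',
    ← Ideal.map_pow, h]
  simp only [Scheme.IdealSheafData.ideal_pow, Pi.pow_apply]

/-- the pasted cartesian squares of an adic morphism. -/
lemma isPullback_toX {𝔛 𝔖 : FSch.Sys.{u}} (f : 𝔛 ⟶ 𝔖) (hf : FSch.IsAdicHom f) (n : ℕ) :
    IsPullback (𝔛.toX n) ((f : FSch.Hom 𝔛 𝔖).app 0) ((f : FSch.Hom 𝔛 𝔖).app n) (𝔖.toX n) := by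
  induction n with
  | zero =>
    haveI : IsIso (𝔛.toX 0) := (inferInstance : IsIso (𝟙 (𝔛.X 0)))
    haveI : IsIso (𝔖.toX 0) := (inferInstance : IsIso (𝟙 (𝔖.X 0)))
    exact IsPullback.of_horiz_isIso ⟨by simp [FSch.Sys.toX]⟩
  | succ n ih => exact ih.paste_horiz (hf n)

theorem S3857_main {𝔛 𝔖 : FSch.Sys.{u}} (f : 𝔛 ⟶ 𝔖)
    (h𝔖 : 𝔖.IsLocNoethFormal) (hf : FSch.IsAdicHom f) [IsLocallyNoetherian (𝔛.X 0)] :
    𝔛.IsLocNoethFormal := by
  obtain ⟨hF, hA, hN⟩ := h𝔖
  refine ⟨fun n => ?_, fun n => ?_, fun n => ?_⟩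
  · haveI := (hF n).1
    exact ⟨isClosedImmersion_left (hf n), (surjective_left (hf n) ⟨(hF n).2⟩).surj⟩
  · haveI := (hF n).1
    haveI := isClosedImmersion_toX 𝔖 hF (n + 1)
    exact ker_eq_pow_of_isPullback (hf n) (isPullback_toX f hf (n + 1)) (n + 1) (hA n)
  · induction n with
    | zero => infer_instance
    | succ n ih =>
      haveI := ih
      haveI := hN (n + 1)
      exact isLocallyNoetherian_of_isPullback ⟨(hF n).1, ⟨(hF n).2⟩⟩ (hf n)

end Groth.Agent.Helper7.FormalNoeth
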