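import Mathlib
import Groth.Prelude.Def_MoreMor
import Groth.Prelude.Def_FSch2
import Groth.Prelude.Def_FSch3
import Groth.Agent.Lib.Helper7.FormalNoeth

set_option autoImplicit false
set_option linter.style.haveILetI false
set_option linter.unusedVariables false
universe u

open AlgebraicGeometry CategoryTheory Limits

/-! helper7: completion along an inverse image ideal is a fibre product (S3862). -/

namespace Groth.Agent.Helper7.FormalCompl

open Groth.Agent.Helper7.ThickSch Groth.Agent.Helper7.ThickAff Groth.Agent.Helper7.FormalProper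
  Groth.Agent.Helper7.FormalNoeth

variable {X Y : Scheme.{u}}

set_option backward.isDefEq.respectTransparency false in
/-- the inverse image ideal on affine opens. -/
lemma ideal_comap_eq_map (f : X ⟶ Y) (𝓚 : Y.IdealSheafData)
    (V : Y.Opens) (hV : IsAffineOpen V) (U : X.Opens) (hU : IsAffineOpen U) (e : U ≤ f ⁻¹ᵁ V) :
    (𝓚.comap f).ideal ⟨U, hU⟩ = (𝓚.ideal ⟨V, hV⟩).map (f.appLE V U e).hom := by
  have := ker_ideal_eq_map (IsPullback.of_hasPullback f 𝓚.subschemeι) V hV U hU e
  rw [Scheme.IdealSheafData.ker_subschemeι] at this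
  exact this

set_option backward.isDefEq.respectTransparency false in
/-- inverse image of ideal sheaves commutes with powers. -/
theorem comap_pow (f : X ⟶ Y) (𝓚 : Y.IdealSheafData) (m : ℕ) :
    (𝓚 ^ m).comap f = (𝓚.comap f) ^ m := by
  refine Scheme.IdealSheafData.ext_of_iSup_eq_top (ι := Pairs f) (fun p => p.1.2)
    (iSup_pairs_eq_top f) ?_
  rintro ⟨⟨⟨V, hV⟩, ⟨U, hU⟩⟩, e⟩
  simp only [Scheme.IdealSheafData.ideal_pow, Pi.pow_apply]
  rw [ideal_comap_eq_map f _ V hV U hU e, ideal_comap_eq_map f _ V hV U hU e, ← Ideal.map_pow]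
  simp only [Scheme.IdealSheafData.ideal_pow, Pi.pow_apply]

set_option backward.isDefEq.respectTransparency false in
theorem isPullback_completionMap_comap (f : X ⟶ Y) (𝓚 : Y.IdealSheafData)
    (h : FSch.PowCompat f (𝓚.comap f) 𝓚) (n : ℕ) :
    IsPullback (FSch.completionToX X (𝓚.comap f) n)
      ((FSch.completionMap f (𝓚.comap f) 𝓚 h : FSch.Hom _ _).app n) f
      (FSch.completionToX Y 𝓚 n) := by
  change IsPullback ((𝓚.comap f) ^ (n + 1)).subschemeι
    (Scheme.IdealSheafData.subschemeMap ((𝓚.comap f) ^ (n + 1)) (𝓚 ^ (n + 1)) f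
      (Scheme.IdealSheafData.le_map_iff_comap_le.mpr (h n))) f (𝓚 ^ (n + 1)).subschemeι
  refine isPullback_of_isClosedImmersion _ _ _ _ ?_ ?_
  · exact (Scheme.IdealSheafData.subschemeMap_subschemeι _ _ _ _).symm
  · rw [Scheme.IdealSheafData.ker_subschemeι, Scheme.IdealSheafData.ker_subschemeι]
    exact comap_pow f 𝓚 (n + 1)

set_option backward.isDefEq.respectTransparency false in
theorem S3862_main (f : X ⟶ Y) (𝓚 : Y.IdealSheafData)
    (h : FSch.PowCompat f (𝓚.comap f) 𝓚) :
    (∀ n : ℕ, IsPullback (FSch.completionToX X (𝓚.comap f) n)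
        ((FSch.completionMap f (𝓚.comap f) 𝓚 h : FSch.Hom _ _).app n) f
        (FSch.completionToX Y 𝓚 n)) ∧
      FSch.IsAdicHom (FSch.completionMap f (𝓚.comap f) 𝓚 h) := by
  refine ⟨isPullback_completionMap_comap f 𝓚 h, fun n => ?_⟩
  have h1 := isPullback_completionMap_comap f 𝓚 h (n + 1)
  have h0 := isPullback_completionMap_comap f 𝓚 h n
  refine IsPullback.of_right ?_
    ((FSch.completionMap f (𝓚.comap f) 𝓚 h : FSch.Hom _ _).comm n).symm h1
  have e1 : (FSch.completionAlong X (𝓚.comap f)).ι n ≫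
      FSch.completionToX X (𝓚.comap f) (n + 1) = FSch.completionToX X (𝓚.comap f) n :=
    Scheme.IdealSheafData.inclusion_subschemeι _
  have e2 : (FSch.completionAlong Y 𝓚).ι n ≫ FSch.completionToX Y 𝓚 (n + 1) =
      FSch.completionToX Y 𝓚 n :=
    Scheme.IdealSheafData.inclusion_subschemeι _
  rw [e1, e2]
  exact h0

end Groth.Agent.Helper7.FormalCompl
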