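import Mathlib.Topology.Constructible
import Mathlib.Topology.Spectral.Prespectral

/-!
# Helper library (helper7): constructible sets in prespectral spaces
-/

set_option autoImplicit false

namespace Groth.Agent.Helper7

open Topology TopologicalSpace Set

universe u v
variable {X : Type u} {Y : Type v} [TopologicalSpace X] [TopologicalSpace Y]

/-- Induction principle: a property holds for all constructible sets if it holds for differences
of retrocompact opens and is stable under binary unions. -/
theorem isConstructible_sdiff_union_induction {p : ∀ s : Set X, IsConstructible s → Prop}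
    (sdiff : ∀ U (hUo : IsOpen U) (hUc : IsRetrocompact U) V (hVo : IsOpen V)
      (hVc : IsRetrocompact V),
      p (U \ V) ((hUc.isConstructible hUo).sdiff (hVc.isConstructible hVo)))
    (union : ∀ s hs t ht, p s hs → p t ht → p (s ∪ t) (hs.union ht))
    {s : Set X} (hs : IsConstructible s) : p s hs := by
  induction s, hs using BooleanSubalgebra.closure_sdiff_sup_induction with
  | isSublattice =>
    exact ⟨fun s hs t ht ↦ ⟨hs.1.union ht.1, hs.2.union ht.2⟩,
      fun s hs t ht ↦ ⟨hs.1.inter ht.1, hs.2.inter_isOpen ht.2 ht.1⟩⟩
  | bot_mem => exact ⟨isOpen_empty, .empty⟩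
  | top_mem => exact ⟨isOpen_univ, .univ⟩
  | sdiff U hU V hV => exact sdiff U hU.1 hU.2 V hV.1 hV.2
  | sup s hs t ht hs' ht' => exact union s hs t ht hs' ht'

/-- Constructible sets are retrocompact. -/
theorem isRetrocompact_of_isConstructible {s : Set X} (hs : IsConstructible s) :
    IsRetrocompact s := by
  induction hs using isConstructible_sdiff_union_induction with
  | sdiff U hUo hUc V hVo hVc =>
    intro W hWc hWo
    have : U \ V ∩ W = (U ∩ W) ∩ Vᶜ := by
      ext x; simp only [mem_inter_iff, mem_sdiff, mem_compl_iff]; tauto
    rw [this]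
    exact (hUc hWc hWo).inter_right hVo.isClosed_compl
  | union s _ t _ hs ht => exact hs.union ht

/-- In a prespectral space, a compact open subset of a subspace (via an inducing map) is the
preimage of a compact open. -/
theorem exists_isCompact_isOpen_preimage_eq [PrespectralSpace X] {g : Y → X} (hg : IsInducing g)
    {K : Set Y} (hKo : IsOpen K) (hKc : IsCompact K) :
    ∃ V : Set X, IsOpen V ∧ IsCompact V ∧ g ⁻¹' V = K := by
  obtain ⟨U', hU'o, rfl⟩ := hg.isOpen_iff.mp hKo
  have himg : IsCompact (g '' (g ⁻¹' U')) := hKc.image hg.continuous
  obtain ⟨V, hVc, hVo, hUV, hVU'⟩ := PrespectralSpace.exists_isCompact_and_isOpen_between himg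
    hU'o (by rintro _ ⟨x, hx, rfl⟩; exact hx)
  refine ⟨V, hVo, hVc, ?_⟩
  ext x
  constructor
  · intro hx; exact hVU' hx
  · intro hx; exact hUV ⟨x, hx, rfl⟩

/-- Preimages of constructible sets under spectral inducing maps into prespectral spaces are
constructible. -/
theorem isConstructible_preimage_of_isInducing [PrespectralSpace X] {g : Y → X}
    (hg : IsInducing g) (hgs : IsSpectralMap g) {E : Set X} (hE : IsConstructible E) :
    IsConstructible (g ⁻¹' E) := by
  refine hE.preimage hg.continuous ?_
  intro s hso hsr K hKc hKo
  obtain ⟨V, hVo, hVc, rfl⟩ := exists_isCompact_isOpen_preimage_eq hg hKo hKc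
  rw [← preimage_inter]
  exact hgs.isCompact_preimage_of_isOpen (hso.inter hVo) (hsr hVc hVo)

/-- A subspace (via an inducing spectral map) of a prespectral space is prespectral. -/
theorem isSpectralMap_subtype_val_of_isRetrocompact {E : Set X} (hE : IsRetrocompact E) :
    IsSpectralMap (Subtype.val : E → X) :=
  IsRetrocompact_iff_isSpectralMap_subtypeVal.mp hE

theorem prespectralSpace_of_isRetrocompact [PrespectralSpace X] {E : Set X}
    (hE : IsRetrocompact E) : PrespectralSpace E :=
  PrespectralSpace.of_isInducing _ IsInducing.subtypeVal
    (isSpectralMap_subtype_val_of_isRetrocompact hE)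

/-- The inclusion between retrocompact subsets of a prespectral space is spectral. -/
theorem isSpectralMap_inclusion [PrespectralSpace X] {s t : Set X} (hst : s ⊆ t)
    (hs : IsRetrocompact s) : IsSpectralMap (Set.inclusion hst) := by
  refine ⟨continuous_inclusion hst, fun K hKo hKc => ?_⟩
  obtain ⟨V, hVo, hVc, rfl⟩ := exists_isCompact_isOpen_preimage_eq
    (IsInducing.subtypeVal (t := t)) hKo hKc
  have : Set.inclusion hst ⁻¹' ((Subtype.val : t → X) ⁻¹' V) = (Subtype.val : s → X) ⁻¹' V := rfl
  rw [this]
  exact (isSpectralMap_subtype_val_of_isRetrocompact hs).isCompact_preimage_of_isOpen hVo hVc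

/-- Images of constructible sets under an embedding whose range is a difference of retrocompact
opens are constructible. -/
theorem isConstructible_image_of_range_eq_sdiff {f : Y → X} (hf : IsEmbedding f)
    {U V : Set X} (hUo : IsOpen U) (hUc : IsRetrocompact U) (hVo : IsOpen V)
    (hVc : IsRetrocompact V) (hr : range f = U \ V) {s : Set Y} (hs : IsConstructible s) :
    IsConstructible (f '' s) := by
  have hfU : ∀ y, f y ∈ U := fun y => (hr ▸ mem_range_self y : f y ∈ U \ V).1
  let g : Y → U := fun y => ⟨f y, hfU y⟩
  have hgf : (Subtype.val : U → X) ∘ g = f := rfl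
  have hg_emb : IsEmbedding g := by
    refine IsEmbedding.of_comp (hf.continuous.subtype_mk _) continuous_subtype_val ?_
    rw [hgf]; exact hf
  have hg_range : range g = (Subtype.val : U → X) ⁻¹' Vᶜ := by
    ext ⟨x, hx⟩
    simp only [mem_range, mem_preimage, mem_compl_iff, g, Subtype.mk.injEq]
    constructor
    · rintro ⟨y, rfl⟩
      exact (hr ▸ mem_range_self y : f y ∈ U \ V).2
    · intro hxV
      have : x ∈ range f := hr ▸ ⟨hx, hxV⟩
      exact this
  have hg_closed : IsClosedEmbedding g := by
    refine ⟨hg_emb, ?_⟩
    rw [hg_range]
    exact hVo.isClosed_compl.preimage continuous_subtype_val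
  have hg_compl : IsRetrocompact (range g)ᶜ := by
    rw [hg_range, ← preimage_compl, compl_compl]
    exact hVc.preimage_of_isOpenEmbedding hUo.isOpenEmbedding_subtypeVal
  have h1 : IsConstructible (g '' s) := hs.image_of_isClosedEmbedding hg_closed hg_compl
  have h2 : IsConstructible ((Subtype.val : U → X) '' (g '' s)) :=
    h1.image_of_isOpenEmbedding hUo.isOpenEmbedding_subtypeVal
      (by rw [Subtype.range_coe]; exact hUc)
  rwa [← image_comp] at h2

/-- Stacks 09YD: a constructible subset of a constructible subspace of a prespectral space is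
constructible in the ambient space. -/
theorem isConstructible_image_val [PrespectralSpace X] {E : Set X} (hE : IsConstructible E) :
    ∀ F : Set E, IsConstructible F → IsConstructible ((Subtype.val : E → X) '' F) := by
  induction hE using isConstructible_sdiff_union_induction with
  | sdiff U hUo hUc V hVo hVc =>
    intro F hF
    exact isConstructible_image_of_range_eq_sdiff IsEmbedding.subtypeVal hUo hUc hVo hVc
      (by rw [Subtype.range_coe]) hF
  | union s hs t ht ihs iht =>
    intro F hF
    have hst : IsRetrocompact (s ∪ t) := isRetrocompact_of_isConstructible (hs.union ht)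
    have : PrespectralSpace ↥(s ∪ t) := prespectralSpace_of_isRetrocompact hst
    have h1 := ihs _ (isConstructible_preimage_of_isInducing
      (IsEmbedding.inclusion (subset_union_left (s := s) (t := t))).isInducing
      (isSpectralMap_inclusion subset_union_left (isRetrocompact_of_isConstructible hs)) hF)
    have h2 := iht _ (isConstructible_preimage_of_isInducing
      (IsEmbedding.inclusion (subset_union_right (s := s) (t := t))).isInducing
      (isSpectralMap_inclusion subset_union_right (isRetrocompact_of_isConstructible ht)) hF)
    have : (Subtype.val : ↥(s ∪ t) → X) '' F =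
        (Subtype.val : s → X) '' (Set.inclusion subset_union_left ⁻¹' F) ∪
        (Subtype.val : t → X) '' (Set.inclusion subset_union_right ⁻¹' F) := by
      ext x
      simp only [mem_image, mem_union, mem_preimage, Subtype.exists, exists_and_right,
        exists_eq_right]
      constructor
      · rintro ⟨hx, hxF⟩
        rcases hx with hxs | hxt
        · exact Or.inl ⟨hxs, hxF⟩
        · exact Or.inr ⟨hxt, hxF⟩
      · rintro (⟨hxs, hxF⟩ | ⟨hxt, hxF⟩)
        · exact ⟨Or.inl hxs, hxF⟩
        · exact ⟨Or.inr hxt, hxF⟩
    rw [this]
    exact h1.union h2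

end Groth.Agent.Helper7
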