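import Mathlib
import Groth.Agent.Lib.Helper7.LimHom

set_option autoImplicit false
open CategoryTheory CategoryTheory.Limits AlgebraicGeometry Opposite TopologicalSpace
universe u

/-! helper7: morphisms between schemes over a stage of a cofiltered limit with affine transition
maps which agree over the limit agree over a finite stage (EGA IV 8.8.2, faithfulness). -/

namespace Groth.Agent.Helper7.LimHom

open Groth.Agent.Helper7.LimBC

variable {I : Type u} [Category.{u} I] [IsCofiltered I] (D : I ⥤ Scheme.{u}) (c : Cone D)
  (hc : IsLimit c) [∀ {i j : I} (f : i ⟶ j), IsAffineHom (D.map f)] (i : I)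
  {Xi Yi : Scheme.{u}} (xi : Xi ⟶ D.obj i) (yi : Yi ⟶ D.obj i)

set_option backward.isDefEq.respectTransparency false in
include hc in
/-- faithfulness: two morphisms over a stage, the target being locally of finite type and the
source quasi-compact, which agree after base change to the limit agree after base change to a
finite stage. -/
theorem exists_hom_eq_descend [CompactSpace Xi] [LocallyOfFiniteType yi]
    (a b : Xi ⟶ Yi) (ha : a ≫ yi = xi) (hb : b ≫ yi = xi)
    (hab : pullback.fst xi (c.π.app i) ≫ a = pullback.fst xi (c.π.app i) ≫ b) :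
    ∃ (j : I) (φ : j ⟶ i), pullback.fst xi (D.map φ) ≫ a = pullback.fst xi (D.map φ) ≫ b := by
  have hX := IsPullback.of_hasPullback xi (c.π.app i)
  obtain ⟨k, hik, hk⟩ := Scheme.exists_hom_comp_eq_comp_of_locallyOfFiniteType
    (bcDiagram D i xi) (tBase D i xi) yi (bcCone hX) (isLimitBcCone hc hX) (i := Over.mk (𝟙 i))
    (pullback.fst xi (D.map (𝟙 i)) ≫ a) (pullback.fst xi (D.map (𝟙 i)) ≫ b)
    (by simp only [tBase, Category.assoc, ha]; rfl)
    (by simp only [tBase, Category.assoc, hb]; rfl)
    (by
      have h1 := bcCone_π_fst hX (Over.mk (𝟙 i))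
      have h1' : (bcCone hX).π.app (Over.mk (𝟙 i)) ≫ pullback.fst xi (D.map (𝟙 i)) =
        pullback.fst xi (c.π.app i) := h1
      rw [← Category.assoc, ← Category.assoc, h1']
      exact hab)
  refine ⟨k.left, k.hom, ?_⟩
  have h2 := bcDiagram_map_fst D i xi hik
  have h2' : (bcDiagram D i xi).map hik ≫ pullback.fst xi (D.map (𝟙 i)) =
      pullback.fst xi (D.map k.hom) := h2
  rw [← Category.assoc, ← Category.assoc, h2'] at hk
  exact hk

end Groth.Agent.Helper7.LimHom
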