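import Mathlib
import Groth.Prelude.Def_FGA

set_option autoImplicit false
universe u
open CategoryTheory CategoryTheory.Limits AlgebraicGeometry

/-! helper7: base change of a scheme representing the Hilbert functor (S17081); locally of finite type over locally Noetherian is locally Noetherian; `hilbPull` is `comap`. -/

namespace Groth.Agent.Helper7.HilbBC

/-- locally of finite type over locally Noetherian is locally Noetherian. -/
theorem isLocallyNoetherian_of_lft {X Y : Scheme.{u}} (f : X ⟶ Y) [LocallyOfFiniteType f]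
    [IsLocallyNoetherian Y] : IsLocallyNoetherian X := by
  have key : ∀ x : X, ∃ U : X.affineOpens, x ∈ (U : X.Opens) ∧ IsNoetherianRing Γ(X, U) := by
    intro x
    obtain ⟨V, hV, hxV, -⟩ := exists_isAffineOpen_mem_and_subset (U := (⊤ : Y.Opens))
      (x := f x) trivial
    obtain ⟨U, hU, hxU, hUV⟩ := exists_isAffineOpen_mem_and_subset (U := f ⁻¹ᵁ V) (x := x) hxV
    refine ⟨⟨U, hU⟩, hxU, ?_⟩
    have hft : RingHom.FiniteType (f.appLE V U hUV).hom :=
      HasRingHomProperty.appLE (P := @LocallyOfFiniteType) f inferInstance ⟨V, hV⟩ ⟨U, hU⟩ hUV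
    have : IsNoetherianRing Γ(Y, V) := IsLocallyNoetherian.component_noetherian ⟨V, hV⟩
    algebraize [(f.appLE V U hUV).hom]
    exact Algebra.FiniteType.isNoetherianRing Γ(Y, V) Γ(X, U)
  choose U hxU hU using key
  refine isLocallyNoetherian_of_affine_cover (S := U) ?_ hU
  rw [eq_top_iff]
  intro x _
  exact TopologicalSpace.Opens.mem_iSup.mpr ⟨x, hxU x⟩

set_option backward.isDefEq.respectTransparency false in
/-- `hilbPull` is `comap`. -/
theorem hilbPull_eq_comap {X S : Scheme.{u}} (f : X ⟶ S) {T T' : Over S} (g : T' ⟶ T)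
    (I : (PicF.XT f T).IdealSheafData) :
    FGA.hilbPull f g I = I.comap (PicF.XTmap f g) := by
  rw [FGA.hilbPull, Scheme.IdealSheafData.comap, ← pullbackSymmetry_hom_comp_fst,
    Scheme.Hom.ker_comp_of_isIso]

theorem comap_comap_of_comp_eq_id {A B : Scheme.{u}} (a : A ⟶ B) (b : B ⟶ A) (hab : a ≫ b = 𝟙 A)
    (I : A.IdealSheafData) : (I.comap b).comap a = I := by
  rw [← Scheme.IdealSheafData.comap_comp, hab, Scheme.IdealSheafData.comap_id]

set_option backward.isDefEq.respectTransparency false in
theorem comap_subschemeι_comp {A B : Scheme.{u}} (φ : B ⟶ A) (I : A.IdealSheafData) :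
    (I.comap φ).subschemeι ≫ φ =
      ((I.comapIso φ).hom ≫ pullback.snd φ I.subschemeι) ≫ I.subschemeι := by
  rw [Category.assoc, ← pullback.condition, Scheme.IdealSheafData.comapIso_hom_fst_assoc]

variable {X S S' : Scheme.{u}} (f : X ⟶ S) (h : S' ⟶ S)

/-- `X' ×_{S'} T' ⟶ X ×_S T'`. -/
noncomputable def θhom {T' : Scheme.{u}} (t : T' ⟶ S') :
    pullback (pullback.snd f h) t ⟶ pullback f (t ≫ h) :=
  pullback.lift (pullback.fst _ _ ≫ pullback.fst f h) (pullback.snd _ _) (by
    rw [Category.assoc, pullback.condition (f := f), ← Category.assoc, pullback.condition,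
      Category.assoc])

/-- `X ×_S T' ⟶ X' ×_{S'} T'`. -/
noncomputable def θinv {T' : Scheme.{u}} (t : T' ⟶ S') :
    pullback f (t ≫ h) ⟶ pullback (pullback.snd f h) t :=
  pullback.lift (pullback.lift (pullback.fst _ _) (pullback.snd _ _ ≫ t) (by
    rw [pullback.condition, Category.assoc])) (pullback.snd _ _) (by rw [pullback.lift_snd])

@[reassoc (attr := simp)]
theorem θhom_fst {T' : Scheme.{u}} (t : T' ⟶ S') :
    θhom f h t ≫ pullback.fst _ _ = pullback.fst _ _ ≫ pullback.fst f h :=
  pullback.lift_fst _ _ _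

@[reassoc (attr := simp)]
theorem θhom_snd {T' : Scheme.{u}} (t : T' ⟶ S') :
    θhom f h t ≫ pullback.snd _ _ = pullback.snd _ _ := pullback.lift_snd _ _ _

@[reassoc (attr := simp)]
theorem θinv_snd {T' : Scheme.{u}} (t : T' ⟶ S') :
    θinv f h t ≫ pullback.snd _ _ = pullback.snd _ _ := pullback.lift_snd _ _ _

@[reassoc (attr := simp)]
theorem θinv_fst_fst {T' : Scheme.{u}} (t : T' ⟶ S') :
    θinv f h t ≫ pullback.fst _ _ ≫ pullback.fst f h = pullback.fst _ _ := by
  rw [θinv, pullback.lift_fst_assoc, pullback.lift_fst]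

@[reassoc (attr := simp)]
theorem θinv_fst_snd {T' : Scheme.{u}} (t : T' ⟶ S') :
    θinv f h t ≫ pullback.fst _ _ ≫ pullback.snd f h = pullback.snd _ _ ≫ t := by
  rw [θinv, pullback.lift_fst_assoc, pullback.lift_snd]

@[reassoc (attr := simp)]
theorem θhom_inv {T' : Scheme.{u}} (t : T' ⟶ S') : θhom f h t ≫ θinv f h t = 𝟙 _ := by
  refine pullback.hom_ext ?_ ?_
  · refine pullback.hom_ext ?_ ?_
    · simp
    · simp [pullback.condition]
  · simp

@[reassoc (attr := simp)]
theorem θinv_hom {T' : Scheme.{u}} (t : T' ⟶ S') : θinv f h t ≫ θhom f h t = 𝟙 _ := by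
  refine pullback.hom_ext ?_ ?_
  · simp
  · simp

/-- An `S'`-morphism to the base change of `H` gives an `S`-morphism to `H`. -/
noncomputable def dn {H : Over S} {T' : Over S'} (g : T' ⟶ Over.mk (pullback.snd H.hom h)) :
    (Over.map h).obj T' ⟶ H :=
  Over.homMk (g.left ≫ pullback.fst H.hom h) (by
    change (g.left ≫ pullback.fst H.hom h) ≫ H.hom = T'.hom ≫ h
    have := Over.w g
    change g.left ≫ pullback.snd H.hom h = T'.hom at this
    rw [Category.assoc, pullback.condition, ← Category.assoc, this])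

/-- the comparison of fibre products. -/
noncomputable abbrev pp (H : Over S) :
    pullback (pullback.snd f h) (pullback.snd H.hom h) ⟶ pullback f H.hom :=
  pullback.map (pullback.snd f h) (pullback.snd H.hom h) f H.hom
      (pullback.fst f h) (pullback.fst H.hom h) h pullback.condition.symm pullback.condition.symm

set_option backward.isDefEq.respectTransparency false in
theorem XTmap_comp_pp {H : Over S} {T' : Over S'} (g : T' ⟶ Over.mk (pullback.snd H.hom h)) :
    PicF.XTmap (pullback.snd f h) g ≫ pp f h H = θhom f h T'.hom ≫ PicF.XTmap f (dn h g) := by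
  refine pullback.hom_ext ?_ ?_
  · simp [PicF.XTmap, pp, dn]
  · simp [PicF.XTmap, pp, dn]

set_option backward.isDefEq.respectTransparency false in
theorem hilbPull_dn {H : Over S} (Z : FGA.HilbSet f H)
    (I' : (PicF.XT (pullback.snd f h) (Over.mk (pullback.snd H.hom h))).IdealSheafData)
    (hI' : I' = Z.1.comap (pp f h H))
    {T' : Over S'} (g : T' ⟶ Over.mk (pullback.snd H.hom h)) :
    FGA.hilbPull (pullback.snd f h) g I' =
      (FGA.hilbPull f (dn h g) Z.1).comap (θhom f h T'.hom) := by
  rw [hilbPull_eq_comap, hilbPull_eq_comap, hI', ← Scheme.IdealSheafData.comap_comp,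
    ← Scheme.IdealSheafData.comap_comp, XTmap_comp_pp]

set_option backward.isDefEq.respectTransparency false in
/-- transport of a point of the Hilbert functor along the comparison isomorphism. -/
theorem hilbSet_transport {T' : Over S'} (Y : FGA.HilbSet (pullback.snd f h) T') :
    IsProper ((Y.1.comap (θinv f h T'.hom)).subschemeι ≫
        PicF.XTproj f ((Over.map h).obj T')) ∧
      Flat ((Y.1.comap (θinv f h T'.hom)).subschemeι ≫ PicF.XTproj f ((Over.map h).obj T')) := by
  have e : (Y.1.comap (θinv f h T'.hom)).subschemeι ≫ PicF.XTproj f ((Over.map h).obj T') =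
      ((Y.1.comapIso (θinv f h T'.hom)).hom ≫ pullback.snd (θinv f h T'.hom) Y.1.subschemeι) ≫
        (Y.1.subschemeι ≫ PicF.XTproj (pullback.snd f h) T') := by
    have e1 : PicF.XTproj f ((Over.map h).obj T') =
        θinv f h T'.hom ≫ PicF.XTproj (pullback.snd f h) T' := (θinv_snd f h T'.hom).symm
    rw [e1, ← Category.assoc, comap_subschemeι_comp]
    simp only [Category.assoc]
  have hθ : IsIso (θinv f h T'.hom) := ⟨θhom f h T'.hom, θinv_hom f h _, θhom_inv f h _⟩
  have hp : IsProper (Y.1.subschemeι ≫ PicF.XTproj (pullback.snd f h) T') := Y.2.1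
  have hf : Flat (Y.1.subschemeι ≫ PicF.XTproj (pullback.snd f h) T') := Y.2.2
  rw [e]
  exact ⟨inferInstance, inferInstance⟩

set_option backward.isDefEq.respectTransparency false in
theorem main [IsNoetherian S] [IsNoetherian S'] (H : Over S) (Z : FGA.HilbSet f H)
    (hH : FGA.HilbRepresentedBy f H Z) [LocallyOfFiniteType H.hom]
    (Z' : FGA.HilbSet (pullback.snd f h) (Over.mk (pullback.snd H.hom h)))
    (hZ' : Z'.1 = Z.1.comap (pp f h H)) :
    FGA.HilbRepresentedBy (pullback.snd f h) (Over.mk (pullback.snd H.hom h)) Z' := by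
  refine ⟨?_, ?_⟩
  · exact isLocallyNoetherian_of_lft (pullback.snd H.hom h)
  · intro T' _ Y
    have hT : IsLocallyNoetherian ((Over.map h).obj T').left := ‹IsLocallyNoetherian T'.left›
    obtain ⟨g₀, hg₀, huniq⟩ := hH.2 ((Over.map h).obj T')
      ⟨Y.1.comap (θinv f h T'.hom), hilbSet_transport f h Y⟩
    change FGA.hilbPull f g₀ Z.1 = Y.1.comap (θinv f h T'.hom) at hg₀
    have hw : g₀.left ≫ H.hom = T'.hom ≫ h := Over.w g₀
    refine ⟨Over.homMk (pullback.lift g₀.left T'.hom hw) (pullback.lift_snd _ _ _), ?_, ?_⟩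
    · change FGA.hilbPull _ _ _ = _
      rw [hilbPull_dn f h Z Z'.1 hZ']
      have : dn h (Over.homMk (pullback.lift g₀.left T'.hom hw) (pullback.lift_snd _ _ _) :
          T' ⟶ Over.mk (pullback.snd H.hom h)) = g₀ := by
        refine Over.OverMorphism.ext ?_
        change pullback.lift g₀.left T'.hom hw ≫ pullback.fst H.hom h = g₀.left
        rw [pullback.lift_fst]
      rw [this, hg₀]
      exact comap_comap_of_comp_eq_id _ _ (θhom_inv f h _) _
    · intro g' hg'
      change FGA.hilbPull _ _ _ = _ at hg'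
      rw [hilbPull_dn f h Z Z'.1 hZ'] at hg'
      have h1 : FGA.hilbPull f (dn h g') Z.1 = Y.1.comap (θinv f h T'.hom) := by
        rw [← hg']
        exact (comap_comap_of_comp_eq_id _ _ (θinv_hom f h _) _).symm
      have h2 : dn h g' = g₀ := huniq _ h1
      refine Over.OverMorphism.ext ?_
      change g'.left = pullback.lift g₀.left T'.hom hw
      refine pullback.hom_ext ?_ ?_
      · rw [pullback.lift_fst, ← h2]
        rfl
      · rw [pullback.lift_snd]
        exact Over.w g'

end Groth.Agent.Helper7.HilbBC
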