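import Mathlib
import Groth.Prelude.Def_HTop

/-! helper7: V coverings: pulling a V covering back to an affine scheme gives a standard V covering -/

set_option autoImplicit false
universe w u

namespace Groth.Agent.Helper7.VCov
open CategoryTheory CategoryTheory.Limits AlgebraicGeometry HTop

theorem exists_lift_of_closedPoint_mem {Z : Scheme.{u}} (V : CommRingCat.{u}) [IsLocalRing V]
    (g : Spec V ⟶ Z) (U : Z.Opens) (h : g (IsLocalRing.closedPoint V) ∈ U) :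
    ∃ g' : Spec V ⟶ (U : Scheme.{u}), g' ≫ U.ι = g := by
  have h1 : g ⁻¹ᵁ U = ⊤ := Scheme.preimage_eq_top_of_closedPoint_mem g h
  refine ⟨IsOpenImmersion.lift U.ι g ?_, IsOpenImmersion.lift_fac _ _ _⟩
  rintro _ ⟨x, rfl⟩
  rw [Scheme.Opens.range_ι]
  have : x ∈ g ⁻¹ᵁ U := by rw [h1]; trivial
  exact this

theorem exists_standardV_refinesOver {T : Scheme.{u}} (E : PreZeroHypercover.{w} T)
    (hE : IsVCover E) {Z : Scheme.{u}} [IsAffine Z] (h : Z ⟶ T) :
    ∃ G : PreZeroHypercover.{0} Z, IsStandardV G ∧ RefinesOver h G E := by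
  classical
  have hpt : ∀ z : Z, ∃ (U : T.affineOpens) (W : Z.Opens),
      IsAffineOpen W ∧ z ∈ W ∧ W ≤ h ⁻¹ᵁ U.1 := by
    intro z
    obtain ⟨U, hU, hzU, -⟩ := TopologicalSpace.Opens.isBasis_iff_nbhd.mp T.isBasis_affineOpens
      (show h z ∈ (⊤ : T.Opens) from trivial)
    obtain ⟨W, hW, hzW, hWU⟩ := TopologicalSpace.Opens.isBasis_iff_nbhd.mp Z.isBasis_affineOpens
      (show z ∈ h ⁻¹ᵁ U from hzU)
    exact ⟨⟨U, hU⟩, W, hW, hzW, hWU⟩
  choose U W hWaff hzW hWU using hpt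
  obtain ⟨t, ht⟩ := isCompact_univ.elim_finite_subcover (fun z => (W z : Set Z))
    (fun z => (W z).isOpen) (fun z _ => Set.mem_iUnion.mpr ⟨z, hzW z⟩)
  let n := t.card
  let e : Fin n ≃ t := t.equivFin.symm
  let pt : Fin n → Z := fun k => (e k : Z)
  have hF : ∀ k : Fin n, ∃ F : PreZeroHypercover.{0} ((U (pt k) : T.Opens) : Scheme.{u}),
      IsStandardV F ∧ RefinesOver (U (pt k) : T.Opens).ι F E := fun k => hE (U (pt k))
  choose F hFstd hFref using hF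
  let hk : ∀ k : Fin n, ((W (pt k) : Z.Opens) : Scheme.{u}) ⟶ ((U (pt k) : T.Opens) : Scheme.{u}) :=
    fun k => h.resLE _ _ (hWU (pt k))
  have hkι : ∀ k, hk k ≫ (U (pt k) : T.Opens).ι = (W (pt k)).ι ≫ h :=
    fun k => Scheme.Hom.resLE_comp_ι _ _
  let G : PreZeroHypercover.{0} Z :=
    { I₀ := Σ k : Fin n, (F k).I₀
      X := fun kj => pullback (hk kj.1) ((F kj.1).f kj.2)
      f := fun kj => pullback.fst _ _ ≫ (W (pt kj.1)).ι }
  refine ⟨G, ⟨inferInstance, ?_, ?_, ?_⟩, ?_⟩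
  · have : ∀ k, Finite (F k).I₀ := fun k => (hFstd k).finite_index
    exact inferInstanceAs (Finite (Σ k : Fin n, (F k).I₀))
  · rintro ⟨k, j⟩
    have h1 : IsAffine ((W (pt k) : Z.Opens) : Scheme.{u}) := hWaff (pt k)
    have h2 : IsAffine ((U (pt k) : T.Opens) : Scheme.{u}) := (U (pt k)).2
    have h3 : IsAffine ((F k).X j) := (hFstd k).isAffine_obj j
    exact inferInstanceAs (IsAffine (pullback (hk k) ((F k).f j)))
  · intro V _ _ g
    obtain ⟨z, hz, hmem⟩ : ∃ z ∈ t, g (IsLocalRing.closedPoint V) ∈ W z := by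
      have := ht (Set.mem_univ (g (IsLocalRing.closedPoint V)))
      simpa using this
    obtain ⟨k, rfl⟩ : ∃ k, pt k = z := ⟨e.symm ⟨z, hz⟩, by simp [pt]⟩
    obtain ⟨g', hg'⟩ := exists_lift_of_closedPoint_mem V g (W (pt k)) hmem
    obtain ⟨W', hW'dom, hW'val, φ, hφ, j, g'', hg''⟩ := (hFstd k).lift V (g' ≫ hk k)
    refine ⟨W', hW'dom, hW'val, φ, hφ, ⟨k, j⟩,
      pullback.lift (Spec.map φ ≫ g') g'' (by rw [Category.assoc]; exact hg''.symm), ?_⟩
    change pullback.lift _ _ _ ≫ pullback.fst _ _ ≫ (W (pt k)).ι = _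
    rw [pullback.lift_fst_assoc, Category.assoc, hg']
  · rintro ⟨k, j⟩
    obtain ⟨i, m, hm⟩ := hFref k j
    refine ⟨i, pullback.snd _ _ ≫ m, ?_⟩
    change (pullback.snd _ _ ≫ m) ≫ E.f i = (pullback.fst _ _ ≫ (W (pt k)).ι) ≫ h
    rw [Category.assoc, hm, ← Category.assoc, ← pullback.condition, Category.assoc, hkι,
      Category.assoc]

theorem isVCover_pullback₁ {T T' : Scheme.{u}} (g : T' ⟶ T) (E : PreZeroHypercover.{w} T)
    (hE : HTop.IsVCover E) : HTop.IsVCover (E.pullback₁ g) := by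
  intro U'
  have hU'aff : IsAffine ((U' : T'.Opens) : Scheme.{u}) := U'.2
  obtain ⟨G, hG, hGref⟩ := exists_standardV_refinesOver E hE ((U' : T'.Opens).ι ≫ g)
  refine ⟨G, hG, ?_⟩
  intro j
  obtain ⟨i, k, hk⟩ := hGref j
  refine ⟨i, pullback.lift (G.f j ≫ (U' : T'.Opens).ι) k (by rw [Category.assoc]; exact hk.symm), ?_⟩
  change pullback.lift _ _ _ ≫ pullback.fst _ _ = _
  rw [pullback.lift_fst]

theorem isExtVal_comp (V W W' : CommRingCat.{u}) [IsDomain V] [ValuationRing V] [IsDomain W]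
    [ValuationRing W] [IsDomain W'] [ValuationRing W'] (φ : V ⟶ W) (ψ : W ⟶ W')
    (hφ : IsExtVal V W φ) (hψ : IsExtVal W W' ψ) : IsExtVal V W' (φ ≫ ψ) := by
  refine ⟨?_, ?_⟩
  · rw [CommRingCat.hom_comp]
    exact hψ.1.comp hφ.1
  · rw [CommRingCat.hom_comp]
    have h1 : IsLocalHom φ.hom := hφ.2
    have h2 : IsLocalHom ψ.hom := hψ.2
    exact RingHom.isLocalHom_comp ψ.hom φ.hom

theorem isVCover_bind {T : Scheme.{u}} (E : PreZeroHypercover.{w} T) (hE : HTop.IsVCover E)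
    (F : ∀ i, PreZeroHypercover.{w} (E.X i)) (hF : ∀ i, HTop.IsVCover (F i)) :
    HTop.IsVCover (E.bind F) := by
  classical
  intro U
  obtain ⟨G, hG, hGref⟩ := hE U
  choose i m hm using hGref
  have hGaff : ∀ j, IsAffine (G.X j) := hG.isAffine_obj
  have hH : ∀ j, ∃ H : PreZeroHypercover.{0} (G.X j), IsStandardV H ∧ RefinesOver (m j) H (F (i j)) :=
    fun j => exists_standardV_refinesOver (F (i j)) (hF (i j)) (m j)
  choose H hHstd hHref using hH
  refine ⟨G.bind H, ⟨hG.isAffine, ?_, ?_, ?_⟩, ?_⟩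
  · have h1 : Finite G.I₀ := hG.finite_index
    have h2 : ∀ j, Finite (H j).I₀ := fun j => (hHstd j).finite_index
    exact inferInstanceAs (Finite (Σ j : G.I₀, (H j).I₀))
  · rintro ⟨j, l⟩
    exact (hHstd j).isAffine_obj l
  · intro V _ _ g
    obtain ⟨W, hWd, hWv, φ, hφ, j, g', hg'⟩ := hG.lift V g
    obtain ⟨W', hW'd, hW'v, ψ, hψ, l, g'', hg''⟩ := (hHstd j).lift W g'
    refine ⟨W', hW'd, hW'v, φ ≫ ψ, isExtVal_comp V W W' φ ψ hφ hψ, ⟨j, l⟩, g'', ?_⟩
    change g'' ≫ (H j).f l ≫ G.f j = _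
    rw [← Category.assoc, hg'', Category.assoc, hg', Spec.map_comp, Category.assoc]
  · rintro ⟨j, l⟩
    obtain ⟨l', n, hn⟩ := hHref j l
    refine ⟨⟨i j, l'⟩, n, ?_⟩
    change n ≫ (F (i j)).f l' ≫ E.f (i j) = ((H j).f l ≫ G.f j) ≫ (U : T.Opens).ι
    rw [← Category.assoc, hn, Category.assoc, hm, Category.assoc]

end Groth.Agent.Helper7.VCov
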