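import Mathlib
import Groth.Prelude.Def_HTop
import Groth.Agent.Lib.Helper7.VCov

/-! helper7: standard V coverings: base change and composition -/

set_option autoImplicit false
universe w u

namespace Groth.Agent.Helper7.VCov
open CategoryTheory CategoryTheory.Limits AlgebraicGeometry HTop

theorem isStandardV_pullback₁ {T T' : Scheme.{u}} [IsAffine T'] (g : T' ⟶ T)
    (E : PreZeroHypercover.{w} T) (hE : HTop.IsStandardV E) :
    HTop.IsStandardV (E.pullback₁ g) := by
  have hT : IsAffine T := hE.isAffine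
  refine ⟨inferInstance, hE.finite_index, ?_, ?_⟩
  · intro j
    have : IsAffine (E.X j) := hE.isAffine_obj j
    exact inferInstanceAs (IsAffine (pullback g (E.f j)))
  · intro V _ _ k
    obtain ⟨W, hWd, hWv, φ, hφ, j, g', hg'⟩ := hE.lift V (k ≫ g)
    refine ⟨W, hWd, hWv, φ, hφ, j, pullback.lift (Spec.map φ ≫ k) g'
      (by rw [Category.assoc]; exact hg'.symm), ?_⟩
    change pullback.lift _ _ _ ≫ pullback.fst _ _ = _
    rw [pullback.lift_fst]

theorem isStandardV_bind {T : Scheme.{u}} (E : PreZeroHypercover.{w} T) (hE : HTop.IsStandardV E)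
    (F : ∀ j, PreZeroHypercover.{w} (E.X j)) (hF : ∀ j, HTop.IsStandardV (F j)) :
    HTop.IsStandardV (E.bind F) := by
  refine ⟨hE.isAffine, ?_, ?_, ?_⟩
  · have h1 : Finite E.I₀ := hE.finite_index
    have h2 : ∀ j, Finite (F j).I₀ := fun j => (hF j).finite_index
    exact inferInstanceAs (Finite (Σ j : E.I₀, (F j).I₀))
  · rintro ⟨j, l⟩
    exact (hF j).isAffine_obj l
  · intro V _ _ g
    obtain ⟨W, hWd, hWv, φ, hφ, j, g', hg'⟩ := hE.lift V g
    obtain ⟨W', hW'd, hW'v, ψ, hψ, l, g'', hg''⟩ := (hF j).lift W g'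
    refine ⟨W', hW'd, hW'v, φ ≫ ψ, isExtVal_comp V W W' φ ψ hφ hψ, ⟨j, l⟩, g'', ?_⟩
    change g'' ≫ (F j).f l ≫ E.f j = _
    rw [← Category.assoc, hg'', Category.assoc, hg', Spec.map_comp, Category.assoc]

end Groth.Agent.Helper7.VCov
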