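import Mathlib
import Groth.Prelude.Def_HTop
import Groth.Agent.Lib.Helper7.VCov2

/-! helper7: specializations are realised by valuation rings -/

set_option autoImplicit false
universe w u

namespace Groth.Agent.Helper7.VCov
open CategoryTheory CategoryTheory.Limits AlgebraicGeometry HTop

/-- a specialization in a scheme is realised by a morphism from the spectrum of a valuation ring -/
theorem exists_valuationRing_of_specializes {Z : Scheme.{u}} {z' z : Z} (h : z' ⤳ z) :
    ∃ (W : CommRingCat.{u}) (_ : IsDomain W) (_ : ValuationRing W) (k : Spec W ⟶ Z),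
      k (⟨⊥, Ideal.isPrime_bot⟩ : PrimeSpectrum W) = z' ∧ k (IsLocalRing.closedPoint W) = z := by
  let φ₀ : Z.presheaf.stalk z ⟶ Z.residueField z' :=
    Z.presheaf.stalkSpecializes h ≫ Z.residue z'
  obtain ⟨A, hA, hA_local⟩ := IsLocalRing.exists_factor_valuationRing φ₀.hom
  let ψ : Z.presheaf.stalk z ⟶ CommRingCat.of A :=
    CommRingCat.ofHom (φ₀.hom.codRestrict _ hA)
  have w : Z.fromSpecResidueField z' =
      Spec.map (CommRingCat.ofHom (algebraMap A (Z.residueField z'))) ≫
        Spec.map ψ ≫ Z.fromSpecStalk z := by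
    rw [Scheme.fromSpecResidueField, ← Scheme.SpecMap_stalkSpecializes_fromSpecStalk h]
    simp_rw [← Spec.map_comp_assoc]
    rfl
  refine ⟨CommRingCat.of A, inferInstanceAs (IsDomain A), inferInstanceAs (ValuationRing A),
    Spec.map ψ ≫ Z.fromSpecStalk z, ?_, ?_⟩
  · have h1 : Spec.map (CommRingCat.ofHom (algebraMap A (Z.residueField z')))
        (IsLocalRing.closedPoint (Z.residueField z')) =
        (⟨⊥, Ideal.isPrime_bot⟩ : PrimeSpectrum (CommRingCat.of A)) := by
      apply PrimeSpectrum.ext
      change Ideal.comap (algebraMap A (Z.residueField z'))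
        (IsLocalRing.maximalIdeal (Z.residueField z')) = ⊥
      rw [IsLocalRing.maximalIdeal_eq_bot]
      exact Ideal.comap_bot_of_injective _ (FaithfulSMul.algebraMap_injective A _)
    rw [← h1, ← Scheme.Hom.comp_apply, ← w]
    exact Scheme.fromSpecResidueField_apply z' _
  · rw [Scheme.Hom.comp_apply]
    have : Spec.map ψ (IsLocalRing.closedPoint A) = IsLocalRing.closedPoint (Z.presheaf.stalk z) :=
      IsLocalRing.comap_closedPoint (S := A) (φ₀.hom.codRestrict A.toSubring hA)
    erw [this]
    exact Z.fromSpecStalk_closedPoint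

end Groth.Agent.Helper7.VCov
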