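import Mathlib
import Groth.Agent.Lib.Helper7.QuasiFlat.Closure

/-! helper7: locally closed retrocompact subsets of schemes are pro-constructible;
pro-constructible subsets are retrocompact -/

set_option autoImplicit false
universe u

namespace Groth.Agent.Helper7.Retro
open Topology TopologicalSpace AlgebraicGeometry CategoryTheory
open Groth.Agent.Helper7 Groth.Agent.Helper7.ProConsLib

/-- a locally closed retrocompact subset of a scheme is pro-constructible -/
theorem isProConstructible_of_isLocallyClosed_of_isRetrocompact (X : Scheme.{u}) {E : Set X}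
    (h1 : IsLocallyClosed E) (h2 : IsRetrocompact E) : ProCons.IsProConstructible E := by
  apply isProConstructible_of_forall_exists
  intro x
  obtain ⟨U, hxU⟩ := exists_affineOpen_mem X x
  have hs := spectralSpace_affineOpen X U
  refine ⟨((U : X.Opens) : Set X), (U : X.Opens).2, hs, hxU, ?_⟩
  set K : Set ((U : X.Opens) : Set X) := Subtype.val ⁻¹' E with hKdef
  have hKlc : IsLocallyClosed K := h1.preimage continuous_subtype_val
  have hKc : IsCompact K := by
    rw [Topology.IsEmbedding.subtypeVal.isCompact_iff, hKdef, Subtype.image_preimage_coe,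
      Set.inter_comm]
    exact h2 U.2.isCompact (U : X.Opens).2
  obtain ⟨O, Z, hO, hZ, hK⟩ := hKlc
  obtain ⟨V, hVc, hVo, hKV, hVO⟩ := PrespectralSpace.exists_isCompact_and_isOpen_between hKc hO
    (by rw [hK]; exact Set.inter_subset_left)
  have hKeq : K = V ∩ Z := by
    apply Set.Subset.antisymm
    · intro k hk
      refine ⟨hKV hk, ?_⟩
      rw [hK] at hk
      exact hk.2
    · rintro k ⟨hkV, hkZ⟩
      rw [hK]
      exact ⟨hVO hkV, hkZ⟩
  rw [hKeq]
  exact @IsClosed.inter _ _ _ (constructibleTopology _)
    (isClopen_cons_of_isCompact_isOpen hVo hVc).1 (isClosed_cons_of_isClosed hZ)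

/-- pro-constructible subsets of a scheme are retrocompact -/
theorem isRetrocompact_of_isProConstructible (X : Scheme.{u}) {P : Set X}
    (hP : ProCons.IsProConstructible P) : IsRetrocompact P := by
  intro U' hU'c hU'o
  obtain ⟨Us, hUs, hUsfin, hUeq⟩ :=
    X.isBasis_affineOpens.exists_finite_of_isCompact (U := ⟨U', hU'o⟩) hU'c
  have hU'eq : U' = ⋃ W ∈ Us, ((W : X.Opens) : Set X) := by
    have := congrArg (fun O : X.Opens => (O : Set X)) hUeq
    simpa using this
  have : P ∩ U' = ⋃ W ∈ Us, P ∩ ((W : X.Opens) : Set X) := by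
    rw [hU'eq, Set.inter_iUnion₂]
  rw [this]
  apply hUsfin.isCompact_biUnion
  intro W hW
  have hWaff : IsAffineOpen W := hUs hW
  have hs := spectralSpace_affineOpen X ⟨W, hWaff⟩
  have h1 : IsClosed[constructibleTopology ((W : X.Opens) : Set X)]
      (Subtype.val ⁻¹' P : Set ((W : X.Opens) : Set X)) :=
    isClosed_cons_of_isProConstructible (isProConstructible_preimage_val hP W.2)
  have h2 : IsCompact (Subtype.val ⁻¹' P : Set ((W : X.Opens) : Set X)) :=
    isCompact_of_isClosed_cons h1
  have h3 := h2.image continuous_subtype_val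
  rw [Subtype.image_preimage_coe, Set.inter_comm] at h3
  exact h3

end Groth.Agent.Helper7.Retro
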