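import Mathlib
import Groth.Prelude.Def_W4c2submetdescSubtr

/-! helper7: basic lemmas on the pair lifting property (S-subtrusive morphisms) -/

set_option autoImplicit false
universe u

namespace Groth.Agent.Helper7.SubtrLib
open CategoryTheory CategoryTheory.Limits AlgebraicGeometry Subtr

/-- flat surjective morphisms lift ordered pairs of points -/
theorem isSSubtrusive_of_flat_surjective {X Y : Scheme.{u}} (f : X ⟶ Y) [Flat f] [Surjective f] :
    IsSSubtrusive f := by
  intro y y' hy
  obtain ⟨x, hx⟩ := f.surjective y
  obtain ⟨x', hx', hfx'⟩ := Flat.generalizingMap f (a := x) (b := y') (by rw [hx]; exact hy)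
  exact ⟨x, x', hx', hx, hfx'⟩

/-- flat surjective morphisms universally lift ordered pairs of points -/
theorem univSSubtrusive_of_flat_surjective {X Y : Scheme.{u}} (f : X ⟶ Y) [Flat f]
    [Surjective f] : UnivSSubtrusive f := by
  intro X' Y' i₁ i₂ f' hpb
  have h1 : Flat f' := MorphismProperty.of_isPullback (P := @Flat) hpb.flip inferInstance
  have h2 : Surjective f' :=
    MorphismProperty.of_isPullback (P := @Surjective) hpb.flip inferInstance
  exact isSSubtrusive_of_flat_surjective f'

/-- the universal pair lifting property for a composite implies it for the second morphism -/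
theorem univSSubtrusive_of_comp {Z X Y : Scheme.{u}} (i : Z ⟶ X) (f : X ⟶ Y)
    (h : UnivSSubtrusive (i ≫ f)) : UnivSSubtrusive f := by
  intro X' Y' i₁ i₂ f' hpb
  have hpaste : IsPullback (pullback.snd i i₁ ≫ f') (pullback.fst i i₁) i₂ (i ≫ f) :=
    (IsPullback.of_hasPullback i i₁).flip.paste_horiz hpb
  have hs : IsSSubtrusive (pullback.snd i i₁ ≫ f') := h _ _ _ hpaste
  intro y y' hy
  obtain ⟨z, z', hzz, hz, hz'⟩ := hs hy
  refine ⟨pullback.snd i i₁ z, pullback.snd i i₁ z', hzz.map (pullback.snd i i₁).continuous, ?_, ?_⟩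
  · rw [← Scheme.Hom.comp_apply]; exact hz
  · rw [← Scheme.Hom.comp_apply]; exact hz'

/-- the universal pair lifting property implies the pair lifting property -/
theorem isSSubtrusive_of_univ {X Y : Scheme.{u}} (f : X ⟶ Y) (h : UnivSSubtrusive f) :
    IsSSubtrusive f :=
  h _ _ _ (IsPullback.of_id_snd (f := f))

end Groth.Agent.Helper7.SubtrLib
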