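import Mathlib
import Groth.Agent.Lib.Helper7.VCov3

/-! helper7: composite valuation rings; finite chains of specializations in a scheme are
realised by a single valuation ring -/

set_option autoImplicit false
universe u

namespace Groth.Agent.Helper7.ValComp
open CategoryTheory CategoryTheory.Limits AlgebraicGeometry

section Alg

variable {V : Type*} [CommRing V] [IsDomain V] [ValuationRing V]

/-- the composite of a valuation ring with a valuation subring of its residue field -/
def composite (W : ValuationSubring (IsLocalRing.ResidueField V)) : Subring V :=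
  Subring.comap (IsLocalRing.residue V) W.toSubring

theorem mem_composite (W : ValuationSubring (IsLocalRing.ResidueField V)) (v : V) :
    v ∈ composite W ↔ IsLocalRing.residue V v ∈ W := Iff.rfl

instance (W : ValuationSubring (IsLocalRing.ResidueField V)) : ValuationRing (composite W) := by
  refine @ValuationRing.mk _ _ _ ⟨?_⟩
  intro a b
  obtain ⟨c, hc | hc⟩ := ValuationRing.cond (a : V) (b : V)
  · by_cases hcW : c ∈ composite W
    · exact ⟨⟨c, hcW⟩, Or.inl (Subtype.ext hc)⟩
    · -- the residue of c is not in W so its inverse is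
      have hres : IsLocalRing.residue V c ∉ W := hcW
      have hcu : IsUnit c := by
        by_contra hnu
        apply hres
        have : IsLocalRing.residue V c = 0 := by
          rw [IsLocalRing.residue_eq_zero_iff]
          exact (IsLocalRing.mem_maximalIdeal c).mpr hnu
        rw [this]
        exact W.zero_mem
      obtain ⟨u, rfl⟩ := hcu
      have hinv : IsLocalRing.residue V (↑u⁻¹ : V) ∈ W := by
        rcases W.mem_or_inv_mem (IsLocalRing.residue V (u : V)) with h | h
        · exact absurd h hres
        · have h1 : (IsLocalRing.residue V (u : V))⁻¹ = IsLocalRing.residue V (↑u⁻¹ : V) := by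
            apply inv_eq_of_mul_eq_one_right
            rw [← map_mul, Units.mul_inv, map_one]
          rw [← h1]
          exact h
      refine ⟨⟨(↑u⁻¹ : V), hinv⟩, Or.inr (Subtype.ext ?_)⟩
      change (b : V) * (↑u⁻¹ : V) = a
      rw [← hc, mul_assoc, Units.mul_inv, mul_one]
  · by_cases hcW : c ∈ composite W
    · exact ⟨⟨c, hcW⟩, Or.inr (Subtype.ext hc)⟩
    · have hres : IsLocalRing.residue V c ∉ W := hcW
      have hcu : IsUnit c := by
        by_contra hnu
        apply hres
        have : IsLocalRing.residue V c = 0 := by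
          rw [IsLocalRing.residue_eq_zero_iff]
          exact (IsLocalRing.mem_maximalIdeal c).mpr hnu
        rw [this]
        exact W.zero_mem
      obtain ⟨u, rfl⟩ := hcu
      have hinv : IsLocalRing.residue V (↑u⁻¹ : V) ∈ W := by
        rcases W.mem_or_inv_mem (IsLocalRing.residue V (u : V)) with h | h
        · exact absurd h hres
        · have h1 : (IsLocalRing.residue V (u : V))⁻¹ = IsLocalRing.residue V (↑u⁻¹ : V) := by
            apply inv_eq_of_mul_eq_one_right
            rw [← map_mul, Units.mul_inv, map_one]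
          rw [← h1]
          exact h
      refine ⟨⟨(↑u⁻¹ : V), hinv⟩, Or.inl (Subtype.ext ?_)⟩
      change (a : V) * (↑u⁻¹ : V) = b
      rw [← hc, mul_assoc, Units.mul_inv, mul_one]

/-- the projection from the composite to the valuation subring of the residue field -/
noncomputable def compositeProj (W : ValuationSubring (IsLocalRing.ResidueField V)) :
    composite W →+* W :=
  ((IsLocalRing.residue V).comp (composite W).subtype).codRestrict W.toSubring (fun v => v.2)

end Alg

/-- extend a valuation ring mapping to a scheme by one further specialization of the image of the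
closed point -/
theorem exists_extend {Y : Scheme.{u}} (V₁ : CommRingCat.{u}) [IsDomain V₁] [ValuationRing V₁]
    (g₁ : Spec V₁ ⟶ Y) {y : Y} (hy : g₁ (IsLocalRing.closedPoint V₁) ⤳ y) :
    ∃ (V : CommRingCat.{u}) (_ : IsDomain V) (_ : ValuationRing V) (ι : V ⟶ V₁) (h : Spec V ⟶ Y),
      Spec.map ι ≫ h = g₁ ∧ h (IsLocalRing.closedPoint V) = y := by
  let z : Y := g₁ (IsLocalRing.closedPoint V₁)
  let ψ₁ : Y.presheaf.stalk z ⟶ V₁ := Scheme.stalkClosedPointTo g₁
  have hψ₁ : Spec.map ψ₁ ≫ Y.fromSpecStalk z = g₁ := Scheme.Spec_stalkClosedPointTo_fromSpecStalk g₁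
  let θ : Y.presheaf.stalk y ⟶ Y.presheaf.stalk z := Y.presheaf.stalkSpecializes hy
  have hθ : Spec.map θ ≫ Y.fromSpecStalk y = Y.fromSpecStalk z :=
    Scheme.SpecMap_stalkSpecializes_fromSpecStalk hy
  let α : Y.presheaf.stalk y →+* V₁ := (θ ≫ ψ₁).hom
  let ψ : Y.presheaf.stalk y →+* IsLocalRing.ResidueField V₁ := (IsLocalRing.residue V₁).comp α
  obtain ⟨W, hW, hWloc⟩ := IsLocalRing.exists_factor_valuationRing ψ
  let Vc : Subring V₁ := composite W
  let φ : Y.presheaf.stalk y →+* Vc := α.codRestrict Vc (fun a => hW a)
  have hφloc : IsLocalHom φ := by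
    constructor
    intro a ha
    have h1 : IsUnit (compositeProj W (φ a)) := ha.map _
    have h2 : compositeProj W (φ a) = ψ.codRestrict W.toSubring hW a := rfl
    rw [h2] at h1
    exact isUnit_of_map_unit (ψ.codRestrict W.toSubring hW) a h1
  refine ⟨CommRingCat.of Vc, inferInstanceAs (IsDomain Vc), inferInstanceAs (ValuationRing Vc),
    CommRingCat.ofHom Vc.subtype, Spec.map (CommRingCat.ofHom φ) ≫ Y.fromSpecStalk y, ?_, ?_⟩
  · rw [← Spec.map_comp_assoc, ← hψ₁, ← hθ, ← Spec.map_comp_assoc]
    rfl
  · rw [Scheme.Hom.comp_apply]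
    have : Spec.map (CommRingCat.ofHom φ) (IsLocalRing.closedPoint Vc) =
        IsLocalRing.closedPoint (Y.presheaf.stalk y) :=
      IsLocalRing.comap_closedPoint (S := Vc) φ
    erw [this]
    exact Y.fromSpecStalk_closedPoint

/-- a finite chain of specializations in a scheme is realised by a valuation ring -/
theorem exists_valuationRing_chain {Y : Scheme.{u}} (n : ℕ) (y : Fin (n + 1) → Y)
    (hy : ∀ i j : Fin (n + 1), i ≤ j → y i ⤳ y j) :
    ∃ (V : CommRingCat.{u}) (_ : IsDomain V) (_ : ValuationRing V) (g : Spec V ⟶ Y)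
      (P : Fin (n + 1) → Spec V), (∀ i j : Fin (n + 1), i ≤ j → P i ⤳ P j) ∧
        (∀ i, g (P i) = y i) ∧ P (Fin.last n) = IsLocalRing.closedPoint V := by
  induction n with
  | zero =>
    obtain ⟨W, hW1, hW2, k, -, hk2⟩ :=
      Groth.Agent.Helper7.VCov.exists_valuationRing_of_specializes (specializes_rfl (x := y 0))
    refine ⟨W, hW1, hW2, k, fun _ => IsLocalRing.closedPoint W, fun _ _ _ => specializes_rfl,
      fun i => ?_, rfl⟩
    rw [hk2]
    congr 1
    exact (Fin.fin_one_eq_zero i).symm
  | succ n ih =>
    obtain ⟨V₁, hV1, hV2, g₁, P, hP, hgP, hlast⟩ :=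
      ih (fun i => y i.castSucc) (fun i j hij => hy _ _ (Fin.castSucc_le_castSucc_iff.mpr hij))
    have hy' : g₁ (IsLocalRing.closedPoint V₁) ⤳ y (Fin.last (n + 1)) := by
      rw [← hlast, hgP]
      exact hy _ _ (Fin.le_last _)
    obtain ⟨V, hVd, hVv, ι, h, hιh, hcl⟩ := exists_extend V₁ g₁ hy'
    let P' : Fin (n + 2) → Spec V :=
      Fin.snoc (α := fun _ => Spec V) (fun i => Spec.map ι (P i)) (IsLocalRing.closedPoint V)
    have hP'c : ∀ i : Fin (n + 1), P' i.castSucc = Spec.map ι (P i) := fun i =>
      Fin.snoc_castSucc (α := fun _ => Spec V) _ _ i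
    have hP'l : P' (Fin.last (n + 1)) = IsLocalRing.closedPoint V :=
      Fin.snoc_last (α := fun _ => Spec V) _ _
    refine ⟨V, hVd, hVv, h, P', ?_, ?_, hP'l⟩
    · intro i j hij
      induction j using Fin.lastCases with
      | last =>
        rw [hP'l]
        exact IsLocalRing.specializes_closedPoint _
      | cast j =>
        induction i using Fin.lastCases with
        | last =>
          exfalso
          exact absurd (lt_of_lt_of_le (Fin.castSucc_lt_last j) hij) (lt_irrefl _)
        | cast i =>
          rw [hP'c, hP'c]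
          exact (hP i j (Fin.castSucc_le_castSucc_iff.mp hij)).map (Spec.map ι).continuous
    · intro i
      induction i using Fin.lastCases with
      | last =>
        rw [hP'l]
        exact hcl
      | cast i =>
        rw [hP'c, ← Scheme.Hom.comp_apply, hιh]
        exact hgP i

end Groth.Agent.Helper7.ValComp
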