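import Mathlib

/-! helper7: maps between spectra of valuation rings: flatness of torsion-free algebras,
surjectivity of dominant local maps, total order of specializations -/

set_option autoImplicit false
universe u

namespace Groth.Agent.Helper7.ValSurj
open CategoryTheory CategoryTheory.Limits AlgebraicGeometry

/-- a torsion-free module over a valuation ring is flat (algebra version: an injective ring map
from a valuation ring into a domain is flat) -/
theorem flat_of_injective {V W : Type*} [CommRing V] [IsDomain V] [ValuationRing V]
    [CommRing W] [IsDomain W] [Algebra V W] (hinj : Function.Injective (algebraMap V W)) :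
    Module.Flat V W := by
  rw [Module.Flat.flat_iff_torsion_eq_bot_of_isBezout]
  rw [← Submodule.isTorsionFree_iff_torsion_eq_bot]
  have : FaithfulSMul V W := (faithfulSMul_iff_algebraMap_injective V W).mpr hinj
  infer_instance

/-- an injective local homomorphism from a valuation ring to a local domain is surjective on
spectra -/
theorem comap_surjective {V W : Type*} [CommRing V] [IsDomain V] [ValuationRing V]
    [CommRing W] [IsDomain W] [IsLocalRing W] (φ : V →+* W) (hinj : Function.Injective φ)
    [IsLocalHom φ] : Function.Surjective (PrimeSpectrum.comap φ) := by
  let _ : Algebra V W := φ.toAlgebra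
  have hflat : Module.Flat V W := flat_of_injective hinj
  have hloc : IsLocalHom (algebraMap V W) := ‹IsLocalHom φ›
  have : Module.FaithfullyFlat V W := Module.FaithfullyFlat.of_flat_of_isLocalHom
  exact PrimeSpectrum.comap_surjective_of_faithfullyFlat (A := V) (B := W)

/-- specializations in the spectrum of a valuation ring are totally ordered -/
theorem specializes_total {V : Type*} [CommRing V] [IsDomain V] [ValuationRing V]
    (x y : PrimeSpectrum V) : x ⤳ y ∨ y ⤳ x := by
  rw [← PrimeSpectrum.le_iff_specializes, ← PrimeSpectrum.le_iff_specializes]
  exact Std.Total.total (r := fun (a b : Ideal V) => a ≤ b) x.asIdeal y.asIdeal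

/-- a morphism between spectra of valuation rings mapping the generic point to the generic point
and the closed point to the closed point is surjective -/
theorem surjective_of_generic_closed {V W : CommRingCat.{u}} [IsDomain V] [ValuationRing V]
    [IsDomain W] [ValuationRing W] (b : Spec W ⟶ Spec V)
    (h1 : b (⟨⊥, Ideal.isPrime_bot⟩ : PrimeSpectrum W) = (⟨⊥, Ideal.isPrime_bot⟩ : PrimeSpectrum V))
    (h2 : b (IsLocalRing.closedPoint W) = IsLocalRing.closedPoint V) :
    Function.Surjective b := by
  obtain ⟨φ, rfl⟩ := Spec.map_surjective b
  have hinj : Function.Injective φ.hom := by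
    rw [RingHom.injective_iff_ker_eq_bot]
    have := congrArg PrimeSpectrum.asIdeal h1
    exact this
  have hloc : IsLocalHom φ.hom := by
    have h := (IsLocalRing.local_hom_TFAE φ.hom).out 0 4
    rw [h]
    exact congrArg PrimeSpectrum.asIdeal h2
  exact comap_surjective φ.hom hinj

end Groth.Agent.Helper7.ValSurj
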