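import Mathlib
import Groth.Agent.Lib.Helper7.ThickAlg1
import Groth.Agent.Lib.Helper1.LocalCrit

set_option autoImplicit false
set_option linter.style.haveILetI false
set_option linter.unusedVariables false
universe u

open TensorProduct

/-! helper7: Stacks 051C (flatness over a nilpotent thickening of the base), via helper1 LocalCrit. -/

namespace Groth.Agent.Helper7.ThickAlg

section Flat051C

variable {R' B' C' : Type u} [CommRing R'] [CommRing B'] [CommRing C'] [Algebra R' B']
  [Algebra B' C'] [Algebra R' C'] [IsScalarTower R' B' C'] (I : Ideal R')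

/-- the generator map `I → I B'`. -/
def toMap (a : I) : I.map (algebraMap R' B') :=
  ⟨algebraMap R' B' a, Ideal.mem_map_of_mem _ a.2⟩

/-- the comparison map `I ⊗[R'] C' → (I B') ⊗[B'] C'`. -/
noncomputable def theta : I ⊗[R'] C' →+ (I.map (algebraMap R' B')) ⊗[B'] C' :=
  TensorProduct.liftAddHom
    { toFun := fun a =>
        { toFun := fun c => toMap (B' := B') I a ⊗ₜ[B'] c
          map_zero' := by simp
          map_add' := fun c₁ c₂ => by simp [tmul_add] }
      map_zero' := by
        ext c
        have : toMap (B' := B') I 0 = 0 := by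
          apply Subtype.ext; simp [toMap]
        simp [this]
      map_add' := fun a₁ a₂ => by
        ext c
        have : toMap (B' := B') I (a₁ + a₂) = toMap I a₁ + toMap I a₂ := by
          apply Subtype.ext; simp [toMap]
        simp [this, add_tmul] }
    (by
      intro r a c
      have h1 : toMap (B' := B') I (r • a) = (algebraMap R' B' r) • toMap I a := by
        apply Subtype.ext; simp [toMap, Algebra.smul_def]
      have h2 : r • c = (algebraMap R' B' r) • c := (algebraMap_smul B' r c).symm
      simp only [AddMonoidHom.coe_mk, ZeroHom.coe_mk]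
      rw [h1, h2, TensorProduct.smul_tmul])

lemma theta_tmul (a : I) (c : C') : theta (B' := B') I (a ⊗ₜ[R'] c) = toMap I a ⊗ₜ[B'] c := rfl

lemma theta_surjective : Function.Surjective (theta (B' := B') (C' := C') I) := by
  intro x
  induction x using TensorProduct.induction_on with
  | zero => exact ⟨0, map_zero _⟩
  | add x y hx hy =>
    obtain ⟨x', rfl⟩ := hx
    obtain ⟨y', rfl⟩ := hy
    exact ⟨x' + y', map_add _ _ _⟩
  | tmul j c =>
    obtain ⟨j, hj⟩ := j
    revert c
    refine Submodule.span_induction (p := fun j hj => ∀ c : C', ∃ y,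
      theta (B' := B') (C' := C') I y = (⟨j, hj⟩ : I.map (algebraMap R' B')) ⊗ₜ[B'] c)
      ?_ ?_ ?_ ?_ hj
    · rintro _ ⟨a, ha, rfl⟩ c
      exact ⟨(⟨a, ha⟩ : I) ⊗ₜ c, rfl⟩
    · intro c
      refine ⟨0, ?_⟩
      rw [map_zero]
      have : (⟨0, Submodule.zero_mem _⟩ : I.map (algebraMap R' B')) = 0 := rfl
      rw [this, zero_tmul]
    · intro b₁ b₂ h₁ h₂ ih₁ ih₂ c
      obtain ⟨y₁, hy₁⟩ := ih₁ c
      obtain ⟨y₂, hy₂⟩ := ih₂ c
      refine ⟨y₁ + y₂, ?_⟩
      rw [map_add, hy₁, hy₂, ← add_tmul]
      rfl
    · intro r b hb ih c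
      obtain ⟨y, hy⟩ := ih (r • c)
      refine ⟨y, ?_⟩
      rw [hy, ← TensorProduct.smul_tmul]
      rfl

lemma lid_rTensor_theta (y : I ⊗[R'] C') :
    TensorProduct.lid B' C' ((I.map (algebraMap R' B')).subtype.rTensor C' (theta I y)) =
      TensorProduct.lid R' C' (I.subtype.rTensor C' y) := by
  induction y using TensorProduct.induction_on with
  | zero => simp
  | add x y hx hy => simp only [map_add, hx, hy]
  | tmul a c =>
    rw [theta_tmul]
    simp only [LinearMap.rTensor_tmul, Submodule.subtype_apply, TensorProduct.lid_tmul, toMap]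
    exact algebraMap_smul B' (a : R') c

theorem rTensor_subtype_map_injective [Module.Flat R' C'] :
    Function.Injective ((I.map (algebraMap R' B')).subtype.rTensor C') := by
  rw [injective_iff_map_eq_zero]
  intro x hx
  obtain ⟨y, rfl⟩ := theta_surjective (B' := B') (C' := C') I x
  have h1 := lid_rTensor_theta (B' := B') I y
  rw [hx, map_zero] at h1
  have h2 : I.subtype.rTensor C' y = 0 := (TensorProduct.lid R' C').injective (by rw [← h1, map_zero])
  have h3 : y = 0 :=
    (Module.Flat.rTensor_preserves_injective_linearMap (M := C') I.subtype I.subtype_injective)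
      (by rw [h2, map_zero])
  rw [h3, map_zero]

/-- Stacks 051C: flatness over a nilpotent thickening of the base. -/
theorem flat_051C (hI : IsNilpotent I) [Module.Flat R' C']
    [Module.Flat (B' ⧸ I.map (algebraMap R' B'))
      (C' ⧸ (I.map (algebraMap R' B')).map (algebraMap B' C'))] :
    Module.Flat B' C' := by
  obtain ⟨n, hn⟩ := hI
  haveI : Module.Flat (B' ⧸ I.map (algebraMap R' B'))
      ((B' ⧸ I.map (algebraMap R' B')) ⊗[B'] C') :=
    Module.Flat.of_linearEquiv
      (Algebra.TensorProduct.quotIdealMapEquivQuotTensor C'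
        (I.map (algebraMap R' B'))).symm.toLinearEquiv
  refine Groth.Agent.Helper1.LocalCrit.flat_of_rTensor_injective_of_flat_quotient_of_pow_eq_bot
    (I.map (algebraMap R' B')) C' (rTensor_subtype_map_injective I) n ?_
  rw [← Ideal.map_pow, hn]
  exact Ideal.map_bot

end Flat051C

section RingHomVersion

variable {R' B' C' : Type u} [CommRing R'] [CommRing B'] [CommRing C']

lemma alg_eq' (φ : B' →+* C') (J : Ideal B') :
    letI := φ.toAlgebra
    (Ideal.Quotient.algebraQuotientMapQuotient :
      Algebra (B' ⧸ J) (C' ⧸ J.map (algebraMap B' C'))) = (stdMap φ J).toAlgebra := by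
  letI := φ.toAlgebra
  exact Algebra.algebra_ext _ _ (fun _ => rfl)

theorem ringHom_flat_of_std (ρ : R' →+* B') (φ' : B' →+* C') (I : Ideal R') (hI : IsNilpotent I)
    (hcomp : (φ'.comp ρ).Flat) (hstd : (stdMap φ' (I.map ρ)).Flat) : φ'.Flat := by
  letI := ρ.toAlgebra
  letI := φ'.toAlgebra
  letI := (φ'.comp ρ).toAlgebra
  haveI : IsScalarTower R' B' C' := IsScalarTower.of_algebraMap_eq (fun _ => rfl)
  haveI : Module.Flat R' C' := hcomp
  haveI : Module.Flat (B' ⧸ I.map (algebraMap R' B'))
      (C' ⧸ (I.map (algebraMap R' B')).map (algebraMap B' C')) := by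
    have h2 : @Module.Flat (B' ⧸ I.map ρ) (C' ⧸ (I.map ρ).map φ') _ _
      (stdMap φ' (I.map ρ)).toAlgebra.toModule := hstd
    rw [← alg_eq' φ' (I.map ρ)] at h2
    exact h2
  exact flat_051C I hI

end RingHomVersion

end Groth.Agent.Helper7.ThickAlg
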