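import Mathlib
import Groth.Agent.Lib.Helper7.ThickAlg3
import Groth.Agent.Lib.Helper9.FlatKernel

set_option autoImplicit false
set_option linter.style.haveILetI false
set_option linter.unusedVariables false
universe u

open TensorProduct

/-! helper7: finite presentation lifts along a nilpotent thickening of the base when the total space is flat. -/

namespace Groth.Agent.Helper7.ThickAlg

/-- Tor-vanishing: for `Q` flat, `ker g ∩ I F = I ker g`. -/
lemma mem_smul_ker_of_flat {R : Type u} [CommRing R] {F Q : Type u} [AddCommGroup F] [Module R F]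
    [AddCommGroup Q] [Module R Q] [Module.Flat R Q] (g : F →ₗ[R] Q)
    (hg : Function.Surjective g) (I : Ideal R) (z : F) (hz : g z = 0)
    (hzI : z ∈ I • (⊤ : Submodule R F)) :
    z ∈ I • LinearMap.ker g := by
  have hinj := Groth.Agent.Helper9.rTensor_injective_of_exact_of_flat (LinearMap.ker g).subtype g
    (LinearMap.ker g).subtype_injective (LinearMap.exact_subtype_ker_map g) hg (R ⧸ I)
  have h0 : ((LinearMap.ker g).subtype.rTensor (R ⧸ I))
      ((⟨z, hz⟩ : LinearMap.ker g) ⊗ₜ (1 : R ⧸ I)) = 0 := by
    rw [LinearMap.rTensor_tmul, Submodule.subtype_apply]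
    apply (tensorQuotEquivQuotSMul F I).injective
    rw [map_zero, ← map_one (Ideal.Quotient.mk I), tensorQuotEquivQuotSMul_tmul_mk, one_smul,
      Submodule.Quotient.mk_eq_zero]
    exact hzI
  have h1 : ((⟨z, hz⟩ : LinearMap.ker g) ⊗ₜ[R] (1 : R ⧸ I)) = 0 := hinj (by rw [h0, map_zero])
  have h2 : (⟨z, hz⟩ : LinearMap.ker g) ∈ I • (⊤ : Submodule R (LinearMap.ker g)) := by
    have := congrArg (tensorQuotEquivQuotSMul (LinearMap.ker g) I) h1
    rw [map_zero, ← map_one (Ideal.Quotient.mk I), tensorQuotEquivQuotSMul_tmul_mk, one_smul,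
      Submodule.Quotient.mk_eq_zero] at this
    exact this
  have h3 : (LinearMap.ker g).subtype ⟨z, hz⟩ ∈
      (I • (⊤ : Submodule R (LinearMap.ker g))).map (LinearMap.ker g).subtype :=
    Submodule.mem_map_of_mem h2
  rw [Submodule.map_smul'', Submodule.map_subtype_top] at h3
  exact h3

/-- Nakayama for ideals and a nilpotent ideal. -/
lemma fg_of_map_fg_of_inf_le {P : Type*} [CommRing P] (K L : Ideal P) (hL : IsNilpotent L)
    (hT : K ⊓ L ≤ L * K) (hfg : (K.map (Ideal.Quotient.mk L)).FG) : K.FG := by
  classical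
  obtain ⟨t, ht⟩ := hfg
  have hmem : ∀ y ∈ t, ∃ p ∈ K, Ideal.Quotient.mk L p = y := by
    intro y hy
    have : y ∈ K.map (Ideal.Quotient.mk L) := by rw [← ht]; exact Ideal.subset_span hy
    exact (Ideal.mem_map_iff_of_surjective _ Ideal.Quotient.mk_surjective).mp this
  choose! c hcK hc using hmem
  let s : Finset P := t.image c
  have hsK : Ideal.span (s : Set P) ≤ K := by
    rw [Ideal.span_le]
    intro p hp
    simp only [s, Finset.coe_image, Set.mem_image, Finset.mem_coe] at hp
    obtain ⟨y, hy, rfl⟩ := hp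
    exact hcK y hy
  have h1 : K ≤ Ideal.span (s : Set P) ⊔ L := by
    intro z hz
    have hz' : Ideal.Quotient.mk L z ∈ (Ideal.span (s : Set P)).map (Ideal.Quotient.mk L) := by
      rw [Ideal.map_span]
      have : Ideal.Quotient.mk L z ∈ Ideal.span (t : Set (P ⧸ L)) := by
        rw [ht]; exact Ideal.mem_map_of_mem _ hz
      refine Ideal.span_mono ?_ this
      intro y hy
      refine ⟨c y, ?_, hc y hy⟩
      simp only [s, Finset.coe_image, Set.mem_image, Finset.mem_coe]
      exact ⟨y, hy, rfl⟩
    obtain ⟨a, ha, hae⟩ := (Ideal.mem_map_iff_of_surjective _ Ideal.Quotient.mk_surjective).mp hz'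
    have hza : z - a ∈ L := by
      rw [← Ideal.Quotient.eq]; exact hae.symm
    have hz2 : z = a + (z - a) := by ring
    rw [hz2]
    exact Submodule.add_mem_sup ha hza
  have h2 : K ≤ Ideal.span (s : Set P) ⊔ L * K := by
    intro z hz
    obtain ⟨a, ha, b, hb, rfl⟩ := Submodule.mem_sup.mp (h1 hz)
    have hbK : b ∈ K := by
      have := K.sub_mem hz (hsK ha)
      simpa using this
    exact Submodule.mem_sup.mpr ⟨a, ha, b, hT ⟨hbK, hb⟩, rfl⟩
  have h3 : ∀ k : ℕ, K ≤ Ideal.span (s : Set P) ⊔ L ^ k * K := by
    intro k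
    induction k with
    | zero => simp
    | succ k ih =>
      calc K ≤ Ideal.span (s : Set P) ⊔ L ^ k * K := ih
        _ ≤ Ideal.span (s : Set P) ⊔ L ^ k * (Ideal.span (s : Set P) ⊔ L * K) :=
          sup_le_sup_left (Ideal.mul_mono_right h2) _
        _ ≤ Ideal.span (s : Set P) ⊔ L ^ (k + 1) * K := by
          rw [Ideal.mul_sup, ← sup_assoc, ← mul_assoc, ← pow_succ]
          apply sup_le_sup_right
          exact sup_le le_rfl Ideal.mul_le_right
  obtain ⟨n, hn⟩ := hL
  have h4 : K = Ideal.span (s : Set P) := by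
    refine le_antisymm ?_ hsK
    have := h3 n
    rw [hn, Ideal.zero_eq_bot, Ideal.bot_mul, sup_bot_eq] at this
    exact this
  rw [h4]
  exact ⟨s, rfl⟩

section FP

variable {R' B' C' : Type u} [CommRing R'] [CommRing B'] [CommRing C'] [Algebra R' B']
  [Algebra B' C'] [Algebra R' C'] [IsScalarTower R' B' C'] (I : Ideal R')

/-- the kernel of a polynomial presentation satisfies the Tor-condition. -/
lemma ker_inf_map_le {m : ℕ} [Module.Flat R' C'] (π : MvPolynomial (Fin m) B' →ₐ[B'] C')
    (hπ : Function.Surjective π) :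
    RingHom.ker π.toRingHom ⊓
        (I.map (algebraMap R' B')).map (algebraMap B' (MvPolynomial (Fin m) B')) ≤
      (I.map (algebraMap R' B')).map (algebraMap B' (MvPolynomial (Fin m) B')) *
        RingHom.ker π.toRingHom := by
  rintro z ⟨hzK, hzL⟩
  let g : MvPolynomial (Fin m) B' →ₗ[R'] C' := π.toLinearMap.restrictScalars R'
  have hg : Function.Surjective g := hπ
  have hz : g z = 0 := hzK
  have hzI : z ∈ I • (⊤ : Submodule R' (MvPolynomial (Fin m) B')) := by
    rw [Ideal.smul_top_eq_map]
    have hzL' : z ∈ (I.map (algebraMap R' B')).map (algebraMap B' (MvPolynomial (Fin m) B')) := hzL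
    rw [Ideal.map_map, ← IsScalarTower.algebraMap_eq] at hzL'
    exact hzL'
  have hmem := mem_smul_ker_of_flat g hg I z hz hzI
  refine Submodule.smul_induction_on hmem ?_ ?_
  · intro a ha k hk
    rw [Algebra.smul_def]
    refine Ideal.mul_mem_mul ?_ hk
    rw [IsScalarTower.algebraMap_eq R' B' (MvPolynomial (Fin m) B'), RingHom.comp_apply]
    exact Ideal.mem_map_of_mem _ (Ideal.mem_map_of_mem _ ha)
  · intro x y hx hy
    exact Ideal.add_mem _ hx hy

theorem finitePresentation_of_std (hI : IsNilpotent I) [Module.Flat R' C']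
    (h : Algebra.FinitePresentation (B' ⧸ I.map (algebraMap R' B'))
      (C' ⧸ (I.map (algebraMap R' B')).map (algebraMap B' C'))) :
    Algebra.FinitePresentation B' C' := by
  have hJ : IsNilpotent (I.map (algebraMap R' B')) := by
    obtain ⟨n, hn⟩ := hI
    exact ⟨n, by rw [← Ideal.map_pow, hn]; exact Ideal.map_bot⟩
  haveI hft : Algebra.FiniteType B' C' :=
    finiteType_of_std (I.map (algebraMap R' B')) hJ inferInstance
  obtain ⟨m, π, hπ⟩ := Algebra.FiniteType.iff_quotient_mvPolynomial''.mp hft
  refine Algebra.FinitePresentation.of_surjective hπ ?_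
  have hL : IsNilpotent ((I.map (algebraMap R' B')).map
      (algebraMap B' (MvPolynomial (Fin m) B'))) := by
    obtain ⟨n, hn⟩ := hJ
    exact ⟨n, by rw [← Ideal.map_pow, hn]; exact Ideal.map_bot⟩
  refine fg_of_map_fg_of_inf_le _ _ hL (ker_inf_map_le I π hπ) ?_
  have hcompπ : π.toRingHom.comp (algebraMap B' (MvPolynomial (Fin m) B')) = algebraMap B' C' :=
    π.comp_algebraMap
  have hmapL : ((I.map (algebraMap R' B')).map (algebraMap B' (MvPolynomial (Fin m) B'))).map
      π.toRingHom = (I.map (algebraMap R' B')).map (algebraMap B' C') := by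
    rw [Ideal.map_map, hcompπ]
  have hle : (I.map (algebraMap R' B')).map (algebraMap B' (MvPolynomial (Fin m) B')) ≤
      ((I.map (algebraMap R' B')).map (algebraMap B' C')).comap π.toRingHom := by
    rw [← Ideal.map_le_iff_le_comap, hmapL]
  let πbar : MvPolynomial (Fin m) B' ⧸
        (I.map (algebraMap R' B')).map (algebraMap B' (MvPolynomial (Fin m) B')) →+*
      C' ⧸ (I.map (algebraMap R' B')).map (algebraMap B' C') :=
    Ideal.quotientMap _ π.toRingHom hle
  have hπbar : Function.Surjective πbar := Ideal.quotientMap_surjective hπ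
  haveI : Algebra.FinitePresentation (B' ⧸ I.map (algebraMap R' B'))
      (MvPolynomial (Fin m) B' ⧸
        (I.map (algebraMap R' B')).map (algebraMap B' (MvPolynomial (Fin m) B'))) :=
    Algebra.FinitePresentation.equiv
      (Algebra.TensorProduct.quotIdealMapEquivQuotTensor (MvPolynomial (Fin m) B')
        (I.map (algebraMap R' B'))).symm
  have hcomp : πbar.comp (algebraMap (B' ⧸ I.map (algebraMap R' B'))
      (MvPolynomial (Fin m) B' ⧸
        (I.map (algebraMap R' B')).map (algebraMap B' (MvPolynomial (Fin m) B')))) =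
      algebraMap (B' ⧸ I.map (algebraMap R' B'))
        (C' ⧸ (I.map (algebraMap R' B')).map (algebraMap B' C')) := by
    apply Ideal.Quotient.ringHom_ext
    ext b
    have := congrArg (fun φ => Ideal.Quotient.mk
      ((I.map (algebraMap R' B')).map (algebraMap B' C')) (φ b)) hcompπ
    exact this
  have hfp : πbar.FinitePresentation := by
    refine RingHom.FinitePresentation.of_comp_finiteType
      (algebraMap (B' ⧸ I.map (algebraMap R' B'))
        (MvPolynomial (Fin m) B' ⧸
          (I.map (algebraMap R' B')).map (algebraMap B' (MvPolynomial (Fin m) B')))) ?_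
      (RingHom.finiteType_algebraMap.mpr inferInstance)
    rw [hcomp]
    exact RingHom.finitePresentation_algebraMap.mpr h
  have hker : (RingHom.ker πbar).FG := by
    letI := πbar.toAlgebra
    haveI : Algebra.FinitePresentation (MvPolynomial (Fin m) B' ⧸
        (I.map (algebraMap R' B')).map (algebraMap B' (MvPolynomial (Fin m) B')))
        (C' ⧸ (I.map (algebraMap R' B')).map (algebraMap B' C')) := hfp
    exact Algebra.FinitePresentation.ker_fG_of_surjective (Algebra.ofId _ _) hπbar
  have hkeq : RingHom.ker πbar = (RingHom.ker π.toRingHom).map (Ideal.Quotient.mk _) := by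
    apply le_antisymm
    · intro y hy
      obtain ⟨p, rfl⟩ := Ideal.Quotient.mk_surjective y
      have h1 : Ideal.Quotient.mk ((I.map (algebraMap R' B')).map (algebraMap B' C'))
          (π.toRingHom p) = 0 := by
        have := (RingHom.mem_ker).mp hy
        rw [show πbar (Ideal.Quotient.mk _ p) = Ideal.Quotient.mk _ (π.toRingHom p) from
          Ideal.quotientMap_mk] at this
        exact this
      rw [Ideal.Quotient.eq_zero_iff_mem, ← hmapL] at h1
      obtain ⟨l, hl, hlp⟩ := (Ideal.mem_map_iff_of_surjective π.toRingHom hπ).mp h1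
      have h2 : p - l ∈ RingHom.ker π.toRingHom := by
        rw [RingHom.mem_ker, map_sub, hlp, sub_self]
      have h3 : Ideal.Quotient.mk ((I.map (algebraMap R' B')).map
          (algebraMap B' (MvPolynomial (Fin m) B'))) p = Ideal.Quotient.mk _ (p - l) := by
        rw [map_sub, Ideal.Quotient.eq_zero_iff_mem.mpr hl, sub_zero]
      rw [h3]
      exact Ideal.mem_map_of_mem _ h2
    · rw [Ideal.map_le_iff_le_comap]
      intro p hp
      rw [Ideal.mem_comap, RingHom.mem_ker]
      have : πbar (Ideal.Quotient.mk _ p) = Ideal.Quotient.mk _ (π.toRingHom p) :=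
        Ideal.quotientMap_mk
      rw [this, (RingHom.mem_ker).mp hp, map_zero]
  rw [← hkeq]
  exact hker

end FP

section RingHomVersion2

variable {R' B' C' : Type u} [CommRing R'] [CommRing B'] [CommRing C']

theorem ringHom_finitePresentation_of_std (ρ : R' →+* B') (φ' : B' →+* C') (I : Ideal R')
    (hI : IsNilpotent I) (hcomp : (φ'.comp ρ).Flat)
    (hstd : (stdMap φ' (I.map ρ)).FinitePresentation) : φ'.FinitePresentation := by
  letI := ρ.toAlgebra
  letI := φ'.toAlgebra
  letI := (φ'.comp ρ).toAlgebra
  haveI : IsScalarTower R' B' C' := IsScalarTower.of_algebraMap_eq (fun _ => rfl)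
  haveI : Module.Flat R' C' := hcomp
  have h' : Algebra.FinitePresentation (B' ⧸ I.map (algebraMap R' B'))
      (C' ⧸ (I.map (algebraMap R' B')).map (algebraMap B' C')) := by
    have h2 : @Algebra.FinitePresentation (B' ⧸ I.map ρ) (C' ⧸ (I.map ρ).map φ') _ _
      (stdMap φ' (I.map ρ)).toAlgebra := hstd
    rw [← alg_eq' φ' (I.map ρ)] at h2
    exact h2
  exact finitePresentation_of_std I hI h'

end RingHomVersion2

end Groth.Agent.Helper7.ThickAlg
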