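import Mathlib
import Groth.Agent.Lib.Helper7.ThickAlg4

set_option autoImplicit false
set_option linter.style.haveILetI false
set_option linter.unusedVariables false
universe u

open TensorProduct

/-! helper7: smoothness lifts along a nilpotent thickening of the base when the total space is flat. -/

namespace Groth.Agent.Helper7.ThickAlg

section Sm

variable {R' B' C' : Type u} [CommRing R'] [CommRing B'] [CommRing C'] [Algebra R' B']
  [Algebra B' C'] [Algebra R' C'] [IsScalarTower R' B' C'] (I : Ideal R')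

/-- fibres of `C'` over `B'` agree with those of `C'/JC'` over `B'/J` for nilpotent `J`. -/
lemma formallySmooth_fiber_of_std (J : Ideal B') (hJ : IsNilpotent J)
    (h : Algebra.FormallySmooth (B' ⧸ J) (C' ⧸ J.map (algebraMap B' C')))
    (𝔭 : Ideal B') [𝔭.IsPrime] :
    Algebra.FormallySmooth 𝔭.ResidueField (𝔭.Fiber C') := by
  have hJ𝔭 : J ≤ 𝔭 := by
    obtain ⟨n, hn⟩ := hJ
    refine Ideal.IsPrime.le_of_pow_le (n := n) ?_
    rw [hn]
    exact bot_le
  letI : Algebra (B' ⧸ J) 𝔭.ResidueField :=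
    (Ideal.Quotient.lift J (algebraMap B' 𝔭.ResidueField) (fun a ha =>
      Ideal.algebraMap_residueField_eq_zero.mpr (hJ𝔭 ha))).toAlgebra
  haveI : IsScalarTower B' (B' ⧸ J) 𝔭.ResidueField :=
    IsScalarTower.of_algebraMap_eq (fun b => rfl)
  haveI : Algebra.FormallySmooth 𝔭.ResidueField
      (𝔭.ResidueField ⊗[B' ⧸ J] (C' ⧸ J.map (algebraMap B' C'))) := inferInstance
  let e1 : 𝔭.ResidueField ⊗[B' ⧸ J] (C' ⧸ J.map (algebraMap B' C')) ≃ₐ[𝔭.ResidueField]
      𝔭.ResidueField ⊗[B' ⧸ J] ((B' ⧸ J) ⊗[B'] C') :=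
    Algebra.TensorProduct.congr AlgEquiv.refl
      (Algebra.TensorProduct.quotIdealMapEquivQuotTensor C' J)
  let e2 : 𝔭.ResidueField ⊗[B' ⧸ J] ((B' ⧸ J) ⊗[B'] C') ≃ₐ[𝔭.ResidueField]
      𝔭.ResidueField ⊗[B'] C' :=
    Algebra.TensorProduct.cancelBaseChange B' (B' ⧸ J) 𝔭.ResidueField 𝔭.ResidueField C'
  exact Algebra.FormallySmooth.of_equiv (e1.trans e2)

theorem smooth_of_std (hI : IsNilpotent I) [Module.Flat R' C']
    (h : Algebra.Smooth (B' ⧸ I.map (algebraMap R' B'))
      (C' ⧸ (I.map (algebraMap R' B')).map (algebraMap B' C'))) :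
    Algebra.Smooth B' C' := by
  have hJ : IsNilpotent (I.map (algebraMap R' B')) := by
    obtain ⟨n, hn⟩ := hI
    exact ⟨n, by rw [← Ideal.map_pow, hn]; exact Ideal.map_bot⟩
  haveI : Module.Flat (B' ⧸ I.map (algebraMap R' B'))
      (C' ⧸ (I.map (algebraMap R' B')).map (algebraMap B' C')) := inferInstance
  haveI : Module.Flat B' C' := flat_051C I hI
  haveI : Algebra.FinitePresentation B' C' := finitePresentation_of_std I hI h.finitePresentation
  refine Algebra.Smooth.of_formallySmooth_fiber ?_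
  intro 𝔭 _
  exact formallySmooth_fiber_of_std _ hJ h.formallySmooth 𝔭

end Sm

section RingHomVersion3

variable {R' B' C' : Type u} [CommRing R'] [CommRing B'] [CommRing C']

theorem ringHom_smooth_of_std (ρ : R' →+* B') (φ' : B' →+* C') (I : Ideal R')
    (hI : IsNilpotent I) (hcomp : (φ'.comp ρ).Flat)
    (hstd : (stdMap φ' (I.map ρ)).Smooth) : φ'.Smooth := by
  letI := ρ.toAlgebra
  letI := φ'.toAlgebra
  letI := (φ'.comp ρ).toAlgebra
  haveI : IsScalarTower R' B' C' := IsScalarTower.of_algebraMap_eq (fun _ => rfl)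
  haveI : Module.Flat R' C' := hcomp
  have h' : Algebra.Smooth (B' ⧸ I.map (algebraMap R' B'))
      (C' ⧸ (I.map (algebraMap R' B')).map (algebraMap B' C')) := by
    have h2 : @Algebra.Smooth (B' ⧸ I.map ρ) _ (C' ⧸ (I.map ρ).map φ') _
      (stdMap φ' (I.map ρ)).toAlgebra := hstd
    rw [← alg_eq' φ' (I.map ρ)] at h2
    exact h2
  exact smooth_of_std I hI h'

end RingHomVersion3

end Groth.Agent.Helper7.ThickAlg
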