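import Mathlib
import Groth.Prelude.Def_MoreMor
import Groth.Agent.Lib.Helper7.ThickSch3
import Groth.Agent.Lib.Helper7.ThickAlg3

set_option autoImplicit false
set_option linter.style.haveILetI false
set_option linter.unusedVariables false
universe u

open AlgebraicGeometry CategoryTheory Limits

/-! helper7: thickening library part 4 (relative situation with flat total space; S1317). -/

namespace Groth.Agent.Helper7.ThickSch

open Groth.Agent.Helper7.ThickAff Groth.Agent.Helper7.ThickAlg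

variable {X X' Y Y' S S' : Scheme.{u}} {iX : X ⟶ X'} {iY : Y ⟶ Y'} {iS : S ⟶ S'}
  {f : X ⟶ Y} {f' : X' ⟶ Y'} {g : Y ⟶ S} {g' : Y' ⟶ S'}

lemma isPullback_top (hcX : IsPullback iX (f ≫ g) (f' ≫ g') iS) (hcY : IsPullback iY g g' iS)
    (w : iX ≫ f' = f ≫ iY) : IsPullback iX f f' iY := IsPullback.of_bot hcX w hcY

lemma isFiniteOrderThickening_left {X X' Y Y' : Scheme.{u}} {iX : X ⟶ X'} {iY : Y ⟶ Y'}
    {f : X ⟶ Y} {f' : X' ⟶ Y'}
    (hY : MoreMor.IsFiniteOrderThickening iY) (hc : IsPullback iX f f' iY) :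
    MoreMor.IsFiniteOrderThickening iX := by
  obtain ⟨⟨hcl, hsurj⟩, n, hn⟩ := hY
  haveI := hcl
  exact ⟨⟨isClosedImmersion_left hc, surjective_left hc hsurj⟩, n,
    ker_pow_eq_bot_of_isPullback hc n hn⟩

set_option backward.isDefEq.respectTransparency false in
/-- generic wrapper in the relative situation `X' ⟶ Y' ⟶ S'` with `X'` flat over `S'`. -/
theorem of_std₃ {P : MorphismProperty Scheme.{u}}
    {Q : ∀ {R S : Type u} [CommRing R] [CommRing S], (R →+* S) → Prop}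
    [HasRingHomProperty P Q]
    (hQcomp : RingHom.StableUnderCompositionWithLocalizationAwaySource Q)
    (hS : MoreMor.IsFiniteOrderThickening iS) (hcX : IsPullback iX (f ≫ g) (f' ≫ g') iS)
    (hcY : IsPullback iY g g' iS) (w : iX ≫ f' = f ≫ iY) [Flat (f' ≫ g')]
    (Halg : ∀ {R' B' C' : Type u} [CommRing R'] [CommRing B'] [CommRing C'] (ρ : R' →+* B')
      (φ' : B' →+* C') (I : Ideal R'), IsNilpotent I → (φ'.comp ρ).Flat →
      Q (stdMap φ' (I.map ρ)) → Q φ')
    (hf : P f) : P f' := by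
  obtain ⟨⟨hcl, hsurj⟩, n, hn⟩ := hS
  haveI := hcl
  have hc : IsPullback iX f f' iY := IsPullback.of_bot hcX w hcY
  haveI : IsClosedImmersion iY := isClosedImmersion_left hcY
  rw [HasRingHomProperty.iff_exists_appLE (P := P) hQcomp]
  intro x'
  obtain ⟨_, ⟨W', hW', rfl⟩, hxW', -⟩ :=
    S'.isBasis_affineOpens.exists_subset_of_mem_open
      (Set.mem_univ (g'.base (f'.base x'))) isOpen_univ
  obtain ⟨_, ⟨V', hV', rfl⟩, hxV', eV⟩ :=
    Y'.isBasis_affineOpens.exists_subset_of_mem_open hxW' (g' ⁻¹ᵁ W').isOpen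
  obtain ⟨_, ⟨U', hU', rfl⟩, hxU', e'⟩ :=
    X'.isBasis_affineOpens.exists_subset_of_mem_open hxV' (f' ⁻¹ᵁ V').isOpen
  refine ⟨⟨V', hV'⟩, ⟨U', hU'⟩, hxU', e', ?_⟩
  have hV : IsAffineOpen (iY ⁻¹ᵁ V') := hV'.preimage iY
  have hU : IsAffineOpen (UU iX iY f V' U') := isAffineOpen_UU hc V' U' hU' e'
  have hresp : RingHom.RespectsIso Q := (HasRingHomProperty.isLocal_ringHomProperty P).respectsIso
  have hstd := std_of_appLE (Q := Q) hresp hc V' hV' U' hU' e'
    (HasRingHomProperty.appLE P f hf ⟨_, hV⟩ ⟨_, hU⟩ (UU_le_right V' U'))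
  have hJ : RingHom.ker (iY.appLE V' (iY ⁻¹ᵁ V') le_rfl).hom =
      (RingHom.ker (iS.appLE W' (iS ⁻¹ᵁ W') le_rfl).hom).map (g'.appLE W' V' eV).hom := by
    rw [ker_appLE_congr iY V' _ _ (UU_eq hcY W' V' eV).symm le_rfl (UU_le_left W' V'),
      ker_appLE_eq_map hcY W' hW' V' hV' eV]
  rw [hJ] at hstd
  refine Halg (g'.appLE W' V' eV).hom (f'.appLE V' U' e').hom _
    ⟨n, ker_appLE_pow_eq_bot hn W' hW'⟩ ?_ hstd
  have hfl := HasRingHomProperty.appLE @Flat (f' ≫ g') inferInstance ⟨W', hW'⟩ ⟨U', hU'⟩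
    (e'.trans (f'.preimage_mono eV))
  rw [← Scheme.Hom.appLE_comp_appLE _ _ W' V' U' eV e'] at hfl
  exact hfl

theorem S1317_main (hS : MoreMor.IsFiniteOrderThickening iS)
    (hcX : IsPullback iX (f ≫ g) (f' ≫ g') iS) (hcY : IsPullback iY g g' iS)
    (w : iX ≫ f' = f ≫ iY) [Flat (f' ≫ g')] :
    Flat f ↔ Flat f' := by
  refine ⟨fun hf => ?_, fun hf' => MorphismProperty.of_isPullback (isPullback_top hcX hcY w) hf'⟩
  refine of_std₃ (P := @Flat)
    (RingHom.Flat.stableUnderComposition.stableUnderCompositionWithLocalizationAway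
      RingHom.Flat.holdsForLocalizationAway).1 hS hcX hcY w ?_ hf
  intro R' B' C' _ _ _ ρ φ' I hI hcomp hstd
  exact ringHom_flat_of_std ρ φ' I hI hcomp hstd

end Groth.Agent.Helper7.ThickSch
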