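import Mathlib
import Groth.Prelude.Def_MoreMor
import Groth.Agent.Lib.Helper7.ThickSch4
import Groth.Agent.Lib.Helper7.ThickAlg4
import Groth.Agent.Lib.Helper7.ThickAlg5

set_option autoImplicit false
set_option linter.style.haveILetI false
set_option linter.unusedVariables false
universe u

open AlgebraicGeometry CategoryTheory Limits

/-! helper7: thickening library part 5 (finite presentation, smooth, etale; S1320, S1321, S1322). -/

namespace Groth.Agent.Helper7.ThickSch

open Groth.Agent.Helper7.ThickAff Groth.Agent.Helper7.ThickAlg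

variable {X X' Y Y' S S' : Scheme.{u}} {iX : X ⟶ X'} {iY : Y ⟶ Y'} {iS : S ⟶ S'}
  {f : X ⟶ Y} {f' : X' ⟶ Y'} {g : Y ⟶ S} {g' : Y' ⟶ S'}

theorem S1320_main (hS : MoreMor.IsFiniteOrderThickening iS)
    (hcX : IsPullback iX (f ≫ g) (f' ≫ g') iS) (hcY : IsPullback iY g g' iS)
    (w : iX ≫ f' = f ≫ iY) [Flat (f' ≫ g')] :
    LocallyOfFinitePresentation f ↔ LocallyOfFinitePresentation f' := by
  refine ⟨fun hf => ?_, fun hf' => MorphismProperty.of_isPullback (isPullback_top hcX hcY w) hf'⟩
  refine of_std₃ (P := @LocallyOfFinitePresentation)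
    (RingHom.finitePresentation_stableUnderComposition.stableUnderCompositionWithLocalizationAway
      RingHom.finitePresentation_holdsForLocalizationAway).1 hS hcX hcY w ?_ hf
  intro R' B' C' _ _ _ ρ φ' I hI hcomp hstd
  exact ringHom_finitePresentation_of_std ρ φ' I hI hcomp hstd

set_option backward.isDefEq.respectTransparency false in
lemma etale_of_flat_of_formallyUnramified {X Y : Scheme.{u}} (f : X ⟶ Y) [Flat f]
    [FormallyUnramified f] [LocallyOfFinitePresentation f] : Etale f := by
  rw [HasRingHomProperty.iff_appLE (P := @Etale)]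
  intro U V e
  rw [RingHom.Etale.iff_flat_and_formallyUnramified]
  exact ⟨HasRingHomProperty.appLE @Flat f inferInstance U V e,
    HasRingHomProperty.appLE @FormallyUnramified f inferInstance U V e,
    HasRingHomProperty.appLE @LocallyOfFinitePresentation f inferInstance U V e⟩

theorem S1322_main (hS : MoreMor.IsFiniteOrderThickening iS)
    (hcX : IsPullback iX (f ≫ g) (f' ≫ g') iS) (hcY : IsPullback iY g g' iS)
    (w : iX ≫ f' = f ≫ iY) [Flat (f' ≫ g')] :
    Etale f ↔ Etale f' := by
  refine ⟨fun hf => ?_, fun hf' => MorphismProperty.of_isPullback (isPullback_top hcX hcY w) hf'⟩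
  haveI : Flat f' := (S1317_main hS hcX hcY w).mp inferInstance
  haveI : LocallyOfFinitePresentation f' := (S1320_main hS hcX hcY w).mp inferInstance
  haveI : FormallyUnramified f' :=
    (S1310_main (isFiniteOrderThickening_left hS hcY) (isPullback_top hcX hcY w)).mp inferInstance
  exact etale_of_flat_of_formallyUnramified f'

theorem S1321_main (hS : MoreMor.IsFiniteOrderThickening iS)
    (hcX : IsPullback iX (f ≫ g) (f' ≫ g') iS) (hcY : IsPullback iY g g' iS)
    (w : iX ≫ f' = f ≫ iY) [Flat (f' ≫ g')] :
    Smooth f ↔ Smooth f' := by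
  refine ⟨fun hf => ?_, fun hf' => MorphismProperty.of_isPullback (isPullback_top hcX hcY w) hf'⟩
  refine of_std₃ (P := @Smooth)
    (RingHom.Smooth.stableUnderComposition.stableUnderCompositionWithLocalizationAway
      RingHom.Smooth.holdsForLocalizationAway).1 hS hcX hcY w ?_ hf
  intro R' B' C' _ _ _ ρ φ' I hI hcomp hstd
  exact ringHom_smooth_of_std ρ φ' I hI hcomp hstd

end Groth.Agent.Helper7.ThickSch
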