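import Mathlib
import Groth.Prelude.Def_MoreMor
import Groth.Agent.Lib.Helper7.ThickSch5

set_option autoImplicit false
set_option linter.style.haveILetI false
set_option linter.unusedVariables false
universe u

open AlgebraicGeometry CategoryTheory Limits

/-! helper7: thickening library part 6 (open immersions and isomorphisms; S1318, S1319). -/

namespace Groth.Agent.Helper7.ThickSch

open Groth.Agent.Helper7.ThickAff Groth.Agent.Helper7.ThickAlg

variable {X X' Y Y' S S' : Scheme.{u}} {iX : X ⟶ X'} {iY : Y ⟶ Y'} {iS : S ⟶ S'}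
  {f : X ⟶ Y} {f' : X' ⟶ Y'} {g : Y ⟶ S} {g' : Y' ⟶ S'}

theorem S1319_main (hS : MoreMor.IsFiniteOrderThickening iS)
    (hcX : IsPullback iX (f ≫ g) (f' ≫ g') iS) (hcY : IsPullback iY g g' iS)
    (w : iX ≫ f' = f ≫ iY) [Flat (f' ≫ g')] :
    IsOpenImmersion f ↔ IsOpenImmersion f' := by
  refine ⟨fun hf => ?_, fun hf' => MorphismProperty.of_isPullback (isPullback_top hcX hcY w) hf'⟩
  haveI : Flat f' := (S1317_main hS hcX hcY w).mp inferInstance
  haveI : LocallyOfFinitePresentation f' := (S1320_main hS hcX hcY w).mp inferInstance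
  haveI : Mono f' :=
    (S1311_main (isFiniteOrderThickening_left hS hcY) (isPullback_top hcX hcY w)).mp inferInstance
  exact IsOpenImmersion.of_flat_of_mono f'

set_option backward.isDefEq.respectTransparency false in
theorem S1318_main (hS : MoreMor.IsFiniteOrderThickening iS)
    (hcX : IsPullback iX (f ≫ g) (f' ≫ g') iS) (hcY : IsPullback iY g g' iS)
    (w : iX ≫ f' = f ≫ iY) [Flat (f' ≫ g')] :
    IsIso f ↔ IsIso f' := by
  have hc := isPullback_top hcX hcY w
  refine ⟨fun hf => ?_, fun hf' => ?_⟩
  · haveI : IsOpenImmersion f' := (S1319_main hS hcX hcY w).mp inferInstance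
    have hYs : Surjective iY := (isFiniteOrderThickening_left hS hcY).1.2
    haveI : Surjective f' := by
      constructor
      intro y'
      obtain ⟨y, rfl⟩ := hYs.surj y'
      obtain ⟨x, rfl⟩ := f.surjective y
      exact ⟨iX.base x, base_comm hc x⟩
    exact (isIso_iff_isOpenImmersion_and_surjective _).mpr ⟨inferInstance, inferInstance⟩
  · exact hc.flip.isIso_fst_of_isIso

end Groth.Agent.Helper7.ThickSch
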