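import Groth.Prelude.Def_FlatCA
import Mathlib.RingTheory.Ideal.MinimalPrime.Localization
import Mathlib.RingTheory.Localization.Ideal
import Mathlib.Algebra.Module.LocalizedModule.Basic

/-! Weakly associated primes: helper lemmas (annihilators of elements of localized modules). -/

namespace Groth.Agent.Helper7

universe u v

open FlatCA

section Basic

variable {R : Type u} [CommRing R] {M : Type v} [AddCommGroup M] [Module R M]

/-- annihilator of an element -/
abbrev annEl (R : Type u) [CommRing R] {M : Type v} [AddCommGroup M] [Module R M] (m : M) :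
    Ideal R := (Submodule.span R {m}).annihilator

theorem mem_annEl {r : R} {m : M} : r ∈ annEl R m ↔ r • m = 0 :=
  Submodule.mem_annihilator_span_singleton _ _

theorem annEl_eq_top_iff {m : M} : annEl R m = ⊤ ↔ m = 0 := by
  rw [Ideal.eq_top_iff_one, mem_annEl, one_smul]

theorem mem_weakAss_iff {p : Ideal R} :
    p ∈ weakAss R M ↔ ∃ m : M, p ∈ (annEl R m).minimalPrimes := Iff.rfl

theorem mem_ass_iff {p : Ideal R} :
    p ∈ ass R M ↔ p.IsPrime ∧ ∃ m : M, p = annEl R m := Iff.rfl

end Basic

section Localized

variable {R : Type u} [CommRing R] (S : Submonoid R) {M : Type v} [AddCommGroup M] [Module R M]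

theorem localizedModule_mk_eq_zero_iff (m : M) (s : S) :
    LocalizedModule.mk m s = 0 ↔ ∃ u : S, u • m = 0 := by
  rw [← LocalizedModule.zero_mk (1 : S), LocalizedModule.mk_eq]
  constructor
  · rintro ⟨u, hu⟩
    refine ⟨u, ?_⟩
    simpa using hu
  · rintro ⟨u, hu⟩
    refine ⟨u, ?_⟩
    simpa using hu

theorem smul_localizedModule_mk_eq_zero_iff (r : R) (m : M) (s : S) :
    r • (LocalizedModule.mk m s) = 0 ↔ ∃ u : S, ((u : R) * r) • m = 0 := by
  rw [LocalizedModule.smul'_mk, localizedModule_mk_eq_zero_iff]
  simp only [Submonoid.smul_def, smul_smul]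

/-- annihilator over `R` of an element of the localized module -/
theorem mem_annEl_localizedModule_mk {r : R} {m : M} {s : S} :
    r ∈ annEl R (LocalizedModule.mk m s) ↔ ∃ u : S, ((u : R) * r) • m = 0 := by
  rw [mem_annEl, smul_localizedModule_mk_eq_zero_iff]

theorem annEl_localizedModule_eq_comap (x : LocalizedModule S M) :
    annEl R x = (annEl (Localization S) x).comap (algebraMap R (Localization S)) := by
  ext r
  rw [Ideal.mem_comap, mem_annEl, mem_annEl, algebraMap_smul]

/-- annihilator over the localized ring of an element of the localized module -/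
theorem annEl_localization_mk (m : M) (s : S) :
    annEl (Localization S) (LocalizedModule.mk m s) =
      (annEl R m).map (algebraMap R (Localization S)) := by
  apply le_antisymm
  · intro a ha
    induction a using Localization.induction_on with | H y => ?_
    obtain ⟨r, t⟩ := y
    rw [mem_annEl, LocalizedModule.mk_smul_mk, localizedModule_mk_eq_zero_iff] at ha
    obtain ⟨u, hu⟩ := ha
    rw [Localization.mk_eq_mk', IsLocalization.mk'_mem_map_algebraMap_iff S]
    refine ⟨u, u.2, ?_⟩
    rw [mem_annEl, mul_smul]
    exact hu
  · rw [Ideal.map_le_iff_le_comap]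
    intro r hr
    rw [Ideal.mem_comap, mem_annEl, algebraMap_smul, LocalizedModule.smul'_mk, mem_annEl.mp hr,
      LocalizedModule.zero_mk]

theorem annEl_localizedModule_mk_of_regular (hS : ∀ s ∈ S, IsSMulRegular M s) (m : M) (s : S) :
    annEl R (LocalizedModule.mk m s) = annEl R m := by
  ext r
  rw [mem_annEl_localizedModule_mk, mem_annEl]
  constructor
  · rintro ⟨u, hu⟩
    rw [mul_smul] at hu
    exact (hS u u.2).right_eq_zero_of_smul hu
  · intro h
    exact ⟨1, by simp [h]⟩

end Localized

end Groth.Agent.Helper7
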