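import Mathlib

/-! helper7: maximal points (generic points of irreducible components) of quasi-sober spaces -/

set_option autoImplicit false

namespace Groth.Agent.Helper7.MaxPt

/-- every point of a quasi-sober T0 space is a specialization of a maximal point -/
theorem exists_maximal_generization {Y : Type*} [TopologicalSpace Y] [QuasiSober Y] [T0Space Y]
    (y : Y) : ∃ y' : Y, y' ⤳ y ∧ ∀ y'' : Y, y'' ⤳ y' → y'' = y' := by
  obtain ⟨y', hy'⟩ := QuasiSober.sober (isIrreducible_irreducibleComponent (x := y))
    isClosed_irreducibleComponent
  have hgen : closure {y'} = irreducibleComponent y := hy'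
  refine ⟨y', ?_, ?_⟩
  · rw [specializes_iff_mem_closure, hgen]
    exact mem_irreducibleComponent
  · intro y'' h
    have h1 : closure {y'} ⊆ closure {y''} := specializes_iff_closure_subset.mp h
    have h2 : closure {y''} = irreducibleComponent y :=
      eq_irreducibleComponent (isIrreducible_singleton.closure).isPreirreducible
        (by rw [← hgen]; exact h1)
    have h3 : y' ⤳ y'' := by
      rw [specializes_iff_mem_closure, hgen, ← h2]
      exact subset_closure rfl
    exact (h.antisymm h3).eq

end Groth.Agent.Helper7.MaxPt
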