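import Mathlib

set_option autoImplicit false
universe u
open CategoryTheory CategoryTheory.Limits AlgebraicGeometry

/-! helper7: Galois orbits on base changes via field-valued points: `exists_algEquiv_of_algHom`
(embeddings of a normal extension differ by an automorphism), `exists_conj` (points of `X_K` with the
same image in `X` are conjugate, for `K/k` normal). -/

namespace Groth.Agent.Helper7.GalOrb

/-- two embeddings of a normal extension into a field differ by an automorphism -/
theorem exists_algEquiv_of_algHom {k K L : Type*} [Field k] [Field K] [Field L] [Algebra k K]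
    [Algebra k L] [Normal k K] (a b : K →ₐ[k] L) : ∃ σ : K ≃ₐ[k] K, ∀ x, b (σ x) = a x := by
  have hrange : ∀ x : K, a x ∈ (b : K →+* L).range := by
    intro x
    have hsp := Normal.splits (inferInstance : Normal k K) x
    have hne : (minpoly k x).map (algebraMap k K) ≠ 0 :=
      Polynomial.map_ne_zero (minpoly.ne_zero (Normal.isIntegral inferInstance x))
    refine hsp.mem_range_of_isRoot hne ?_
    rw [Polynomial.map_map, Polynomial.IsRoot, Polynomial.eval_map]
    have h1 : (b : K →+* L).comp (algebraMap k K) = algebraMap k L := by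
      ext c
      exact b.commutes c
    rw [h1, ← Polynomial.aeval_def, Polynomial.aeval_algHom_apply, minpoly.aeval, map_zero]
  choose s hs using hrange
  have hs' : ∀ x, b (s x) = a x := hs
  have hbinj : Function.Injective b := b.injective
  let σ₀ : K →ₐ[k] K :=
    { toFun := s
      map_one' := hbinj (by rw [hs', map_one, map_one])
      map_mul' := fun x y => hbinj (by rw [hs', map_mul, map_mul, hs', hs'])
      map_zero' := hbinj (by rw [hs', map_zero, map_zero])
      map_add' := fun x y => hbinj (by rw [hs', map_add, map_add, hs', hs'])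
      commutes' := fun c => hbinj (by rw [hs', a.commutes, b.commutes]) }
  have halg : Algebra.IsAlgebraic k K := inferInstance
  exact ⟨AlgEquiv.ofBijective σ₀ (Algebra.IsAlgebraic.algHom_bijective σ₀), fun x => hs' x⟩

theorem exists_conj_aux {k K : Type u} [Field k] [Field K] [Algebra k K] [Normal k K]
    {X : Scheme.{u}} (s : X ⟶ Spec (CommRingCat.of k))
    (e : Spec (CommRingCat.of K) ⟶ Spec (CommRingCat.of k))
    (he : e = Spec.map (CommRingCat.ofHom (algebraMap k K)))
    (τ : (K ≃ₐ[k] K) → (pullback s e ⟶ pullback s e))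
    (hτ1 : ∀ σ, τ σ ≫ pullback.fst s e = pullback.fst s e)
    (hτ2 : ∀ σ, τ σ ≫ pullback.snd s e =
        pullback.snd s e ≫ Spec.map (CommRingCat.ofHom (σ : K →+* K)))
    (x y : ↑(pullback s e))
    (hxy : (pullback.fst s e) x = (pullback.fst s e) y) :
    ∃ σ, (τ σ) x = y := by
  obtain ⟨w, hw₁, hw₂⟩ := Scheme.Pullback.exists_preimage_pullback
    (f := pullback.fst s e) (g := pullback.fst s e) y x hxy.symm
  obtain ⟨φ, hφdef⟩ : ∃ φ : Spec ((pullback (pullback.fst s e) (pullback.fst s e)).residueField w) ⟶
      pullback (pullback.fst s e) (pullback.fst s e),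
    φ = (pullback (pullback.fst s e) (pullback.fst s e)).fromSpecResidueField w := ⟨_, rfl⟩
  have hφpt : ∀ t, φ t = w := fun t => by rw [hφdef, Scheme.fromSpecResidueField_apply]
  obtain ⟨u, hu⟩ : ∃ u, u = φ ≫ pullback.fst (pullback.fst s e) (pullback.fst s e) := ⟨_, rfl⟩
  obtain ⟨v, hv⟩ : ∃ v, v = φ ≫ pullback.snd (pullback.fst s e) (pullback.fst s e) := ⟨_, rfl⟩
  have huv : u ≫ pullback.fst s e = v ≫ pullback.fst s e := by
    rw [hu, hv, Category.assoc, Category.assoc, pullback.condition]
  have hupt : ∀ t, u t = y := fun t => by rw [hu, Scheme.Hom.comp_apply, hφpt, hw₁]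
  have hvpt : ∀ t, v t = x := fun t => by rw [hv, Scheme.Hom.comp_apply, hφpt, hw₂]
  -- the two embeddings of `K`
  obtain ⟨α, hα⟩ : ∃ α : CommRingCat.of K ⟶ (pullback (pullback.fst s e)
      (pullback.fst s e)).residueField w, Spec.map α = u ≫ pullback.snd s e :=
    ⟨Spec.preimage _, Spec.map_preimage _⟩
  obtain ⟨β, hβ⟩ : ∃ β : CommRingCat.of K ⟶ (pullback (pullback.fst s e)
      (pullback.fst s e)).residueField w, Spec.map β = v ≫ pullback.snd s e :=
    ⟨Spec.preimage _, Spec.map_preimage _⟩
  have hαβ : CommRingCat.ofHom (algebraMap k K) ≫ α = CommRingCat.ofHom (algebraMap k K) ≫ β := by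
    apply Spec.map_injective
    rw [Spec.map_comp, Spec.map_comp, hα, hβ, ← he, Category.assoc, Category.assoc,
      ← pullback.condition, ← Category.assoc, ← Category.assoc, huv]
  let _ : Algebra k ((pullback (pullback.fst s e) (pullback.fst s e)).residueField w) :=
    (α.hom.comp (algebraMap k K)).toAlgebra
  let a : K →ₐ[k] (pullback (pullback.fst s e) (pullback.fst s e)).residueField w :=
    { α.hom with commutes' := fun c => rfl }
  let b : K →ₐ[k] (pullback (pullback.fst s e) (pullback.fst s e)).residueField w :=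
    { β.hom with commutes' := fun c => (congr($(hαβ).hom c)).symm }
  obtain ⟨σ, hσ⟩ := exists_algEquiv_of_algHom a b
  refine ⟨σ, ?_⟩
  have hσ' : α = CommRingCat.ofHom (σ : K →+* K) ≫ β := by
    ext c
    exact (hσ c).symm
  have hfin : v ≫ τ σ = u := by
    apply pullback.hom_ext
    · rw [Category.assoc, hτ1, huv]
    · rw [Category.assoc, hτ2, ← Category.assoc, ← hβ, ← Spec.map_comp, ← hσ', hα]
  have := congr($(hfin) (IsLocalRing.closedPoint _))
  rw [Scheme.Hom.comp_apply, hvpt, hupt] at this
  exact this

/-- points of the base change to a normal extension having the same image are conjugate -/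
theorem exists_conj {k K : Type u} [Field k] [Field K] [Algebra k K] [Normal k K]
    {X : Scheme.{u}} (s : X ⟶ Spec (CommRingCat.of k))
    (τ : (K ≃ₐ[k] K) → (pullback s (Spec.map (CommRingCat.ofHom (algebraMap k K))) ⟶
        pullback s (Spec.map (CommRingCat.ofHom (algebraMap k K)))))
    (hτ1 : ∀ σ, τ σ ≫ pullback.fst s _ = pullback.fst s _)
    (hτ2 : ∀ σ, τ σ ≫ pullback.snd s (Spec.map (CommRingCat.ofHom (algebraMap k K))) =
        pullback.snd s _ ≫ Spec.map (CommRingCat.ofHom (σ : K →+* K)))
    (x y : ↑(pullback s (Spec.map (CommRingCat.ofHom (algebraMap k K)))))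
    (hxy : (pullback.fst s (Spec.map (CommRingCat.ofHom (algebraMap k K)))) x =
      (pullback.fst s (Spec.map (CommRingCat.ofHom (algebraMap k K)))) y) :
    ∃ σ, (τ σ) x = y :=
  exists_conj_aux s _ rfl τ hτ1 hτ2 x y hxy

end Groth.Agent.Helper7.GalOrb
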