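import Mathlib
import Groth.Prelude.Def_SGA1
import Groth.Agent.Lib.Helper7.QuotGrp

set_option autoImplicit false
open CategoryTheory CategoryTheory.Limits AlgebraicGeometry Opposite TopologicalSpace
universe u

/-! helper7: restriction of a quotient by a group (SGA1.IsQuot) to an open of the base. -/

namespace Groth.Agent.Helper7.QuotOpen

variable {X Y : Scheme.{u}} {G : Type u} [Group G] {ρ : G →* Aut X} {p : X ⟶ Y}

theorem range_iff' (hp : SGA1.IsQuot ρ p) (O' : Y.Opens) (W' : X.Opens) (hW : W' = p ⁻¹ᵁ O')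
    (s : Γ(X, W')) :
    s ∈ Set.range (p.appLE O' W' hW.le).hom ↔
      ∀ g : G, ((ρ g).hom.appLE W' W'
        (by subst hW; exact SGA1.preimage_le_of_inv ρ p hp.inv g O')).hom s = s := by
  subst hW
  rw [← Scheme.Hom.app_eq_appLE]
  exact hp.range_iff O' s

theorem injective' (hp : SGA1.IsQuot ρ p) (O' : Y.Opens) (W' : X.Opens) (hW : W' = p ⁻¹ᵁ O') :
    Function.Injective (p.appLE O' W' hW.le).hom := by
  subst hW
  rw [← Scheme.Hom.app_eq_appLE]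
  exact hp.injective O'

theorem appLE_of_eq_resLE {V : X.Opens} (f : X ⟶ X) (e : V ≤ f ⁻¹ᵁ V)
    (a : V.toScheme ⟶ V.toScheme) (ha : a = f.resLE V V e) (W : V.toScheme.Opens)
    (h : W ≤ a ⁻¹ᵁ W) :
    a.appLE W W h = f.appLE (V.ι ''ᵁ W) (V.ι ''ᵁ W)
      ((Scheme.Hom.le_resLE_preimage_iff f e W W).mp (by subst ha; exact h)) := by
  subst ha
  exact Scheme.Hom.resLE_appLE f e W W h

theorem main13606 (hp : SGA1.IsQuot ρ p) (U : Y.Opens)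
    (ρU : G →* Aut (p ⁻¹ᵁ U).toScheme)
    (hρU : ∀ g : G, (ρU g).hom ≫ (p ⁻¹ᵁ U).ι = (p ⁻¹ᵁ U).ι ≫ (ρ g).hom) :
    SGA1.IsQuot ρU (p ∣_ U) := by
  have := hp.affine
  have hres : ∀ g : G, (ρU g).hom = (ρ g).hom.resLE (p ⁻¹ᵁ U) (p ⁻¹ᵁ U)
      (SGA1.preimage_le_of_inv ρ p hp.inv g U) := by
    intro g
    rw [← cancel_mono (p ⁻¹ᵁ U).ι, hρU, Scheme.Hom.resLE_comp_ι]
  have hinv : ∀ g : G, (ρU g).hom ≫ p ∣_ U = p ∣_ U := by
    intro g
    rw [← cancel_mono U.ι, Category.assoc, morphismRestrict_ι, reassoc_of% hρU g, hp.inv]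
  refine ⟨AlgebraicGeometry.IsZariskiLocalAtTarget.restrict (P := @IsAffineHom) hp.affine U, hinv,
    fun O => ?_, fun O s => ?_⟩
  · have h0 := morphismRestrict_app' p U O
    have h2 := injective' hp (U.ι ''ᵁ O) _ (image_morphismRestrict_preimage p U O)
    have e1 := congrArg (fun φ : Γ(↑U, O) ⟶ Γ(↑(p ⁻¹ᵁ U), (p ∣_ U) ⁻¹ᵁ O) =>
      Function.Injective φ.hom) h0
    exact e1.mpr h2
  · have h0 := morphismRestrict_app' p U O
    have h1 := range_iff' hp (U.ι ''ᵁ O) _ (image_morphismRestrict_preimage p U O) s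
    have e1 := congrArg (fun φ : Γ(↑U, O) ⟶ Γ(↑(p ⁻¹ᵁ U), (p ∣_ U) ⁻¹ᵁ O) =>
      s ∈ Set.range φ.hom) h0
    refine e1.to_iff.trans (h1.trans (forall_congr' fun g => ?_))
    have e2 := appLE_of_eq_resLE (ρ g).hom (SGA1.preimage_le_of_inv ρ p hp.inv g U) (ρU g).hom
      (hres g) ((p ∣_ U) ⁻¹ᵁ O) (SGA1.preimage_le_of_inv ρU (p ∣_ U) hinv g O)
    have e3 := congrArg (fun φ : Γ(↑(p ⁻¹ᵁ U), (p ∣_ U) ⁻¹ᵁ O) ⟶ Γ(↑(p ⁻¹ᵁ U), (p ∣_ U) ⁻¹ᵁ O) =>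
      φ.hom s = s) e2
    exact e3.to_iff.symm

end Groth.Agent.Helper7.QuotOpen
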