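import Mathlib
import Groth.Prelude.Def_SGA1
import Groth.Agent.Lib.Helper7.QuotBasis
import Groth.Agent.Lib.Helper7.QuotOpen

set_option autoImplicit false
open CategoryTheory CategoryTheory.Limits AlgebraicGeometry Opposite TopologicalSpace
universe u

/-! helper7: quotients by finite groups (`SGA1.IsQuot`): the quotient of an affine scheme is
affine, restriction of the action to invariant opens, and transfer of affineness, separatedness,
finiteness and finite type between the source and its quotient over a base. -/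

namespace Groth.Agent.Helper7.QuotAff

open Groth.Agent.Helper7.QuotGrp Groth.Agent.Helper7.QuotBasis

variable {X Y : Scheme.{u}} {G : Type u} [Group G] {ρ : G →* Aut X} {p : X ⟶ Y}

/-- the quotient of an affine scheme by a finite group is affine. -/
theorem isAffine_of_isQuot [Finite G] [IsAffine X] (hp : SGA1.IsQuot ρ p) : IsAffine Y := by
  have hinv' : ∀ g : G, (ρ g).hom ≫ p ≫ Y.toSpecΓ = p ≫ Y.toSpecΓ := by
    intro g; rw [← Category.assoc, hp.inv]
  have hciso : IsIso (Y.toSpecΓ.app ⊤) := by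
    change IsIso Y.toSpecΓ.appTop
    rw [Scheme.toSpecΓ_appTop]; infer_instance
  have happ : (p ≫ Y.toSpecΓ).app ⊤ = Y.toSpecΓ.app ⊤ ≫ p.app (Y.toSpecΓ ⁻¹ᵁ ⊤) :=
    Scheme.Hom.comp_app _ _ _
  have hp' : SGA1.IsQuot ρ (p ≫ Y.toSpecΓ) := by
    refine isQuot_of_isAffine ρ (p ≫ Y.toSpecΓ) hinv' ?_ ?_
    · rw [happ]
      intro a b hab
      have := hp.injective _ hab
      exact (ConcreteCategory.bijective_of_isIso (Y.toSpecΓ.app ⊤)).1 this
    · intro s hs
      have h1 : s ∈ Set.range (p.app (Y.toSpecΓ ⁻¹ᵁ ⊤)).hom :=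
        (hp.range_iff (Y.toSpecΓ ⁻¹ᵁ ⊤) s).mpr hs
      obtain ⟨a, ha⟩ := h1
      obtain ⟨b, hb⟩ := (ConcreteCategory.bijective_of_isIso (Y.toSpecΓ.app ⊤)).2 a
      refine ⟨b, ?_⟩
      rw [happ]
      change (p.app (Y.toSpecΓ ⁻¹ᵁ ⊤)).hom ((Y.toSpecΓ.app ⊤).hom b) = s
      rw [← ha]
      exact congrArg _ hb
  obtain ⟨d, hd, -⟩ := main2925 hp' Y p hp.inv
  have h1 : Y.toSpecΓ ≫ d = 𝟙 Y := by
    apply (main2925 hp Y p hp.inv).unique
    · rw [← Category.assoc]; exact hd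
    · exact Category.comp_id p
  have h2 : d ≫ Y.toSpecΓ = 𝟙 _ := by
    apply (main2925 hp' _ (p ≫ Y.toSpecΓ) hinv').unique
    · rw [← Category.assoc, hd]
    · exact Category.comp_id _
  exact ⟨⟨d, h1, h2⟩⟩

theorem rho_mul_hom (ρ : G →* Aut X) (g h : G) : (ρ (g * h)).hom = (ρ h).hom ≫ (ρ g).hom := by
  rw [map_mul]; rfl

theorem rho_one_hom (ρ : G →* Aut X) : (ρ 1).hom = 𝟙 X := by
  rw [map_one]; rfl

/-- restriction of the action to an invariant open. -/
theorem exists_restrictAut (ρ : G →* Aut X) (W : X.Opens)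
    (hW : ∀ g : G, W ≤ (ρ g).hom ⁻¹ᵁ W) :
    ∃ ρW : G →* Aut W.toScheme, ∀ g : G, (ρW g).hom ≫ W.ι = W.ι ≫ (ρ g).hom := by
  have hcomp : ∀ g h : G, (ρ g).hom.resLE W W (hW g) ≫ (ρ h).hom.resLE W W (hW h) =
      (ρ (h * g)).hom.resLE W W (hW (h * g)) := by
    intro g h
    rw [← cancel_mono W.ι, Category.assoc, Scheme.Hom.resLE_comp_ι,
      Scheme.Hom.resLE_comp_ι_assoc, Scheme.Hom.resLE_comp_ι, rho_mul_hom]
  have hone : (ρ 1).hom.resLE W W (hW 1) = 𝟙 _ := by
    rw [← cancel_mono W.ι, Scheme.Hom.resLE_comp_ι, rho_one_hom, Category.comp_id,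
      Category.id_comp]
  have hcongr : ∀ g h : G, g = h → (ρ g).hom.resLE W W (hW g) = (ρ h).hom.resLE W W (hW h) := by
    intro g h e; subst e; rfl
  refine ⟨{ toFun := fun g => ⟨(ρ g).hom.resLE W W (hW g), (ρ g⁻¹).hom.resLE W W (hW g⁻¹), ?_, ?_⟩
            map_one' := ?_
            map_mul' := ?_ }, ?_⟩
  · rw [hcomp, hcongr _ 1 (inv_mul_cancel g), hone]
  · rw [hcomp, hcongr _ 1 (mul_inv_cancel g), hone]
  · apply Iso.ext
    exact hone
  · intro g h
    apply Iso.ext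
    change (ρ (g * h)).hom.resLE W W (hW (g * h)) =
      (ρ h).hom.resLE W W (hW h) ≫ (ρ g).hom.resLE W W (hW g)
    rw [hcomp]
  · intro g
    exact Scheme.Hom.resLE_comp_ι _ _

section S2909

variable [Finite G] {Z : Scheme.{u}}

theorem isAffineHom_iff (hp : SGA1.IsQuot ρ p) (f : X ⟶ Z) (q : Y ⟶ Z) (hq : p ≫ q = f) :
    IsAffineHom f ↔ IsAffineHom q := by
  subst hq
  have := hp.affine
  constructor
  · intro hf
    refine ⟨fun V hV => ?_⟩
    have hW : IsAffineOpen (p ⁻¹ᵁ (q ⁻¹ᵁ V)) := hV.preimage (p ≫ q)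
    obtain ⟨ρW, hρW⟩ := exists_restrictAut ρ (p ⁻¹ᵁ (q ⁻¹ᵁ V))
      (fun g => SGA1.preimage_le_of_inv ρ p hp.inv g _)
    have hquot := Groth.Agent.Helper7.QuotOpen.main13606 hp (q ⁻¹ᵁ V) ρW hρW
    have : IsAffine (p ⁻¹ᵁ (q ⁻¹ᵁ V)).toScheme := hW
    exact isAffine_of_isQuot hquot
  · intro hq'
    infer_instance

theorem isSeparated_iff (hp : SGA1.IsQuot ρ p) (f : X ⟶ Z) (q : Y ⟶ Z) (hq : p ≫ q = f) :
    IsSeparated f ↔ IsSeparated q := by
  subst hq
  have := hp.affine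
  constructor
  · intro hf
    have hpint : IsIntegralHom p := isIntegralHom hp
    have hpsurj := surjective hp
    have hm : UniversallyClosed (pullback.map (p ≫ q) (p ≫ q) q q p p (𝟙 Z)
        ((Category.comp_id _).trans rfl) ((Category.comp_id _).trans rfl)) :=
      MorphismProperty.pullbackMap (P := @UniversallyClosed) inferInstance inferInstance rfl rfl
    have hcomm : p ≫ pullback.diagonal q = pullback.diagonal (p ≫ q) ≫
        pullback.map (p ≫ q) (p ≫ q) q q p p (𝟙 Z)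
        ((Category.comp_id _).trans rfl) ((Category.comp_id _).trans rfl) :=
      pullback.comp_diagonal p q
    have hrange : Set.range (pullback.diagonal q).base =
        (pullback.map (p ≫ q) (p ≫ q) q q p p (𝟙 Z)
        ((Category.comp_id _).trans rfl) ((Category.comp_id _).trans rfl)).base ''
          Set.range (pullback.diagonal (p ≫ q)).base := by
      ext z
      constructor
      · rintro ⟨y, rfl⟩
        obtain ⟨x, rfl⟩ := hpsurj y
        refine ⟨_, ⟨x, rfl⟩, ?_⟩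
        rw [← Scheme.Hom.comp_apply, ← hcomm, Scheme.Hom.comp_apply]
      · rintro ⟨_, ⟨x, rfl⟩, rfl⟩
        exact ⟨p.base x, by rw [← Scheme.Hom.comp_apply, hcomm, Scheme.Hom.comp_apply]⟩
    have hcl : IsClosed (Set.range (pullback.diagonal q).base) := by
      rw [hrange]
      exact Scheme.Hom.isClosedMap _ _
        (pullback.diagonal (p ≫ q)).isClosedEmbedding.isClosed_range
    exact ⟨IsClosedImmersion.of_isPreimmersion _ hcl⟩
  · intro hq'
    infer_instance

theorem isFinite_of_lft (hp : SGA1.IsQuot ρ p) (f : X ⟶ Z) (q : Y ⟶ Z) (hq : p ≫ q = f)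
    [LocallyOfFiniteType f] : IsFinite p := by
  subst hq
  have : LocallyOfFiniteType p := locallyOfFiniteType_of_comp p q
  rw [IsFinite.iff_isIntegralHom_and_locallyOfFiniteType]
  exact ⟨isIntegralHom hp, this⟩

theorem quasiCompact_of_comp (hp : SGA1.IsQuot ρ p) (f : X ⟶ Z) (q : Y ⟶ Z) (hq : p ≫ q = f)
    [QuasiCompact f] : QuasiCompact q := by
  subst hq
  have hpsurj := surjective hp
  rw [quasiCompact_iff_forall_isAffineOpen]
  intro V hV
  have h1 : IsCompact ((p ≫ q) ⁻¹ᵁ V : Set X) := (p ≫ q).isCompact_preimage hV.isCompact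
  have : (q ⁻¹ᵁ V : Set Y) = p.base '' ((p ≫ q) ⁻¹ᵁ V : Set X) := by
    ext y
    constructor
    · intro hy
      obtain ⟨x, rfl⟩ := hpsurj y
      exact ⟨x, hy, rfl⟩
    · rintro ⟨x, hx, rfl⟩
      exact hx
  rw [this]
  exact h1.image p.continuous

theorem locallyOfFiniteType_of_comp_noetherian (hp : SGA1.IsQuot ρ p) (f : X ⟶ Z) (q : Y ⟶ Z)
    (hq : p ≫ q = f) [IsLocallyNoetherian Z] [LocallyOfFiniteType f] :
    LocallyOfFiniteType q := by
  subst hq
  have := hp.affine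
  rw [HasRingHomProperty.iff_appLE (P := @LocallyOfFiniteType)]
  intro V U e
  have hW : IsAffineOpen (p ⁻¹ᵁ U.1) := U.2.preimage p
  have hcomp : q.appLE V.1 U.1 e ≫ p.app U.1 =
      (p ≫ q).appLE V.1 (p ⁻¹ᵁ U.1) (p.preimage_mono e) := by
    rw [Scheme.Hom.app_eq_appLE, Scheme.Hom.appLE_comp_appLE]
  have hRA : ((p.app U.1).hom.comp (q.appLE V.1 U.1 e).hom).FiniteType := by
    have h1 := HasRingHomProperty.appLE (P := @LocallyOfFiniteType) (p ≫ q) inferInstance V
      ⟨p ⁻¹ᵁ U.1, hW⟩ (p.preimage_mono e)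
    have h2 : (p.app U.1).hom.comp (q.appLE V.1 U.1 e).hom =
        ((p ≫ q).appLE V.1 (p ⁻¹ᵁ U.1) (p.preimage_mono e)).hom := by
      rw [← hcomp]; rfl
    rw [h2]; exact h1
  have hint : (p.app U.1).hom.IsIntegral := isIntegral_app hp U.1
  have hinj : Function.Injective (p.app U.1).hom := hp.injective U.1
  have hnoeth : IsNoetherianRing Γ(Z, V.1) := IsLocallyNoetherian.component_noetherian V
  generalize (q.appLE V.1 U.1 e).hom = φ at hRA ⊢
  generalize (p.app U.1).hom = ψ at hRA hint hinj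
  algebraize [φ, ψ, ψ.comp φ]
  have h3 : Algebra.FiniteType Γ(Y, U.1) Γ(X, p ⁻¹ᵁ U.1) :=
    Algebra.FiniteType.of_restrictScalars_finiteType Γ(Z, V.1) _ _
  have h4 : Module.Finite Γ(Y, U.1) Γ(X, p ⁻¹ᵁ U.1) := Algebra.IsIntegral.finite
  have h5 := fg_of_fg_of_fg Γ(Z, V.1) Γ(Y, U.1) Γ(X, p ⁻¹ᵁ U.1)
    (Algebra.FiniteType.out) (Module.Finite.fg_top) hinj
  exact ⟨h5⟩

end S2909

end Groth.Agent.Helper7.QuotAff


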