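import Mathlib
import Groth.Prelude.Def_SGA1
import Groth.Agent.Lib.Helper7.QuotGrp

set_option autoImplicit false
open CategoryTheory CategoryTheory.Limits AlgebraicGeometry Opposite TopologicalSpace
open scoped Pointwise
universe u

/-! helper7: residue fields for quotients of schemes by finite groups: residue fields as fraction
fields of quotients of sections over affine opens, normality and surjectivity of the stabilizer onto
the automorphisms of the residue field extension. -/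

namespace Groth.Agent.Helper7.QuotRes

section Alg

theorem isFractionRing_quotient {B L : Type*} [CommRing B] [Field L] (Q : Ideal B) [Q.IsPrime]
    (ε : B →+* L) (hker : ∀ b, ε b = 0 ↔ b ∈ Q)
    (hsurj : ∀ l : L, ∃ b s : B, s ∉ Q ∧ l * ε s = ε b) :
    @IsFractionRing (B ⧸ Q) _ L _
      (Ideal.Quotient.lift Q ε (fun b hb => (hker b).mpr hb)).toAlgebra := by
  let _ : Algebra (B ⧸ Q) L := (Ideal.Quotient.lift Q ε (fun b hb => (hker b).mpr hb)).toAlgebra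
  have halg : ∀ b : B, algebraMap (B ⧸ Q) L (Ideal.Quotient.mk Q b) = ε b := fun b => rfl
  have hinj : Function.Injective (algebraMap (B ⧸ Q) L) := by
    rw [injective_iff_map_eq_zero]
    intro x hx
    obtain ⟨b, rfl⟩ := Ideal.Quotient.mk_surjective x
    rw [halg, hker] at hx
    exact Ideal.Quotient.eq_zero_iff_mem.mpr hx
  refine ⟨fun y => ?_, fun l => ?_, fun {x y} e => ⟨1, by rw [hinj e]⟩⟩
  · exact isUnit_iff_ne_zero.mpr (map_ne_zero_of_mem_nonZeroDivisors _ hinj y.2)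
  · obtain ⟨b, s, hs, h⟩ := hsurj l
    refine ⟨⟨Ideal.Quotient.mk Q b, ⟨Ideal.Quotient.mk Q s, ?_⟩⟩, ?_⟩
    · rwa [mem_nonZeroDivisors_iff_ne_zero, ne_eq, Ideal.Quotient.eq_zero_iff_mem]
    · exact h

theorem bridge {A B K L G : Type u} [CommRing A] [CommRing B] [Field K] [Field L] [Group G]
    [Finite G] [Algebra A B] [MulSemiringAction G B] [Algebra.IsInvariant A B G]
    [SMulCommClass G A B]
    (P : Ideal A) (Q : Ideal B) [Q.IsPrime] (hPQ : P = Q.comap (algebraMap A B))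
    (εA : A →+* K) (εB : B →+* L) (ι : K →+* L)
    (hkerA : ∀ a, εA a = 0 ↔ a ∈ P) (hsurjA : ∀ k : K, ∃ a s : A, s ∉ P ∧ k * εA s = εA a)
    (hkerB : ∀ b, εB b = 0 ↔ b ∈ Q) (hsurjB : ∀ l : L, ∃ b s : B, s ∉ Q ∧ l * εB s = εB b)
    (hcomm : ∀ a, ι (εA a) = εB (algebraMap A B a)) :
    (@Normal K L _ _ ι.toAlgebra) ∧
    ∀ τ : L ≃+* L, (∀ k, τ (ι k) = ι k) →
      ∃ σ : G, σ • Q = Q ∧ ∀ b, τ (εB b) = εB (σ • b) := by
  have hP : P.IsPrime := hPQ ▸ Ideal.comap_isPrime _ _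
  have : Q.LiesOver P := ⟨hPQ⟩
  let _ : Algebra (A ⧸ P) K := (Ideal.Quotient.lift P εA (fun a ha => (hkerA a).mpr ha)).toAlgebra
  let _ : Algebra (B ⧸ Q) L := (Ideal.Quotient.lift Q εB (fun b hb => (hkerB b).mpr hb)).toAlgebra
  let _ : Algebra K L := ι.toAlgebra
  let _ : Algebra (A ⧸ P) L := ((algebraMap K L).comp (algebraMap (A ⧸ P) K)).toAlgebra
  have : IsScalarTower (A ⧸ P) K L := IsScalarTower.of_algebraMap_eq' rfl
  have : IsScalarTower (A ⧸ P) (B ⧸ Q) L := IsScalarTower.of_algebraMap_eq (fun x => by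
    obtain ⟨a, rfl⟩ := Ideal.Quotient.mk_surjective x
    exact hcomm a)
  have : IsFractionRing (A ⧸ P) K := isFractionRing_quotient P εA hkerA hsurjA
  have : IsFractionRing (B ⧸ Q) L := isFractionRing_quotient Q εB hkerB hsurjB
  refine ⟨Ideal.IsFractionRing.normal G P Q K L, fun τ hτ => ?_⟩
  let τ' : L ≃ₐ[K] L := AlgEquiv.ofRingEquiv (f := τ) hτ
  obtain ⟨σ, hσ⟩ := IsFractionRing.stabilizerHom_surjective G P Q K L τ'
  refine ⟨σ.1, σ.2, fun b => ?_⟩
  have := IsFractionRing.stabilizerHom_apply_apply_mk G P Q K L σ b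
  rw [hσ] at this
  exact this

end Alg

section Sch

variable {X : Scheme.{u}} {V : X.Opens} (hV : IsAffineOpen V) (x : X) (hx : x ∈ V)

theorem evaluation_eq_zero_iff (b : Γ(X, V)) :
    (X.evaluation V x hx).hom b = 0 ↔ b ∈ (hV.primeIdealOf ⟨x, hx⟩).asIdeal := by
  let _ : Algebra Γ(X, V) (X.presheaf.stalk x) :=
    TopCat.Presheaf.algebra_section_stalk X.presheaf (⟨x, hx⟩ : V)
  have : IsLocalization.AtPrime (X.presheaf.stalk x) (hV.primeIdealOf ⟨x, hx⟩).asIdeal :=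
    hV.isLocalization_stalk ⟨x, hx⟩
  rw [← IsLocalization.AtPrime.to_map_mem_maximal_iff (X.presheaf.stalk x)
    (hV.primeIdealOf ⟨x, hx⟩).asIdeal b, ← IsLocalRing.residue_eq_zero_iff]
  rfl

theorem evaluation_surj (l : X.residueField x) :
    ∃ b s : Γ(X, V), s ∉ (hV.primeIdealOf ⟨x, hx⟩).asIdeal ∧
      l * (X.evaluation V x hx).hom s = (X.evaluation V x hx).hom b := by
  let _ : Algebra Γ(X, V) (X.presheaf.stalk x) :=
    TopCat.Presheaf.algebra_section_stalk X.presheaf (⟨x, hx⟩ : V)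
  have : IsLocalization.AtPrime (X.presheaf.stalk x) (hV.primeIdealOf ⟨x, hx⟩).asIdeal :=
    hV.isLocalization_stalk ⟨x, hx⟩
  have key : ∀ l : IsLocalRing.ResidueField (X.presheaf.stalk x),
      ∃ b s : Γ(X, V), s ∉ (hV.primeIdealOf ⟨x, hx⟩).asIdeal ∧
      l * IsLocalRing.residue _ (algebraMap Γ(X, V) (X.presheaf.stalk x) s) =
        IsLocalRing.residue _ (algebraMap Γ(X, V) (X.presheaf.stalk x) b) := by
    intro l
    obtain ⟨t, rfl⟩ := IsLocalRing.residue_surjective l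
    obtain ⟨b, ⟨s, hs⟩, rfl⟩ := IsLocalization.exists_mk'_eq
      (hV.primeIdealOf ⟨x, hx⟩).asIdeal.primeCompl t
    refine ⟨b, s, hs, ?_⟩
    rw [← map_mul, IsLocalization.mk'_spec]
  exact key l

theorem evaluation_congr {x x' : X} (e : x' = x) (hx : x ∈ V) (hx' : x' ∈ V) :
    X.evaluation V x hx ≫ (X.residueFieldCongr e).inv = X.evaluation V x' hx' := by
  subst e
  simp

theorem map_evaluation {V V' : X.Opens} (h : V ≤ V') (x : X) (hx : x ∈ V) :
    X.presheaf.map (homOfLE h).op ≫ X.evaluation V x hx = X.evaluation V' x (h hx) := by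
  simp only [Scheme.evaluation, ← Category.assoc]
  rw [X.presheaf.germ_res]

end Sch

section Main

variable {X Y : Scheme.{u}} {G : Type u} [Group G] {ρ : G →* Aut X} {p : X ⟶ Y}

theorem evaluation_sig (hp : SGA1.IsQuot ρ p) (U : Y.Opens) (x : X) (hx : x ∈ p ⁻¹ᵁ U) (g : G)
    (e : (ρ g).hom.base x = x) :
    X.evaluation (p ⁻¹ᵁ U) x hx ≫ (X.residueFieldCongr e).inv ≫ (ρ g).hom.residueFieldMap x =
      CommRingCat.ofHom (QuotGrp.sig ρ p hp.inv U g) ≫ X.evaluation (p ⁻¹ᵁ U) x hx := by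
  have hx' : (ρ g).hom.base x ∈ p ⁻¹ᵁ U := SGA1.preimage_le_of_inv ρ p hp.inv g U hx
  rw [← Category.assoc, evaluation_congr e hx hx', Scheme.evaluation_naturality]
  have h1 : CommRingCat.ofHom (QuotGrp.sig ρ p hp.inv U g) =
      (ρ g).hom.app (p ⁻¹ᵁ U) ≫ X.presheaf.map
        (homOfLE (SGA1.preimage_le_of_inv ρ p hp.inv g U)).op := rfl
  rw [h1, Category.assoc, map_evaluation]

theorem main13597 [Finite G] (hp : SGA1.IsQuot ρ p) (x : X) :
    (letI := (p.residueFieldMap x).hom.toAlgebra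
     Normal (Y.residueField (p.base x)) (X.residueField x)) ∧
    ∀ τ : X.residueField x ≅ X.residueField x,
      p.residueFieldMap x ≫ τ.hom = p.residueFieldMap x →
      ∃ (g : G) (e : (ρ g).hom.base x = x),
        τ.hom = (X.residueFieldCongr e).inv ≫ (ρ g).hom.residueFieldMap x := by
  have := hp.affine
  obtain ⟨_, ⟨U, hU, rfl⟩, hyU, -⟩ :=
    Y.isBasis_affineOpens.exists_subset_of_mem_open (Set.mem_univ (p.base x)) isOpen_univ
  have hV : IsAffineOpen (p ⁻¹ᵁ U) := hU.preimage p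
  have hx : x ∈ p ⁻¹ᵁ U := hyU
  obtain ⟨i1, i2, h1, h2, h3, h4⟩ := QuotGrp.exists_action hp U
  have hPQ : (hU.primeIdealOf ⟨p.base x, hyU⟩).asIdeal =
      (hV.primeIdealOf ⟨x, hx⟩).asIdeal.comap (algebraMap Γ(Y, U) Γ(X, p ⁻¹ᵁ U)) := by
    rw [h1]
    have e1 := IsAffineOpen.comap_primeIdealOf_appLE U hU (p ⁻¹ᵁ U) hV le_rfl hx
    rw [← Scheme.Hom.app_eq_appLE] at e1
    exact congr($(e1).asIdeal).symm
  obtain ⟨hN, hS⟩ := bridge (G := G) (hU.primeIdealOf ⟨p.base x, hyU⟩).asIdeal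
    (hV.primeIdealOf ⟨x, hx⟩).asIdeal hPQ
    (Y.evaluation U (p.base x) hyU).hom (X.evaluation (p ⁻¹ᵁ U) x hx).hom
    (p.residueFieldMap x).hom
    (evaluation_eq_zero_iff hU _ hyU) (evaluation_surj hU _ hyU)
    (evaluation_eq_zero_iff hV x hx) (evaluation_surj hV x hx)
    (fun a => by
      rw [h1]
      exact Scheme.evaluation_naturality_apply p x hyU a)
  refine ⟨hN, fun τ hτ => ?_⟩
  obtain ⟨σ, hσQ, hσ⟩ := hS τ.commRingCatIsoToRingEquiv (fun k => congr($(hτ).hom k))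
  have hx' : (ρ σ⁻¹).hom.base x ∈ p ⁻¹ᵁ U := SGA1.preimage_le_of_inv ρ p hp.inv σ⁻¹ U hx
  have e3 := IsAffineOpen.comap_primeIdealOf_appLE (p ⁻¹ᵁ U) hV (p ⁻¹ᵁ U) hV
    (SGA1.preimage_le_of_inv ρ p hp.inv σ⁻¹ U) hx
  have e4 : hV.primeIdealOf ⟨(ρ σ⁻¹).hom.base x, hx'⟩ = hV.primeIdealOf ⟨x, hx⟩ := by
    rw [← e3]
    apply PrimeSpectrum.ext
    ext b
    have hσQ' : σ⁻¹ • (hV.primeIdealOf ⟨x, hx⟩).asIdeal = (hV.primeIdealOf ⟨x, hx⟩).asIdeal := by
      rw [inv_smul_eq_iff, hσQ]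
    change QuotGrp.sig ρ p hp.inv U σ⁻¹ b ∈ (hV.primeIdealOf ⟨x, hx⟩).asIdeal ↔ _
    rw [← h4]
    conv_rhs => rw [← hσQ', Ideal.mem_inv_pointwise_smul_iff]
    rfl
  have e : (ρ σ⁻¹).hom.base x = x := by
    have e5 := congrArg (fun Q => hV.fromSpec Q) e4
    simp only [IsAffineOpen.fromSpec_primeIdealOf] at e5
    exact e5
  refine ⟨σ⁻¹, e, ?_⟩
  have hev := evaluation_sig hp U x hx σ⁻¹ e
  have hb : ∀ b : Γ(X, p ⁻¹ᵁ U), τ.hom.hom ((X.evaluation (p ⁻¹ᵁ U) x hx).hom b) =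
      ((X.residueFieldCongr e).inv ≫ (ρ σ⁻¹).hom.residueFieldMap x).hom
        ((X.evaluation (p ⁻¹ᵁ U) x hx).hom b) := by
    intro b
    have h5 := congr($(hev).hom b)
    simp only [CommRingCat.hom_comp, RingHom.comp_apply, CommRingCat.hom_ofHom] at h5 ⊢
    rw [h5, ← h4]
    exact hσ b
  ext l
  obtain ⟨b, s, hs, hl⟩ := evaluation_surj hV x hx l
  have hs0 : (X.evaluation (p ⁻¹ᵁ U) x hx).hom s ≠ 0 := fun h0 =>
    hs ((evaluation_eq_zero_iff hV x hx s).mp h0)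
  have h6 := congrArg τ.hom.hom hl
  have h7 := congrArg ((X.residueFieldCongr e).inv ≫ (ρ σ⁻¹).hom.residueFieldMap x).hom hl
  rw [map_mul, hb] at h6
  rw [map_mul, ← hb b, ← h6] at h7
  have hne : ((X.residueFieldCongr e).inv ≫ (ρ σ⁻¹).hom.residueFieldMap x).hom
      ((X.evaluation (p ⁻¹ᵁ U) x hx).hom s) ≠ 0 := by
    rw [ne_eq, map_eq_zero]
    exact hs0
  exact (mul_right_cancel₀ hne h7).symm

end Main

end Groth.Agent.Helper7.QuotRes
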