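import Mathlib

set_option autoImplicit false
universe u
open CategoryTheory CategoryTheory.Limits AlgebraicGeometry

/-! helper7: points of a fibre product with fixed projections (`eq_of_fst_eq_of_snd_eq`), and
`main5067`: an etale separated birational morphism of integral schemes is an open immersion. -/

namespace Groth.Agent.Helper7.BirEt

open AlgebraicGeometry.Scheme.Pullback in
/-- a fibre of `X ×_S Y ⟶ X × Y` over `(x, y)` is a single point when `κ(f x) → κ(x)` is
bijective -/
theorem eq_of_fst_eq_of_snd_eq {X Y S : Scheme.{u}} (f : X ⟶ S) (g : Y ⟶ S)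
    (t₁ t₂ : ↥(pullback f g)) (h1 : pullback.fst f g t₁ = pullback.fst f g t₂)
    (h2 : pullback.snd f g t₁ = pullback.snd f g t₂)
    (hbij : Function.Bijective (f.residueFieldMap (pullback.fst f g t₂)).hom) : t₁ = t₂ := by
  apply (carrierEquiv (f := f) (g := g)).injective
  have hT : Triplet.ofPoint t₁ = Triplet.ofPoint t₂ := Triplet.ext h1 h2
  have hiso : IsIso (f.residueFieldMap (pullback.fst f g t₂)) :=
    (ConcreteCategory.isIso_iff_bijective _).mpr hbij
  have hiso2 : IsIso ((S.residueFieldCongr (Triplet.ofPoint t₂).hx).inv ≫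
      f.residueFieldMap (Triplet.ofPoint t₂).x) := by
    have : IsIso (f.residueFieldMap (Triplet.ofPoint t₂).x) := hiso
    infer_instance
  have hinr : IsIso (Triplet.ofPoint t₂).tensorInr := by
    unfold Triplet.tensorInr
    exact pushout_inr_iso_of_left_iso _ _
  have hsub : Subsingleton (Spec (Triplet.ofPoint t₂).tensor) := by
    have e : Spec (Triplet.ofPoint t₂).tensor ≅ Spec (Y.residueField (Triplet.ofPoint t₂).y) :=
      asIso (Spec.map (Triplet.ofPoint t₂).tensorInr)
    have : Subsingleton (Spec (Y.residueField (Triplet.ofPoint t₂).y)) :=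
      inferInstanceAs (Subsingleton (PrimeSpectrum (Y.residueField (Triplet.ofPoint t₂).y)))
    exact e.hom.homeomorph.subsingleton
  exact carrierEquiv_eq_iff.mpr ⟨hT, hsub.elim _ _⟩

theorem eq_of_fst_eq_of_snd_eq' {X Y S : Scheme.{u}} (f : X ⟶ S) (g : Y ⟶ S)
    (t₁ t₂ : ↥(pullback f g)) (x : X) (h1 : pullback.fst f g t₁ = x)
    (h1' : pullback.fst f g t₂ = x)
    (h2 : pullback.snd f g t₁ = pullback.snd f g t₂)
    (hbij : Function.Bijective (f.residueFieldMap x).hom) : t₁ = t₂ := by
  subst h1'
  exact eq_of_fst_eq_of_snd_eq f g t₁ t₂ h1 h2 hbij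

theorem main5067 {X Y : Scheme.{u}} [IsIntegral X] [IsIntegral Y]
    (f : X ⟶ Y) [Etale f] [IsSeparated f] (_hgen : f.base (genericPoint X) = genericPoint Y)
    (hbir : Function.Bijective (f.residueFieldMap (genericPoint X)).hom) : IsOpenImmersion f := by
  have hclosed : IsClosed (Set.range (pullback.diagonal f).base) :=
    (pullback.diagonal f).isClosedEmbedding.isClosed_range
  have hg1 : GeneralizingMap (pullback.fst f f).base := Flat.generalizingMap _
  have hg2 : GeneralizingMap (pullback.snd f f).base := Flat.generalizingMap _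
  have hξ : ∀ x : X, genericPoint X ⤳ x := fun x => genericPoint_specializes x
  have hξ' : ∀ x : X, x ⤳ genericPoint X → x = genericPoint X :=
    fun x hx => (hx.antisymm (hξ x)).eq
  have hsurj : Surjective (pullback.diagonal f) := by
    refine ⟨fun w => ?_⟩
    by_contra hw
    have hw : w ∉ Set.range (pullback.diagonal f).base := hw
    obtain ⟨w₁, hw₁, hw₁ξ⟩ := hg2 (hξ (pullback.snd f f w))
    have hw₁R : w₁ ∉ Set.range (pullback.diagonal f).base :=
      fun h => hw (hw₁.mem_closed hclosed h)
    obtain ⟨w₂, hw₂, hw₂ξ⟩ := hg1 (hξ (pullback.fst f f w₁))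
    have hw₂R : w₂ ∉ Set.range (pullback.diagonal f).base :=
      fun h => hw₁R (hw₂.mem_closed hclosed h)
    have hw₂ξ' : pullback.snd f f w₂ = genericPoint X := by
      apply hξ'
      have := hw₂.map (pullback.snd f f).continuous
      rwa [hw₁ξ] at this
    apply hw₂R
    refine ⟨genericPoint X, ?_⟩
    symm
    apply eq_of_fst_eq_of_snd_eq' f f _ _ (genericPoint X) hw₂ξ
    · rw [← Scheme.Hom.comp_apply, pullback.diagonal_fst]
      rfl
    · rw [← Scheme.Hom.comp_apply, pullback.diagonal_snd]
      exact hw₂ξ'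
    · exact hbir
  have h2 : IsIso (pullback.diagonal f) := by
    refine isIso_of_isOpenImmersion_of_opensRange_eq_top _ ?_
    refine TopologicalSpace.Opens.ext ?_
    rw [Scheme.Hom.coe_opensRange, TopologicalSpace.Opens.coe_top]
    exact Set.range_eq_univ.mpr (pullback.diagonal f).surjective
  have h3 : Mono f := (pullback.isIso_diagonal_iff f).mp h2
  exact IsOpenImmersion.of_flat_of_mono f

end Groth.Agent.Helper7.BirEt
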