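import Mathlib
import Groth.Agent.Lib.Helper7.SubmHom
import Groth.Agent.Lib.Helper7.BirEt

set_option autoImplicit false
universe u
open CategoryTheory CategoryTheory.Limits AlgebraicGeometry

/-! helper7: unramified morphisms are locally quasi-finite, schemes unramified over a field are
discrete, residue fields of points of a scheme unramified over an algebraically closed field,
rigidity of morphisms into etale schemes along morphisms with geometrically connected fibres
(`rigidity`), `main2916`. -/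

namespace Groth.Agent.Helper7.SubmConn

open Groth.Agent.Helper7.SubmDesc Groth.Agent.Helper7.TopInv Groth.Agent.Helper7.SubmHom
open Groth.Agent.Helper7.BirEt

theorem locallyQuasiFinite_of_unramified {X Y : Scheme.{u}} (f : X ⟶ Y) [FormallyUnramified f]
    [LocallyOfFiniteType f] : LocallyQuasiFinite f := by
  rw [HasRingHomProperty.iff_appLE (P := @LocallyQuasiFinite)]
  intro U V e
  have h1 : (f.appLE U.1 V.1 e).hom.FormallyUnramified :=
    HasRingHomProperty.appLE @FormallyUnramified f inferInstance U V e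
  have h2 : (f.appLE U.1 V.1 e).hom.FiniteType :=
    HasRingHomProperty.appLE @LocallyOfFiniteType f inferInstance U V e
  algebraize [(f.appLE U.1 V.1 e).hom]
  change Algebra.QuasiFinite _ _
  infer_instance

theorem discreteTopology_of_unramified_field {Ω : Type u} [Field Ω] {Y : Scheme.{u}}
    (q : Y ⟶ Spec (CommRingCat.of Ω)) [FormallyUnramified q] [LocallyOfFiniteType q] :
    DiscreteTopology ↥Y := by
  have := locallyQuasiFinite_of_unramified q
  obtain ⟨pt⟩ : Nonempty ↥(Spec (CommRingCat.of Ω)) := ⟨(default : PrimeSpectrum Ω)⟩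
  have h := q.isDiscrete_preimage_singleton pt
  have huniv : q ⁻¹' {pt} = Set.univ := by
    ext y
    simp only [Set.mem_preimage, Set.mem_univ, iff_true]
    exact Subsingleton.elim (α := PrimeSpectrum Ω) _ _
  rw [huniv] at h
  exact isDiscrete_univ_iff.mp h

theorem isAlgClosed_residueField_spec (Ω : Type u) [Field Ω] [IsAlgClosed Ω]
    (pt : ↥(Spec (CommRingCat.of Ω))) :
    IsAlgClosed ((Spec (CommRingCat.of Ω)).residueField pt) := by
  have hmax : pt.asIdeal.IsMaximal := by
    have : pt.asIdeal = ⊥ := Ideal.eq_bot_of_prime pt.asIdeal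
    rw [this]; exact Ideal.bot_isMaximal
  have hbij : Function.Bijective (algebraMap Ω pt.asIdeal.ResidueField) :=
    ⟨(algebraMap Ω pt.asIdeal.ResidueField).injective, Ideal.algebraMap_residueField_surjective _⟩
  let e1 : Ω ≃+* pt.asIdeal.ResidueField := RingEquiv.ofBijective _ hbij
  let e2 : pt.asIdeal.ResidueField ≃+* (Spec (CommRingCat.of Ω)).residueField pt :=
    (Scheme.Spec.residueFieldIso (CommRingCat.of Ω) pt).symm.commRingCatIsoToRingEquiv
  exact IsAlgClosed.of_ringEquiv Ω _ (e1.trans e2)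

theorem residueFieldMap_bijective_of_isAlgClosed {Ω : Type u} [Field Ω] [IsAlgClosed Ω]
    {Y : Scheme.{u}} (q : Y ⟶ Spec (CommRingCat.of Ω)) [FormallyUnramified q]
    [LocallyOfFiniteType q] (y : Y) : Function.Bijective (q.residueFieldMap y).hom := by
  have hac := isAlgClosed_residueField_spec Ω (q y)
  let _ : Algebra ((Spec (CommRingCat.of Ω)).residueField (q y)) (Y.residueField y) :=
    (q.residueFieldMap y).hom.toAlgebra
  have hsep : Algebra.IsSeparable ((Spec (CommRingCat.of Ω)).residueField (q y))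
      (Y.residueField y) := inferInstance
  have hint : Algebra.IsIntegral ((Spec (CommRingCat.of Ω)).residueField (q y))
      (Y.residueField y) := inferInstance
  exact IsAlgClosed.algebraMap_bijective_of_isIntegral
    (k := (Spec (CommRingCat.of Ω)).residueField (q y)) (K := Y.residueField y)

/-- two morphisms into a scheme with open diagonal agree as soon as the induced map to the fibre
square lands pointwise in the diagonal -/
theorem eq_of_forall_mem_range_diagonal {T Y S : Scheme.{u}} (p : Y ⟶ S)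
    [IsOpenImmersion (pullback.diagonal p)] (a₁ a₂ : T ⟶ Y) (h : a₁ ≫ p = a₂ ≫ p)
    (H : ∀ w : T, pullback.lift a₁ a₂ h w ∈ Set.range (pullback.diagonal p)) : a₁ = a₂ := by
  have hrange : Set.range (pullback.lift a₁ a₂ h).base ⊆ Set.range (pullback.diagonal p).base := by
    rintro _ ⟨w, rfl⟩
    exact H w
  have h1 : IsOpenImmersion.lift (pullback.diagonal p) (pullback.lift a₁ a₂ h) hrange ≫
      pullback.diagonal p = pullback.lift a₁ a₂ h := IsOpenImmersion.lift_fac _ _ _
  have h2 := congrArg (· ≫ pullback.fst p p) h1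
  have h3 := congrArg (· ≫ pullback.snd p p) h1
  simp only [Category.assoc, pullback.diagonal_fst, pullback.diagonal_snd, Category.comp_id,
    pullback.lift_fst, pullback.lift_snd] at h2 h3
  exact h2.symm.trans h3

/-- rigidity over an algebraically closed field -/
theorem eq_of_diagonal_comp_eq {Ω : Type u} [Field Ω] [IsAlgClosed Ω] {F Y : Scheme.{u}}
    (φ : F ⟶ Spec (CommRingCat.of Ω)) [Nonempty ↥F] [ConnectedSpace ↥(pullback φ φ)]
    (q : Y ⟶ Spec (CommRingCat.of Ω)) [Etale q] (a₁ a₂ : pullback φ φ ⟶ Y)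
    (h : a₁ ≫ q = a₂ ≫ q)
    (hd : pullback.diagonal φ ≫ a₁ = pullback.diagonal φ ≫ a₂) : a₁ = a₂ := by
  have hdisc : DiscreteTopology ↥Y := discreteTopology_of_unramified_field q
  obtain ⟨f₀⟩ := (inferInstance : Nonempty ↥F)
  have hconst : ∀ (a : pullback φ φ ⟶ Y) (w : ↥(pullback φ φ)),
      a w = a (pullback.diagonal φ f₀) := fun a w =>
    PreconnectedSpace.constant (inferInstance : PreconnectedSpace ↥(pullback φ φ)) a.continuous
  have hd0 : a₁ (pullback.diagonal φ f₀) = a₂ (pullback.diagonal φ f₀) := by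
    rw [← Scheme.Hom.comp_apply, ← Scheme.Hom.comp_apply, hd]
  refine eq_of_forall_mem_range_diagonal q a₁ a₂ h fun w => ?_
  refine ⟨a₁ w, ?_⟩
  symm
  apply eq_of_fst_eq_of_snd_eq' q q _ _ (a₁ w)
  · rw [← Scheme.Hom.comp_apply, pullback.lift_fst]
  · rw [← Scheme.Hom.comp_apply, pullback.diagonal_fst]; rfl
  · rw [← Scheme.Hom.comp_apply, ← Scheme.Hom.comp_apply, pullback.lift_snd,
      pullback.diagonal_snd]
    change a₂ w = a₁ w
    rw [hconst a₂ w, hconst a₁ w, hd0]
  · exact residueFieldMap_bijective_of_isAlgClosed q (a₁ w)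

/-- geometric fibres over algebraically closed fields are connected -/
def HC {X' X : Scheme.{u}} (π : X' ⟶ X) : Prop :=
  ∀ (K : Type u) [Field K] [IsAlgClosed K] (ξ : Spec (CommRingCat.of K) ⟶ X),
    ConnectedSpace ↑(pullback π ξ)

instance surjective_specMap_field' {L Ω : Type u} [Field L] [Field Ω] (i : L →+* Ω) :
    Surjective (Spec.map (CommRingCat.ofHom i)) :=
  ⟨fun _ => ⟨(default : PrimeSpectrum Ω), Subsingleton.elim (α := PrimeSpectrum L) _ _⟩⟩

theorem connectedSpace_pullback_of_HC {X' X : Scheme.{u}} (π : X' ⟶ X) (h : HC π)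
    (L : Type u) [Field L] (x : Spec (CommRingCat.of L) ⟶ X) : ConnectedSpace ↥(pullback π x) := by
  have h1 : ConnectedSpace ↥(pullback π
      (Spec.map (CommRingCat.ofHom (algebraMap L (AlgebraicClosure L))) ≫ x)) :=
    h (AlgebraicClosure L) _
  obtain ⟨ρ, hρ⟩ : ∃ ρ : pullback π
      (Spec.map (CommRingCat.ofHom (algebraMap L (AlgebraicClosure L))) ≫ x) ⟶ pullback π x,
      ρ = (pullbackLeftPullbackSndIso π x
      (Spec.map (CommRingCat.ofHom (algebraMap L (AlgebraicClosure L))))).inv ≫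
      pullback.fst (pullback.snd π x)
        (Spec.map (CommRingCat.ofHom (algebraMap L (AlgebraicClosure L)))) := ⟨_, rfl⟩
  have hs : Surjective ρ := by rw [hρ]; infer_instance
  exact ρ.surjective.connectedSpace ρ.continuous

theorem geometricallyConnected_of_HC {X' X : Scheme.{u}} (π : X' ⟶ X) (h : HC π) :
    GeometricallyConnected π :=
  ⟨geometrically_iff_of_isClosedUnderIsomorphisms.mpr fun K _ y =>
    connectedSpace_pullback_of_HC π h K y⟩

theorem HC_pullback_fst {X S S' : Scheme.{u}} (p : X ⟶ S) (g : S' ⟶ S) (h : HC g) :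
    HC (pullback.fst p g) := by
  intro K _ _ ξ
  have h1 : ConnectedSpace ↥(pullback g (ξ ≫ p)) := h K (ξ ≫ p)
  let e : pullback (pullback.fst p g) ξ ≅ pullback g (ξ ≫ p) :=
    pullbackSymmetry _ _ ≪≫ pullbackRightPullbackFstIso p g ξ ≪≫ pullbackSymmetry _ _
  exact e.hom.homeomorph.connectedSpace_iff.mpr h1

theorem HC_pullback_snd {X S : Scheme.{u}} (π : X ⟶ S) {T : Scheme.{u}} (t : T ⟶ S) (h : HC π) :
    HC (pullback.snd π t) := by
  intro K _ _ ξ
  have h1 : ConnectedSpace ↥(pullback π (ξ ≫ t)) := h K (ξ ≫ t)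
  exact (pullbackLeftPullbackSndIso π t ξ).hom.homeomorph.connectedSpace_iff.mpr h1

theorem exists_geometric_point (R : Scheme.{u}) (z : R) :
    ∃ (Ω : Type u) (_ : Field Ω) (_ : IsAlgClosed Ω) (zb : Spec (CommRingCat.of Ω) ⟶ R),
      ∀ pt, zb pt = z := by
  refine ⟨AlgebraicClosure (R.residueField z), inferInstance, inferInstance,
    Spec.map (CommRingCat.ofHom (algebraMap (R.residueField z)
        (AlgebraicClosure (R.residueField z)))) ≫ R.fromSpecResidueField z, fun pt => ?_⟩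
  rw [Scheme.Hom.comp_apply, Scheme.fromSpecResidueField_apply]

theorem rigidity {X X' Y S : Scheme.{u}} (p : Y ⟶ S) [Etale p] (y : X ⟶ S) (π : X' ⟶ X)
    (hπ : HC π) (ψ₀ : X' ⟶ Y) (hψ : ψ₀ ≫ p = π ≫ y) :
    pullback.fst π π ≫ ψ₀ = pullback.snd π π ≫ ψ₀ := by
  have hcomm : (pullback.fst π π ≫ ψ₀) ≫ p = (pullback.snd π π ≫ ψ₀) ≫ p := by
    rw [Category.assoc, Category.assoc, hψ, ← Category.assoc, ← Category.assoc, pullback.condition]
  refine eq_of_forall_mem_range_diagonal p _ _ hcomm fun z => ?_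
  obtain ⟨Ω, _, _, zb, hzpt⟩ := exists_geometric_point (pullback π π) z
  obtain ⟨xb, hxb⟩ : ∃ xb : Spec (CommRingCat.of Ω) ⟶ X, xb = zb ≫ pullback.fst π π ≫ π :=
    ⟨_, rfl⟩
  -- the geometric fibre `F`
  obtain ⟨φ₁, hφ₁⟩ : ∃ φ₁ : pullback π xb ⟶ X', φ₁ = pullback.fst π xb := ⟨_, rfl⟩
  obtain ⟨φ, hφ⟩ : ∃ φ : pullback π xb ⟶ Spec (CommRingCat.of Ω), φ = pullback.snd π xb :=
    ⟨_, rfl⟩
  have hφc : φ₁ ≫ π = φ ≫ xb := by rw [hφ₁, hφ]; exact pullback.condition
  have hFconn : ConnectedSpace ↥(pullback π xb) := hπ Ω xb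
  have hGC : GeometricallyConnected φ := by
    rw [hφ]; exact geometricallyConnected_of_HC _ (HC_pullback_snd π xb hπ)
  have hsub : Subsingleton ↥(Spec (CommRingCat.of Ω)) :=
    inferInstanceAs (Subsingleton (PrimeSpectrum Ω))
  have hUO : UniversallyOpen φ := inferInstance
  have hconn2 : ConnectedSpace ↥(pullback φ φ) := inferInstance
  -- the map `F ×_Ω F ⟶ X' ×_X X'`
  have hθc : (pullback.fst φ φ ≫ φ₁) ≫ π = (pullback.snd φ φ ≫ φ₁) ≫ π := by
    rw [Category.assoc, Category.assoc, hφc, ← Category.assoc, ← Category.assoc,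
      pullback.condition]
  obtain ⟨θ, hθ1, hθ2⟩ : ∃ θ : pullback φ φ ⟶ pullback π π,
      θ ≫ pullback.fst π π = pullback.fst φ φ ≫ φ₁ ∧
      θ ≫ pullback.snd π π = pullback.snd φ φ ≫ φ₁ :=
    ⟨pullback.lift _ _ hθc, pullback.lift_fst _ _ _, pullback.lift_snd _ _ _⟩
  -- the geometric fibre of `Y`
  obtain ⟨q, hq⟩ : ∃ q : pullback p (xb ≫ y) ⟶ Spec (CommRingCat.of Ω),
      q = pullback.snd p (xb ≫ y) := ⟨_, rfl⟩
  obtain ⟨r, hr⟩ : ∃ r : pullback p (xb ≫ y) ⟶ Y, r = pullback.fst p (xb ≫ y) := ⟨_, rfl⟩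
  have hqet : Etale q := by rw [hq]; infer_instance
  have hc1 : (θ ≫ pullback.fst π π ≫ ψ₀) ≫ p = (pullback.fst φ φ ≫ φ) ≫ xb ≫ y := by
    rw [← Category.assoc θ, hθ1]
    simp only [Category.assoc]
    rw [hψ, ← Category.assoc φ₁, hφc, Category.assoc]
  have hc2 : (θ ≫ pullback.snd π π ≫ ψ₀) ≫ p = (pullback.fst φ φ ≫ φ) ≫ xb ≫ y := by
    rw [← Category.assoc θ, hθ2]
    simp only [Category.assoc]
    rw [hψ, ← Category.assoc φ₁, hφc, Category.assoc, pullback.condition_assoc]
  obtain ⟨a₁, ha₁r, ha₁q⟩ : ∃ a₁ : pullback φ φ ⟶ pullback p (xb ≫ y),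
      a₁ ≫ r = θ ≫ pullback.fst π π ≫ ψ₀ ∧ a₁ ≫ q = pullback.fst φ φ ≫ φ :=
    ⟨pullback.lift _ _ hc1, by rw [hr]; exact pullback.lift_fst _ _ _,
      by rw [hq]; exact pullback.lift_snd _ _ _⟩
  obtain ⟨a₂, ha₂r, ha₂q⟩ : ∃ a₂ : pullback φ φ ⟶ pullback p (xb ≫ y),
      a₂ ≫ r = θ ≫ pullback.snd π π ≫ ψ₀ ∧ a₂ ≫ q = pullback.fst φ φ ≫ φ :=
    ⟨pullback.lift _ _ hc2, by rw [hr]; exact pullback.lift_fst _ _ _,
      by rw [hq]; exact pullback.lift_snd _ _ _⟩
  have hdiag : pullback.diagonal φ ≫ a₁ = pullback.diagonal φ ≫ a₂ := by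
    have e1 : (pullback.diagonal φ ≫ a₁) ≫ r = (pullback.diagonal φ ≫ a₂) ≫ r := by
      rw [Category.assoc, Category.assoc, ha₁r, ha₂r, ← Category.assoc θ, ← Category.assoc θ,
        hθ1, hθ2]
      simp only [Category.assoc, pullback.diagonal_fst_assoc, pullback.diagonal_snd_assoc]
    have e2 : (pullback.diagonal φ ≫ a₁) ≫ q = (pullback.diagonal φ ≫ a₂) ≫ q := by
      rw [Category.assoc, Category.assoc, ha₁q, ha₂q]
    rw [hr] at e1; rw [hq] at e2
    exact pullback.hom_ext e1 e2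
  have hne : Nonempty ↥(pullback π xb) := inferInstance
  have ha : a₁ = a₂ := eq_of_diagonal_comp_eq φ q a₁ a₂ (by rw [ha₁q, ha₂q]) hdiag
  have hθψ : θ ≫ pullback.fst π π ≫ ψ₀ = θ ≫ pullback.snd π π ≫ ψ₀ := by
    rw [← ha₁r, ← ha₂r, ha]
  -- the point of `F ×_Ω F` over `z`
  have hσ1c : (zb ≫ pullback.fst π π) ≫ π = 𝟙 _ ≫ xb := by
    rw [Category.id_comp, hxb, Category.assoc]
  have hσ2c : (zb ≫ pullback.snd π π) ≫ π = 𝟙 _ ≫ xb := by
    rw [Category.id_comp, hxb, Category.assoc, pullback.condition]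
  obtain ⟨σ₁, hσ₁1, hσ₁2⟩ : ∃ σ₁ : Spec (CommRingCat.of Ω) ⟶ pullback π xb,
      σ₁ ≫ φ₁ = zb ≫ pullback.fst π π ∧ σ₁ ≫ φ = 𝟙 _ :=
    ⟨pullback.lift _ _ hσ1c, by rw [hφ₁]; exact pullback.lift_fst _ _ _,
      by rw [hφ]; exact pullback.lift_snd _ _ _⟩
  obtain ⟨σ₂, hσ₂1, hσ₂2⟩ : ∃ σ₂ : Spec (CommRingCat.of Ω) ⟶ pullback π xb,
      σ₂ ≫ φ₁ = zb ≫ pullback.snd π π ∧ σ₂ ≫ φ = 𝟙 _ :=
    ⟨pullback.lift _ _ hσ2c, by rw [hφ₁]; exact pullback.lift_fst _ _ _,
      by rw [hφ]; exact pullback.lift_snd _ _ _⟩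
  have hσθ : pullback.lift σ₁ σ₂ (by rw [hσ₁2, hσ₂2]) ≫ θ = zb := by
    apply pullback.hom_ext
    · rw [Category.assoc, hθ1, pullback.lift_fst_assoc, hσ₁1]
    · rw [Category.assoc, hθ2, pullback.lift_snd_assoc, hσ₂1]
  obtain ⟨pt⟩ : Nonempty ↥(Spec (CommRingCat.of Ω)) := ⟨(default : PrimeSpectrum Ω)⟩
  have key : (zb ≫ pullback.fst π π ≫ ψ₀) ≫ pullback.diagonal p =
      zb ≫ pullback.lift (pullback.fst π π ≫ ψ₀) (pullback.snd π π ≫ ψ₀) hcomm := by
    apply pullback.hom_ext
    · simp only [Category.assoc, pullback.diagonal_fst, Category.comp_id, pullback.lift_fst]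
    · simp only [Category.assoc, pullback.diagonal_snd, Category.comp_id, pullback.lift_snd]
      rw [← hσθ]
      simp only [Category.assoc]
      rw [hθψ]
  refine ⟨(zb ≫ pullback.fst π π ≫ ψ₀) pt, ?_⟩
  rw [← hzpt pt, ← Scheme.Hom.comp_apply, ← Scheme.Hom.comp_apply, key]

theorem main2916 {S' S : Scheme.{u}} (g : S' ⟶ S)
    (hg : SGA1.UnivSubmersive g)
    (hconn : ∀ (K : Type u) [Field K] [IsAlgClosed K] (ξ : Spec (CommRingCat.of K) ⟶ S),
      ConnectedSpace ↑(pullback g ξ)) :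
    (ConnectedSpace S → ConnectedSpace S') ∧
    ∀ (X Y : Over S) [Etale X.hom] [Etale Y.hom],
      Function.Bijective ((Over.pullback g).map : (X ⟶ Y) → _) := by
  have hHC : HC g := hconn
  refine ⟨fun hS => ?_, fun X Y _ _ => ?_⟩
  · have hGC : GeometricallyConnected g := geometricallyConnected_of_HC g hHC
    have hq := isQuotientMap hg
    have := Topology.IsCoinducing.isConnected_preimage_of_isClosed
      g.isConnected_preimage_singleton hq.isCoinducing isClosed_univ isConnected_univ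
    rw [Set.preimage_univ] at this
    exact connectedSpace_iff_univ.mpr this
  · have hπ : SGA1.UnivSubmersive (pullback.fst X.hom g) :=
      MorphismProperty.pullback_fst (P := SGA1.UnivSubmersive) X.hom g hg
    have hsurj : Surjective (pullback.fst X.hom g) := surjective_of_univSubmersive hπ
    constructor
    · intro φ₁ φ₂ h
      have h' : ((Over.pullback g).map φ₁).left = ((Over.pullback g).map φ₂).left :=
        congrArg (fun t => t.left) h
      have h1 := congrArg (· ≫ pullback.fst Y.hom g) h'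
      simp only [Over.pullback_map_left, pullback.lift_fst] at h1
      apply Over.OverMorphism.ext
      exact eq_of_surjective_comp Y.hom φ₁.left φ₂.left (by rw [Over.w, Over.w])
        (pullback.fst X.hom g) h1
    · intro ψ
      have hw : ψ.left ≫ pullback.snd Y.hom g = pullback.snd X.hom g := Over.w ψ
      have hψ : (ψ.left ≫ pullback.fst Y.hom g) ≫ Y.hom = pullback.fst X.hom g ≫ X.hom := by
        rw [Category.assoc, pullback.condition, ← Category.assoc, hw, pullback.condition]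
      have hrig := rigidity Y.hom X.hom (pullback.fst X.hom g) (HC_pullback_fst X.hom g hHC)
        (ψ.left ≫ pullback.fst Y.hom g) hψ
      obtain ⟨φ, hφ1, hφ2⟩ := exists_descent_subm Y.hom X.hom (pullback.fst X.hom g) hπ
        (ψ.left ≫ pullback.fst Y.hom g) hψ (by
          intro T b₁ b₂ hb
          have e1 : b₁ = pullback.lift b₁ b₂ hb ≫ pullback.fst _ _ := (pullback.lift_fst _ _ _).symm
          have e2 : b₂ = pullback.lift b₁ b₂ hb ≫ pullback.snd _ _ := (pullback.lift_snd _ _ _).symm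
          rw [e1, Category.assoc, hrig, ← Category.assoc, ← e2])
      refine ⟨Over.homMk φ hφ1, ?_⟩
      apply Over.OverMorphism.ext
      apply pullback.hom_ext
      · simp only [Over.pullback_map_left, pullback.lift_fst, Over.homMk_left]
        exact hφ2
      · simp only [Over.pullback_map_left, pullback.lift_snd]
        exact hw.symm

end Groth.Agent.Helper7.SubmConn
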