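import Mathlib
import Groth.Prelude.Def_SGA1
import Groth.Agent.Lib.Helper7.QuotRes
import Groth.Agent.Lib.Helper7.SubmConn

set_option autoImplicit false
open CategoryTheory CategoryTheory.Limits AlgebraicGeometry Opposite TopologicalSpace
universe u

/-! helper7: rigidity of morphisms into unramified separated schemes from connected sources, and
automorphisms of an etale quotient by a finite group. -/

namespace Groth.Agent.Helper7.QuotEt

theorem rigidity_conn {T X Y : Scheme.{u}} (p : X ⟶ Y) [IsSeparated p]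
    [IsOpenImmersion (pullback.diagonal p)] [PreconnectedSpace T]
    (a₁ a₂ : T ⟶ X) (h : a₁ ≫ p = a₂ ≫ p) (w : T)
    (hw : pullback.lift a₁ a₂ h w ∈ Set.range (pullback.diagonal p)) : a₁ = a₂ := by
  refine SubmConn.eq_of_forall_mem_range_diagonal p a₁ a₂ h ?_
  have hclopen : IsClopen ((pullback.lift a₁ a₂ h).base ⁻¹' Set.range (pullback.diagonal p)) :=
    ⟨(pullback.diagonal p).isClosedEmbedding.isClosed_range.preimage
        (pullback.lift a₁ a₂ h).continuous,
      (pullback.diagonal p).isOpenEmbedding.isOpen_range.preimage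
        (pullback.lift a₁ a₂ h).continuous⟩
  have := hclopen.eq_univ ⟨w, hw⟩
  intro w'
  have hw' : w' ∈ (pullback.lift a₁ a₂ h).base ⁻¹' Set.range (pullback.diagonal p) := by
    rw [this]; trivial
  exact hw'

theorem rigidity_point {T X Y Z : Scheme.{u}} (p : X ⟶ Y) [IsSeparated p]
    [IsOpenImmersion (pullback.diagonal p)] [PreconnectedSpace T]
    (a₁ a₂ : T ⟶ X) (h : a₁ ≫ p = a₂ ≫ p) (ξ : Z ⟶ T) (z : Z) (hξ : ξ ≫ a₁ = ξ ≫ a₂) :
    a₁ = a₂ := by
  refine rigidity_conn p a₁ a₂ h (ξ.base z) ?_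
  have h1 : ξ ≫ pullback.lift a₁ a₂ h = (ξ ≫ a₁) ≫ pullback.diagonal p := by
    apply pullback.hom_ext
    · simp only [Category.assoc, pullback.lift_fst, pullback.diagonal_fst, Category.comp_id]
    · simp only [Category.assoc, pullback.lift_snd, pullback.diagonal_snd, Category.comp_id, hξ]
  rw [← Scheme.Hom.comp_apply, h1, Scheme.Hom.comp_apply]
  exact ⟨_, rfl⟩

theorem resMap_fix {X Y : Scheme.{u}} (p : X ⟶ Y) (v : X ⟶ X) (hvp : v ≫ p = p) (x : X)
    (hvx : v.base x = x) :
    p.residueFieldMap x ≫ (X.residueFieldCongr hvx).inv ≫ v.residueFieldMap x =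
      p.residueFieldMap x := by
  have ha : p.base x = p.base (v.base x) := congrArg p.base hvx.symm
  have hb : p.base (v.base x) = p.base x := ha.symm
  have h1 : p.residueFieldMap x ≫ (X.residueFieldCongr hvx.symm).hom =
      (Y.residueFieldCongr ha).hom ≫ p.residueFieldMap (v.base x) :=
    Scheme.Hom.residueFieldMap_congr' hvx.symm
  have h2 : p.residueFieldMap (v.base x) ≫ v.residueFieldMap x = (v ≫ p).residueFieldMap x :=
    (Scheme.residueFieldMap_comp v p x).symm
  have h3 : (v ≫ p).residueFieldMap x = (Y.residueFieldCongr hb).hom ≫ p.residueFieldMap x :=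
    Scheme.Hom.residueFieldMap_congr hvp x
  have h4 : (Y.residueFieldCongr ha).hom ≫ (Y.residueFieldCongr hb).hom = 𝟙 _ := by
    rw [Scheme.residueFieldCongr_trans_hom]; rfl
  rw [Scheme.residueFieldCongr_inv, ← Category.assoc, h1, Category.assoc, h2, h3,
    ← Category.assoc, h4, Category.id_comp]

theorem fromSpecResidueField_fix {X : Scheme.{u}} (f : X ⟶ X) (x : X) (e : f.base x = x) :
    X.fromSpecResidueField x ≫ f =
      Spec.map ((X.residueFieldCongr e).inv ≫ f.residueFieldMap x) ≫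
        X.fromSpecResidueField x := by
  rw [Spec.map_comp, Category.assoc, Scheme.residueFieldCongr_inv,
    Scheme.residueFieldCongr_fromSpecResidueField,
    Scheme.Hom.SpecMap_residueFieldMap_fromSpecResidueField]

theorem aut_eq_of_fix {X Y : Scheme.{u}} {G : Type u} [Group G] [Finite G] (ρ : G →* Aut X)
    (p : X ⟶ Y) (hp : SGA1.IsQuot ρ p) [IsSeparated p] [IsOpenImmersion (pullback.diagonal p)]
    [PreconnectedSpace X] (v : X ⟶ X) [IsIso v] (hvp : v ≫ p = p) (x : X)
    (hvx : v.base x = x) : ∃ g : G, v = (ρ g).hom := by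
  let τ : X.residueField x ≅ X.residueField x :=
    (X.residueFieldCongr hvx).symm ≪≫ asIso (v.residueFieldMap x)
  have hτ : p.residueFieldMap x ≫ τ.hom = p.residueFieldMap x := resMap_fix p v hvp x hvx
  obtain ⟨g, e, hg⟩ := (QuotRes.main13597 hp x).2 τ hτ
  refine ⟨g, ?_⟩
  refine rigidity_point p v (ρ g).hom (hvp.trans (hp.inv g).symm)
    (X.fromSpecResidueField x) default ?_
  rw [fromSpecResidueField_fix v x hvx, fromSpecResidueField_fix (ρ g).hom x e, ← hg]
  rfl

theorem main2910 {X Y : Scheme.{u}} {G : Type u} [Group G] [Finite G] (ρ : G →* Aut X)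
    (p : X ⟶ Y) (hp : SGA1.IsQuot ρ p) [IsLocallyNoetherian Y] [IsFinite p] [ConnectedSpace X]
    (hfaith : Function.Injective ρ) [Etale p] :
    (∀ (K : Type u) [Field K] [IsAlgClosed K] (ξ : Spec (CommRingCat.of K) ⟶ X) (g : G),
      ξ ≫ (ρ g).hom = ξ → g = 1) ∧
    ∀ u : Aut X, u.hom ≫ p = p → ∃! g : G, ρ g = u := by
  have hdiag : IsOpenImmersion (pullback.diagonal p) := inferInstance
  constructor
  · intro K _ _ ξ g hg
    have h1 : (ρ g).hom = 𝟙 X := rigidity_point p (ρ g).hom (𝟙 X)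
      (by rw [hp.inv, Category.id_comp]) ξ default (by rw [hg, Category.comp_id])
    apply hfaith
    rw [map_one]
    exact Iso.ext h1
  · intro u hu
    obtain ⟨x⟩ := (inferInstance : Nonempty X)
    obtain ⟨g₀, hg₀⟩ := QuotGrp.exists_of_map_eq hp x (u.hom.base x)
      (by rw [← Scheme.Hom.comp_apply, hu])
    have hinvp : (ρ g₀).inv ≫ p = p := by rw [Iso.inv_comp_eq, hp.inv]
    have hvp : (u.hom ≫ (ρ g₀).inv) ≫ p = p := by rw [Category.assoc, hinvp, hu]
    have hvx : (u.hom ≫ (ρ g₀).inv).base x = x := by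
      rw [Scheme.Hom.comp_apply, ← hg₀, ← Scheme.Hom.comp_apply, Iso.hom_inv_id]
      rfl
    obtain ⟨g₁, hg₁⟩ := aut_eq_of_fix ρ p hp (u.hom ≫ (ρ g₀).inv) hvp x hvx
    have hu' : u.hom = (ρ (g₀ * g₁)).hom := by
      have h2 : (ρ (g₀ * g₁)).hom = (ρ g₁).hom ≫ (ρ g₀).hom := by rw [map_mul]; rfl
      rw [h2, ← hg₁, Category.assoc, Iso.inv_hom_id, Category.comp_id]
    refine ⟨g₀ * g₁, Iso.ext hu'.symm, fun g' hg' => hfaith (hg'.trans (Iso.ext hu'))⟩

end Groth.Agent.Helper7.QuotEt
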