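import Mathlib
import Groth.Prelude.Def_SGA1
import Groth.Agent.Lib.Helper7.QuotAff
import Groth.Agent.Lib.Helper7.QuotRes
import Groth.Agent.Lib.Helper7.QuotEt
import Groth.Agent.Lib.Helper7.GalOrb
import Groth.Agent.Lib.Helper7.QuotDesc
import Groth.Agent.Lib.Helper9.UnivHomeo

set_option autoImplicit false
open CategoryTheory CategoryTheory.Limits AlgebraicGeometry Opposite TopologicalSpace
universe u

/-! helper7: geometric points of quotients by finite groups (`SGA1.IsQuot`): field-valued points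
with equal image are conjugate, points in algebraically closed fields lift, and the resulting
universal injectivity / universal homeomorphism statements for base change, closed and locally
closed invariant subschemes. -/

namespace Groth.Agent.Helper7.QuotGeom

open Groth.Agent.Helper7.QuotGrp Groth.Agent.Helper7.QuotAff

variable {X Y : Scheme.{u}} {G : Type u} [Group G] {ρ : G →* Aut X} {p : X ⟶ Y}

/-- two field-valued points at the same point of `X` with the same image in the quotient differ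
by an element of the stabilizer. -/
theorem exists_stab_of_resMap_eq [Finite G] (hp : SGA1.IsQuot ρ p) (K : Type u) [Field K] (ξ : X)
    (e₁ e₂ : X.residueField ξ ⟶ .of K)
    (h : p.residueFieldMap ξ ≫ e₁ = p.residueFieldMap ξ ≫ e₂) :
    ∃ g : G, (Spec.map e₂ ≫ X.fromSpecResidueField ξ) ≫ (ρ g).hom =
      Spec.map e₁ ≫ X.fromSpecResidueField ξ := by
  obtain ⟨hnormal, hstab⟩ := QuotRes.main13597 hp ξ
  let _ : Algebra (Y.residueField (p.base ξ)) (X.residueField ξ) :=
    (p.residueFieldMap ξ).hom.toAlgebra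
  let _ : Algebra (Y.residueField (p.base ξ)) K := (p.residueFieldMap ξ ≫ e₁).hom.toAlgebra
  let a : X.residueField ξ →ₐ[Y.residueField (p.base ξ)] K :=
    { e₁.hom with commutes' := fun r => rfl }
  let b : X.residueField ξ →ₐ[Y.residueField (p.base ξ)] K :=
    { e₂.hom with commutes' := fun r => (congr($(h).hom r)).symm }
  obtain ⟨σ, hσ⟩ := GalOrb.exists_algEquiv_of_algHom a b
  let τ : X.residueField ξ ≅ X.residueField ξ := (σ.toRingEquiv).toCommRingCatIso
  have hτ1 : p.residueFieldMap ξ ≫ τ.hom = p.residueFieldMap ξ := by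
    ext r; exact σ.commutes r
  have hτ2 : τ.hom ≫ e₂ = e₁ := by
    ext x; exact hσ x
  obtain ⟨g, e, hg⟩ := hstab τ hτ1
  refine ⟨g, ?_⟩
  rw [Category.assoc, QuotEt.fromSpecResidueField_fix (ρ g).hom ξ e, ← hg, ← Category.assoc,
    ← Spec.map_comp, hτ2]


/-- two field-valued points of `X` with the same image in the quotient are conjugate. -/
theorem exists_conj_of_comp_eq [Finite G] (hp : SGA1.IsQuot ρ p) (K : Type u) [Field K]
    (x₁ x₂ : Spec (.of K) ⟶ X) (h : x₁ ≫ p = x₂ ≫ p) : ∃ g : G, x₁ ≫ (ρ g).hom = x₂ := by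
  have hpt : p.base (x₁.base (IsLocalRing.closedPoint K)) =
      p.base (x₂.base (IsLocalRing.closedPoint K)) := by
    rw [← Scheme.Hom.comp_apply, ← Scheme.Hom.comp_apply, h]
  obtain ⟨g₀, hg₀⟩ := exists_of_map_eq hp _ _ hpt
  have h' : (x₁ ≫ (ρ g₀).hom) ≫ p = x₂ ≫ p := by rw [Category.assoc, hp.inv, h]
  have h1 := Scheme.descResidueField_stalkClosedPointTo_fromSpecResidueField K X
    (x₁ ≫ (ρ g₀).hom)
  have h2 := Scheme.descResidueField_stalkClosedPointTo_fromSpecResidueField K X x₂
  have hξ : (x₁ ≫ (ρ g₀).hom).base (IsLocalRing.closedPoint K) =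
      x₂.base (IsLocalRing.closedPoint K) := by
    rw [Scheme.Hom.comp_apply]; exact hg₀
  generalize X.descResidueField (Scheme.stalkClosedPointTo (x₁ ≫ (ρ g₀).hom)) = e₁ at h1
  generalize X.descResidueField (Scheme.stalkClosedPointTo x₂) = e₂ at h2
  generalize (x₁ ≫ (ρ g₀).hom).base (IsLocalRing.closedPoint K) = ξ₁ at hξ e₁ h1
  generalize x₂.base (IsLocalRing.closedPoint K) = ξ₂ at hξ e₂ h2
  subst hξ
  have hres : p.residueFieldMap ξ₁ ≫ e₁ = p.residueFieldMap ξ₁ ≫ e₂ := by
    apply Spec.map_injective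
    rw [← cancel_mono (Y.fromSpecResidueField (p.base ξ₁))]
    rw [Spec.map_comp, Spec.map_comp, Category.assoc, Category.assoc,
      Scheme.Hom.SpecMap_residueFieldMap_fromSpecResidueField, ← Category.assoc, ← Category.assoc,
      h1, h2, h']
  obtain ⟨g, hg⟩ := exists_stab_of_resMap_eq hp K ξ₁ e₂ e₁ hres.symm
  refine ⟨g * g₀, ?_⟩
  rw [rho_mul_hom, ← Category.assoc, ← h1, hg, h2]

/-- points with values in an algebraically closed field lift along the quotient morphism. -/
theorem exists_lift_of_isAlgClosed [Finite G] (hp : SGA1.IsQuot ρ p) (K : Type u) [Field K]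
    [IsAlgClosed K] (y : Spec (.of K) ⟶ Y) : ∃ x : Spec (.of K) ⟶ X, x ≫ p = y := by
  have h2 := Scheme.descResidueField_stalkClosedPointTo_fromSpecResidueField K Y y
  generalize Y.descResidueField (Scheme.stalkClosedPointTo y) = e at h2
  generalize y.base (IsLocalRing.closedPoint K) = η at e h2
  obtain ⟨ξ, rfl⟩ := surjective hp η
  obtain ⟨hnormal, -⟩ := QuotRes.main13597 hp ξ
  let _ : Algebra (Y.residueField (p.base ξ)) (X.residueField ξ) :=
    (p.residueFieldMap ξ).hom.toAlgebra
  let _ : Algebra (Y.residueField (p.base ξ)) K := e.hom.toAlgebra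
  have halg : Algebra.IsAlgebraic (Y.residueField (p.base ξ)) (X.residueField ξ) :=
    hnormal.toIsAlgebraic
  let l : X.residueField ξ →ₐ[Y.residueField (p.base ξ)] K := IsAlgClosed.lift
  refine ⟨Spec.map (CommRingCat.ofHom l.toRingHom) ≫ X.fromSpecResidueField ξ, ?_⟩
  rw [Category.assoc, ← Scheme.Hom.SpecMap_residueFieldMap_fromSpecResidueField, ← Category.assoc,
    ← Spec.map_comp, ← h2]
  congr 2
  ext a
  exact l.commutes a

/-- universal injectivity can be tested on points with values in algebraically closed fields. -/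
theorem universallyInjective_of_isAlgClosed_points {Y T : Scheme.{u}} (m : Y ⟶ T)
    (H : ∀ (K : Type u) [Field K] [IsAlgClosed K] (y₁ y₂ : Spec (.of K) ⟶ Y),
      y₁ ≫ m = y₂ ≫ m → y₁ = y₂) : UniversallyInjective m := by
  refine ((tfae_universallyInjective m).out 0 3).mpr ?_
  rw [surjective_iff]
  intro z
  obtain ⟨φ, hφ⟩ : ∃ φ : Spec (.of (AlgebraicClosure ((pullback m m).residueField z))) ⟶
      pullback m m, φ = Spec.map (CommRingCat.ofHom (algebraMap ((pullback m m).residueField z)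
        (AlgebraicClosure ((pullback m m).residueField z)))) ≫
        (pullback m m).fromSpecResidueField z := ⟨_, rfl⟩
  have hφ₁ : φ ≫ pullback.fst m m = φ ≫ pullback.snd m m :=
    H _ _ _ (by rw [Category.assoc, Category.assoc, pullback.condition])
  have hφ₂ : φ = (φ ≫ pullback.fst m m) ≫ pullback.diagonal m := by
    apply pullback.hom_ext
    · rw [Category.assoc, Category.assoc, pullback.diagonal_fst, Category.comp_id]
    · rw [Category.assoc, Category.assoc, pullback.diagonal_snd, Category.comp_id, hφ₁]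
  refine ⟨(φ ≫ pullback.fst m m).base (IsLocalRing.closedPoint _), ?_⟩
  rw [← Scheme.Hom.comp_apply, ← hφ₂, hφ, Scheme.Hom.comp_apply,
    Scheme.fromSpecResidueField_apply]

/-- the general criterion: a morphism out of a quotient, lying over another quotient, is
universally injective as soon as the equivariant map upstairs is jointly injective with it on
field-valued points. -/
theorem universallyInjective_of_equivariant [Finite G] (hp : SGA1.IsQuot ρ p)
    {X' Y' T : Scheme.{u}} {ρ' : G →* Aut X'} {r : X' ⟶ Y'} (hr : SGA1.IsQuot ρ' r)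
    (a : X' ⟶ X) (ha : ∀ σ : G, (ρ' σ).hom ≫ a = a ≫ (ρ σ).hom)
    (m : Y' ⟶ T) (t : T ⟶ Y) (hm : r ≫ m ≫ t = a ≫ p)
    (hmono : ∀ (K : Type u) [Field K] (x₁ x₂ : Spec (.of K) ⟶ X'),
      x₁ ≫ a = x₂ ≫ a → x₁ ≫ r ≫ m = x₂ ≫ r ≫ m → x₁ = x₂) :
    UniversallyInjective m := by
  apply universallyInjective_of_isAlgClosed_points
  intro K _ _ y₁ y₂ hy
  obtain ⟨x₁, rfl⟩ := exists_lift_of_isAlgClosed hr K y₁
  obtain ⟨x₂, rfl⟩ := exists_lift_of_isAlgClosed hr K y₂
  have h1 : (x₁ ≫ a) ≫ p = (x₂ ≫ a) ≫ p := by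
    rw [Category.assoc, Category.assoc, ← hm]
    simp only [Category.assoc] at hy
    rw [reassoc_of% hy]
  obtain ⟨σ, hσ⟩ := exists_conj_of_comp_eq hp K _ _ h1
  have h2 : x₁ ≫ (ρ' σ).hom = x₂ := by
    apply hmono
    · rw [Category.assoc, ha, ← Category.assoc, hσ]
    · rw [Category.assoc, reassoc_of% (hr.inv σ)]
      simpa only [Category.assoc] using hy
  rw [← h2, Category.assoc, hr.inv]

theorem main13082 [Finite G] (hP : SGA1.IsQuot ρ p) {W WG : Scheme.{u}} (j : W ⟶ X) [Mono j]
    (ρW : G →* Aut W) (hρW : ∀ g, (ρW g).hom ≫ j = j ≫ (ρ g).hom) (pW : W ⟶ WG)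
    (hPW : SGA1.IsQuot ρW pW) (φ : WG ⟶ Y) (hφ : pW ≫ φ = j ≫ p) :
    UniversallyInjective φ ∧ Set.range φ.base = p.base '' Set.range j.base := by
  constructor
  · refine universallyInjective_of_equivariant hP hPW j hρW φ (𝟙 _)
      (by rw [Category.comp_id, hφ]) ?_
    intro K _ x₁ x₂ h _
    exact (cancel_mono j).mp h
  · ext y
    constructor
    · rintro ⟨w, rfl⟩
      obtain ⟨w, rfl⟩ := surjective hPW w
      refine ⟨j.base w, ⟨w, rfl⟩, ?_⟩
      rw [← Scheme.Hom.comp_apply, ← hφ, Scheme.Hom.comp_apply]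
    · rintro ⟨_, ⟨w, rfl⟩, rfl⟩
      refine ⟨pW.base w, ?_⟩
      rw [← Scheme.Hom.comp_apply, hφ, Scheme.Hom.comp_apply]

theorem main13176 [Finite G] {S S' Y' : Scheme.{u}}
    (f : X ⟶ S) (h : Y ⟶ S) (hq : p ≫ h = f) (hquot : SGA1.IsQuot ρ p)
    (g : S' ⟶ S)
    (ρ' : G →* Aut (pullback f g))
    (hρ' : ∀ σ : G, (ρ' σ).hom ≫ pullback.fst f g = pullback.fst f g ≫ (ρ σ).hom ∧
      (ρ' σ).hom ≫ pullback.snd f g = pullback.snd f g)
    (r : pullback f g ⟶ Y') (hr : SGA1.IsQuot ρ' r)
    (m : Y' ⟶ pullback h g)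
    (hm : r ≫ m = pullback.map f g h g p (𝟙 S') (𝟙 S)
      ((Category.comp_id f).trans hq.symm) ((Category.comp_id g).trans (Category.id_comp g).symm)) :
    FlatMor.IsUnivHomeo m := by
  have hMfst : (r ≫ m) ≫ pullback.fst h g = pullback.fst f g ≫ p := by
    rw [hm]; exact pullback.lift_fst _ _ _
  have hMsnd : (r ≫ m) ≫ pullback.snd h g = pullback.snd f g := by
    rw [hm]; exact (pullback.lift_snd _ _ _).trans (Category.comp_id _)
  have hpb : IsPullback (r ≫ m) (pullback.fst f g) (pullback.fst h g) p := by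
    refine IsPullback.of_right (h₁₂ := pullback.snd h g) (h₂₂ := h) (v₁₃ := g) ?_ hMfst
      (IsPullback.of_hasPullback h g).flip
    rw [hMsnd, hq]
    exact (IsPullback.of_hasPullback f g).flip
  have hint : IsIntegralHom p := isIntegralHom hquot
  have hsurj : Surjective p := ⟨surjective hquot⟩
  have h1 : UniversallyClosed (r ≫ m) := MorphismProperty.of_isPullback hpb.flip inferInstance
  have h2 : Surjective (r ≫ m) := MorphismProperty.of_isPullback hpb.flip hsurj
  have h3 : Surjective r := ⟨surjective hr⟩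
  have h4 : UniversallyClosed m := UniversallyClosed.of_comp_surjective r m
  have h5 : Surjective m := Surjective.of_comp r m
  have h6 : UniversallyInjective m := by
    refine universallyInjective_of_equivariant hquot hr (pullback.fst f g) (fun σ => (hρ' σ).1) m
      (pullback.fst h g) (by rw [← Category.assoc, hMfst]) ?_
    intro K _ x₁ x₂ e1 e2
    apply pullback.hom_ext e1
    rw [← hMsnd]
    simp only [Category.assoc] at e2 ⊢
    rw [reassoc_of% e2]
  exact Groth.Agent.Helper9.UH.isUnivHomeo_of m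

theorem toImage_ker_eq_bot {X Y : Scheme.{u}} (f : X ⟶ Y) [QuasiCompact f] :
    f.toImage.ker = ⊥ := by
  refine Scheme.IdealSheafData.ext_of_iSup_eq_top
    (fun U : Y.affineOpens => ⟨f.imageι ⁻¹ᵁ U.1, U.2.preimage f.imageι⟩) ?_ ?_
  · rw [eq_top_iff]
    intro x _
    obtain ⟨_, ⟨U, hU, rfl⟩, hxU, -⟩ :=
      Y.isBasis_affineOpens.exists_subset_of_mem_open (Set.mem_univ (f.imageι.base x)) isOpen_univ
    exact Opens.mem_iSup.mpr ⟨⟨U, hU⟩, hxU⟩
  · intro U
    rw [Scheme.Hom.ker_apply]
    simp only [Scheme.IdealSheafData.ideal_bot, Pi.bot_apply]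
    exact (RingHom.injective_iff_ker_eq_bot _).mp (f.toImage_app_injective U)

theorem main13177 [Finite G] (hquot : SGA1.IsQuot ρ p) {Z W : Scheme.{u}}
    (i : Z ⟶ X) [IsClosedImmersion i] (ρZ : G →* Aut Z)
    (hρZ : ∀ σ : G, (ρZ σ).hom ≫ i = i ≫ (ρ σ).hom)
    (r : Z ⟶ W) (hr : SGA1.IsQuot ρZ r)
    (m : W ⟶ (i ≫ p).ker.subscheme) (hm : r ≫ m ≫ (i ≫ p).ker.subschemeι = i ≫ p) :
    FlatMor.IsUnivHomeo m ∧ IsSchemeTheoreticallyDominant m := by
  have hint : IsIntegralHom p := isIntegralHom hquot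
  have hint' : IsIntegralHom (i ≫ p) := inferInstance
  have hrm : r ≫ m = (i ≫ p).toImage := by
    rw [← cancel_mono (i ≫ p).imageι, Scheme.Hom.toImage_imageι, Category.assoc]; exact hm
  have h1 : UniversallyClosed (r ≫ m) := hrm ▸ inferInstance
  have h3 : Surjective r := ⟨surjective hr⟩
  have h4 : UniversallyClosed m := UniversallyClosed.of_comp_surjective r m
  have hdom : IsDominant (r ≫ m) := hrm ▸ inferInstance
  have hdom' : IsDominant m := IsDominant.of_comp r m
  have h5 : Surjective m := inferInstance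
  have h6 : UniversallyInjective m :=
    universallyInjective_of_equivariant hquot hr i hρZ m (i ≫ p).ker.subschemeι hm
      (fun K _ x₁ x₂ e _ => (cancel_mono i).mp e)
  refine ⟨Groth.Agent.Helper9.UH.isUnivHomeo_of m, ⟨?_⟩⟩
  have hle := Scheme.Hom.le_ker_comp r m
  rw [hrm, toImage_ker_eq_bot] at hle
  exact le_bot_iff.mp hle

end Groth.Agent.Helper7.QuotGeom

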