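import Mathlib
import Groth.Agent.Lib.Helper7.Hensel.IdemLift
import Groth.Agent.Lib.Helper7.Hensel.IdemConverse
import Groth.Agent.Lib.Helper7.Hensel.Iff

set_option autoImplicit false
set_option linter.style.haveILetI false
set_option linter.unusedVariables false

open CategoryTheory CategoryTheory.Limits AlgebraicGeometry TopologicalSpace

/-! helper7: henselian pairs vs unique lifting of clopen subsets along finite morphisms (S17971). -/

namespace Groth.Agent.Helper7.HensCouple

universe u

open Groth.Agent.Helper7.Hensel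

/-- Clopen subsets of the source lift uniquely to clopen subsets of the target. -/
def ClopenLift {X Y : Type*} [TopologicalSpace X] [TopologicalSpace Y] (f : X → Y) : Prop :=
  ∀ V : Set X, IsClopen V → ∃! U : Set Y, IsClopen U ∧ f ⁻¹' U = V

theorem ClopenLift.of_range_eq {X X' Y : Type*} [TopologicalSpace X] [TopologicalSpace X']
    [TopologicalSpace Y] {f : X → Y} {f' : X' → Y} (hf : Topology.IsEmbedding f)
    (hf' : Topology.IsEmbedding f') (hr : Set.range f = Set.range f') (h : ClopenLift f) :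
    ClopenLift f' := by
  let θ : X ≃ₜ X' := hf.toHomeomorph.trans ((Homeomorph.setCongr hr).trans hf'.toHomeomorph.symm)
  have hθ : ∀ x, f' (θ x) = f x := by
    intro x
    have h1 : hf'.toHomeomorph (θ x) = (Homeomorph.setCongr hr) (hf.toHomeomorph x) := by
      simp [θ]
    have h2 := congrArg Subtype.val h1
    exact h2
  intro V' hV'
  obtain ⟨U, ⟨hU, hUV⟩, huniq⟩ := h (θ ⁻¹' V') (hV'.preimage θ.continuous)
  refine ⟨U, ⟨hU, ?_⟩, ?_⟩
  · ext x'
    obtain ⟨x, rfl⟩ := θ.surjective x'
    have := Set.ext_iff.mp hUV x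
    simp only [Set.mem_preimage] at this ⊢
    rw [hθ]
    exact this
  · rintro U₂ ⟨hU₂, hU₂V⟩
    apply huniq
    refine ⟨hU₂, ?_⟩
    ext x
    have := Set.ext_iff.mp hU₂V (θ x)
    simp only [Set.mem_preimage] at this ⊢
    rw [← hθ]
    exact this

theorem ClopenLift.of_comp_homeomorph {X Y Y' : Type*} [TopologicalSpace X]
    [TopologicalSpace Y] [TopologicalSpace Y'] {f : X → Y} (h : Y ≃ₜ Y')
    (hc : ClopenLift (h ∘ f)) : ClopenLift f := by
  intro V hV
  obtain ⟨U', ⟨hU', hU'V⟩, huniq⟩ := hc V hV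
  refine ⟨h ⁻¹' U', ⟨hU'.preimage h.continuous, hU'V⟩, ?_⟩
  rintro U₂ ⟨hU₂, hU₂V⟩
  have h1 : h '' U₂ = U' := by
    apply huniq
    refine ⟨⟨h.isClosed_image.mpr hU₂.1, h.isOpen_image.mpr hU₂.2⟩, ?_⟩
    rw [Set.preimage_comp, Set.preimage_image_eq _ h.injective]
    exact hU₂V
  rw [← h1, Set.preimage_image_eq _ h.injective]

theorem preimage_comap_basicOpen {B : Type*} [CommRing B] (J : Ideal B) (e : B) :
    PrimeSpectrum.comap (Ideal.Quotient.mk J) ⁻¹' (PrimeSpectrum.basicOpen e : Set _) =
      (PrimeSpectrum.basicOpen (Ideal.Quotient.mk J e) : Set _) := by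
  ext p
  rfl

theorem clopenLift_comap_iff {B : Type*} [CommRing B] (J : Ideal B) :
    ClopenLift (PrimeSpectrum.comap (Ideal.Quotient.mk J)) ↔
      Set.BijOn (Ideal.Quotient.mk J) {e : B | IsIdempotentElem e} {e | IsIdempotentElem e} := by
  constructor
  · intro h
    refine ⟨fun e he => he.map _, ?_, ?_⟩
    · intro e he e' he' hee'
      have h1 := h (PrimeSpectrum.basicOpen (Ideal.Quotient.mk J e) : Set _)
        (PrimeSpectrum.isClopen_iff.mpr ⟨_, he.map _, rfl⟩)
      have h2 : (PrimeSpectrum.basicOpen e : Set (PrimeSpectrum B)) = PrimeSpectrum.basicOpen e' :=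
        h1.unique ⟨PrimeSpectrum.isClopen_iff.mpr ⟨e, he, rfl⟩, preimage_comap_basicOpen J e⟩
          ⟨PrimeSpectrum.isClopen_iff.mpr ⟨e', he', rfl⟩, by
            rw [preimage_comap_basicOpen, hee']⟩
      exact PrimeSpectrum.basicOpen_injOn_isIdempotentElem he he' (SetLike.ext' h2)
    · intro ebar hebar
      obtain ⟨U, ⟨hU, hUV⟩, -⟩ := h (PrimeSpectrum.basicOpen ebar : Set _)
        (PrimeSpectrum.isClopen_iff.mpr ⟨_, hebar, rfl⟩)
      obtain ⟨e, he, rfl⟩ := PrimeSpectrum.isClopen_iff.mp hU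
      refine ⟨e, he, ?_⟩
      rw [preimage_comap_basicOpen] at hUV
      exact PrimeSpectrum.basicOpen_injOn_isIdempotentElem (he.map _) hebar (SetLike.ext' hUV)
  · intro h V hV
    obtain ⟨ebar, hebar, rfl⟩ := PrimeSpectrum.isClopen_iff.mp hV
    obtain ⟨e, he, rfl⟩ := h.surjOn hebar
    refine ⟨PrimeSpectrum.basicOpen e, ⟨PrimeSpectrum.isClopen_iff.mpr ⟨e, he, rfl⟩,
      preimage_comap_basicOpen J e⟩, ?_⟩
    rintro U₂ ⟨hU₂, hU₂V⟩
    obtain ⟨e₂, he₂, rfl⟩ := PrimeSpectrum.isClopen_iff.mp hU₂
    rw [preimage_comap_basicOpen] at hU₂V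
    have h1 := PrimeSpectrum.basicOpen_injOn_isIdempotentElem (he₂.map _) (he.map _)
      (SetLike.ext' hU₂V)
    rw [h.injOn he₂ he h1]

theorem range_comap_mk {B : Type*} [CommRing B] (J : Ideal B) :
    Set.range (PrimeSpectrum.comap (Ideal.Quotient.mk J)) = PrimeSpectrum.zeroLocus (J : Set B) := by
  rw [_root_.range_comap_of_surjective _ _ Ideal.Quotient.mk_surjective, Ideal.mk_ker]

theorem isEmbedding_comap_mk {B : Type*} [CommRing B] (J : Ideal B) :
    Topology.IsEmbedding (PrimeSpectrum.comap (Ideal.Quotient.mk J)) :=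
  (PrimeSpectrum.isClosedEmbedding_comap_of_surjective _ _ Ideal.Quotient.mk_surjective).isEmbedding

set_option backward.isDefEq.respectTransparency false in
/-- For a scheme `Y` over `Spec A` whose underlying space is identified with `Spec B`
compatibly with a ring map `A → B`, clopen lifting along the reduction of `Y` modulo `I`
is equivalent to clopen lifting for `Spec (B/IB) → Spec B`. -/
theorem clopenLift_fst_iff {A : Type u} [CommRing A] (I : Ideal A) {Y : Scheme.{u}}
    (g : Y ⟶ Spec (CommRingCat.of A)) {B : Type u} [CommRing B] (φ : A →+* B)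
    (h₁ : Y ≃ₜ PrimeSpectrum B) (hcompat : ∀ y : Y, PrimeSpectrum.comap φ (h₁ y) = g.base y) :
    ClopenLift (pullback.fst g (Spec.map (CommRingCat.ofHom (Ideal.Quotient.mk I)))).base ↔
      ClopenLift (PrimeSpectrum.comap (Ideal.Quotient.mk (I.map φ))) := by
  let i := Spec.map (CommRingCat.ofHom (Ideal.Quotient.mk I))
  haveI : IsClosedImmersion i :=
    IsClosedImmersion.spec_of_surjective _ Ideal.Quotient.mk_surjective
  have hemb : Topology.IsEmbedding (h₁ ∘ (pullback.fst g i).base) :=
    h₁.isEmbedding.comp (pullback.fst g i).isClosedEmbedding.isEmbedding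
  have hrange_i : Set.range i.base = PrimeSpectrum.zeroLocus (I : Set A) := by
    show Set.range (PrimeSpectrum.comap (Ideal.Quotient.mk I)) = _
    exact range_comap_mk I
  have hrange : Set.range (h₁ ∘ (pullback.fst g i).base) =
      Set.range (PrimeSpectrum.comap (Ideal.Quotient.mk (I.map φ))) := by
    rw [range_comap_mk, Set.range_comp, Scheme.Pullback.range_fst, hrange_i]
    ext p
    constructor
    · rintro ⟨y, hy, rfl⟩
      rw [PrimeSpectrum.mem_zeroLocus, SetLike.coe_subset_coe, Ideal.map_le_iff_le_comap]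
      have : g.base y ∈ PrimeSpectrum.zeroLocus (I : Set A) := hy
      rw [← hcompat y, PrimeSpectrum.mem_zeroLocus, SetLike.coe_subset_coe] at this
      exact this
    · intro hp'
      refine ⟨h₁.symm p, ?_, h₁.apply_symm_apply p⟩
      show g.base (h₁.symm p) ∈ PrimeSpectrum.zeroLocus (I : Set A)
      rw [← hcompat, h₁.apply_symm_apply, PrimeSpectrum.mem_zeroLocus, SetLike.coe_subset_coe]
      rw [PrimeSpectrum.mem_zeroLocus, SetLike.coe_subset_coe, Ideal.map_le_iff_le_comap] at hp'
      exact hp'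
  constructor
  · intro h
    have h2 : ClopenLift (h₁ ∘ (pullback.fst g i).base) := by
      intro V hV
      obtain ⟨U, ⟨hU, hUV⟩, huniq⟩ := h V hV
      refine ⟨h₁ '' U, ⟨⟨h₁.isClosed_image.mpr hU.1, h₁.isOpen_image.mpr hU.2⟩, ?_⟩, ?_⟩
      · rw [Set.preimage_comp, Set.preimage_image_eq _ h₁.injective]; exact hUV
      · rintro U₂ ⟨hU₂, hU₂V⟩
        have := huniq (h₁ ⁻¹' U₂) ⟨hU₂.preimage h₁.continuous, hU₂V⟩
        rw [← this, Set.image_preimage_eq _ h₁.surjective]
    exact ClopenLift.of_range_eq hemb (isEmbedding_comap_mk _) hrange h2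
  · intro h
    have h2 : ClopenLift (h₁ ∘ (pullback.fst g i).base) :=
      ClopenLift.of_range_eq (isEmbedding_comap_mk _) hemb hrange.symm h
    exact ClopenLift.of_comp_homeomorph h₁ h2

set_option backward.isDefEq.respectTransparency false in
theorem S17971_main (A : Type u) [CommRing A] (I : Ideal A) :
    HenselianRing A I ↔
    ∀ (Y : Scheme.{u}) (g : Y ⟶ Spec (CommRingCat.of A)), IsFinite g →
      ∀ V : Set ↥(pullback g (Spec.map (CommRingCat.ofHom (Ideal.Quotient.mk I)))), IsClopen V →
        ∃! U : Set ↥Y, IsClopen U ∧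
          (pullback.fst g (Spec.map (CommRingCat.ofHom (Ideal.Quotient.mk I)))).base ⁻¹' U = V := by
  constructor
  · intro hH Y g hg
    have hG : Gabber A I := Gabber.of_henselianRing hH
    haveI : IsAffine Y := isAffine_of_isAffineHom g
    let e := Y.isoSpec
    let φ : CommRingCat.of A ⟶ Γ(Y, ⊤) := Spec.preimage (e.inv ≫ g)
    have hφ : Spec.map φ = e.inv ≫ g := Spec.map_preimage _
    have hfin : φ.hom.Finite := by
      have : IsFinite (Spec.map φ) := by rw [hφ]; infer_instance
      exact (IsFinite.SpecMap_iff φ).mp this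
    letI : Algebra A Γ(Y, ⊤) := φ.hom.toAlgebra
    haveI : Module.Finite A Γ(Y, ⊤) := hfin
    haveI : Algebra.IsIntegral A Γ(Y, ⊤) := inferInstance
    have hcompat : ∀ y : Y, PrimeSpectrum.comap φ.hom (e.hom.homeomorph y) = g.base y := by
      intro y
      have h2 := congrArg (fun ψ => ψ.base (e.hom.base y)) hφ
      have h3 := congrArg (fun ψ => ψ.base y) e.hom_inv_id
      simp only [Scheme.Hom.comp_base, TopCat.comp_app, Scheme.Hom.id_base, TopCat.id_app] at h2 h3
      rw [h3] at h2
      exact h2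
    refine (clopenLift_fst_iff I g φ.hom e.hom.homeomorph hcompat).mpr ?_
    exact (clopenLift_comap_iff _).mpr (Gabber.bijOn_idempotents hG)
  · intro H
    apply Gabber.henselianRing
    apply gabber_of_bijOn_idempotents
    intro B _ _ hB
    have hfin : IsFinite (Spec.map (CommRingCat.ofHom (algebraMap A B))) := by
      rw [IsFinite.SpecMap_iff]
      exact RingHom.finite_algebraMap.mpr hB
    have h1 := H (Spec (CommRingCat.of B)) (Spec.map (CommRingCat.ofHom (algebraMap A B))) hfin
    have h2 := (clopenLift_fst_iff I (Spec.map (CommRingCat.ofHom (algebraMap A B)))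
      (algebraMap A B) (Homeomorph.refl _) (fun y => rfl)).mp h1
    exact (clopenLift_comap_iff _).mp h2

end Groth.Agent.Helper7.HensCouple
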