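import Mathlib
import Groth.Agent.Lib.Helper7.Hensel.MvHensel
import Groth.Agent.Lib.Helper7.Hensel.Local

set_option autoImplicit false
set_option linter.style.haveILetI false
set_option linter.unusedVariables false

open CategoryTheory AlgebraicGeometry IsLocalRing TensorProduct

/-! helper7: residue points of smooth algebras/schemes over a henselian local ring lift to sections. -/

namespace Groth.Agent.Helper7.SmoothSection

universe u

open Groth.Agent.Helper7.Hensel

/-- Etale algebras over a henselian local ring: residue points lift. -/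
theorem exists_lift_of_etale (A : Type u) [CommRing A] [HenselianLocalRing A]
    (E : Type u) [CommRing E] [Algebra A E] [Algebra.Etale A E]
    (σ₀ : E →ₐ[A] ResidueField A) :
    ∃ τ : E →ₐ[A] A, ∀ c, residue A (τ c) = σ₀ c := by
  obtain ⟨τ, hτ⟩ := Gabber.exists_lift_of_etale (Gabber.of_henselianLocalRing A) E σ₀
  exact ⟨τ, fun c => AlgHom.congr_fun hτ c⟩

/-- Standard smooth algebras over a henselian local ring: residue points lift. -/
theorem exists_lift_of_isStandardSmooth (A : Type u) [CommRing A] [HenselianLocalRing A]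
    (C : Type u) [CommRing C] [Algebra A C] [Algebra.IsStandardSmooth A C]
    (σ₀ : C →ₐ[A] ResidueField A) :
    ∃ τ : C →ₐ[A] A, ∀ c, residue A (τ c) = σ₀ c := by
  obtain ⟨n, g, hgC, hg⟩ := RingHom.IsStandardSmooth.exists_etale_mvPolynomial
    (f := algebraMap A C) (by rwa [RingHom.isStandardSmooth_algebraMap])
  -- choose lifts of the images of the variables
  have hch : ∀ i : Fin n, ∃ a : A, residue A a = σ₀ (g (MvPolynomial.X i)) :=
    fun i => residue_surjective _
  choose a ha using hch
  let P := MvPolynomial (Fin n) A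
  let ev : P →ₐ[A] A := MvPolynomial.aeval a
  letI algPC : Algebra P C := g.toAlgebra
  letI algPA : Algebra P A := ev.toRingHom.toAlgebra
  haveI : IsScalarTower A P C := IsScalarTower.of_algebraMap_eq' hgC.symm
  haveI : IsScalarTower A P A := IsScalarTower.of_algebraMap_eq' (by
    ext x
    show x = ev (algebraMap A P x)
    rw [AlgHom.commutes]; rfl)
  haveI : Algebra.Etale P C := RingHom.etale_algebraMap.mp hg
  -- the base change
  let E := A ⊗[P] C
  haveI : Algebra.Etale A E := inferInstance
  letI algPk : Algebra P (ResidueField A) := ((residue A).comp ev.toRingHom).toAlgebra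
  haveI : IsScalarTower P A (ResidueField A) := IsScalarTower.of_algebraMap_eq' rfl
  have hcompat : ∀ p : P, σ₀ (g p) = residue A (ev p) := by
    intro p
    induction p using MvPolynomial.induction_on with
    | C x =>
      have h1 : g (MvPolynomial.C x) = algebraMap A C x := by
        rw [← hgC]; rfl
      rw [h1, AlgHom.commutes]
      have h2 : ev (MvPolynomial.C x) = x := by
        show MvPolynomial.aeval a (MvPolynomial.C x) = x
        rw [MvPolynomial.aeval_C]; rfl
      rw [h2]; rfl
    | add p q hp hq => rw [map_add, map_add, map_add, map_add, hp, hq]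
    | mul_X p i hp =>
      rw [map_mul, map_mul, map_mul, map_mul, hp]
      congr 1
      rw [← ha i]
      show _ = residue A (MvPolynomial.aeval a (MvPolynomial.X i))
      rw [MvPolynomial.aeval_X]
  let σP : C →ₐ[P] ResidueField A :=
    { σ₀.toRingHom with
      commutes' := fun p => hcompat p }
  let s : E →ₐ[A] ResidueField A :=
    Algebra.TensorProduct.lift (Algebra.ofId A (ResidueField A)) σP (fun _ _ => Commute.all _ _)
  obtain ⟨τ, hτ⟩ := exists_lift_of_etale A E s
  let incl : C →ₐ[A] E :=
    { (Algebra.TensorProduct.includeRight : C →ₐ[P] E).toRingHom with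
      commutes' := fun x => by
        show (1 : A) ⊗ₜ[P] (algebraMap A C x) = algebraMap A E x
        have h1 : algebraMap A C x = (MvPolynomial.C x : P) • (1 : C) := by
          rw [Algebra.smul_def, mul_one]
          show _ = g (MvPolynomial.C x)
          rw [← hgC]; rfl
        rw [h1, ← TensorProduct.smul_tmul]
        rw [Algebra.TensorProduct.algebraMap_apply]
        congr 1
        rw [Algebra.smul_def, mul_one]
        show ev (MvPolynomial.C x) = _
        show MvPolynomial.aeval a (MvPolynomial.C x) = _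
        rw [MvPolynomial.aeval_C] }
  refine ⟨τ.comp incl, fun c => ?_⟩
  show residue A (τ ((1 : A) ⊗ₜ[P] c)) = σ₀ c
  rw [hτ]
  show Algebra.TensorProduct.lift (Algebra.ofId A (ResidueField A)) σP _ ((1 : A) ⊗ₜ[P] c) = _
  rw [Algebra.TensorProduct.lift_tmul, map_one, one_mul]
  rfl

/-- Smooth algebras over a henselian local ring: residue points lift. -/
theorem exists_lift_of_smooth (A : Type u) [CommRing A] [HenselianLocalRing A]
    (C : Type u) [CommRing C] [Algebra A C] [Algebra.Smooth A C]
    (σ₀ : C →ₐ[A] ResidueField A) :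
    ∃ τ : C →ₐ[A] A, ∀ c, residue A (τ c) = σ₀ c := by
  haveI : (RingHom.ker σ₀.toRingHom).IsPrime := RingHom.ker_isPrime _
  haveI : Algebra.FinitePresentation A C := Algebra.Smooth.finitePresentation
  haveI : Algebra.IsSmoothAt A (RingHom.ker σ₀.toRingHom) := inferInstance
  obtain ⟨f, hf, hstd⟩ :=
    Algebra.IsSmoothAt.exists_notMem_isStandardSmooth A (RingHom.ker σ₀.toRingHom)
  have hunit : IsUnit (σ₀ f) := by
    rw [isUnit_iff_ne_zero]
    intro h
    exact hf ((RingHom.mem_ker).mpr h)
  let σ' : Localization.Away f →ₐ[A] ResidueField A :=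
    IsLocalization.liftAlgHom (M := Submonoid.powers f) (f := σ₀) (by
      rintro ⟨_, n, rfl⟩
      show IsUnit (σ₀ (f ^ n))
      rw [map_pow]
      exact hunit.pow n)
  obtain ⟨τ', hτ'⟩ := exists_lift_of_isStandardSmooth A (Localization.Away f) σ'
  refine ⟨τ'.comp (IsScalarTower.toAlgHom A C (Localization.Away f)), fun c => ?_⟩
  show residue A (τ' (algebraMap C (Localization.Away f) c)) = σ₀ c
  rw [hτ']
  exact IsLocalization.lift_eq _ c

set_option backward.isDefEq.respectTransparency false in
theorem S5038_main (A : Type u) [CommRing A] [HenselianLocalRing A]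
    {X : Scheme.{u}} (f : X ⟶ Spec (CommRingCat.of A)) [Smooth f]
    (u₀ : Spec (CommRingCat.of (IsLocalRing.ResidueField A)) ⟶ X)
    (h₀ : u₀ ≫ f = Spec.map (CommRingCat.ofHom (IsLocalRing.residue A))) :
    ∃ u : Spec (CommRingCat.of A) ⟶ X, u ≫ f = 𝟙 _ ∧
      Spec.map (CommRingCat.ofHom (IsLocalRing.residue A)) ≫ u = u₀ := by
  let pt : Spec (CommRingCat.of (ResidueField A)) := closedPoint (ResidueField A)
  let x : X := u₀.base pt
  obtain ⟨V, hV, hxV, -⟩ := exists_isAffineOpen_mem_and_subset (x := x) (U := ⊤) trivial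
  have hrange : Set.range u₀.base ⊆ Set.range hV.fromSpec.base := by
    rw [hV.range_fromSpec]
    rintro _ ⟨y, rfl⟩
    have : y = pt := Subsingleton.elim _ _
    rw [this]
    exact hxV
  let v₀ : Spec (CommRingCat.of (ResidueField A)) ⟶ Spec Γ(X, V) :=
    IsOpenImmersion.lift hV.fromSpec u₀ hrange
  have hv₀ : v₀ ≫ hV.fromSpec = u₀ := IsOpenImmersion.lift_fac _ _ _
  let σc : Γ(X, V) ⟶ CommRingCat.of (ResidueField A) := Spec.preimage v₀
  have hσc : Spec.map σc = v₀ := Spec.map_preimage _
  let ψ : CommRingCat.of A ⟶ Γ(X, V) := Spec.preimage (hV.fromSpec ≫ f)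
  have hψ : Spec.map ψ = hV.fromSpec ≫ f := Spec.map_preimage _
  have hsm : Smooth (Spec.map ψ) := by rw [hψ]; infer_instance
  have hψsm : ψ.hom.Smooth := (HasRingHomProperty.Spec_iff (P := @Smooth)).mp hsm
  have hcomp : ψ ≫ σc = CommRingCat.ofHom (residue A) := by
    apply Spec.map_injective
    rw [Spec.map_comp, hσc, hψ, ← Category.assoc, hv₀, h₀]
  algebraize [ψ.hom]
  let σ₀ : Γ(X, V) →ₐ[A] ResidueField A :=
    { σc.hom with
      commutes' := fun a => by
        have := congrArg (fun φ => φ.hom a) hcomp
        exact this }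
  obtain ⟨τ, hτ⟩ := exists_lift_of_smooth A Γ(X, V) σ₀
  refine ⟨Spec.map (CommRingCat.ofHom τ.toRingHom) ≫ hV.fromSpec, ?_, ?_⟩
  · rw [Category.assoc, ← hψ, ← Spec.map_comp]
    have : ψ ≫ CommRingCat.ofHom τ.toRingHom = 𝟙 _ := by
      ext a
      exact τ.commutes a
    rw [this, Spec.map_id]
  · rw [← Category.assoc, ← Spec.map_comp, ← hv₀, ← hσc]
    congr 2
    ext c
    exact hτ c

end Groth.Agent.Helper7.SmoothSection
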