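import Mathlib
import Groth.Prelude.Def_Hensel
import Groth.Agent.Lib.Helper7.SHensGen
import Groth.Agent.Lib.Helper7.SHensTensorBij2
import Groth.Agent.Lib.Helper7.HensQFLoc
import Groth.Agent.Lib.Helper7.Hensel.FiniteLocal

set_option autoImplicit false
set_option linter.style.haveILetI false
set_option linter.unusedVariables false
set_option linter.unusedSectionVars false

open IsLocalRing TensorProduct

/-! helper7: the strict henselization of a finite local algebra is a localization of the
base change of the strict henselization. -/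

namespace Groth.Agent.Helper7.SHensFinite

open Groth.Agent.Helper7.HensTensor Groth.Agent.Helper7.SHensTensor

universe u

theorem exists_localization_equiv (A B S T : Type u) [CommRing A] [IsLocalRing A]
    [CommRing B] [IsLocalRing B] [Algebra A B] [Module.Finite A B]
    [CommRing S] [IsLocalRing S] [Algebra A S] [IsLocalHom (algebraMap A S)]
    [hS : Hensel.IsStrictHenselization A S]
    [CommRing T] [IsLocalRing T] [Algebra B T] [IsLocalHom (algebraMap B T)]
    [hT : Hensel.IsStrictHenselization B T]
    [Algebra A T] [IsScalarTower A B T] [Algebra S T] [IsScalarTower A S T] :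
    ∃ (q : Ideal (B ⊗[A] S)) (_ : q.IsMaximal), Nonempty (Localization.AtPrime q ≃ₐ[B] T) := by
  haveI : IsLocalHom (algebraMap A B) := Hensel.isLocalHom_of_isIntegral
  haveI := SHensTensorBij.isLocalization_self_of_isLocalRing A
  haveI := SHensTensorBij.isLocalization_self_of_isLocalRing B
  haveI hhS : HenselianLocalRing S := hS.henselian
  haveI : IsSepClosed (ResidueField S) := hS.isSepClosure.sep_closed
  set Q := Ideal.comap (phi A B S T) (maximalIdeal T) with hQ
  have hlies : Q.LiesOver (maximalIdeal S) := by
    constructor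
    rw [← SHensGen.comap_algebraMap_Rh A B (maximalIdeal A) (maximalIdeal B) A B S T]
    ext a
    simp only [Ideal.under_def, Ideal.mem_comap, hQ]
    show _ ↔ phi A B S T (a ⊗ₜ 1) ∈ _
    simp [phi]
  haveI hfin : Module.Finite S (Localization.AtPrime Q) :=
    HensQFLoc.finite_localization_of_henselian S (S ⊗[A] B) Q hlies inferInstance
  haveI : IsLocalHom (algebraMap S (Localization.AtPrime Q)) := Hensel.isLocalHom_of_isIntegral
  haveI : HenselianLocalRing (Localization.AtPrime Q) :=
    Hensel.henselianLocalRing_of_finite S _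
  haveI : IsSepClosed (ResidueField (Localization.AtPrime Q)) :=
    SHensGen.isSepClosed_residueField_of_isIntegral S _
  have hb := SHensGen.bijective_jmap A B (maximalIdeal A) (maximalIdeal B) A B S T
  -- maximality of Q
  have hQmax : Q.IsMaximal := by
    apply Ideal.isMaximal_of_isIntegral_of_isMaximal_comap (R := S) Q
    have : Q.comap (algebraMap S (S ⊗[A] B)) = maximalIdeal S := (hlies.over).symm
    rw [this]
    infer_instance
  let c : B ⊗[A] S ≃+* S ⊗[A] B := (Algebra.TensorProduct.comm A B S).toRingEquiv
  let q : Ideal (B ⊗[A] S) := Q.comap c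
  have hqmax : q.IsMaximal := Ideal.comap_isMaximal_of_surjective (c : B ⊗[A] S →+* S ⊗[A] B)
    c.surjective
  haveI : q.IsPrime := hqmax.isPrime
  let e₁ : Localization.AtPrime q ≃+* Localization.AtPrime Q :=
    Localization.localRingEquiv q Q c rfl
  let e₂ : Localization.AtPrime Q ≃+* T := RingEquiv.ofBijective (SHensGen.jmap A B S T) hb
  refine ⟨q, hqmax, ⟨AlgEquiv.ofRingEquiv (f := e₁.trans e₂) (fun b => ?_)⟩⟩
  rw [IsScalarTower.algebraMap_apply B (B ⊗[A] S) (Localization.AtPrime q)]
  show SHensGen.jmap A B S T (Localization.localRingHom q Q (c : B ⊗[A] S →+* S ⊗[A] B) rfl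
    (algebraMap (B ⊗[A] S) _ (b ⊗ₜ[A] (1 : S)))) = _
  rw [Localization.localRingHom_to_map]
  show SHensGen.jmap A B S T (algebraMap (S ⊗[A] B) _ ((1 : S) ⊗ₜ[A] b)) = _
  rw [SHensGen.jmap_apply A B (maximalIdeal A) (maximalIdeal B) A B S T]
  simp [phi]

theorem S5072_main (A B S T : Type u) [CommRing A] [IsLocalRing A]
    [CommRing B] [IsLocalRing B] [Algebra A B] [Module.Finite A B]
    [CommRing S] [IsLocalRing S] [Algebra A S] [IsLocalHom (algebraMap A S)]
    [hS : Hensel.IsStrictHenselization A S]
    [CommRing T] [IsLocalRing T] [Algebra B T] [IsLocalHom (algebraMap B T)]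
    [hT : Hensel.IsStrictHenselization B T] :
    ∃ (q : Ideal (B ⊗[A] S)) (_ : q.IsMaximal), Nonempty (Localization.AtPrime q ≃ₐ[B] T) := by
  haveI : IsLocalHom (algebraMap A B) := Hensel.isLocalHom_of_isIntegral
  haveI hhT : HenselianLocalRing T := hT.henselian
  letI : Algebra A T := ((algebraMap B T).comp (algebraMap A B)).toAlgebra
  haveI : IsScalarTower A B T := IsScalarTower.of_algebraMap_eq (fun _ => rfl)
  haveI : IsLocalHom (algebraMap A T) :=
    RingHom.isLocalHom_comp (algebraMap B T) (algebraMap A B)
  haveI : IsSepClosed (ResidueField T) := hT.isSepClosure.sep_closed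
  haveI : Algebra.IsSeparable (ResidueField A) (ResidueField S) := hS.isSepClosure.separable
  let τ : ResidueField S →ₐ[ResidueField A] ResidueField T := IsSepClosed.lift
  have hτ : (τ : ResidueField S →+* ResidueField T).comp
      (ResidueField.map (algebraMap A S)) = ResidueField.map (algebraMap A T) := by
    rw [SHens.residueField_map_algebraMap, SHens.residueField_map_algebraMap]
    ext x
    exact τ.commutes x
  obtain ⟨h, ⟨hh1, -⟩, -⟩ := hS.universal T (algebraMap A T) _ hτ
  letI : Algebra S T := h.toAlgebra
  haveI : IsScalarTower A S T :=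
    IsScalarTower.of_algebraMap_eq (fun a => (RingHom.congr_fun hh1 a).symm)
  exact exists_localization_equiv A B S T

end Groth.Agent.Helper7.SHensFinite
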