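import Mathlib
import Groth.Prelude.Def_Flatn

set_option autoImplicit false
universe u
open CategoryTheory CategoryTheory.Limits AlgebraicGeometry

/-! helper7: representability of the functor of relative morphisms is stable under base change (S17079). -/

namespace Groth.Agent.Helper7.MorSBC

variable {X Y S S' : Scheme.{u}} (gX : X ⟶ S) (gY : Y ⟶ S) (h : S' ⟶ S)

/-- `T' ×_{S'} X' ⟶ T' ×_S X`. -/
noncomputable def θhom {T' : Scheme.{u}} (t : T' ⟶ S') :
    pullback t (pullback.snd gX h) ⟶ pullback (t ≫ h) gX :=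
  pullback.lift (pullback.fst _ _) (pullback.snd _ _ ≫ pullback.fst gX h) (by
    rw [← Category.assoc, pullback.condition, Category.assoc, Category.assoc,
      pullback.condition])

/-- `T' ×_S X ⟶ T' ×_{S'} X'`. -/
noncomputable def θinv {T' : Scheme.{u}} (t : T' ⟶ S') :
    pullback (t ≫ h) gX ⟶ pullback t (pullback.snd gX h) :=
  pullback.lift (pullback.fst _ _)
    (pullback.lift (pullback.snd _ _) (pullback.fst _ _ ≫ t) (by
      rw [← pullback.condition, Category.assoc])) (by rw [pullback.lift_snd])

@[reassoc (attr := simp)]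
theorem θhom_fst {T' : Scheme.{u}} (t : T' ⟶ S') :
    θhom gX h t ≫ pullback.fst _ _ = pullback.fst _ _ := pullback.lift_fst _ _ _

@[reassoc (attr := simp)]
theorem θhom_snd {T' : Scheme.{u}} (t : T' ⟶ S') :
    θhom gX h t ≫ pullback.snd _ _ = pullback.snd _ _ ≫ pullback.fst gX h :=
  pullback.lift_snd _ _ _

@[reassoc (attr := simp)]
theorem θinv_fst {T' : Scheme.{u}} (t : T' ⟶ S') :
    θinv gX h t ≫ pullback.fst _ _ = pullback.fst _ _ := pullback.lift_fst _ _ _

@[reassoc (attr := simp)]
theorem θinv_snd_fst {T' : Scheme.{u}} (t : T' ⟶ S') :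
    θinv gX h t ≫ pullback.snd _ _ ≫ pullback.fst gX h = pullback.snd _ _ := by
  rw [θinv, pullback.lift_snd_assoc, pullback.lift_fst]

@[reassoc (attr := simp)]
theorem θinv_snd_snd {T' : Scheme.{u}} (t : T' ⟶ S') :
    θinv gX h t ≫ pullback.snd _ _ ≫ pullback.snd gX h = pullback.fst _ _ ≫ t := by
  rw [θinv, pullback.lift_snd_assoc, pullback.lift_snd]

@[reassoc (attr := simp)]
theorem θhom_inv {T' : Scheme.{u}} (t : T' ⟶ S') : θhom gX h t ≫ θinv gX h t = 𝟙 _ := by
  refine pullback.hom_ext ?_ ?_
  · simp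
  · refine pullback.hom_ext ?_ ?_
    · simp
    · simp [pullback.condition]

@[reassoc (attr := simp)]
theorem θinv_hom {T' : Scheme.{u}} (t : T' ⟶ S') : θinv gX h t ≫ θhom gX h t = 𝟙 _ := by
  refine pullback.hom_ext ?_ ?_
  · simp
  · simp

/-- the underlying scheme morphism of a section of `morS` over `(Over.map h).obj T'`. -/
noncomputable def lft (T' : Over S')
    (b : (Flatn.morS gX gY).obj (Opposite.op ((Over.map h).obj T'))) :
    pullback (T'.hom ≫ h) gX ⟶ Y := b.left

theorem lft_w (T' : Over S')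
    (b : (Flatn.morS gX gY).obj (Opposite.op ((Over.map h).obj T'))) :
    lft gX gY h T' b ≫ gY = pullback.snd (T'.hom ≫ h) gX ≫ gX := Over.w b

/-- the underlying scheme morphism of a section of the base-changed `morS` over `T'`. -/
noncomputable def lft' (T' : Over S')
    (c : (Flatn.morS (pullback.snd gX h) (pullback.snd gY h)).obj (Opposite.op T')) :
    pullback T'.hom (pullback.snd gX h) ⟶ pullback gY h := c.left

theorem lft'_w (T' : Over S')
    (c : (Flatn.morS (pullback.snd gX h) (pullback.snd gY h)).obj (Opposite.op T')) :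
    lft' gX gY h T' c ≫ pullback.snd gY h =
      pullback.snd T'.hom (pullback.snd gX h) ≫ pullback.snd gX h := Over.w c

set_option backward.isDefEq.respectTransparency false in
/-- The bijection between `S`-morphisms `T' ×_S X ⟶ Y` and `S'`-morphisms
`T' ×_{S'} X' ⟶ Y'`. -/
noncomputable def E (T' : Over S') :
    (Flatn.morS gX gY).obj (Opposite.op ((Over.map h).obj T')) ≃
      (Flatn.morS (pullback.snd gX h) (pullback.snd gY h)).obj (Opposite.op T') where
  toFun b := Over.homMk (pullback.lift (θhom gX h T'.hom ≫ lft gX gY h T' b)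
      (pullback.snd T'.hom (pullback.snd gX h) ≫ pullback.snd gX h) (by
        rw [Category.assoc, lft_w, θhom_snd_assoc, Category.assoc,
          pullback.condition])) (pullback.lift_snd _ _ _)
  invFun c := Over.homMk (θinv gX h T'.hom ≫ lft' gX gY h T' c ≫ pullback.fst gY h) (by
    change (θinv gX h T'.hom ≫ lft' gX gY h T' c ≫ pullback.fst gY h) ≫ gY =
      pullback.snd (T'.hom ≫ h) gX ≫ gX
    rw [Category.assoc, Category.assoc, pullback.condition, ← Category.assoc (lft' gX gY h T' c),
      lft'_w, Category.assoc, ← pullback.condition, θinv_snd_fst_assoc])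
  left_inv b := by
    refine Over.OverMorphism.ext ?_
    change θinv gX h T'.hom ≫ pullback.lift (θhom gX h T'.hom ≫ lft gX gY h T' b) _ _ ≫
      pullback.fst gY h = lft gX gY h T' b
    rw [pullback.lift_fst, θinv_hom_assoc]
  right_inv c := by
    refine Over.OverMorphism.ext ?_
    change pullback.lift (θhom gX h T'.hom ≫ θinv gX h T'.hom ≫ lft' gX gY h T' c ≫
      pullback.fst gY h) _ _ = lft' gX gY h T' c
    refine pullback.hom_ext ?_ ?_
    · rw [pullback.lift_fst, θhom_inv_assoc]
    · rw [pullback.lift_snd, lft'_w]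

set_option backward.isDefEq.respectTransparency false in
theorem E_left (T' : Over S') (b : (Flatn.morS gX gY).obj (Opposite.op ((Over.map h).obj T'))) :
    lft' gX gY h T' (E gX gY h T' b) ≫ pullback.fst gY h =
      θhom gX h T'.hom ≫ lft gX gY h T' b := by
  change pullback.lift (θhom gX h T'.hom ≫ lft gX gY h T' b) _ _ ≫ pullback.fst gY h = _
  rw [pullback.lift_fst]

/-- base change of an `S`-morphism along `g`, on underlying schemes. -/
noncomputable def pmap {Z S : Scheme.{u}} (g : Z ⟶ S) {T T' : Over S} (φ : T' ⟶ T) :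
    pullback T'.hom g ⟶ pullback T.hom g :=
  pullback.lift (pullback.fst _ _ ≫ φ.left) (pullback.snd _ _) (by
    rw [Category.assoc, Over.w φ, pullback.condition])

@[reassoc (attr := simp)]
theorem pmap_fst {Z S : Scheme.{u}} (g : Z ⟶ S) {T T' : Over S} (φ : T' ⟶ T) :
    pmap g φ ≫ pullback.fst _ _ = pullback.fst _ _ ≫ φ.left := pullback.lift_fst _ _ _

@[reassoc (attr := simp)]
theorem pmap_snd {Z S : Scheme.{u}} (g : Z ⟶ S) {T T' : Over S} (φ : T' ⟶ T) :
    pmap g φ ≫ pullback.snd _ _ = pullback.snd _ _ := pullback.lift_snd _ _ _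

theorem morS_map_left {X Z S : Scheme.{u}} (g : Z ⟶ S) (f : X ⟶ S) {T T' : Over S} (φ : T' ⟶ T)
    (b : (Flatn.morS g f).obj (Opposite.op T)) :
    ((Flatn.morS g f).map φ.op b).left = pmap g φ ≫ b.left := rfl

set_option backward.isDefEq.respectTransparency false in
theorem θhom_naturality {T' T'' : Over S'} (f : T'' ⟶ T') :
    θhom gX h T''.hom ≫ pmap gX ((Over.map h).map f) =
      pmap (pullback.snd gX h) f ≫ θhom gX h T'.hom := by
  have e1 : pmap gX ((Over.map h).map f) ≫ pullback.fst (T'.hom ≫ h) gX =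
      pullback.fst (T''.hom ≫ h) gX ≫ f.left := pmap_fst gX ((Over.map h).map f)
  have e2 : pmap gX ((Over.map h).map f) ≫ pullback.snd (T'.hom ≫ h) gX =
      pullback.snd (T''.hom ≫ h) gX := pmap_snd gX ((Over.map h).map f)
  refine pullback.hom_ext ?_ ?_
  · change (θhom gX h T''.hom ≫ pmap gX ((Over.map h).map f)) ≫ pullback.fst (T'.hom ≫ h) gX =
      (pmap (pullback.snd gX h) f ≫ θhom gX h T'.hom) ≫ pullback.fst (T'.hom ≫ h) gX
    rw [Category.assoc, Category.assoc, θhom_fst, pmap_fst, e1, θhom_fst_assoc]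
  · change (θhom gX h T''.hom ≫ pmap gX ((Over.map h).map f)) ≫ pullback.snd (T'.hom ≫ h) gX =
      (pmap (pullback.snd gX h) f ≫ θhom gX h T'.hom) ≫ pullback.snd (T'.hom ≫ h) gX
    rw [Category.assoc, Category.assoc, θhom_snd, pmap_snd_assoc, e2, θhom_snd]

set_option backward.isDefEq.respectTransparency false in
theorem E_naturality {T' T'' : Over S'} (f : T'' ⟶ T')
    (b : (Flatn.morS gX gY).obj (Opposite.op ((Over.map h).obj T'))) :
    E gX gY h T'' ((Flatn.morS gX gY).map ((Over.map h).map f).op b) =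
      (Flatn.morS (pullback.snd gX h) (pullback.snd gY h)).map f.op (E gX gY h T' b) := by
  refine Over.OverMorphism.ext ?_
  change lft' gX gY h T'' (E gX gY h T'' ((Flatn.morS gX gY).map ((Over.map h).map f).op b)) =
    pmap (pullback.snd gX h) f ≫ lft' gX gY h T' (E gX gY h T' b)
  refine pullback.hom_ext ?_ ?_
  · rw [E_left, Category.assoc, E_left]
    change θhom gX h T''.hom ≫ (pmap gX ((Over.map h).map f) ≫ lft gX gY h T' b) = _
    rw [← Category.assoc, θhom_naturality, Category.assoc]
  · rw [lft'_w, Category.assoc, lft'_w, pmap_snd_assoc]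

/-- Representability of relative morphisms passes to base change. -/
noncomputable def representableBy (M : Over S) (e : (Flatn.morS gX gY).RepresentableBy M) :
    (Flatn.morS (pullback.snd gX h) (pullback.snd gY h)).RepresentableBy
      (Over.mk (pullback.snd M.hom h)) where
  homEquiv {T'} := (((Over.mapPullbackAdj h).homEquiv T' M).symm.trans e.homEquiv).trans
    (E gX gY h T')
  homEquiv_comp {T'' T'} f φ := by
    change E gX gY h T'' (e.homEquiv (((Over.mapPullbackAdj h).homEquiv T'' M).symm (f ≫ φ))) =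
      (Flatn.morS (pullback.snd gX h) (pullback.snd gY h)).map f.op
        (E gX gY h T' (e.homEquiv (((Over.mapPullbackAdj h).homEquiv T' M).symm φ)))
    rw [← E_naturality, ← e.homEquiv_comp, ← Adjunction.homEquiv_naturality_left_symm]

end Groth.Agent.Helper7.MorSBC
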