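import Mathlib
import Groth.Prelude.Def_Flatn
import Groth.Agent.Lib.Helper7.MorSBC

set_option autoImplicit false
universe u
open CategoryTheory CategoryTheory.Limits AlgebraicGeometry

/-! helper7: for `X` proper over `S` and `U ⊆ Y` open, relative morphisms into `U` are represented by an open subscheme of the scheme representing relative morphisms into `Y` (S17080). -/

namespace Groth.Agent.Helper7.MorSOpen

open Groth.Agent.Helper7.MorSBC

/-- points of a cartesian square of schemes. -/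
theorem exists_of_isPullback {P X Y S : Scheme.{u}} {p₁ : P ⟶ X} {p₂ : P ⟶ Y} {f : X ⟶ S}
    {g : Y ⟶ S} (h : IsPullback p₁ p₂ f g) (x : X) (y : Y) (hxy : f x = g y) :
    ∃ z : P, p₁ z = x ∧ p₂ z = y := by
  obtain ⟨z, hz1, hz2⟩ := Scheme.Pullback.exists_preimage_pullback x y hxy
  refine ⟨h.isoPullback.inv z, ?_, ?_⟩
  · rw [← Scheme.Hom.comp_apply, IsPullback.isoPullback_inv_fst, hz1]
  · rw [← Scheme.Hom.comp_apply, IsPullback.isoPullback_inv_snd, hz2]

variable {X Y U S : Scheme.{u}} (gX : X ⟶ S) (gY : Y ⟶ S) (j : U ⟶ Y)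
  (M : Over S) (e : (Flatn.morS gX gY).RepresentableBy M)

/-- the universal morphism. -/
noncomputable def ev : pullback M.hom gX ⟶ Y := (e.homEquiv (𝟙 M)).left

theorem ev_w : ev gX gY M e ≫ gY = pullback.snd M.hom gX ≫ gX := Over.w (e.homEquiv (𝟙 M))

theorem homEquiv_left {T : Over S} (φ : T ⟶ M) :
    (e.homEquiv φ).left = pmap gX φ ≫ ev gX gY M e := by
  have h := e.homEquiv_comp φ (𝟙 M)
  rw [Category.comp_id] at h
  rw [h]
  exact morS_map_left gX gY φ _

set_option backward.isDefEq.respectTransparency false in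
theorem isPullback_pmap {T : Over S} (φ : T ⟶ M) :
    IsPullback (pmap gX φ) (pullback.fst T.hom gX) (pullback.fst M.hom gX) φ.left := by
  have t : IsPullback (pullback.snd M.hom gX) (pullback.fst M.hom gX) gX M.hom :=
    (IsPullback.of_hasPullback M.hom gX).flip
  have s : IsPullback (pmap gX φ ≫ pullback.snd M.hom gX) (pullback.fst T.hom gX) gX
      (φ.left ≫ M.hom) := by
    rw [pmap_snd, Over.w φ]
    exact (IsPullback.of_hasPullback T.hom gX).flip
  exact IsPullback.of_right s (pmap_fst gX φ) t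

/-- the closed set of points of `M` over which the universal morphism leaves `U`. -/
def Z : Set M.left :=
  (pullback.fst M.hom gX).base '' ((ev gX gY M e).base ⁻¹' (Set.range j.base)ᶜ)

theorem isClosed_Z [IsProper gX] [IsOpenImmersion j] : IsClosed (Z gX gY j M e) :=
  (pullback.fst M.hom gX).isClosedMap _
    (IsClosed.preimage (ev gX gY M e).continuous j.isOpenEmbedding.isOpen_range.isClosed_compl)

/-- the open locus. -/
def M₀ [IsProper gX] [IsOpenImmersion j] : M.left.Opens :=
  ⟨(Z gX gY j M e)ᶜ, (isClosed_Z gX gY j M e).isOpen_compl⟩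

theorem range_subset_iff [IsProper gX] [IsOpenImmersion j] {T : Over S} (φ : T ⟶ M) :
    Set.range φ.left.base ⊆ (M₀ gX gY j M e : Set M.left) ↔
      Set.range (pmap gX φ ≫ ev gX gY M e).base ⊆ Set.range j.base := by
  constructor
  · rintro h _ ⟨z, rfl⟩
    by_contra hz
    have h1 : φ.left (pullback.fst T.hom gX z) ∈ (M₀ gX gY j M e : Set M.left) := h ⟨_, rfl⟩
    refine h1 ⟨pmap gX φ z, ?_, ?_⟩
    · change (ev gX gY M e) (pmap gX φ z) ∉ Set.range j.base
      rw [← Scheme.Hom.comp_apply]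
      exact hz
    · rw [← Scheme.Hom.comp_apply, pmap_fst, Scheme.Hom.comp_apply]
  · rintro h _ ⟨t, rfl⟩
    rintro ⟨z', hz', hz't⟩
    obtain ⟨z, hz1, hz2⟩ := exists_of_isPullback (isPullback_pmap gX M φ) z' t hz't
    apply hz'
    have : (pmap gX φ ≫ ev gX gY M e) z ∈ Set.range j.base := h ⟨z, rfl⟩
    rw [Scheme.Hom.comp_apply, hz1] at this
    exact this

variable [IsProper gX] [IsOpenImmersion j]

/-- the inclusion of the open locus, as a morphism over `S`. -/
noncomputable def ι₀ : Over.mk ((M₀ gX gY j M e).ι ≫ M.hom) ⟶ M :=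
  Over.homMk (M₀ gX gY j M e).ι rfl

/-- `j` as a morphism over `S`. -/
noncomputable def jO : Over.mk (j ≫ gY) ⟶ Over.mk gY := Over.homMk j rfl

theorem range_toFun {T : Over S} (φ : T ⟶ Over.mk ((M₀ gX gY j M e).ι ≫ M.hom)) :
    Set.range (e.homEquiv (φ ≫ ι₀ gX gY j M e)).left.base ⊆ Set.range j.base := by
  rw [homEquiv_left]
  refine (range_subset_iff gX gY j M e _).mp ?_
  rintro _ ⟨t, rfl⟩
  change (φ.left ≫ (M₀ gX gY j M e).ι) t ∈ _
  rw [Scheme.Hom.comp_apply]
  exact (φ.left t).2

/-- from morphisms to the open locus to relative morphisms into `U`. -/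
noncomputable def toFun {T : Over S} (φ : T ⟶ Over.mk ((M₀ gX gY j M e).ι ≫ M.hom)) :
    (Flatn.morS gX (j ≫ gY)).obj (Opposite.op T) :=
  Over.homMk (IsOpenImmersion.lift j (e.homEquiv (φ ≫ ι₀ gX gY j M e)).left
    (range_toFun gX gY j M e φ)) (by
      change IsOpenImmersion.lift j _ _ ≫ j ≫ gY = pullback.snd T.hom gX ≫ gX
      rw [IsOpenImmersion.lift_fac_assoc]
      exact Over.w (e.homEquiv (φ ≫ ι₀ gX gY j M e)))

theorem toFun_comp_jO {T : Over S} (φ : T ⟶ Over.mk ((M₀ gX gY j M e).ι ≫ M.hom)) :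
    toFun gX gY j M e φ ≫ jO gY j = e.homEquiv (φ ≫ ι₀ gX gY j M e) := by
  refine Over.OverMorphism.ext ?_
  change IsOpenImmersion.lift j _ _ ≫ j = _
  rw [IsOpenImmersion.lift_fac]

theorem range_invFun {T : Over S} (c : (Flatn.morS gX (j ≫ gY)).obj (Opposite.op T)) :
    Set.range (e.homEquiv.symm (c ≫ jO gY j)).left.base ⊆
      Set.range (M₀ gX gY j M e).ι.base := by
  rw [Scheme.Opens.range_ι]
  refine (range_subset_iff gX gY j M e _).mpr ?_
  rw [← homEquiv_left, Equiv.apply_symm_apply]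
  rintro _ ⟨z, rfl⟩
  change (c.left ≫ j) z ∈ _
  rw [Scheme.Hom.comp_apply]
  exact ⟨_, rfl⟩

/-- from relative morphisms into `U` to morphisms to the open locus. -/
noncomputable def invFun {T : Over S} (c : (Flatn.morS gX (j ≫ gY)).obj (Opposite.op T)) :
    T ⟶ Over.mk ((M₀ gX gY j M e).ι ≫ M.hom) :=
  Over.homMk (IsOpenImmersion.lift (M₀ gX gY j M e).ι (e.homEquiv.symm (c ≫ jO gY j)).left
    (range_invFun gX gY j M e c)) (by
      change IsOpenImmersion.lift _ _ _ ≫ (M₀ gX gY j M e).ι ≫ M.hom = T.hom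
      rw [IsOpenImmersion.lift_fac_assoc]
      exact Over.w (e.homEquiv.symm (c ≫ jO gY j)))

theorem invFun_comp_ι₀ {T : Over S} (c : (Flatn.morS gX (j ≫ gY)).obj (Opposite.op T)) :
    invFun gX gY j M e c ≫ ι₀ gX gY j M e = e.homEquiv.symm (c ≫ jO gY j) := by
  refine Over.OverMorphism.ext ?_
  change IsOpenImmersion.lift _ _ _ ≫ (M₀ gX gY j M e).ι = _
  rw [IsOpenImmersion.lift_fac]

instance : Mono (jO gY j) := by
  refine ⟨fun a b hab => ?_⟩
  refine Over.OverMorphism.ext ?_
  have := congrArg (fun t => t.left) hab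
  exact (cancel_mono j).mp this

instance : Mono (ι₀ gX gY j M e) := by
  refine ⟨fun a b hab => ?_⟩
  refine Over.OverMorphism.ext ?_
  have := congrArg (fun t => t.left) hab
  exact (cancel_mono (M₀ gX gY j M e).ι).mp this

/-- The open locus represents relative morphisms into `U`. -/
noncomputable def representableBy :
    (Flatn.morS gX (j ≫ gY)).RepresentableBy (Over.mk ((M₀ gX gY j M e).ι ≫ M.hom)) where
  homEquiv {T} :=
    { toFun := toFun gX gY j M e
      invFun := invFun gX gY j M e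
      left_inv := fun φ => by
        rw [← cancel_mono (ι₀ gX gY j M e), invFun_comp_ι₀, toFun_comp_jO,
          Equiv.symm_apply_apply]
      right_inv := fun c => by
        refine (cancel_mono (jO gY j)).mp ?_
        rw [toFun_comp_jO, invFun_comp_ι₀, Equiv.apply_symm_apply] }
  homEquiv_comp {T'' T'} f φ := by
    change toFun gX gY j M e (f ≫ φ) = (Flatn.morS gX (j ≫ gY)).map f.op (toFun gX gY j M e φ)
    refine (cancel_mono (jO gY j)).mp ?_
    rw [toFun_comp_jO, Category.assoc, e.homEquiv_comp, ← toFun_comp_jO]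
    rfl

theorem representableBy_compat {T : Over S} (φ : T ⟶ Over.mk ((M₀ gX gY j M e).ι ≫ M.hom)) :
    e.homEquiv (φ ≫ ι₀ gX gY j M e) =
      (representableBy gX gY j M e).homEquiv φ ≫ jO gY j :=
  (toFun_comp_jO gX gY j M e φ).symm

end Groth.Agent.Helper7.MorSOpen
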