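import Groth.Agent.Lib.Helper7.CatLib2

/-! helper7: stable sets in Noetherian sober spaces are clopen; difference of dimension functions. -/

namespace Groth.Agent.Helper7.CatLib3
open Groth.Agent.Helper7.CatLib Groth.Agent.Helper7.CatLib2 TopologicalSpace
universe u

section
variable {U : Type*} [TopologicalSpace U]

/-- In a Noetherian quasi-sober space, a set stable under specialization and generalization is
closed. -/
lemma isClosed_of_stable [NoetherianSpace U] [QuasiSober U] (S : Set U)
    (h1 : StableUnderSpecialization S) (h2 : StableUnderGeneralization S) : IsClosed S := by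
  have hS : S = ⋃₀ {Z | Z ∈ irreducibleComponents U ∧ (Z ∩ S).Nonempty} := by
    ext s
    constructor
    · intro hs
      exact ⟨irreducibleComponent s, ⟨irreducibleComponent_mem_irreducibleComponents s,
        ⟨s, mem_irreducibleComponent, hs⟩⟩, mem_irreducibleComponent⟩
    · rintro ⟨Z, ⟨hZ, ⟨t, htZ, htS⟩⟩, hsZ⟩
      have hirr : IsIrreducible Z := hZ.1
      have hcl : IsClosed Z := isClosed_of_mem_irreducibleComponents Z hZ
      obtain ⟨η, hη⟩ := QuasiSober.sober hirr hcl
      have e1 : η ⤳ t := hη.specializes htZ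
      have e2 : η ⤳ s := hη.specializes hsZ
      exact h1 e2 (h2 e1 htS)
  rw [hS, Set.sUnion_eq_biUnion]
  refine Set.Finite.isClosed_biUnion ?_ ?_
  · exact (NoetherianSpace.finite_irreducibleComponents (α := U)).subset fun Z hZ => hZ.1
  · intro Z hZ
    exact isClosed_of_mem_irreducibleComponents Z hZ.1

lemma isOpen_of_stable [NoetherianSpace U] [QuasiSober U] (S : Set U)
    (h1 : StableUnderSpecialization S) (h2 : StableUnderGeneralization S) : IsOpen S := by
  rw [← isClosed_compl_iff]
  exact isClosed_of_stable _ h2.compl h1.compl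

end

section
variable {X : Type u} [TopologicalSpace X] [QuasiSober X] [T0Space X]

lemma sub_eq_of_specializes (δ δ' : X → ℤ) (hδ : PtTop.IsDimensionFunction δ)
    (hδ' : PtTop.IsDimensionFunction δ') {x y : X} (h : x ⤳ y) :
    δ x - δ' x = δ y - δ' y := by
  have h1 := cd_eq_of_isDimensionFunction δ hδ (cl_le_cl.mpr h)
  have h2 := cd_eq_of_isDimensionFunction δ' hδ' (cl_le_cl.mpr h)
  rw [gp_cl, gp_cl] at h1 h2
  rw [h1] at h2
  have h3 : (δ x - δ y).toNat = (δ' x - δ' y).toNat := by exact_mod_cast h2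
  by_cases hxy : x = y
  · rw [hxy]
  · have := hδ.1 x y h hxy
    have := hδ'.1 x y h hxy
    omega

theorem isLocallyConstant_sub (hX : ∀ x : X, ∃ E ∈ nhds x, NoetherianSpace E)
    (δ δ' : X → ℤ) (hδ : PtTop.IsDimensionFunction δ) (hδ' : PtTop.IsDimensionFunction δ') :
    IsLocallyConstant (fun x => δ x - δ' x) := by
  rw [IsLocallyConstant.iff_isOpen_fiber]
  intro n
  rw [isOpen_iff_mem_nhds]
  intro x hx
  obtain ⟨E, hE, hEN⟩ := hX x
  obtain ⟨U, hUE, hUo, hxU⟩ := mem_nhds_iff.mp hE
  have hUN : NoetherianSpace U := NoetherianSpace.of_subset hUE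
  have hUS : QuasiSober U := (hUo.isOpenEmbedding_subtypeVal).quasiSober
  let S : Set U := {u | δ u.1 - δ' u.1 = n}
  have hS1 : StableUnderSpecialization S := by
    intro a b hab ha
    have : a.1 ⤳ b.1 := hab.map continuous_subtype_val
    have e := sub_eq_of_specializes δ δ' hδ hδ' this
    show δ b.1 - δ' b.1 = n
    rw [← e]; exact ha
  have hS2 : StableUnderGeneralization S := by
    intro a b hab ha
    have : b.1 ⤳ a.1 := hab.map continuous_subtype_val
    have e := sub_eq_of_specializes δ δ' hδ hδ' this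
    show δ b.1 - δ' b.1 = n
    rw [e]; exact ha
  have hSo : IsOpen S := isOpen_of_stable S hS1 hS2
  have hSo' : IsOpen (Subtype.val '' S) := hUo.isOpenEmbedding_subtypeVal.isOpenMap _ hSo
  refine Filter.mem_of_superset (hSo'.mem_nhds ⟨⟨x, hxU⟩, hx, rfl⟩) ?_
  rintro _ ⟨u, hu, rfl⟩
  exact hu

end

end Groth.Agent.Helper7.CatLib3
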