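import Mathlib

set_option autoImplicit false
universe u
open CategoryTheory CategoryTheory.Limits AlgebraicGeometry AlgebraicGeometry.AffineSpace MvPolynomial

/-! helper7: units of affine space over a reduced scheme come from the base. -/

namespace Groth.Agent.Helper7.ASUnit

variable (n : Type u)

/-- the zero section of affine space -/
noncomputable def zeroSec (S : Scheme.{u}) : S ⟶ 𝔸(n; S) := homOfVector (𝟙 S) (fun _ => 0)

@[reassoc]
lemma zeroSec_over (S : Scheme.{u}) : zeroSec n S ≫ 𝔸(n; S) ↘ S = 𝟙 S := homOfVector_over _ _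

set_option backward.isDefEq.respectTransparency false in
@[reassoc]
lemma zeroSec_map {S T : Scheme.{u}} (f : S ⟶ T) :
    zeroSec n S ≫ map n f = f ≫ zeroSec n T := by
  apply AffineSpace.hom_ext
  · simp only [Category.assoc, map_over, zeroSec_over, zeroSec_over_assoc, Category.comp_id]
  · intro i
    simp only [Scheme.Hom.comp_appTop, CommRingCat.comp_apply]
    rw [map_appTop_coord]
    simp only [zeroSec, homOfVector_appTop_coord, map_zero]

set_option backward.isDefEq.respectTransparency false in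
lemma mem_range_of_isUnit_affine (R : CommRingCat.{u}) [_root_.IsReduced R]
    (w : Γ(𝔸(n; Spec R), ⊤)) (hw : IsUnit w) :
    ∃ r : Γ(Spec R, ⊤), (𝔸(n; Spec R) ↘ Spec R).appTop r = w := by
  let e := SpecIso n R
  let p : MvPolynomial n R := (Scheme.ΓSpecIso (.of (MvPolynomial n R))).hom (e.inv.appTop w)
  have hp : IsUnit p := (hw.map _).map _
  obtain ⟨r₀, hr₀, hpr⟩ := MvPolynomial.isUnit_iff_eq_C_of_isReduced.mp hp
  refine ⟨(Scheme.ΓSpecIso R).inv r₀, ?_⟩
  have h1 : 𝔸(n; Spec R) ↘ Spec R = e.hom ≫ Spec.map (CommRingCat.ofHom C) := by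
    rw [← SpecIso_inv_over, Iso.hom_inv_id_assoc]
  let q : Γ(Spec (.of (MvPolynomial n R)), ⊤) := e.inv.appTop w
  have hw' : w = e.hom.appTop q := by
    have : e.inv.appTop ≫ e.hom.appTop = 𝟙 _ := by
      rw [← Scheme.Hom.comp_appTop, Iso.hom_inv_id]; rfl
    exact (congr($(this).hom w)).symm
  have hq : q = (Scheme.ΓSpecIso (.of (MvPolynomial n R))).inv (C r₀) := by
    have h5 : (Scheme.ΓSpecIso (.of (MvPolynomial n R))).hom ≫
        (Scheme.ΓSpecIso (.of (MvPolynomial n R))).inv = 𝟙 _ := Iso.hom_inv_id _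
    have h6 := congr($(h5).hom q)
    rw [← hpr]
    exact h6.symm
  have h2 := congr($(Scheme.ΓSpecIso_inv_naturality
    (CommRingCat.ofHom (C : R →+* MvPolynomial n R))).hom r₀)
  have h3 : (𝔸(n; Spec R) ↘ Spec R).appTop =
      (Spec.map (CommRingCat.ofHom (C : R →+* MvPolynomial n R))).appTop ≫ e.hom.appTop := by
    rw [h1, Scheme.Hom.comp_appTop]
  rw [hw', hq, h3]
  exact congrArg e.hom.appTop.hom h2.symm

set_option backward.isDefEq.respectTransparency false in
theorem exists_unit_appTop_eq [Finite n] (X : Scheme.{u}) [IsReduced X]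
    (w : Γ(𝔸(n; X), ⊤)) (hw : IsUnit w) :
    ∃ v : Γ(X, ⊤), IsUnit v ∧ (𝔸(n; X) ↘ X).appTop v = w := by
  refine ⟨(zeroSec n X).appTop w, hw.map _, ?_⟩
  let 𝒰 := X.affineOpenCover.openCover
  let 𝒱 := 𝒰.pullback₁ (𝔸(n; X) ↘ X)
  apply Scheme.OpenCover.ext_elem _ _ 𝒱
  intro i
  let R := X.affineOpenCover.X i
  let g : Spec R ⟶ X := X.affineOpenCover.f i
  have hg : IsOpenImmersion g := inferInstanceAs (IsOpenImmersion (𝒰.f i))
  have hred : IsReduced (Spec R) := isReduced_of_isOpenImmersion g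
  have hR : _root_.IsReduced R := affine_isReduced_iff R |>.mp hred
  let e := (isPullback_map (n := n) g).isoPullback
  have he1 : e.hom ≫ pullback.fst (𝔸(n; X) ↘ X) g = map n g :=
    (isPullback_map (n := n) g).isoPullback_hom_fst
  have hinj : Function.Injective e.hom.appTop.hom :=
    (ConcreteCategory.bijective_of_isIso e.hom.appTop).1
  apply hinj
  change e.hom.appTop.hom ((pullback.fst (𝔸(n; X) ↘ X) g).appTop.hom _) =
    e.hom.appTop.hom ((pullback.fst (𝔸(n; X) ↘ X) g).appTop.hom _)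
  have hj : ∀ z, e.hom.appTop.hom ((pullback.fst (𝔸(n; X) ↘ X) g).appTop.hom z) =
      (map n g).appTop.hom z := by
    intro z
    rw [← he1, Scheme.Hom.comp_appTop]
    rfl
  rw [hj, hj]
  -- reduce to the affine piece
  obtain ⟨r, hr⟩ := mem_range_of_isUnit_affine n R ((map n g).appTop.hom w) (hw.map _)
  have h1 : (map n g).appTop.hom ((𝔸(n; X) ↘ X).appTop.hom ((zeroSec n X).appTop.hom w)) =
      (𝔸(n; Spec R) ↘ Spec R).appTop.hom ((zeroSec n (Spec R)).appTop.hom
        ((map n g).appTop.hom w)) := by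
    have h2 : map n g ≫ (𝔸(n; X) ↘ X) ≫ zeroSec n X =
        (𝔸(n; Spec R) ↘ Spec R) ≫ zeroSec n (Spec R) ≫ map n g := by
      rw [zeroSec_map, map_over_assoc]
    have h3 := congr($(h2).appTop.hom w)
    simpa only [Scheme.Hom.comp_appTop, CommRingCat.hom_comp, RingHom.coe_comp,
      Function.comp_apply] using h3
  rw [h1, ← hr]
  congr 1
  have h4 : zeroSec n (Spec R) ≫ (𝔸(n; Spec R) ↘ Spec R) = 𝟙 _ := zeroSec_over n _
  have h5 := congr($(h4).appTop.hom r)
  simpa only [Scheme.Hom.comp_appTop, CommRingCat.hom_comp, RingHom.coe_comp,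
    Function.comp_apply, Scheme.Hom.id_appTop, CommRingCat.hom_id, RingHom.id_apply] using h5

end Groth.Agent.Helper7.ASUnit
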