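import Mathlib
import Groth.Agent.Lib.Helper7.AWN3

/-! helper7: p-root closed subrings, and the criterion for universal homeomorphisms which are
isomorphisms away from a prime. -/

namespace Groth.Agent.Helper7.PRoot
open AlgebraicGeometry CategoryTheory
open Groth.Agent.Helper7.FPColim
universe u

section lemmaA
variable {R : Type u} [CommRing R] (p : ℕ) (hp : p.Prime) (hpR : (p : R) = 0) (C : Subring R)

include hp hpR in
/-- a `p`-root closed subring over which `R` is integral and radicial is everything -/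
theorem eq_top_of_pRootClosed
    (hint : C.subtype.IsIntegral)
    (hfield : ∀ (K : Type u) [Field K] (ψ ψ' : R →+* K), ψ.comp C.subtype = ψ'.comp C.subtype →
      ψ = ψ')
    (hroot : ∀ r : R, r ^ p ∈ C → r ∈ C) : C = ⊤ := by
  by_contra hne
  have hinj : Function.Injective C.subtype := Subtype.val_injective
  have hns : ¬ Function.Surjective C.subtype := by
    intro hs
    apply hne
    rw [eq_top_iff]
    intro r _
    obtain ⟨c, rfl⟩ := hs r
    exact c.2
  have hU : FlatMor.IsUnivHomeo (Spec.map (CommRingCat.ofHom C.subtype)) := by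
    rw [uh_iff_crit]
    refine ⟨⟨hint, hfield⟩, ?_⟩
    rw [(RingHom.injective_iff_ker_eq_bot _).mp hinj]
    exact bot_le
  have hrange : ∀ r : R, r ∈ C.subtype.range ↔ r ∈ C := by
    intro r
    constructor
    · rintro ⟨c, rfl⟩
      exact c.2
    · intro h
      exact ⟨⟨r, h⟩, rfl⟩
  have hpow : ∀ (r : R) (n : ℕ), 2 ≤ n → r ^ 2 ∈ C → r ^ 3 ∈ C → r ^ n ∈ C := by
    intro r n hn h2 h3
    induction n using Nat.strong_induction_on with
    | _ n ih =>
      rcases Nat.lt_or_ge n 4 with h4 | h4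
      · interval_cases n
        · exact h2
        · exact h3
      · have : r ^ n = r ^ (n - 2) * r ^ 2 := by
          rw [← pow_add]
          congr 1
          omega
        rw [this]
        exact C.mul_mem (ih (n - 2) (by omega) (by omega)) h2
  rcases Groth.Agent.Lib.Helper6.SubInt.main7399 C.subtype hinj hns hU with
    ⟨b, hb, hb2, hb3⟩ | ⟨l, b, hl, hb, hlb, hbl⟩
  · rw [hrange] at hb hb2 hb3
    exact hb (hroot b (hpow b p hp.two_le hb2 hb3))
  · rw [hrange] at hb hlb hbl
    by_cases hlp : l = p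
    · subst hlp
      exact hb (hroot b hbl)
    · have hcop : Nat.Coprime l p := (Nat.coprime_primes hl hp).mpr hlp
      obtain ⟨u, v, huv⟩ : ∃ u v : ℤ, u * l + v * p = 1 := by
        have := Nat.Coprime.isCoprime hcop
        obtain ⟨u, v, h⟩ := this
        exact ⟨u, v, by exact_mod_cast h⟩
      have : b = (u : R) * ((l : R) * b) := by
        have h1 : ((u * l + v * p : ℤ) : R) = 1 := by rw [huv]; simp
        push_cast at h1
        rw [hpR, mul_zero, add_zero] at h1
        rw [← mul_assoc, h1, one_mul]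
      apply hb
      rw [this]
      exact C.mul_mem (intCast_mem C u) hlb

end lemmaA

section lemmaB
variable {A B : Type u} [CommRing A] [CommRing B] (φ : A →+* B) (p : ℕ) (hp : p.Prime)

include hp in
/-- modulo `p`, every element has a `p`-power power in the image of a radicial integral map -/
theorem exists_pow_eq_add_mul (hφ : Crit φ) (b : B) :
    ∃ (n : ℕ) (a : A) (c : B), b ^ p ^ n = φ a + (p : B) * c := by
  let I : Ideal B := Ideal.span {(p : B)}
  let π : B →+* B ⧸ I := Ideal.Quotient.mk I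
  have hπ : Function.Surjective π := Ideal.Quotient.mk_surjective
  have hpR : (p : B ⧸ I) = 0 := by
    have : π (p : B) = 0 :=
      Ideal.Quotient.eq_zero_iff_mem.mpr (Ideal.subset_span (Set.mem_singleton _))
    simpa using this
  have hadd : ∀ (x y : B ⧸ I) (n : ℕ), (x + y) ^ p ^ n = x ^ p ^ n + y ^ p ^ n := by
    intro x y n
    rcases subsingleton_or_nontrivial (B ⧸ I) with hs | hn
    · exact Subsingleton.elim _ _
    · have : CharP (B ⧸ I) p := (CharP.charP_iff_prime_eq_zero hp).2 hpR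
      have : Fact p.Prime := ⟨hp⟩
      exact add_pow_char_pow x y p n
  let ρ : A →+* B ⧸ I := π.comp φ
  have hρpow : ∀ (a : A) (n : ℕ), (ρ a) ^ n = ρ (a ^ n) := fun a n => (map_pow ρ a n).symm
  let C : Subring (B ⧸ I) :=
    { carrier := {z | ∃ n : ℕ, z ^ p ^ n ∈ ρ.range}
      mul_mem' := by
        rintro x y ⟨n, a, ha⟩ ⟨m, a', ha'⟩
        refine ⟨n + m, a ^ p ^ m * a' ^ p ^ n, ?_⟩
        rw [map_mul, map_pow, map_pow, ha, ha', mul_pow, ← pow_mul, ← pow_mul, ← pow_add,
          ← pow_add, add_comm m n]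
      one_mem' := ⟨0, 1, by simp⟩
      add_mem' := by
        rintro x y ⟨n, a, ha⟩ ⟨m, a', ha'⟩
        refine ⟨n + m, a ^ p ^ m + a' ^ p ^ n, ?_⟩
        rw [hadd, map_add, map_pow, map_pow, ha, ha', ← pow_mul, ← pow_mul, ← pow_add,
          ← pow_add, add_comm m n]
      zero_mem' := ⟨0, 0, by simp⟩
      neg_mem' := by
        rintro x ⟨n, a, ha⟩
        refine ⟨n, (-1) ^ p ^ n * a, ?_⟩
        rw [map_mul, map_pow, map_neg, map_one, ha, ← mul_pow, neg_one_mul] }
  have hmemC : ∀ z, z ∈ C ↔ ∃ n : ℕ, z ^ p ^ n ∈ ρ.range := fun z => Iff.rfl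
  have hρC : ∀ a, ρ a ∈ C := fun a => ⟨0, a, by simp⟩
  let ρC : A →+* C := ρ.codRestrict C hρC
  have hcomp : C.subtype.comp ρC = ρ := rfl
  have hCtop : C = ⊤ := by
    apply eq_top_of_pRootClosed p hp hpR C
    · apply RingHom.IsIntegral.tower_top ρC C.subtype
      rw [hcomp]
      exact RingHom.IsIntegral.trans _ _ hφ.1 (RingHom.isIntegral_of_surjective π hπ)
    · intro K _ ψ ψ' h
      have h1 : (ψ.comp π).comp φ = (ψ'.comp π).comp φ := by
        ext a
        exact congrArg (fun f => f (ρC a)) h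
      have h2 := hφ.2 K _ _ h1
      apply RingHom.ext
      intro z
      obtain ⟨b', rfl⟩ := hπ z
      exact congrArg (fun f => f b') h2
    · rintro r ⟨n, a, ha⟩
      exact ⟨n + 1, a, by rw [ha, ← pow_mul, ← pow_succ']⟩
  have hb : π b ∈ C := by rw [hCtop]; trivial
  obtain ⟨n, a, ha⟩ := hb
  have h0 : π (b ^ p ^ n - φ a) = 0 := by
    rw [map_sub, map_pow, ← ha]
    exact sub_self _
  rw [Ideal.Quotient.eq_zero_iff_mem, Ideal.mem_span_singleton'] at h0
  obtain ⟨c, hc⟩ := h0
  exact ⟨n, a, c, by rw [mul_comm, hc]; ring⟩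

end lemmaB

section main
variable {A B : Type u} [CommRing A] [CommRing B] (φ : A →+* B) (p : ℕ) (hp : p.Prime)

include hp in
theorem crit_of_pow_mul
    (h : ∀ b : B, ∃ n : ℕ, (p ^ n : B) * b ∈ φ.range ∧ b ^ (p ^ n) ∈ φ.range) : Crit φ := by
  constructor
  · intro b
    obtain ⟨n, -, a, ha⟩ := h b
    apply isIntegralElem_of_pow φ b (p ^ n) (pow_pos hp.pos n)
    rw [← ha]
    exact φ.isIntegralElem_map
  · intro K _ ψ ψ' hψ
    ext b
    obtain ⟨n, ⟨a, ha⟩, ⟨a', ha'⟩⟩ := h b
    have e1 : ψ ((p ^ n : B) * b) = ψ' ((p ^ n : B) * b) := by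
      rw [← ha]; exact congrArg (fun f => f a) hψ
    have e2 : ψ (b ^ p ^ n) = ψ' (b ^ p ^ n) := by
      rw [← ha']; exact congrArg (fun f => f a') hψ
    by_cases hpK : (p : K) = 0
    · have : CharP K p := (CharP.charP_iff_prime_eq_zero hp).2 hpK
      have : Fact p.Prime := ⟨hp⟩
      rw [map_pow, map_pow] at e2
      exact iterateFrobenius_inj K p n e2
    · rw [map_mul, map_mul, map_pow, map_pow, map_natCast, map_natCast] at e1
      exact mul_left_cancel₀ (pow_ne_zero n hpK) e1

include hp in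
theorem pow_mem_of_crit (hφ : Crit φ)
    (hmul : ∀ b : B, ∃ n : ℕ, (p ^ n : B) * b ∈ φ.range) (b : B) :
    ∃ n : ℕ, b ^ p ^ n ∈ φ.range := by
  obtain ⟨n, a, c, hb⟩ := exists_pow_eq_add_mul φ p hp hφ b
  let _ : Algebra A B := φ.toAlgebra
  have hpmem : ∀ (k : ℕ) (x : B), x ∈ φ.range → (p ^ k : B) * x ∈ φ.range := by
    rintro k _ ⟨y, rfl⟩
    exact ⟨(p ^ k : A) * y, by simp⟩
  let D : Subalgebra A B := Algebra.adjoin A {c}
  have hcint : IsIntegral A c := hφ.1 c
  have hfg : D.toSubmodule.FG := hcint.fg_adjoin_singleton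
  obtain ⟨S, hS⟩ := hfg
  choose N hN using hmul
  have hD : ∀ d ∈ D, (p ^ (S.sup N) : B) * d ∈ φ.range := by
    intro d hd
    have hd' : d ∈ Submodule.span A (S : Set B) := by rw [hS]; exact hd
    clear hd
    induction hd' using Submodule.span_induction with
    | mem g hg =>
      have hle : N g ≤ S.sup N := Finset.le_sup hg
      obtain ⟨k, hk⟩ := Nat.exists_eq_add_of_le hle
      rw [hk, pow_add, mul_comm (p ^ N g : B), mul_assoc]
      exact hpmem k _ (hN g)
    | zero => rw [mul_zero]; exact φ.range.zero_mem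
    | add x y _ _ hx hy => rw [mul_add]; exact φ.range.add_mem hx hy
    | smul r x _ hx =>
      have : (p ^ (S.sup N) : B) * (r • x) = φ r * ((p ^ (S.sup N) : B) * x) := by
        rw [Algebra.smul_def]
        show _ * (φ r * x) = _
        ring
      rw [this]
      exact φ.range.mul_mem ⟨r, rfl⟩ hx
  let cD : D := ⟨c, Algebra.subset_adjoin (Set.mem_singleton c)⟩
  let aD : D := algebraMap A D a
  let xD : D := aD + (p : D) * cD
  have hdvd : (p : D) ∣ xD - aD := ⟨cD, by simp [xD]⟩
  obtain ⟨d, hd⟩ := dvd_sub_pow_of_dvd_sub hdvd (S.sup N)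
  have hd' := congrArg (fun z : D => (z : B)) hd
  simp only [xD, aD, cD] at hd'
  push_cast at hd'
  have hval : (algebraMap A B) a = φ a := rfl
  rw [hval] at hd'
  refine ⟨n + S.sup N, ?_⟩
  rw [pow_add, pow_mul, hb]
  have e : (φ a + (p : B) * c) ^ p ^ S.sup N =
      φ a ^ p ^ S.sup N + (p : B) * ((p ^ (S.sup N) : B) * (d : B)) := by
    rw [← sub_eq_iff_eq_add', hd', pow_succ]
    ring
  rw [e]
  apply φ.range.add_mem
  · exact ⟨a ^ p ^ S.sup N, by simp⟩
  · have := hpmem 1 _ (hD d d.2)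
    simpa using this

include hp in
theorem main0418 (h : Function.Bijective (Localization.awayMap φ (p : A))) :
    FlatMor.IsUnivHomeo (Spec.map (CommRingCat.ofHom φ)) ↔
      (∀ a ∈ RingHom.ker φ, IsNilpotent a) ∧
        ∀ b : B, ∃ n : ℕ, (p ^ n : B) * b ∈ φ.range ∧ b ^ (p ^ n) ∈ φ.range := by
  rw [uh_iff_crit]
  constructor
  · rintro ⟨hcrit, hker⟩
    refine ⟨fun a ha => hker ha, ?_⟩
    have hmul : ∀ b : B, ∃ n : ℕ, (p ^ n : B) * b ∈ φ.range := by
      intro b
      obtain ⟨a, m, ha⟩ := Localization.awayMap_surjective_iff.mp h.2 b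
      exact ⟨m, a, by rw [ha, map_natCast]⟩
    have hpmem : ∀ (k : ℕ) (x : B), x ∈ φ.range → (p ^ k : B) * x ∈ φ.range := by
      rintro k _ ⟨y, rfl⟩
      exact ⟨(p ^ k : A) * y, by simp⟩
    intro b
    obtain ⟨n₁, h₁⟩ := hmul b
    obtain ⟨n₂, h₂⟩ := pow_mem_of_crit φ p hp hcrit hmul b
    refine ⟨n₁ + n₂, ?_, ?_⟩
    · rw [add_comm, pow_add, mul_assoc]
      exact hpmem n₂ _ h₁
    · rw [add_comm, pow_add, pow_mul]
      exact φ.range.pow_mem h₂ _
  · rintro ⟨hker, hpow⟩
    exact ⟨crit_of_pow_mul φ p hp hpow, fun a ha => hker a ha⟩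

end main

end Groth.Agent.Helper7.PRoot
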