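import Mathlib
import Groth.Agent.Lib.Helper7.UHSch3
import Groth.Prelude.Def_W4c1perfhdescPerf

/-! helper7: universal homeomorphisms between perfect schemes are isomorphisms. -/

namespace Groth.Agent.Helper7.UHSch
open AlgebraicGeometry CategoryTheory MorphismProperty Limits
open Groth.Agent.Helper9.UH Groth.Agent.Helper7.AWN
universe u

section perf
variable (p : ℕ) [Fact p.Prime]

/-- an algebra structure over the prime field on a ring in which `p = 0` -/
@[reducible] noncomputable def zmodAlgebra (R : Type u) [CommRing R] (h : (p : R) = 0) : Algebra (ZMod p) R :=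
  ((Ideal.Quotient.lift (Ideal.span {(p : ℤ)}) (Int.castRingHom R) (by
    intro a ha
    obtain ⟨c, rfl⟩ := Ideal.mem_span_singleton.mp ha
    simp [h])).comp (Int.quotientSpanNatEquivZMod p).symm.toRingHom).toAlgebra

theorem isAWNRing_of_perfect (R : Type u) [CommRing R] (h : (p : R) = 0)
    (hb : Function.Bijective fun s : R => s ^ p) : HTop.IsAWNRing R := by
  let _ : Algebra (ZMod p) R := zmodAlgebra p R h
  exact (Groth.Agent.S8992.result p R).mpr ⟨hb⟩

theorem main14253 {X Y : Scheme.{u}} (f : X ⟶ Y)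
    (hX : PerfSch.IsPerfect p X) (hY : PerfSch.IsPerfect p Y) (hf : FlatMor.IsUnivHomeo f) :
    IsIso f := by
  apply isIso_of_forall_bijective f hf
  intro U
  have haff := isAffineHom_of_isUnivHomeo f hf
  have h1 : IsAffine (U.1 : Y.Opens).toScheme := U.2
  have h2 : IsAffine (f ⁻¹ᵁ U.1).toScheme := U.2.preimage f
  have hU := isUnivHomeo_specMap_appTop (f ∣_ U.1) (isUnivHomeo_morphismRestrict f hf U.1)
  have hR : HTop.IsAWNRing Γ((U.1 : Y.Opens).toScheme, ⊤) :=
    isAWNRing_of_perfect p _ (hY ((U.1 : Y.Opens).ι ''ᵁ ⊤)).1 (hY ((U.1 : Y.Opens).ι ''ᵁ ⊤)).2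
  have hS : HTop.IsAWNRing Γ((f ⁻¹ᵁ U.1).toScheme, ⊤) :=
    isAWNRing_of_perfect p _ (hX ((f ⁻¹ᵁ U.1).ι ''ᵁ ⊤)).1 (hX ((f ⁻¹ᵁ U.1).ι ''ᵁ ⊤)).2
  exact bijective_of_isAWNRing (f ∣_ U.1).appTop.hom hU hR hS

end perf

end Groth.Agent.Helper7.UHSch
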