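import Mathlib
import Groth.Prelude.Def_Frob
import Groth.Agent.Lib.Helper7.FrobUH
import Groth.Agent.S7421
import Groth.Agent.Lib.Helper7.UHSch4

/-! helper7: in characteristic `p` the absolute weak normalization is the perfection; perfections
are universal homeomorphisms. -/

namespace Groth.Agent.Helper7.PerfAWN
open AlgebraicGeometry CategoryTheory Limits
open Groth.Agent.Helper7.SchAWN Groth.Agent.Helper7.FrobUH
universe u

section general

theorem isReduced_of_isAWN (Y : Scheme.{u}) (h : HTop.IsAWN Y) : IsReduced Y := by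
  apply (Groth.Agent.S7421.result).2 Y
  intro y
  obtain ⟨U, hyU, hU⟩ := h y
  exact ⟨U, hyU, hU.1⟩

/-- universal homeomorphisms are monomorphisms with respect to reduced sources -/
theorem hom_ext_of_isUnivHomeo {Z Y X : Scheme.{u}} [IsReduced Z] (π : Y ⟶ X)
    (hπ : FlatMor.IsUnivHomeo π) (h₁ h₂ : Z ⟶ Y) (e : h₁ ≫ π = h₂ ≫ π) : h₁ = h₂ := by
  have haff := UHSch.isAffineHom_of_isUnivHomeo π hπ
  have hinj : UniversallyInjective π :=
    Groth.Agent.Helper9.UH.universallyInjective_of_isUnivHomeo π hπ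
  have hK := ((tfae_universallyInjective π).out 0 1).mp hinj
  refine ext_of_fromSpecResidueField_eq h₁ h₂ π Set.univ dense_univ ?_ e
  intro x _
  apply hK (Z.residueField x)
  show (Z.fromSpecResidueField x ≫ h₁) ≫ π = (Z.fromSpecResidueField x ≫ h₂) ≫ π
  rw [Category.assoc, Category.assoc, e]

/-- a morphism to `X` from an absolutely weakly normal scheme lifts to the absolute weak
normalization -/
theorem exists_lift_of_isAWN {X Y : Scheme.{u}} (g : Y ⟶ X) (hY : HTop.IsAWN Y) :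
    ∃ h : Y ⟶ awn X, h ≫ ν X = g := by
  have h1 : FlatMor.IsUnivHomeo (pullback.snd (ν X) g) :=
    MorphismProperty.pullback_snd _ _ (isUnivHomeo_ν X)
  obtain ⟨a, ha, -⟩ := (isAWNormalization_ν (X := Y)).2 _ _ h1
  have hiso : IsIso (ν Y) := isIso_of_isAWN (ν Y) (isUnivHomeo_ν Y) hY
  refine ⟨inv (ν Y) ≫ a ≫ pullback.fst (ν X) g, ?_⟩
  rw [Category.assoc, Category.assoc, pullback.condition, ← Category.assoc a, ha,
    IsIso.inv_hom_id_assoc]

end general

section perf
variable (p : ℕ) [Fact p.Prime]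

theorem isAWN_of_isPerfect (Y : Scheme.{u}) [FrobSch.IsCharP Y p] (hY : FrobSch.IsPerfect Y p) :
    HTop.IsAWN Y := by
  apply (SN.main7420 Y).2.mpr
  intro U
  have hiso : IsIso ((FrobSch.frob Y p).app U.1) := inferInstance
  have hb : Function.Bijective ((FrobSch.frob Y p).app U.1).hom :=
    ConcreteCategory.bijective_of_isIso _
  exact UHSch.isAWNRing_of_perfect p Γ(Y, U.1) (FrobSch.natCast_eq_zero_app Y p U.1) hb

theorem isPerfect_of_isAWN (Y : Scheme.{u}) [FrobSch.IsCharP Y p] (hY : HTop.IsAWN Y) :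
    FlatMor.IsUnivHomeo (FrobSch.frob Y p) → FrobSch.IsPerfect Y p := by
  intro h
  have := isReduced_of_isAWN Y hY
  exact isIso_of_isAWN _ h hY

theorem isPerfect_awn (X : Scheme.{u}) [FrobSch.IsCharP (awn X) p] :
    FrobSch.IsPerfect (awn X) p := by
  have hred : IsReduced (awn X) := inferInstance
  exact isIso_of_isAWN _ (isUnivHomeo_frob p (awn X)) (isAWN_awn X)

theorem isPerfection_ν (X : Scheme.{u}) [FrobSch.IsCharP (awn X) p] :
    FrobSch.IsPerfection (ν X) p := by
  refine ⟨isPerfect_awn p X, ?_⟩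
  intro Y _ hY
  have hawn := isAWN_of_isPerfect p Y hY
  have hred := isReduced_of_isAWN Y hawn
  constructor
  · intro g₁ g₂ e
    exact hom_ext_of_isUnivHomeo (ν X) (isUnivHomeo_ν X) g₁ g₂ e
  · intro g
    exact exists_lift_of_isAWN g hawn

/-- two perfections are isomorphic -/
theorem exists_iso_of_isPerfection {X P₁ P₂ : Scheme.{u}} [FrobSch.IsCharP P₁ p]
    [FrobSch.IsCharP P₂ p] (π₁ : P₁ ⟶ X) (π₂ : P₂ ⟶ X)
    (h₁ : FrobSch.IsPerfection π₁ p) (h₂ : FrobSch.IsPerfection π₂ p) :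
    ∃ e : P₁ ≅ P₂, e.hom ≫ π₂ = π₁ := by
  obtain ⟨a, ha⟩ := (h₂.2 P₁ h₁.1).2 π₁
  obtain ⟨b, hb⟩ := (h₁.2 P₂ h₂.1).2 π₂
  have ha' : a ≫ π₂ = π₁ := ha
  have hb' : b ≫ π₁ = π₂ := hb
  have e1 : a ≫ b = 𝟙 P₁ := by
    apply (h₁.2 P₁ h₁.1).1
    show (a ≫ b) ≫ π₁ = 𝟙 P₁ ≫ π₁
    rw [Category.assoc, hb', ha', Category.id_comp]
  have e2 : b ≫ a = 𝟙 P₂ := by
    apply (h₂.2 P₂ h₂.1).1
    show (b ≫ a) ≫ π₂ = 𝟙 P₂ ≫ π₂
    rw [Category.assoc, ha', hb', Category.id_comp]
  exact ⟨⟨a, b, e1, e2⟩, ha'⟩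

/-- a perfection is a universal homeomorphism -/
theorem isUnivHomeo_of_isPerfection {X XP : Scheme.{u}} [FrobSch.IsCharP X p]
    [FrobSch.IsCharP XP p]
    (πX : XP ⟶ X) (hX : FrobSch.IsPerfection πX p) : FlatMor.IsUnivHomeo πX := by
  have hc : FrobSch.IsCharP (awn X) p := FrobSch.IsCharP.of_hom (ν X) p
  obtain ⟨e, he⟩ := exists_iso_of_isPerfection p πX (ν X) hX (isPerfection_ν p X)
  rw [← he]
  exact UHSch.isUnivHomeo_comp _ _ (isUnivHomeo_of_isIso e.hom) (isUnivHomeo_ν X)

section square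
variable {X Y XP YP : Scheme.{u}}
    [FrobSch.IsCharP X p] [FrobSch.IsCharP Y p] [FrobSch.IsCharP XP p] [FrobSch.IsCharP YP p]
    (πX : XP ⟶ X) (πY : YP ⟶ Y) (hX : FrobSch.IsPerfection πX p) (hY : FrobSch.IsPerfection πY p)
    (f : X ⟶ Y) (fP : XP ⟶ YP) (w : fP ≫ πY = πX ≫ f)

include hX hY w

theorem main14918 : FlatMor.IsUnivHomeo f ↔ FlatMor.IsUnivHomeo fP := by
  have h1 := isUnivHomeo_of_isPerfection p πX hX
  have h2 := isUnivHomeo_of_isPerfection p πY hY
  constructor
  · intro hf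
    have : FlatMor.IsUnivHomeo (fP ≫ πY) := by
      rw [w]; exact UHSch.isUnivHomeo_comp _ _ h1 hf
    exact UHSch.isUnivHomeo_of_comp_right _ _ this h2
  · intro hf
    have : FlatMor.IsUnivHomeo (πX ≫ f) := by
      rw [← w]; exact UHSch.isUnivHomeo_comp _ _ hf h2
    exact UHSch.isUnivHomeo_of_comp_left _ _ this h1

theorem main14913 : QuasiCompact f ↔ QuasiCompact fP := by
  have h1 := isUnivHomeo_of_isPerfection p πX hX
  have h2 := isUnivHomeo_of_isPerfection p πY hY
  have a1 := UHSch.isAffineHom_of_isUnivHomeo _ h1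
  have a2 := UHSch.isAffineHom_of_isUnivHomeo _ h2
  have s1 := UHSch.surjective_of_isUnivHomeo _ h1
  constructor
  · intro hf
    have : QuasiCompact (fP ≫ πY) := by rw [w]; infer_instance
    exact QuasiCompact.of_comp fP πY
  · intro hf
    have hc : QuasiCompact (πX ≫ f) := by rw [← w]; infer_instance
    constructor
    intro U hU hUc
    have h3 := hc.isCompact_preimage U hU hUc
    have h4 : f ⁻¹' U = πX '' ((πX ≫ f) ⁻¹' U) := by
      ext x
      constructor
      · intro hx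
        obtain ⟨z, rfl⟩ := πX.surjective x
        exact ⟨z, hx, rfl⟩
      · rintro ⟨z, hz, rfl⟩
        exact hz
    rw [h4]
    exact h3.image πX.continuous

theorem main14917 : UniversallyClosed f ↔ UniversallyClosed fP := by
  have h1 := isUnivHomeo_of_isPerfection p πX hX
  have h2 := isUnivHomeo_of_isPerfection p πY hY
  have a1 := UHSch.isAffineHom_of_isUnivHomeo _ h1
  have a2 := UHSch.isAffineHom_of_isUnivHomeo _ h2
  have s1 := UHSch.surjective_of_isUnivHomeo _ h1
  have c1 := Groth.Agent.Helper9.UH.universallyClosed_of_isUnivHomeo _ h1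
  have c2 := Groth.Agent.Helper9.UH.universallyClosed_of_isUnivHomeo _ h2
  constructor
  · intro hf
    have : UniversallyClosed (fP ≫ πY) := by rw [w]; infer_instance
    exact UniversallyClosed.of_comp_of_isSeparated fP πY
  · intro hf
    have hc : UniversallyClosed (πX ≫ f) := by rw [← w]; infer_instance
    exact UniversallyClosed.of_comp_surjective πX f

end square

end perf

end Groth.Agent.Helper7.PerfAWN
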