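import Mathlib
import Groth.Agent.Lib.Helper7.PerfAWN

/-! helper7: separatedness and quasi-separatedness descend along universal homeomorphisms. -/

namespace Groth.Agent.Helper7.PerfAWN
open AlgebraicGeometry CategoryTheory Limits
open Groth.Agent.Helper7.SchAWN Groth.Agent.Helper7.FrobUH
universe u

instance : (FlatMor.IsUnivHomeo : MorphismProperty Scheme.{u}).IsStableUnderComposition :=
  ⟨fun f g hf hg => UHSch.isUnivHomeo_comp f g hf hg⟩

section descent
variable {X' X Y : Scheme.{u}}

lemma quasiCompact_of_comp_surjective (π : X' ⟶ X) [Surjective π] (h : X ⟶ Y)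
    [hc : QuasiCompact (π ≫ h)] : QuasiCompact h := by
  constructor
  intro U hU hUc
  have h3 := hc.isCompact_preimage U hU hUc
  have h4 : h ⁻¹' U = π '' ((π ≫ h) ⁻¹' U) := by
    ext x
    constructor
    · intro hx
      obtain ⟨z, rfl⟩ := π.surjective x
      exact ⟨z, hx, rfl⟩
    · rintro ⟨z, hz, rfl⟩
      exact hz
  rw [h4]
  exact h3.image π.continuous

/-- the induced map on fibre squares -/
noncomputable abbrev sqMap (π : X' ⟶ X) (f : X ⟶ Y) : pullback (π ≫ f) (π ≫ f) ⟶ pullback f f :=
  pullback.map (π ≫ f) (π ≫ f) f f π π (𝟙 Y) ((Category.comp_id _).trans rfl)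
    ((Category.comp_id _).trans rfl)

lemma isUnivHomeo_sqMap (π : X' ⟶ X) (hπ : FlatMor.IsUnivHomeo π) (f : X ⟶ Y) :
    FlatMor.IsUnivHomeo (sqMap π f) :=
  MorphismProperty.pullbackMap (P := FlatMor.IsUnivHomeo) hπ hπ rfl rfl

lemma diagonal_sqMap (π : X' ⟶ X) (f : X ⟶ Y) :
    pullback.diagonal (π ≫ f) ≫ sqMap π f = π ≫ pullback.diagonal f := by
  apply pullback.hom_ext
  · rw [Category.assoc, Category.assoc, pullback.lift_fst, pullback.diagonal_fst,
      Category.comp_id, pullback.diagonal_fst_assoc]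
  · rw [Category.assoc, Category.assoc, pullback.lift_snd, pullback.diagonal_snd,
      Category.comp_id, pullback.diagonal_snd_assoc]

theorem isSeparated_of_comp_isUnivHomeo (π : X' ⟶ X) (hπ : FlatMor.IsUnivHomeo π) (f : X ⟶ Y)
    [hs : IsSeparated (π ≫ f)] : IsSeparated f := by
  have hm := Groth.Agent.Helper9.UH.isHomeomorph_of_isUnivHomeo _ (isUnivHomeo_sqMap π hπ f)
  have hsurj := UHSch.surjective_of_isUnivHomeo π hπ
  have hcl : IsClosed (Set.range (pullback.diagonal (π ≫ f))) :=
    (pullback.diagonal (π ≫ f)).isClosedEmbedding.isClosed_range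
  have hr : Set.range (pullback.diagonal f) =
      (sqMap π f) '' Set.range (pullback.diagonal (π ≫ f)) := by
    have e1 : Set.range (pullback.diagonal f) = Set.range (π ≫ pullback.diagonal f) := by
      rw [Scheme.Hom.comp_base, TopCat.coe_comp, Set.range_comp,
        Set.range_eq_univ.mpr π.surjective, Set.image_univ]
    rw [e1, ← diagonal_sqMap, Scheme.Hom.comp_base, TopCat.coe_comp, Set.range_comp]
  constructor
  apply IsClosedImmersion.of_isPreimmersion
  rw [hr]
  exact hm.isClosedMap _ hcl

theorem quasiSeparated_of_comp_isUnivHomeo (π : X' ⟶ X) (hπ : FlatMor.IsUnivHomeo π) (f : X ⟶ Y)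
    [hs : QuasiSeparated (π ≫ f)] : QuasiSeparated f := by
  have hsurj := UHSch.surjective_of_isUnivHomeo π hπ
  have haff := UHSch.isAffineHom_of_isUnivHomeo _ (isUnivHomeo_sqMap π hπ f)
  have hqc : QuasiCompact (π ≫ pullback.diagonal f) := by
    rw [← diagonal_sqMap]
    infer_instance
  constructor
  exact quasiCompact_of_comp_surjective π (pullback.diagonal f)

end descent

section square
variable (p : ℕ) [Fact p.Prime] {X Y XP YP : Scheme.{u}}
    [FrobSch.IsCharP X p] [FrobSch.IsCharP Y p] [FrobSch.IsCharP XP p] [FrobSch.IsCharP YP p]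
    (πX : XP ⟶ X) (πY : YP ⟶ Y) (hX : FrobSch.IsPerfection πX p) (hY : FrobSch.IsPerfection πY p)
    (f : X ⟶ Y) (fP : XP ⟶ YP) (w : fP ≫ πY = πX ≫ f)

include hX hY w

theorem main14916 : IsSeparated f ↔ IsSeparated fP := by
  have h1 := isUnivHomeo_of_isPerfection p πX hX
  have h2 := isUnivHomeo_of_isPerfection p πY hY
  have a1 := UHSch.isAffineHom_of_isUnivHomeo _ h1
  have a2 := UHSch.isAffineHom_of_isUnivHomeo _ h2
  constructor
  · intro hf
    have : IsSeparated (fP ≫ πY) := by rw [w]; infer_instance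
    exact IsSeparated.of_comp fP πY
  · intro hf
    have : IsSeparated (πX ≫ f) := by rw [← w]; infer_instance
    exact isSeparated_of_comp_isUnivHomeo πX h1 f

theorem main14914 : QuasiSeparated f ↔ QuasiSeparated fP := by
  have h1 := isUnivHomeo_of_isPerfection p πX hX
  have h2 := isUnivHomeo_of_isPerfection p πY hY
  have a1 := UHSch.isAffineHom_of_isUnivHomeo _ h1
  have a2 := UHSch.isAffineHom_of_isUnivHomeo _ h2
  constructor
  · intro hf
    have : QuasiSeparated (fP ≫ πY) := by rw [w]; infer_instance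
    exact QuasiSeparated.of_comp fP πY
  · intro hf
    have : QuasiSeparated (πX ≫ f) := by rw [← w]; infer_instance
    exact quasiSeparated_of_comp_isUnivHomeo πX h1 f

end square

end Groth.Agent.Helper7.PerfAWN
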