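import Mathlib
import Groth.Agent.Lib.Helper7.PerfAWN2
import Groth.Agent.Lib.Helper7.UHSch5

/-! helper7: perfections commute with weakly etale base change. -/

namespace Groth.Agent.Helper7.PerfAWN
open AlgebraicGeometry CategoryTheory Limits
open Groth.Agent.Helper7.SchAWN Groth.Agent.Helper7.FrobUH
universe u

section
variable (p : ℕ) [Fact p.Prime]

/-- a scheme weakly etale over a perfect scheme is perfect -/
theorem isPerfect_of_weaklyEtale {Z W : Scheme.{u}} (g : Z ⟶ W) [WeaklyEtale g]
    [FrobSch.IsCharP W p] [FrobSch.IsCharP Z p] (hW : FrobSch.IsPerfect W p) :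
    FrobSch.IsPerfect Z p := by
  have hiso : IsIso (FrobSch.frob W p) := hW
  have h1 : IsIso (pullback.fst g (FrobSch.frob W p)) := inferInstance
  have h2 : WeaklyEtale (pullback.snd g (FrobSch.frob W p)) := inferInstance
  have h3 : WeaklyEtale (FrobSch.relFrob g p ≫ pullback.snd g (FrobSch.frob W p)) := by
    rw [FrobSch.relFrob_snd]; infer_instance
  have h4 : WeaklyEtale (FrobSch.relFrob g p) :=
    WeaklyEtale.of_comp (FrobSch.relFrob g p) (pullback.snd g (FrobSch.frob W p))
  have h5 : IsIso (FrobSch.relFrob g p) := UHSch.main0425 _ (isUnivHomeo_relFrob p g)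
  have h6 : FrobSch.relFrob g p ≫ pullback.fst g (FrobSch.frob W p) = FrobSch.frob Z p :=
    FrobSch.relFrob_fst g p
  show IsIso (FrobSch.frob Z p)
  rw [← h6]
  infer_instance

variable {X Y XP YP : Scheme.{u}}
    [FrobSch.IsCharP X p] [FrobSch.IsCharP Y p] [FrobSch.IsCharP XP p] [FrobSch.IsCharP YP p]
    (πX : XP ⟶ X) (πY : YP ⟶ Y) (hX : FrobSch.IsPerfection πX p) (hY : FrobSch.IsPerfection πY p)
    (f : X ⟶ Y) (fP : XP ⟶ YP) (w : fP ≫ πY = πX ≫ f)

omit [FrobSch.IsCharP X p] [FrobSch.IsCharP Y p] in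
include hY in
/-- the base change of a perfection is a perfection, when it is perfect -/
theorem isPerfection_pullback_snd [FrobSch.IsCharP (pullback πY f) p]
    (hZ : FrobSch.IsPerfect (pullback πY f) p) :
    FrobSch.IsPerfection (pullback.snd πY f) p := by
  refine ⟨hZ, ?_⟩
  intro T _ hT
  constructor
  · intro g₁ g₂ e
    have e' : g₁ ≫ pullback.snd πY f = g₂ ≫ pullback.snd πY f := e
    apply pullback.hom_ext
    · apply (hY.2 T hT).1
      show (g₁ ≫ pullback.fst πY f) ≫ πY = (g₂ ≫ pullback.fst πY f) ≫ πY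
      rw [Category.assoc, Category.assoc, pullback.condition, ← Category.assoc, e',
        Category.assoc]
    · exact e'
  · intro g
    obtain ⟨l, hl⟩ := (hY.2 T hT).2 (g ≫ f)
    have hl' : l ≫ πY = g ≫ f := hl
    exact ⟨pullback.lift l g hl', pullback.lift_snd _ _ _⟩

include hX hY w in
theorem isPullback_of_isPerfect [FrobSch.IsCharP (pullback πY f) p]
    (hZ : FrobSch.IsPerfect (pullback πY f) p) : IsPullback fP πX πY f := by
  have hP := isPerfection_pullback_snd p πY hY f hZ
  obtain ⟨e, he⟩ := exists_iso_of_isPerfection p πX (pullback.snd πY f) hX hP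
  have he2 : e.hom ≫ pullback.fst πY f = fP := by
    apply (hY.2 XP hX.1).1
    show (e.hom ≫ pullback.fst πY f) ≫ πY = fP ≫ πY
    rw [Category.assoc, pullback.condition, ← Category.assoc, he, w]
  exact IsPullback.of_iso_pullback ⟨w⟩ e he2 he

include hX hY w in
theorem main14922 [Etale f] : IsPullback fP πX πY f := by
  have hc : FrobSch.IsCharP (pullback πY f) p := FrobSch.IsCharP.of_hom (pullback.fst πY f) p
  have hZ : FrobSch.IsPerfect (pullback πY f) p :=
    isPerfect_of_weaklyEtale p (pullback.fst πY f) hY.1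
  exact isPullback_of_isPerfect p πX πY hX hY f fP w hZ

include hX hY w in
theorem main14920 [IsOpenImmersion f] : IsOpenImmersion fP := by
  have hpb := main14922 p πX πY hX hY f fP w
  exact MorphismProperty.of_isPullback (P := @IsOpenImmersion) hpb.flip inferInstance

end

end Groth.Agent.Helper7.PerfAWN
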