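import Mathlib
import Groth.Agent.Lib.Helper7.PerfAWN3
import Groth.Agent.Lib.Helper7.PRoot

/-! helper7: perfection preserves closed immersions and immersions. -/

namespace Groth.Agent.Helper7.PerfAWN
open AlgebraicGeometry CategoryTheory Limits
open Groth.Agent.Helper7.SchAWN Groth.Agent.Helper7.FrobUH Groth.Agent.Helper7.FPColim
universe u

section ring
variable (p : ℕ) (hp : p.Prime)

include hp in
/-- a universal homeomorphism of rings in characteristic `p` has the `p`-power property -/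
theorem exists_pow_mem_of_uh {A B : Type u} [CommRing A] [CommRing B] (φ : A →+* B)
    (h : FlatMor.IsUnivHomeo (Spec.map (CommRingCat.ofHom φ))) (hpB : (p : B) = 0) (b : B) :
    ∃ (n : ℕ) (a : A), b ^ p ^ n = φ a := by
  obtain ⟨n, a, c, hc⟩ := PRoot.exists_pow_eq_add_mul φ p hp ((uh_iff_crit φ).mp h).1 b
  exact ⟨n, a, by rw [hc, hpB, zero_mul, add_zero]⟩

lemma pow_pow_injective {R : Type u} [CommRing R] (h : Function.Injective fun s : R => s ^ p)
    (n : ℕ) : Function.Injective fun s : R => s ^ p ^ n := by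
  induction n with
  | zero => intro x y hxy; simpa using hxy
  | succ n ih =>
    intro x y hxy
    apply ih
    apply h
    show (x ^ p ^ n) ^ p = (y ^ p ^ n) ^ p
    rw [← pow_mul, ← pow_mul, ← pow_succ]
    exact hxy

lemma pow_pow_surjective {R : Type u} [CommRing R] (h : Function.Surjective fun s : R => s ^ p)
    (n : ℕ) : Function.Surjective fun s : R => s ^ p ^ n := by
  induction n with
  | zero => intro x; exact ⟨x, by simp⟩
  | succ n ih =>
    intro x
    obtain ⟨y, hy⟩ := h x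
    obtain ⟨z, hz⟩ := ih y
    refine ⟨z, ?_⟩
    show z ^ p ^ (n + 1) = x
    have hz' : z ^ p ^ n = y := hz
    have hy' : y ^ p = x := hy
    rw [pow_succ, pow_mul, hz', hy']

include hp in
/-- the ring-level heart of: perfection preserves closed immersions -/
theorem surjective_of_square {A B A' B'' B' : Type u} [CommRing A] [CommRing B] [CommRing A']
    [CommRing B''] [CommRing B']
    (φ : A →+* B) (α : A →+* A') (β : B →+* B'') (τ : B'' →+* B') (φ' : A' →+* B')
    (hcomm : φ'.comp α = τ.comp (β.comp φ))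
    (hφ : Function.Surjective φ) (hτ : Function.Surjective τ)
    (hβ : FlatMor.IsUnivHomeo (Spec.map (CommRingCat.ofHom β))) (hpB : (p : B'') = 0)
    (hA' : Function.Surjective fun s : A' => s ^ p)
    (hB' : Function.Injective fun s : B' => s ^ p) : Function.Surjective φ' := by
  intro b'
  obtain ⟨b'', rfl⟩ := hτ b'
  obtain ⟨n, b, hb⟩ := exists_pow_mem_of_uh p hp β hβ hpB b''
  obtain ⟨a, rfl⟩ := hφ b
  obtain ⟨a', ha'⟩ := pow_pow_surjective p hA' n (α a)
  have ha'' : a' ^ p ^ n = α a := ha'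
  refine ⟨a', ?_⟩
  apply pow_pow_injective p hB' n
  show φ' a' ^ p ^ n = τ b'' ^ p ^ n
  rw [← map_pow, ha'', ← map_pow, hb]
  exact congrArg (fun f => f a) hcomm

end ring

section scheme
variable (p : ℕ) [Fact p.Prime]

lemma bijective_pow_of_isPerfect (Y : Scheme.{u}) [FrobSch.IsCharP Y p]
    (hY : FrobSch.IsPerfect Y p) (V : Y.Opens) : Function.Bijective fun s : Γ(Y, V) => s ^ p := by
  have hiso : IsIso ((FrobSch.frob Y p).app V) := inferInstance
  exact ConcreteCategory.bijective_of_isIso ((FrobSch.frob Y p).app V)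

variable {X Y XP YP : Scheme.{u}}
    [FrobSch.IsCharP X p] [FrobSch.IsCharP Y p] [FrobSch.IsCharP XP p] [FrobSch.IsCharP YP p]
    (πX : XP ⟶ X) (πY : YP ⟶ Y) (hX : FrobSch.IsPerfection πX p) (hY : FrobSch.IsPerfection πY p)
    (f : X ⟶ Y) (fP : XP ⟶ YP) (w : fP ≫ πY = πX ≫ f)

omit [FrobSch.IsCharP Y p] in
include hX hY w in
lemma app_surjective_of_isClosedImmersion [IsClosedImmersion f] (U : Y.affineOpens) :
    Function.Surjective (fP.app (πY ⁻¹ᵁ U.1)) := by
  have hp : p.Prime := Fact.out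
  have h1 := isUnivHomeo_of_isPerfection p πX hX
  have a1 := UHSch.isAffineHom_of_isUnivHomeo _ h1
  have hU₁ : IsAffineOpen (f ⁻¹ᵁ U.1) := U.2.preimage f
  have hU₂ : IsAffineOpen (πX ⁻¹ᵁ (f ⁻¹ᵁ U.1)) := hU₁.preimage πX
  have hβ := isUnivHomeo_specMap_app πX h1 hU₁ hU₂
  have hcong := Scheme.Hom.congr_app w U.1
  have hφ : Function.Surjective (f.app U.1).hom := f.app_surjective U.1 U.2
  let τ := XP.presheaf.map (eqToHom (by rw [w] : (fP ≫ πY) ⁻¹ᵁ U.1 = (πX ≫ f) ⁻¹ᵁ U.1)).op
  have hτ : Function.Surjective τ.hom := (ConcreteCategory.bijective_of_isIso τ).2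
  have hcomm : (fP.app (πY ⁻¹ᵁ U.1)).hom.comp (πY.app U.1).hom =
      τ.hom.comp ((πX.app (f ⁻¹ᵁ U.1)).hom.comp (f.app U.1).hom) := by
    have := congrArg CommRingCat.Hom.hom hcong
    exact this
  exact surjective_of_square p hp (f.app U.1).hom (πY.app U.1).hom (πX.app (f ⁻¹ᵁ U.1)).hom
    τ.hom (fP.app (πY ⁻¹ᵁ U.1)).hom hcomm hφ hτ hβ
    (FrobSch.natCast_eq_zero_app XP p _)
    (bijective_pow_of_isPerfect p YP hY.1 _).2 (bijective_pow_of_isPerfect p XP hX.1 _).1

include hX hY w in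
theorem main14919 [IsClosedImmersion f] : IsClosedImmersion fP := by
  have h1 := isUnivHomeo_of_isPerfection p πX hX
  have h2 := isUnivHomeo_of_isPerfection p πY hY
  have a1 := UHSch.isAffineHom_of_isUnivHomeo _ h1
  have a2 := UHSch.isAffineHom_of_isUnivHomeo _ h2
  have haff : IsAffineHom fP := by
    have : IsAffineHom (fP ≫ πY) := by rw [w]; infer_instance
    exact IsAffineHom.of_comp fP πY
  have hcover : ⨆ U : Y.affineOpens, πY ⁻¹ᵁ U.1 = ⊤ := by
    rw [← Scheme.Hom.preimage_iSup, iSup_affineOpens_eq_top, Scheme.Hom.preimage_top]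
  apply HasAffineProperty.of_iSup_eq_top (P := @IsClosedImmersion)
    (fun U : Y.affineOpens => (⟨πY ⁻¹ᵁ U.1, U.2.preimage πY⟩ : YP.affineOpens)) hcover
  intro U
  have hV : IsAffineOpen (πY ⁻¹ᵁ U.1) := U.2.preimage πY
  refine ⟨hV.preimage fP, ?_⟩
  have key : ∀ W : YP.Opens, W = πY ⁻¹ᵁ U.1 → Function.Surjective (fP.app W) := by
    intro W hW
    subst hW
    exact app_surjective_of_isClosedImmersion p πX πY hX hY f fP w U
  show Function.Surjective (fP ∣_ (πY ⁻¹ᵁ U.1)).appTop
  rw [morphismRestrict_appTop]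
  have h3 := key ((πY ⁻¹ᵁ U.1).ι ''ᵁ ⊤) (Scheme.Opens.ι_image_top _)
  have h4 : Function.Bijective (XP.presheaf.map
      (eqToHom (image_morphismRestrict_preimage fP (πY ⁻¹ᵁ U.1) ⊤)).op) :=
    ConcreteCategory.bijective_of_isIso _
  exact h4.2.comp h3

include hX hY w in
theorem main14921 [IsImmersion f] : IsImmersion fP := by
  let U : Y.Opens := f.coborderRange
  let j : U.toScheme ⟶ Y := U.ι
  let c : X ⟶ U.toScheme := f.liftCoborder
  have hcj : c ≫ j = f := f.liftCoborder_ι
  have hcU : FrobSch.IsCharP U.toScheme p := FrobSch.IsCharP.of_hom j p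
  have hcUP : FrobSch.IsCharP (pullback πY j) p := FrobSch.IsCharP.of_hom (pullback.fst πY j) p
  have hUP : FrobSch.IsPerfect (pullback πY j) p :=
    isPerfect_of_weaklyEtale p (pullback.fst πY j) hY.1
  have hπU : FrobSch.IsPerfection (pullback.snd πY j) p :=
    isPerfection_pullback_snd p πY hY j hUP
  obtain ⟨cP, hcP⟩ := (hπU.2 XP hX.1).2 (πX ≫ c)
  have hcP' : cP ≫ pullback.snd πY j = πX ≫ c := hcP
  have hci : IsClosedImmersion cP := main14919 p πX (pullback.snd πY j) hX hπU c cP hcP'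
  have hfac : cP ≫ pullback.fst πY j = fP := by
    apply (hY.2 XP hX.1).1
    show (cP ≫ pullback.fst πY j) ≫ πY = fP ≫ πY
    rw [Category.assoc, pullback.condition, ← Category.assoc, hcP', Category.assoc, hcj, w]
  rw [← hfac]
  infer_instance

end scheme

end Groth.Agent.Helper7.PerfAWN
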