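import Mathlib
import Groth.Agent.Lib.Helper7.FrobUH
import Groth.Agent.Lib.Helper7.UHSch5
import Groth.Agent.Lib.Helper7.AWN6

/-! helper7: etale algebras over perfect rings are perfect; perfect closures commute with etale base
change. -/

namespace Groth.Agent.Helper7.PerfEt
open AlgebraicGeometry CategoryTheory Limits TensorProduct
open Groth.Agent.Helper7.FrobUH Groth.Agent.Helper7.FPColim Groth.Agent.Helper7.AWN
universe u

section rad
variable (p : ℕ) [Fact p.Prime]

/-- an etale algebra over a perfect ring of characteristic `p` is perfect -/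
theorem bijective_pow_of_etale (A' C : Type u) [CommRing A'] [CommRing C] [Algebra A' C]
    [Algebra.Etale A' C] (hA' : (p : A') = 0)
    (hperf : Function.Bijective (fun a : A' => a ^ p)) :
    Function.Bijective (fun c : C => c ^ p) := by
  have hC : (p : C) = 0 := by
    have := congrArg (algebraMap A' C) hA'
    simpa using this
  have hφ : IsIso (Spec.map (CommRingCat.ofHom (FrobSch.powHom p A' hA'))) :=
    isIso_SpecMap_iff.mpr hperf
  have hs : Etale (Spec.map (CommRingCat.ofHom (algebraMap A' C))) :=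
    HasRingHomProperty.Spec_iff.mpr (RingHom.etale_algebraMap.mpr inferInstance)
  have hcomm : Spec.map (CommRingCat.ofHom (FrobSch.powHom p C hC)) ≫
      Spec.map (CommRingCat.ofHom (algebraMap A' C)) =
      Spec.map (CommRingCat.ofHom (algebraMap A' C)) ≫
      Spec.map (CommRingCat.ofHom (FrobSch.powHom p A' hA')) := by
    rw [← Spec.map_comp, ← Spec.map_comp]
    congr 1
    ext a
    show (algebraMap A' C a) ^ p = algebraMap A' C (a ^ p)
    rw [map_pow]
  have hwe : WeaklyEtale (Spec.map (CommRingCat.ofHom (FrobSch.powHom p C hC)) ≫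
      Spec.map (CommRingCat.ofHom (algebraMap A' C))) := by
    rw [hcomm]
    infer_instance
  have hF : WeaklyEtale (Spec.map (CommRingCat.ofHom (FrobSch.powHom p C hC))) :=
    WeaklyEtale.of_comp _ (Spec.map (CommRingCat.ofHom (algebraMap A' C)))
  have hiso := UHSch.main0425 _ (uh_powHom p C hC)
  exact isIso_SpecMap_iff.mp hiso


theorem uh_of_isPRadical {K L : Type u} [CommRing K] [CommRing L] (i : K →+* L)
    (hL : (p : L) = 0) (h : IsPRadical i p) :
    FlatMor.IsUnivHomeo (Spec.map (CommRingCat.ofHom i)) := by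
  have hp : p.Prime := Fact.out
  rw [uh_iff_crit]
  refine ⟨⟨?_, ?_⟩, ?_⟩
  · intro x
    obtain ⟨n, y, hy⟩ := h.pow_mem' x
    apply isIntegralElem_of_pow i x (p ^ n) (pow_pos hp.pos n)
    rw [← hy]
    exact i.isIntegralElem_map
  · intro F _ ψ₁ ψ₂ hψ
    have hF : (p : F) = 0 := by
      have := congrArg ψ₁ hL
      simpa using this
    have : CharP F p := (CharP.charP_iff_prime_eq_zero hp).2 hF
    ext x
    obtain ⟨n, y, hy⟩ := h.pow_mem' x
    have e : (ψ₁ x) ^ p ^ n = (ψ₂ x) ^ p ^ n := by
      rw [← map_pow, ← map_pow, ← hy]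
      exact congrArg (fun f => f y) hψ
    have e2 : (ψ₁ x - ψ₂ x) ^ p ^ n = 0 := by
      rw [sub_pow_char_pow, e, sub_self]
    exact sub_eq_zero.mp (pow_eq_zero_iff (pow_pos hp.pos n).ne' |>.mp e2)
  · exact h.ker_le'.trans pNilradical_le_nilradical


theorem main14257
    (A B A' B' : Type u) [CommRing A] [CommRing B] [CommRing A'] [CommRing B']
    [CharP A p] [CharP B p] [CharP A' p] [CharP B' p] [PerfectRing A' p] [PerfectRing B' p]
    [Algebra A B] [Algebra.Etale A B] [Algebra A A'] [Algebra B B'] [Algebra A B']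
    [IsScalarTower A B B']
    [IsPerfectClosure (algebraMap A A') p] [IsPerfectClosure (algebraMap B B') p]
    (φ' : A' →ₐ[A] B') :
    Function.Bijective (Algebra.TensorProduct.lift φ' (IsScalarTower.toAlgHom A B B')
      (fun a b => Commute.all (φ' a) (IsScalarTower.toAlgHom A B B' b))) := by
  have hp : p.Prime := Fact.out
  have hA' : (p : A') = 0 := CharP.cast_eq_zero A' p
  have hperfA' : Function.Bijective (fun a : A' => a ^ p) := PerfectRing.bijective_frobenius
  have huhA : FlatMor.IsUnivHomeo (Spec.map (CommRingCat.ofHom (algebraMap A A'))) :=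
    uh_of_isPRadical p (algebraMap A A') hA' inferInstance
  have huhB := uh_baseChange A B A' huhA
  have hkerB : RingHom.ker (algebraMap B (B ⊗[A] A')) ≤ nilradical B :=
    ((uh_iff_crit _).mp huhB).2
  have hker : RingHom.ker (Algebra.TensorProduct.includeRight : B →ₐ[A] A' ⊗[A] B).toRingHom ≤
      nilradical B := by
    intro b hb
    apply hkerB
    rw [RingHom.mem_ker] at hb ⊢
    have h1 : (Algebra.TensorProduct.comm A A' B) ((1 : A') ⊗ₜ[A] b) = b ⊗ₜ[A] (1 : A') := rfl
    have h2 : (1 : A') ⊗ₜ[A] b = 0 := hb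
    rw [Algebra.TensorProduct.algebraMap_apply, Algebra.algebraMap_self, RingHom.id_apply,
      ← h1, h2, map_zero]
  have hntB : Nontrivial B := CharP.nontrivial_of_char_ne_one (R := B) hp.ne_one
  have hntC : Nontrivial (A' ⊗[A] B) := by
    by_contra hcon
    rw [not_nontrivial_iff_subsingleton] at hcon
    have h1 : (1 : B) ∈ RingHom.ker
        (Algebra.TensorProduct.includeRight : B →ₐ[A] A' ⊗[A] B).toRingHom := by
      rw [RingHom.mem_ker]
      exact Subsingleton.elim _ _
    have h2 : IsNilpotent (1 : B) := hker h1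
    exact not_isNilpotent_one h2
  have hpC : (p : A' ⊗[A] B) = 0 := by
    have e : ((p : ℕ) : A' ⊗[A] B) = algebraMap A' (A' ⊗[A] B) ((p : ℕ) : A') :=
      (map_natCast _ _).symm
    rw [e, hA', map_zero]
  have hcharC : CharP (A' ⊗[A] B) p := (CharP.charP_iff_prime_eq_zero hp).2 hpC
  have hperfC : PerfectRing (A' ⊗[A] B) p :=
    ⟨bijective_pow_of_etale p A' (A' ⊗[A] B) hA' hperfA'⟩
  have hradA : IsPRadical (algebraMap A A') p := inferInstance
  have hrad : IsPRadical (Algebra.TensorProduct.includeRight : B →ₐ[A] A' ⊗[A] B).toRingHom p := by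
    constructor
    · intro c
      induction c using TensorProduct.induction_on with
      | zero => exact ⟨0, 0, by simp⟩
      | tmul a' b =>
        obtain ⟨n, a, ha⟩ := hradA.pow_mem' a'
        refine ⟨n, a • b ^ p ^ n, ?_⟩
        show (1 : A') ⊗ₜ[A] (a • b ^ p ^ n) = (a' ⊗ₜ[A] b) ^ p ^ n
        rw [Algebra.TensorProduct.tmul_pow, ← ha, TensorProduct.tmul_smul,
          Algebra.algebraMap_eq_smul_one, ← TensorProduct.smul_tmul']
      | add c₁ c₂ h₁ h₂ =>
        obtain ⟨n₁, b₁, hb₁⟩ := h₁
        obtain ⟨n₂, b₂, hb₂⟩ := h₂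
        refine ⟨n₁ + n₂, b₁ ^ p ^ n₂ + b₂ ^ p ^ n₁, ?_⟩
        rw [add_pow_char_pow, map_add, map_pow, map_pow, hb₁, hb₂, ← pow_mul, ← pow_mul,
          ← pow_add, ← pow_add, add_comm n₂ n₁]
    · exact hker.trans (pNilradical_eq_nilradical hp.one_lt).ge
  have hμ : (Algebra.TensorProduct.lift φ' (IsScalarTower.toAlgHom A B B')
      (fun a b => Commute.all (φ' a) (IsScalarTower.toAlgHom A B B' b))).toRingHom =
      (IsPerfectClosure.equiv (Algebra.TensorProduct.includeRight : B →ₐ[A] A' ⊗[A] B).toRingHom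
        (algebraMap B B') p).toRingHom := by
    apply IsPRadical.injective_comp_of_perfect (M := B')
      (i := (Algebra.TensorProduct.includeRight : B →ₐ[A] A' ⊗[A] B).toRingHom) (p := p)
    ext b
    show (Algebra.TensorProduct.lift φ' (IsScalarTower.toAlgHom A B B')
      (fun a b => Commute.all (φ' a) (IsScalarTower.toAlgHom A B B' b))) ((1 : A') ⊗ₜ[A] b) =
      (IsPerfectClosure.equiv (Algebra.TensorProduct.includeRight : B →ₐ[A] A' ⊗[A] B).toRingHom
        (algebraMap B B') p)
        ((Algebra.TensorProduct.includeRight : B →ₐ[A] A' ⊗[A] B).toRingHom b)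
    rw [IsPerfectClosure.equiv_comp_apply, Algebra.TensorProduct.lift_tmul, map_one, one_mul]
    rfl
  have hfun : ⇑(Algebra.TensorProduct.lift φ' (IsScalarTower.toAlgHom A B B')
      (fun a b => Commute.all (φ' a) (IsScalarTower.toAlgHom A B B' b))) =
      ⇑(IsPerfectClosure.equiv (Algebra.TensorProduct.includeRight : B →ₐ[A] A' ⊗[A] B).toRingHom
        (algebraMap B B') p) := by
    funext c
    exact congrArg (fun f => f c) hμ
  rw [hfun]
  exact (IsPerfectClosure.equiv _ _ p).bijective

end rad
end Groth.Agent.Helper7.PerfEt
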