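import Mathlib
import Groth.Prelude.Def_AnPts

open AlgebraicGeometry CategoryTheory TopologicalSpace Opposite An

/-! helper7: complex points of schemes over the complex numbers: evaluation maps, restriction, open immersions induce open embeddings. -/

namespace Groth.Agent.Helper7.AnPts

variable {X : Scheme.{0}} [X.Over SC]

/-- Evaluation at a point as a ring homomorphism. -/
noncomputable def evHom (x : Pts X) (U : X.Opens) (h : x.pt ∈ U) : Γ(X, U) →+* ℂ :=
  ((Scheme.ΓSpecIso (CommRingCat.of ℂ)).hom.hom).comp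
    (x.1.appLE U ⊤ (Pts.top_le_preimage x h)).hom

theorem ev_eq (x : Pts X) (U : X.Opens) (h : x.pt ∈ U) (f : Γ(X, U)) :
    x.ev U h f = evHom x U h f := rfl

theorem ev_res (x : Pts X) {U W : X.Opens} (hWU : W ≤ U) (h : x.pt ∈ W) (f : Γ(X, U)) :
    x.ev W h (X.presheaf.map (homOfLE hWU).op f) = x.ev U (hWU h) f := by
  unfold Pts.ev
  congr 1
  have := x.1.map_appLE (Pts.top_le_preimage x h) (homOfLE hWU).op
  exact congr($this f)

theorem basicSet_res {U W : X.Opens} (hWU : W ≤ U) (f : Γ(X, U)) (V : Set ℂ) :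
    Pts.basicSet W (X.presheaf.map (homOfLE hWU).op f) V =
      Pts.basicSet U f V ∩ Pts.pt ⁻¹' (W : Set X) := by
  ext x
  constructor
  · rintro ⟨h, hv⟩
    rw [ev_res x hWU h f] at hv
    exact ⟨⟨hWU h, hv⟩, h⟩
  · rintro ⟨⟨h, hv⟩, hW⟩
    refine ⟨hW, ?_⟩
    rw [ev_res x hWU hW f]
    exact hv

theorem basicSet_subset_preimage (U : X.Opens) (f : Γ(X, U)) (V : Set ℂ) :
    Pts.basicSet U f V ⊆ Pts.pt ⁻¹' (U : Set X) := fun _ hx => hx.1

variable {Y : Scheme.{0}} [Y.Over SC]

theorem map_injective_of_mono (j : X ⟶ Y) [j.IsOver SC] [Mono j] :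
    Function.Injective (Pts.map j) := by
  intro x y h
  apply Subtype.ext
  have := congr($(h).1)
  simp only [Pts.map_val] at this
  exact (cancel_mono j).mp this

theorem range_val (y : Pts Y) : Set.range y.1 = {y.pt} := by
  ext p
  constructor
  · rintro ⟨q, rfl⟩
    rw [eq_cpt q]
    rfl
  · rintro rfl
    exact ⟨cpt, rfl⟩

theorem range_map_of_isOpenImmersion (j : X ⟶ Y) [j.IsOver SC] [IsOpenImmersion j] :
    Set.range (Pts.map j) = Pts.pt ⁻¹' (Set.range j) := by
  ext y
  constructor
  · rintro ⟨x, rfl⟩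
    rw [Set.mem_preimage, Pts.pt_map]
    exact ⟨_, rfl⟩
  · intro hy
    have hr : Set.range y.1 ⊆ Set.range j := by
      rw [range_val]
      exact Set.singleton_subset_iff.mpr hy
    refine ⟨⟨IsOpenImmersion.lift j y.1 hr, ?_⟩, ?_⟩
    · rw [← comp_over j, ← Category.assoc, IsOpenImmersion.lift_fac]
      exact y.2
    · apply Subtype.ext
      exact IsOpenImmersion.lift_fac _ _ _

set_option backward.isDefEq.respectTransparency false in
theorem isInducing_map_of_isOpenImmersion (j : X ⟶ Y) [j.IsOver SC] [IsOpenImmersion j] :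
    Topology.IsInducing (Pts.map j) := by
  constructor
  apply le_antisymm
  · exact (Pts.continuous_map j).le_induced
  · apply le_generateFrom
    rintro _ ⟨W, f, V, hV, rfl⟩
    refine ⟨Pts.basicSet (j ''ᵁ W) ((j.appIso W).inv f) V, Pts.isOpen_basicSet _ _ hV, ?_⟩
    rw [Pts.preimage_basicSet]
    have e : j ⁻¹ᵁ (j ''ᵁ W) = W := j.preimage_image_eq W
    have h1 := basicSet_res (le_of_eq e.symm) (j.app (j ''ᵁ W) ((j.appIso W).inv f)) V
    have h2 : X.presheaf.map (homOfLE (le_of_eq e.symm)).op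
        (j.app (j ''ᵁ W) ((j.appIso W).inv f)) = f := by
      have h3 : (j.appIso W).hom ((j.appIso W).inv f) = f := by
        rw [← CommRingCat.comp_apply, Iso.inv_hom_id, CommRingCat.id_apply]
      rw [Scheme.Hom.appIso_hom, CommRingCat.comp_apply] at h3
      exact h3
    rw [h2] at h1
    rw [h1]
    refine (Set.inter_eq_left.mpr ?_).symm
    intro x hx
    have := hx.1
    rw [e] at this
    exact this

theorem isOpenEmbedding_map_of_isOpenImmersion (j : X ⟶ Y) [j.IsOver SC] [IsOpenImmersion j] :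
    Topology.IsOpenEmbedding (Pts.map j) := by
  refine ⟨⟨isInducing_map_of_isOpenImmersion j, map_injective_of_mono j⟩, ?_⟩
  rw [range_map_of_isOpenImmersion]
  exact j.isOpenEmbedding.isOpen_range.preimage Pts.continuous_pt

end Groth.Agent.Helper7.AnPts
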