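import Mathlib
import Groth.Prelude.Def_AnPts
import Groth.Agent.Lib.Helper7.AnPts1

open AlgebraicGeometry CategoryTheory TopologicalSpace Opposite An
open scoped Topology

/-! helper7: complex points of affine schemes: the topology is induced by evaluation of global sections; points correspond to ring homomorphisms. -/

namespace Groth.Agent.Helper7.AnPts

variable {X : Scheme.{0}} [X.Over SC]

set_option backward.isDefEq.respectTransparency false in
theorem cpt_mem_basicOpen_iff (s : Γ(SC, ⊤)) :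
    cpt ∈ SC.basicOpen s ↔ (Scheme.ΓSpecIso (CommRingCat.of ℂ)).hom s ≠ 0 := by
  have hs : s = (Scheme.ΓSpecIso (CommRingCat.of ℂ)).inv
      ((Scheme.ΓSpecIso (CommRingCat.of ℂ)).hom s) := by
    rw [← CommRingCat.comp_apply, Iso.hom_inv_id, CommRingCat.id_apply]
  rw [hs, basicOpen_eq_of_affine, ← hs]
  change (Scheme.ΓSpecIso (CommRingCat.of ℂ)).hom s ∉ (cpt : PrimeSpectrum ℂ).asIdeal ↔ _
  have : (cpt : PrimeSpectrum ℂ).asIdeal = ⊥ := by
    unfold cpt
    rfl
  rw [this, Ideal.mem_bot]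

theorem mem_basicOpen_iff (x : Pts X) (g : Γ(X, ⊤)) :
    x.pt ∈ X.basicOpen g ↔ x.evTop g ≠ 0 := by
  have h1 := Scheme.basicOpen_appLE x.1 (⊤ : SC.Opens) (⊤ : X.Opens)
    (Pts.top_le_preimage x (Opens.mem_top _)) g
  have h2 := cpt_mem_basicOpen_iff (x.1.appLE ⊤ ⊤ (Pts.top_le_preimage x (Opens.mem_top _)) g)
  rw [h1] at h2
  refine Iff.trans ?_ h2
  constructor
  · intro h
    exact ⟨trivial, h⟩
  · intro h
    exact h.2

theorem isOpen_divSet (n : ℕ) {V : Set ℂ} (hV : IsOpen V) :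
    IsOpen {p : ℂ × ℂ | p.2 ≠ 0 ∧ p.1 / p.2 ^ n ∈ V} := by
  have hc : ContinuousOn (fun p : ℂ × ℂ => p.1 / p.2 ^ n) {p : ℂ × ℂ | p.2 ≠ 0} :=
    ContinuousOn.div continuousOn_fst (continuousOn_snd.pow n) (fun p hp => pow_ne_zero n hp)
  have ho : IsOpen {p : ℂ × ℂ | p.2 ≠ 0} := isOpen_ne_fun continuous_snd continuous_const
  exact hc.isOpen_inter_preimage ho hV

set_option backward.isDefEq.respectTransparency false in
theorem isOpen_basicSet_of_continuous_evTop [IsAffine X] (T : TopologicalSpace (Pts X))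
    (hT : ∀ g : Γ(X, ⊤), @Continuous _ _ T _ (fun x : Pts X => x.evTop g))
    (U : X.Opens) (f : Γ(X, U)) {V : Set ℂ} (hV : IsOpen V) :
    IsOpen[T] (Pts.basicSet U f V) := by
  refine (@isOpen_iff_forall_mem_open (Pts X) T (Pts.basicSet U f V)).mpr ?_
  rintro x ⟨hxU, hxV⟩
  obtain ⟨g, hgU, hxg⟩ := (isAffineOpen_top X).exists_basicOpen_le ⟨x.pt, hxU⟩ (Opens.mem_top _)
  have hloc := (isAffineOpen_top X).isLocalization_basicOpen g
  obtain ⟨⟨a, ⟨_, n, rfl⟩⟩, h⟩ := IsLocalization.surj (Submonoid.powers g)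
    (X.presheaf.map (homOfLE hgU).op f)
  replace h : X.presheaf.map (homOfLE hgU).op f *
      X.presheaf.map (homOfLE (le_top : X.basicOpen g ≤ ⊤)).op (g ^ n) =
      X.presheaf.map (homOfLE (le_top : X.basicOpen g ≤ ⊤)).op a := h
  have key : ∀ y : Pts X, ∀ hy : y.pt ∈ X.basicOpen g,
      y.ev U (hgU hy) f * (y.evTop g) ^ n = y.evTop a := by
    intro y hy
    have h2 := congr(evHom y (X.basicOpen g) hy $h)
    rw [map_mul, ← ev_eq, ← ev_eq, ← ev_eq, ev_res y hgU hy f, ev_res y le_top hy,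
      ev_res y le_top hy] at h2
    have h3 : y.ev ⊤ (Opens.mem_top _) (g ^ n) = y.evTop g ^ n := by
      rw [ev_eq, map_pow]
      rfl
    rw [h3] at h2
    exact h2
  refine ⟨{y | (y.evTop a, y.evTop g) ∈ {p : ℂ × ℂ | p.2 ≠ 0 ∧ p.1 / p.2 ^ n ∈ V}}, ?_, ?_, ?_⟩
  · rintro y ⟨hy0, hyV⟩
    have hy : y.pt ∈ X.basicOpen g := (mem_basicOpen_iff y g).mpr hy0
    refine ⟨hgU hy, ?_⟩
    have := key y hy
    have e : y.ev U (hgU hy) f = y.evTop a / y.evTop g ^ n := by
      rw [← this, mul_div_assoc, div_self (pow_ne_zero n hy0), mul_one]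
    rw [e]
    exact hyV
  · exact (isOpen_divSet n hV).preimage ((hT a).prodMk (hT g))
  · have hx0 : x.evTop g ≠ 0 := (mem_basicOpen_iff x g).mp hxg
    refine ⟨hx0, ?_⟩
    have := key x hxg
    have e : x.ev U hxU f = x.evTop a / x.evTop g ^ n := by
      rw [← this, mul_div_assoc, div_self (pow_ne_zero n hx0), mul_one]
    show x.evTop a / x.evTop g ^ n ∈ V
    rw [← e]
    exact hxV

theorem continuous_evTop (g : Γ(X, ⊤)) : Continuous (fun x : Pts X => x.evTop g) := by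
  refine continuous_def.2 fun V hV => ?_
  have h := Pts.isOpen_basicSet (X := X) ⊤ g hV
  convert h using 1
  ext x
  constructor
  · intro hx
    exact ⟨Opens.mem_top _, hx⟩
  · rintro ⟨_, hx⟩
    exact hx

theorem isInducing_of_evTop_factor [IsAffine X] {Z : Type*} [TopologicalSpace Z]
    (F : Pts X → Z) (hF : Continuous F)
    (h : ∀ g : Γ(X, ⊤), ∃ c : Z → ℂ, Continuous c ∧ ∀ x : Pts X, x.evTop g = c (F x)) :
    Topology.IsInducing F := by
  constructor
  apply le_antisymm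
  · exact hF.le_induced
  · apply le_generateFrom
    rintro _ ⟨U, f, V, hV, rfl⟩
    refine isOpen_basicSet_of_continuous_evTop (TopologicalSpace.induced F inferInstance) ?_ U f hV
    intro g
    obtain ⟨c, hc, hcg⟩ := h g
    have : (fun x : Pts X => x.evTop g) = c ∘ F := funext hcg
    rw [this]
    exact @Continuous.comp _ _ _ (TopologicalSpace.induced F inferInstance) _ _ _ _ hc
      continuous_induced_dom

theorem appLE_top_top {Z W : Scheme.{0}} (f : Z ⟶ W) (e : (⊤ : Z.Opens) ≤ f ⁻¹ᵁ ⊤) :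
    f.appLE ⊤ ⊤ e = f.appTop := by
  rw [Scheme.Hom.appLE]
  have : Z.presheaf.map (homOfLE e).op = 𝟙 _ := Z.presheaf.map_id _
  erw [this]
  exact Category.comp_id _

/-- Evaluation of global sections at a point, as a ring homomorphism. -/
noncomputable def evTopHom (x : Pts X) : Γ(X, ⊤) →+* ℂ :=
  ((Scheme.ΓSpecIso (CommRingCat.of ℂ)).hom.hom).comp x.1.appTop.hom

theorem evTop_eq (x : Pts X) (g : Γ(X, ⊤)) : x.evTop g = evTopHom x g := by
  show (Scheme.ΓSpecIso (CommRingCat.of ℂ)).hom (x.1.appLE ⊤ ⊤ _ g) = _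
  rw [appLE_top_top]
  rfl

theorem evTopHom_strHom (x : Pts X) (c : ℂ) : evTopHom x (strHom X c) = c := by
  show (Scheme.ΓSpecIso (CommRingCat.of ℂ)).hom
    (x.1.appTop ((X ↘ SC).appTop ((Scheme.ΓSpecIso (CommRingCat.of ℂ)).inv c))) = c
  have h1 : (X ↘ SC).appTop ≫ x.1.appTop = 𝟙 _ := by
    rw [← Scheme.Hom.comp_appTop, x.2]
    rfl
  have h2 := congr($h1 ((Scheme.ΓSpecIso (CommRingCat.of ℂ)).inv c))
  rw [CommRingCat.comp_apply] at h2
  rw [h2, CommRingCat.id_apply, ← CommRingCat.comp_apply, Iso.inv_hom_id, CommRingCat.id_apply]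

theorem evTopHom_comp_strHom (x : Pts X) : (evTopHom x).comp (strHom X) = RingHom.id ℂ :=
  RingHom.ext (evTopHom_strHom x)

theorem evTopHom_injective [IsAffine X] : Function.Injective (evTopHom (X := X)) := by
  intro x y h
  apply Subtype.ext
  apply ext_of_isAffine
  ext g
  have h1 := congr($h g)
  have h2 : (Scheme.ΓSpecIso (CommRingCat.of ℂ)).hom (x.1.appTop g) =
      (Scheme.ΓSpecIso (CommRingCat.of ℂ)).hom (y.1.appTop g) := h1
  exact (Scheme.ΓSpecIso (CommRingCat.of ℂ)).commRingCatIsoToRingEquiv.injective h2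

set_option backward.isDefEq.respectTransparency false in
theorem isoSpec_inv_appTop (X : Scheme.{0}) [IsAffine X] :
    X.isoSpec.inv.appTop = (Scheme.ΓSpecIso Γ(X, ⊤)).inv := by
  have h1 : X.isoSpec.hom.appTop = (Scheme.ΓSpecIso Γ(X, ⊤)).hom := X.toSpecΓ_appTop
  have h2 : X.isoSpec.hom.appTop ≫ X.isoSpec.inv.appTop = 𝟙 _ := by
    rw [← Scheme.Hom.comp_appTop, Iso.inv_hom_id]
    rfl
  rw [h1] at h2
  rw [← cancel_epi (Scheme.ΓSpecIso Γ(X, ⊤)).hom, h2, Iso.hom_inv_id]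

set_option backward.isDefEq.respectTransparency false in
theorem exists_pt_of_ringHom [IsAffine X] (φ : Γ(X, ⊤) →+* ℂ)
    (hφ : φ.comp (strHom X) = RingHom.id ℂ) : ∃ x : Pts X, evTopHom x = φ := by
  have happ : (Spec.map (CommRingCat.ofHom φ) ≫ X.isoSpec.inv).appTop =
      CommRingCat.ofHom φ ≫ (Scheme.ΓSpecIso (CommRingCat.of ℂ)).inv := by
    rw [Scheme.Hom.comp_appTop, isoSpec_inv_appTop, Scheme.ΓSpecIso_inv_naturality]
    rfl
  have hφ' : (Scheme.ΓSpecIso (CommRingCat.of ℂ)).inv ≫ (X ↘ SC).appTop ≫ CommRingCat.ofHom φ =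
      𝟙 _ := by
    ext c
    exact congr($hφ c)
  refine ⟨⟨Spec.map (CommRingCat.ofHom φ) ≫ X.isoSpec.inv, ?_⟩, ?_⟩
  · apply ext_of_isAffine
    rw [Scheme.Hom.comp_appTop, happ]
    have : (X ↘ SC).appTop ≫ CommRingCat.ofHom φ ≫ (Scheme.ΓSpecIso (CommRingCat.of ℂ)).inv =
        (Scheme.ΓSpecIso (CommRingCat.of ℂ)).hom ≫
          ((Scheme.ΓSpecIso (CommRingCat.of ℂ)).inv ≫ (X ↘ SC).appTop ≫ CommRingCat.ofHom φ) ≫
            (Scheme.ΓSpecIso (CommRingCat.of ℂ)).inv := by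
      simp only [Category.assoc, Iso.hom_inv_id_assoc]
    rw [this, hφ', Category.id_comp, Iso.hom_inv_id]
    rfl
  · ext g
    show (Scheme.ΓSpecIso (CommRingCat.of ℂ)).hom
      ((Spec.map (CommRingCat.ofHom φ) ≫ X.isoSpec.inv).appTop g) = φ g
    rw [happ, CommRingCat.comp_apply, ← CommRingCat.comp_apply, Iso.inv_hom_id,
      CommRingCat.id_apply]
    rfl

end Groth.Agent.Helper7.AnPts
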