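import Mathlib
import Groth.Prelude.Def_AnPts
import Groth.Agent.Lib.Helper7.AnPts2

open AlgebraicGeometry CategoryTheory TopologicalSpace Opposite An
open scoped Topology

/-! helper7: complex points of an affine scheme of finite type embed as a closed subset of complex n-space; affine space. -/

namespace Groth.Agent.Helper7.AnPts

variable {X : Scheme.{0}} [X.Over SC]

theorem evTopHom_eval₂Hom {n : ℕ} (s : Fin n → Γ(X, ⊤)) (x : Pts X)
    (P : MvPolynomial (Fin n) ℂ) :
    evTopHom x (MvPolynomial.eval₂Hom (strHom X) s P) =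
      MvPolynomial.eval (fun i => x.evTop (s i)) P := by
  have h1 : (evTopHom x) (MvPolynomial.eval₂ (strHom X) s P) =
      MvPolynomial.eval₂ ((evTopHom x).comp (strHom X)) (fun i => evTopHom x (s i)) P :=
    MvPolynomial.eval₂_comp_left (evTopHom x) (strHom X) s P
  rw [evTopHom_comp_strHom] at h1
  rw [MvPolynomial.coe_eval₂Hom, h1]
  have h2 : (fun i => evTopHom x (s i)) = fun i => x.evTop (s i) :=
    funext fun i => (evTop_eq x (s i)).symm
  rw [h2]
  rfl

theorem range_evTop_eq (X : Scheme.{0}) [X.Over An.SC] [IsAffine X]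
    (n : ℕ) (s : Fin n → Γ(X, ⊤))
    (hs : Function.Surjective (MvPolynomial.eval₂Hom (An.strHom X) s)) :
    Set.range (fun (x : An.Pts X) (i : Fin n) => x.evTop (s i)) =
      ⋂ P ∈ RingHom.ker (MvPolynomial.eval₂Hom (An.strHom X) s),
        {v : Fin n → ℂ | MvPolynomial.eval v P = 0} := by
  ext v
  simp only [Set.mem_iInter, Set.mem_ofPred_eq]
  constructor
  · rintro ⟨x, rfl⟩ P hP
    rw [← evTopHom_eval₂Hom, (RingHom.mem_ker).mp hP, map_zero]
  · intro hv
    have hker : RingHom.ker (MvPolynomial.eval₂Hom (An.strHom X) s) ≤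
        RingHom.ker (MvPolynomial.eval v) := fun P hP => hv P hP
    let φ : Γ(X, ⊤) →+* ℂ :=
      (MvPolynomial.eval₂Hom (An.strHom X) s).liftOfSurjective hs ⟨MvPolynomial.eval v, hker⟩
    have hφ : ∀ P, φ (MvPolynomial.eval₂Hom (An.strHom X) s P) = MvPolynomial.eval v P :=
      fun P => RingHom.liftOfRightInverse_comp_apply _ _ _ _ P
    have hφ1 : φ.comp (strHom X) = RingHom.id ℂ := by
      ext c
      have := hφ (MvPolynomial.C c)
      simpa using this
    obtain ⟨x, hx⟩ := exists_pt_of_ringHom φ hφ1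
    refine ⟨x, ?_⟩
    funext i
    show x.evTop (s i) = v i
    rw [evTop_eq, hx]
    have := hφ (MvPolynomial.X i)
    simpa using this

theorem S4184_main (X : Scheme.{0}) [X.Over An.SC] [IsAffine X]
    (n : ℕ) (s : Fin n → Γ(X, ⊤))
    (hs : Function.Surjective (MvPolynomial.eval₂Hom (An.strHom X) s)) :
    Topology.IsClosedEmbedding (fun (x : An.Pts X) (i : Fin n) => x.evTop (s i)) := by
  have hF : Continuous (fun (x : An.Pts X) (i : Fin n) => x.evTop (s i)) :=
    continuous_pi fun i => continuous_evTop (s i)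
  have hind : Topology.IsInducing (fun (x : An.Pts X) (i : Fin n) => x.evTop (s i)) := by
    refine isInducing_of_evTop_factor _ hF ?_
    intro g
    obtain ⟨P, rfl⟩ := hs g
    refine ⟨fun v => MvPolynomial.eval v P, MvPolynomial.continuous_eval P, ?_⟩
    intro x
    rw [evTop_eq, evTopHom_eval₂Hom]
  have hinj : Function.Injective (fun (x : An.Pts X) (i : Fin n) => x.evTop (s i)) := by
    intro x y hxy
    apply evTopHom_injective
    ext g
    obtain ⟨P, rfl⟩ := hs g
    rw [evTopHom_eval₂Hom, evTopHom_eval₂Hom]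
    exact congr(MvPolynomial.eval $hxy P)
  refine ⟨⟨hind, hinj⟩, ?_⟩
  rw [range_evTop_eq X n s hs]
  refine isClosed_biInter fun P _ => ?_
  exact isClosed_eq (MvPolynomial.continuous_eval P) continuous_const

set_option backward.isDefEq.respectTransparency false in
theorem eval₂Hom_coord_bijective (n : ℕ) :
    Function.Bijective (MvPolynomial.eval₂Hom (An.strHom (𝔸(Fin n; An.SC)))
      (AffineSpace.coord An.SC)) := by
  have h := AffineSpace.SpecIso_hom_appTop (n := Fin n) (CommRingCat.of ℂ)
  have h2 : CommRingCat.ofHom (MvPolynomial.eval₂Hom (An.strHom (𝔸(Fin n; An.SC)))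
      (AffineSpace.coord An.SC)) =
      (Scheme.ΓSpecIso _).inv ≫ (AffineSpace.SpecIso (Fin n) (CommRingCat.of ℂ)).hom.appTop := by
    rw [h, Iso.inv_hom_id_assoc]
    rfl
  have h3 : IsIso (CommRingCat.ofHom (MvPolynomial.eval₂Hom (An.strHom (𝔸(Fin n; An.SC)))
      (AffineSpace.coord An.SC))) := by
    rw [h2]
    infer_instance
  exact ConcreteCategory.bijective_of_isIso (CommRingCat.ofHom (MvPolynomial.eval₂Hom
    (An.strHom (𝔸(Fin n; An.SC))) (AffineSpace.coord An.SC)))

theorem S4183_main (n : ℕ) :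
    IsHomeomorph (fun (x : An.Pts (𝔸(Fin n; An.SC))) (i : Fin n) =>
      x.evTop (AffineSpace.coord An.SC i)) := by
  have hb := eval₂Hom_coord_bijective n
  have hce := S4184_main (𝔸(Fin n; An.SC)) n (AffineSpace.coord An.SC) hb.2
  rw [isHomeomorph_iff_isEmbedding_surjective]
  refine ⟨hce.isEmbedding, ?_⟩
  rw [← Set.range_eq_univ, range_evTop_eq _ n _ hb.2]
  ext v
  simp only [Set.mem_iInter, Set.mem_ofPred_eq, Set.mem_univ, iff_true]
  intro P hP
  have : P = 0 := hb.1 ((RingHom.mem_ker.mp hP).trans (map_zero _).symm)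
  rw [this, map_zero]

end Groth.Agent.Helper7.AnPts
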