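import Mathlib
import Groth.Prelude.Def_AnPts
import Groth.Agent.Lib.Helper7.AnPts3

open AlgebraicGeometry CategoryTheory TopologicalSpace Opposite An
open scoped Topology

/-! helper7: closed immersions and immersions induce (closed) embeddings on complex points; local compactness. -/

namespace Groth.Agent.Helper7.AnPts

variable {X Y : Scheme.{0}} [X.Over SC] [Y.Over SC]

theorem evTopHom_map (f : X ⟶ Y) [f.IsOver SC] (x : Pts X) :
    evTopHom (Pts.map f x) = (evTopHom x).comp f.appTop.hom := by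
  ext b
  show (Scheme.ΓSpecIso (CommRingCat.of ℂ)).hom ((x.1 ≫ f).appTop b) =
    (Scheme.ΓSpecIso (CommRingCat.of ℂ)).hom (x.1.appTop (f.appTop b))
  rw [Scheme.Hom.comp_appTop]
  rfl

theorem evTop_map (f : X ⟶ Y) [f.IsOver SC] (x : Pts X) (b : Γ(Y, ⊤)) :
    (Pts.map f x).evTop b = x.evTop (f.appTop b) := by
  rw [evTop_eq, evTop_eq, evTopHom_map]
  rfl

theorem strHom_eq_comp (f : X ⟶ Y) [f.IsOver SC] :
    strHom X = f.appTop.hom.comp (strHom Y) := by
  unfold strHom
  rw [← comp_over f SC, Scheme.Hom.comp_appTop]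
  rfl

theorem isClosedEmbedding_map_of_isAffine (f : X ⟶ Y) [f.IsOver SC] [IsClosedImmersion f]
    [IsAffine Y] : Topology.IsClosedEmbedding (Pts.map f) := by
  obtain ⟨hX, hsurj⟩ := IsClosedImmersion.isAffine_surjective_of_isAffine f
  have hind : Topology.IsInducing (Pts.map f) := by
    refine isInducing_of_evTop_factor _ (Pts.continuous_map f) ?_
    intro g
    obtain ⟨b, rfl⟩ := hsurj g
    exact ⟨fun y => y.evTop b, continuous_evTop b, fun x => (evTop_map f x b).symm⟩
  refine ⟨⟨hind, map_injective_of_mono f⟩, ?_⟩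
  have hrange : Set.range (Pts.map f) =
      ⋂ b ∈ RingHom.ker f.appTop.hom, {y : Pts Y | y.evTop b = 0} := by
    ext y
    simp only [Set.mem_iInter, Set.mem_ofPred_eq]
    constructor
    · rintro ⟨x, rfl⟩ b hb
      rw [evTop_map]
      have : f.appTop b = 0 := hb
      rw [this, evTop_eq, map_zero]
    · intro hy
      have hker : RingHom.ker f.appTop.hom ≤ RingHom.ker (evTopHom y) := by
        intro b hb
        rw [RingHom.mem_ker, ← evTop_eq]
        exact hy b hb
      let φ : Γ(X, ⊤) →+* ℂ := f.appTop.hom.liftOfSurjective hsurj ⟨evTopHom y, hker⟩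
      have hφ : ∀ b, φ (f.appTop.hom b) = evTopHom y b :=
        fun b => RingHom.liftOfRightInverse_comp_apply _ _ _ _ b
      have hφ1 : φ.comp (strHom X) = RingHom.id ℂ := by
        ext c
        rw [strHom_eq_comp f]
        show φ (f.appTop.hom (strHom Y c)) = c
        rw [hφ, evTopHom_strHom]
      obtain ⟨x, hx⟩ := exists_pt_of_ringHom φ hφ1
      refine ⟨x, ?_⟩
      apply evTopHom_injective
      rw [evTopHom_map, hx]
      ext b
      exact hφ b
  rw [hrange]
  refine isClosed_biInter fun b _ => ?_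
  exact isClosed_eq (continuous_evTop b) continuous_const

/-- Transport of a restricted map along open embeddings identifying source and target pieces. -/
theorem restrictPreimage_eq_comp {A B A' B' : Type*} [TopologicalSpace A] [TopologicalSpace B]
    [TopologicalSpace A'] [TopologicalSpace B'] (g : A → B) (O : Set B) (a : A' → A) (b : B' → B)
    (g' : A' → B') (ha : Topology.IsOpenEmbedding a) (hb : Topology.IsOpenEmbedding b)
    (hra : Set.range a = g ⁻¹' O) (hrb : Set.range b = O) (hcomm : ∀ z, g (a z) = b (g' z)) :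
    ∃ (α : A' ≃ₜ (g ⁻¹' O)) (β : B' ≃ₜ O), O.restrictPreimage g = β ∘ g' ∘ α.symm := by
  let α : A' ≃ₜ (g ⁻¹' O) := ha.isEmbedding.toHomeomorph.trans (Homeomorph.setCongr hra)
  let β : B' ≃ₜ O := hb.isEmbedding.toHomeomorph.trans (Homeomorph.setCongr hrb)
  refine ⟨α, β, ?_⟩
  funext w
  obtain ⟨z, rfl⟩ := α.surjective w
  simp only [Function.comp_apply, Homeomorph.symm_apply_apply]
  apply Subtype.ext
  show g (a z) = b (g' z)
  exact hcomm z

theorem isClosedEmbedding_of_local {A B : Type*} [TopologicalSpace A] [TopologicalSpace B]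
    (g : A → B) (hg : Continuous g) {ι : Type*} (O : ι → Opens B) (hO : IsOpenCover O)
    (A' B' : ι → Type*) [∀ i, TopologicalSpace (A' i)] [∀ i, TopologicalSpace (B' i)]
    (a : ∀ i, A' i → A) (b : ∀ i, B' i → B) (g' : ∀ i, A' i → B' i)
    (ha : ∀ i, Topology.IsOpenEmbedding (a i)) (hb : ∀ i, Topology.IsOpenEmbedding (b i))
    (hra : ∀ i, Set.range (a i) = g ⁻¹' (O i : Set B)) (hrb : ∀ i, Set.range (b i) = (O i : Set B))
    (hcomm : ∀ i z, g (a i z) = b i (g' i z))
    (h : ∀ i, Topology.IsClosedEmbedding (g' i)) : Topology.IsClosedEmbedding g := by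
  rw [hO.isClosedEmbedding_iff_restrictPreimage hg]
  intro i
  obtain ⟨α, β, e⟩ := restrictPreimage_eq_comp g (O i : Set B) (a i) (b i) (g' i) (ha i) (hb i)
    (hra i) (hrb i) (hcomm i)
  show Topology.IsClosedEmbedding ((O i : Set B).restrictPreimage g)
  rw [e]
  exact β.isClosedEmbedding.comp ((h i).comp α.symm.isClosedEmbedding)

instance morphismRestrict_isOver (f : X ⟶ Y) [f.IsOver SC] (V : Y.Opens) :
    (f ∣_ V).IsOver SC :=
  ⟨by
    show (f ∣_ V) ≫ V.ι ≫ (Y ↘ SC) = (f ⁻¹ᵁ V).ι ≫ (X ↘ SC)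
    rw [← Category.assoc, morphismRestrict_ι, Category.assoc, comp_over]⟩

theorem range_map_ι (V : Y.Opens) :
    Set.range (Pts.map V.ι) = Pts.pt ⁻¹' (V : Set Y) := by
  rw [range_map_of_isOpenImmersion, Scheme.Opens.range_ι]

theorem isOpenCover_affineOpens_pts (Y : Scheme.{0}) [Y.Over SC] :
    IsOpenCover (fun V : Y.affineOpens =>
      (⟨Pts.pt ⁻¹' (V.1 : Set Y), Pts.isOpen_preimage_pt V.1⟩ : Opens (Pts Y))) := by
  rw [IsOpenCover, eq_top_iff]
  intro y _
  obtain ⟨_, ⟨V, hV, rfl⟩, hyV, -⟩ :=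
    Y.isBasis_affineOpens.exists_subset_of_mem_open (Set.mem_univ y.pt) isOpen_univ
  exact Opens.mem_iSup.mpr ⟨⟨V, hV⟩, hyV⟩

theorem S4200_main (X Y : Scheme.{0}) [X.Over An.SC] [Y.Over An.SC] (f : X ⟶ Y)
    [f.IsOver An.SC] [IsClosedImmersion f] :
    Topology.IsClosedEmbedding (An.Pts.map f) := by
  refine isClosedEmbedding_of_local (Pts.map f) (Pts.continuous_map f) _
    (isOpenCover_affineOpens_pts Y)
    (fun V : Y.affineOpens => Pts ((f ⁻¹ᵁ V.1 : X.Opens) : Scheme.{0}))
    (fun V : Y.affineOpens => Pts ((V.1 : Y.Opens) : Scheme.{0}))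
    (fun V => Pts.map (f ⁻¹ᵁ V.1).ι) (fun V => Pts.map V.1.ι) (fun V => Pts.map (f ∣_ V.1))
    (fun V => isOpenEmbedding_map_of_isOpenImmersion _)
    (fun V => isOpenEmbedding_map_of_isOpenImmersion _) ?_ ?_ ?_ ?_
  · intro V
    rw [range_map_ι]
    ext x
    simp only [Set.mem_preimage]
    rfl
  · intro V
    exact range_map_ι V.1
  · intro V z
    apply Subtype.ext
    simp only [Pts.map_val, Category.assoc, morphismRestrict_ι]
  · intro V
    have : IsAffine ((V.1 : Y.Opens) : Scheme.{0}) := V.2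
    exact isClosedEmbedding_map_of_isAffine (f ∣_ V.1)

instance liftCoborder_isOver (f : X ⟶ Y) [f.IsOver SC] [IsImmersion f] :
    f.liftCoborder.IsOver SC :=
  ⟨by
    show f.liftCoborder ≫ f.coborderRange.ι ≫ (Y ↘ SC) = X ↘ SC
    rw [← Category.assoc, Scheme.Hom.liftCoborder_ι, comp_over]⟩

theorem S4201_main (X Y : Scheme.{0}) [X.Over An.SC] [Y.Over An.SC] (f : X ⟶ Y)
    [f.IsOver An.SC] [IsImmersion f] :
    Topology.IsEmbedding (An.Pts.map f) ∧ IsLocallyClosed (Set.range (An.Pts.map f)) := by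
  have hfac : Pts.map f = Pts.map f.coborderRange.ι ∘ Pts.map f.liftCoborder := by
    funext x
    apply Subtype.ext
    simp only [Function.comp_apply, Pts.map_val, Category.assoc, Scheme.Hom.liftCoborder_ι]
  have h1 := S4200_main X _ f.liftCoborder
  have h2 := isOpenEmbedding_map_of_isOpenImmersion f.coborderRange.ι
  rw [hfac]
  refine ⟨h2.isEmbedding.comp h1.isEmbedding, ?_⟩
  rw [Set.range_comp]
  exact h1.isClosed_range.isLocallyClosed.image h2.isInducing h2.isOpen_range.isLocallyClosed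

theorem exists_generators_of_finiteType {A : Type} [CommRing A] (φ : ℂ →+* A)
    (hφ : φ.FiniteType) :
    ∃ (n : ℕ) (s : Fin n → A), Function.Surjective (MvPolynomial.eval₂Hom φ s) := by
  algebraize [φ]
  obtain ⟨n, f, hf⟩ := Algebra.FiniteType.iff_quotient_mvPolynomial''.mp
    (inferInstance : Algebra.FiniteType ℂ A)
  refine ⟨n, fun i => f (MvPolynomial.X i), ?_⟩
  have : (MvPolynomial.eval₂Hom φ fun i => f (MvPolynomial.X i)) = f.toRingHom := by
    apply MvPolynomial.ringHom_ext
    · intro c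
      simp only [MvPolynomial.eval₂Hom_C]
      exact (f.commutes c).symm
    · intro i
      simp
  rw [this]
  exact hf

theorem locallyCompactSpace_of_isAffine (X : Scheme.{0}) [X.Over An.SC] [IsAffine X]
    [LocallyOfFiniteType (X ↘ An.SC)] : LocallyCompactSpace (Pts X) := by
  have h1 : (X ↘ SC).appTop.hom.FiniteType :=
    (HasRingHomProperty.iff_of_isAffine (P := @LocallyOfFiniteType)).mp inferInstance
  have h2 : (strHom X).FiniteType := by
    unfold strHom
    refine h1.comp (RingHom.FiniteType.of_surjective _ ?_)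
    exact (Scheme.ΓSpecIso (CommRingCat.of ℂ)).symm.commRingCatIsoToRingEquiv.surjective
  obtain ⟨n, s, hs⟩ := exists_generators_of_finiteType (strHom X) h2
  exact (S4184_main X n s hs).locallyCompactSpace

theorem S4185_main (X : Scheme.{0}) [X.Over An.SC] [LocallyOfFiniteType (X ↘ An.SC)] :
    LocallyCompactSpace (An.Pts X) := by
  constructor
  intro x n hn
  obtain ⟨_, ⟨U, hU, rfl⟩, hxU, -⟩ :=
    X.isBasis_affineOpens.exists_subset_of_mem_open (Set.mem_univ x.pt) isOpen_univ
  replace hU : IsAffineOpen (U : X.Opens) := hU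
  have hb := isOpenEmbedding_map_of_isOpenImmersion (Scheme.Opens.ι U)
  have hx : x ∈ Set.range (Pts.map (Scheme.Opens.ι U)) := by
    rw [range_map_ι]
    exact hxU
  obtain ⟨z, rfl⟩ := hx
  have : IsAffine (Scheme.Opens.toScheme U) := hU
  have hlft : LocallyOfFiniteType (Scheme.Opens.toScheme U ↘ SC) := by
    show LocallyOfFiniteType (Scheme.Opens.ι U ≫ (X ↘ SC))
    infer_instance
  have hlc : LocallyCompactSpace (Pts (Scheme.Opens.toScheme U)) :=
    locallyCompactSpace_of_isAffine _
  obtain ⟨s', hs', hsub, hcomp⟩ := local_compact_nhds (hb.continuous.continuousAt.preimage_mem_nhds hn)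
  refine ⟨Pts.map (Scheme.Opens.ι U) '' s', (hb.image_mem_nhds).mpr hs', Set.image_subset_iff.mpr hsub,
    hcomp.image hb.continuous⟩

end Groth.Agent.Helper7.AnPts
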