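import Mathlib

/-! helper7: finitely presented pieces `C j` of an algebra, indexed by finite sets of generators and
relations. -/

namespace Groth.Agent.Helper7.FPColim
universe u
set_option linter.unusedSectionVars false

section pres
variable (A B : Type u) [CommRing A] [CommRing B] [Algebra A B]

/-- evaluation of polynomials in the elements of `B` -/
noncomputable def ev : MvPolynomial B A →ₐ[A] B := MvPolynomial.aeval id

/-- indexing data: finitely many generators and finitely many relations -/
abbrev Idx := Finset B × Finset (MvPolynomial B A)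

variable {A B}

/-- the relations are supported on the generators and hold in `B` -/
def Valid (j : Idx A B) : Prop :=
  ∀ f ∈ j.2, f ∈ MvPolynomial.supported A (↑j.1 : Set B) ∧ ev A B f = 0

/-- the polynomial ring on the generators -/
noncomputable abbrev S (j : Idx A B) : Subalgebra A (MvPolynomial B A) :=
  MvPolynomial.supported A (↑j.1 : Set B)

/-- the ideal of relations -/
noncomputable def I (j : Idx A B) : Ideal (S j) := Ideal.span {x | (x : MvPolynomial B A) ∈ j.2}

/-- the finitely presented algebra -/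
noncomputable abbrev C (j : Idx A B) : Type u := S j ⧸ I j

/-- classes of polynomials -/
noncomputable def mk (j : Idx A B) (f : MvPolynomial B A) (hf : f ∈ S j) : C j :=
  Ideal.Quotient.mk (I j) ⟨f, hf⟩

lemma mk_surjective (j : Idx A B) (c : C j) : ∃ f hf, mk j f hf = c := by
  obtain ⟨⟨f, hf⟩, rfl⟩ := Ideal.Quotient.mk_surjective c
  exact ⟨f, hf, rfl⟩

lemma mk_eq_zero_of_mem (j : Idx A B) (f : MvPolynomial B A) (hf : f ∈ S j) (h : f ∈ j.2) :
    mk j f hf = 0 :=
  Ideal.Quotient.eq_zero_iff_mem.mpr (Ideal.subset_span h)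

lemma mk_sub (j : Idx A B) (f g : MvPolynomial B A) (hf : f ∈ S j) (hg : g ∈ S j) :
    mk j (f - g) (sub_mem hf hg) = mk j f hf - mk j g hg := rfl

lemma mk_pow (j : Idx A B) (f : MvPolynomial B A) (hf : f ∈ S j) (n : ℕ) :
    mk j (f ^ n) (pow_mem hf n) = mk j f hf ^ n := rfl

lemma mk_mul (j : Idx A B) (f g : MvPolynomial B A) (hf : f ∈ S j) (hg : g ∈ S j) :
    mk j (f * g) (mul_mem hf hg) = mk j f hf * mk j g hg := rfl

/-- the map to `B` -/
noncomputable def π (j : Idx A B) (hv : Valid j) : C j →ₐ[A] B :=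
  Ideal.Quotient.liftₐ (I j) ((ev A B).comp (S j).val) (by
    intro a ha
    have hle : I j ≤ RingHom.ker ((ev A B).comp (S j).val).toRingHom := by
      unfold I
      rw [Ideal.span_le]
      intro x hx
      exact (hv x.1 hx).2
    exact hle ha)

lemma π_mk (j : Idx A B) (hv : Valid j) (f : MvPolynomial B A) (hf : f ∈ S j) :
    π j hv (mk j f hf) = ev A B f := rfl

lemma S_mono {j j' : Idx A B} (h : j ≤ j') : S j ≤ S j' :=
  MvPolynomial.supported_mono (Finset.coe_subset.mpr h.1)

/-- transition maps -/
noncomputable def τ {j j' : Idx A B} (h : j ≤ j') : C j →ₐ[A] C j' :=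
  Ideal.quotientMapₐ (I j') (Subalgebra.inclusion (S_mono h)) (by
    unfold I
    rw [Ideal.span_le]
    intro x hx
    exact Ideal.subset_span (h.2 hx))

lemma τ_mk {j j' : Idx A B} (h : j ≤ j') (f : MvPolynomial B A) (hf : f ∈ S j) :
    τ h (mk j f hf) = mk j' f (S_mono h hf) := rfl

lemma π_τ {j j' : Idx A B} (h : j ≤ j') (hv : Valid j) (hv' : Valid j') (c : C j) :
    π j' hv' (τ h c) = π j hv c := by
  obtain ⟨f, hf, rfl⟩ := mk_surjective j c
  rfl

lemma X_mem (j : Idx A B) {b : B} (hb : b ∈ j.1) : (MvPolynomial.X b : MvPolynomial B A) ∈ S j :=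
  Algebra.subset_adjoin ⟨b, hb, rfl⟩

/-- generation by the classes of the variables -/
lemma closure_gen (j : Idx A B) :
    Subring.closure (Set.range (algebraMap A (C j)) ∪
      {c | ∃ (b : B) (hb : b ∈ j.1), c = mk j (MvPolynomial.X b) (X_mem j hb)}) = ⊤ := by
  rw [eq_top_iff]
  rintro c -
  obtain ⟨f, hf, rfl⟩ := mk_surjective j c
  have hf' : f ∈ Algebra.adjoin A ((MvPolynomial.X : B → MvPolynomial B A) '' (↑j.1 : Set B)) := hf
  induction hf' using Algebra.adjoin_induction with
  | mem x hx =>
    obtain ⟨b, hb, rfl⟩ := hx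
    exact Subring.subset_closure (Or.inr ⟨b, hb, rfl⟩)
  | algebraMap r =>
    exact Subring.subset_closure (Or.inl ⟨r, rfl⟩)
  | add x y hx hy h1 h2 =>
    exact Subring.add_mem _ (h1 hx) (h2 hy)
  | mul x y hx hy h1 h2 =>
    exact Subring.mul_mem _ (h1 hx) (h2 hy)

lemma finitePresentation (j : Idx A B) : Algebra.FinitePresentation A (C j) := by
  have h1 : Algebra.FinitePresentation A (S j) :=
    Algebra.FinitePresentation.equiv (MvPolynomial.supportedEquivMvPolynomial (↑j.1 : Set B)).symm
  apply Algebra.FinitePresentation.quotient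
  unfold I
  apply Submodule.fg_span
  exact j.2.finite_toSet.preimage Subtype.val_injective.injOn

end pres

end Groth.Agent.Helper7.FPColim
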