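import Mathlib
import Groth.Agent.Lib.Helper7.FPColim0
import Groth.Agent.Lib.Helper7.UnderColim

/-! helper7: an algebra as a filtered colimit (in `Under A`) of finitely presented pieces. -/

namespace Groth.Agent.Helper7.FPColim
open CategoryTheory CategoryTheory.Limits
universe u
set_option linter.unusedSectionVars false

section cat
variable {A B : Type u} [CommRing A] [CommRing B] [Algebra A B]

/-- closure axioms for a family of presentations -/
structure GoodFamily (Q : Idx A B → Prop) : Prop where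
  valid : ∀ j, Q j → Valid j
  nonempty : ∃ j, Q j
  sup : ∀ j₁ j₂, Q j₁ → Q j₂ → ∃ j, Q j ∧ j₁ ≤ j ∧ j₂ ≤ j
  rel : ∀ j, Q j → ∀ f ∈ S j, ev A B f = 0 → ∃ j', Q j' ∧ j ≤ j' ∧ f ∈ j'.2
  gen : ∀ b : B, ∃ j, Q j ∧ b ∈ j.1

/-- objects -/
noncomputable def objJ (j : Idx A B) : Under (CommRingCat.of A) :=
  Under.mk (Y := CommRingCat.of (C j)) (CommRingCat.ofHom (algebraMap A (C j)))

/-- transition morphisms -/
noncomputable def mapJ {j j' : Idx A B} (h : j ≤ j') : objJ j ⟶ objJ j' :=
  Under.homMk (U := objJ j) (V := objJ j') (CommRingCat.ofHom (τ h).toRingHom) (by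
    apply CommRingCat.hom_ext
    ext a
    exact (τ h).commutes a)

/-- the target -/
noncomputable def objB (A B : Type u) [CommRing A] [CommRing B] [Algebra A B] :
    Under (CommRingCat.of A) :=
  Under.mk (CommRingCat.ofHom (algebraMap A B))

/-- morphisms to the target -/
noncomputable def toB (j : Idx A B) (hv : Valid j) : objJ j ⟶ objB A B :=
  Under.homMk (U := objJ j) (V := objB A B) (CommRingCat.ofHom (π j hv).toRingHom) (by
    apply CommRingCat.hom_ext
    ext a
    exact (π j hv).commutes a)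

lemma mapJ_right_apply {j j' : Idx A B} (h : j ≤ j') (c : C j) :
    (mapJ h).right c = τ h c := rfl

lemma toB_right_apply (j : Idx A B) (hv : Valid j) (c : C j) :
    (toB j hv).right c = π j hv c := rfl

variable (Q : Idx A B → Prop) (hQ : GoodFamily Q)


lemma τ_refl_apply (j : Idx A B) (c : C j) : τ (le_refl j) c = c := by
  obtain ⟨f, hf, rfl⟩ := mk_surjective j c
  rw [τ_mk]

lemma τ_trans_apply {j j' j'' : Idx A B} (h : j ≤ j') (h' : j' ≤ j'') (c : C j) :
    τ h' (τ h c) = τ (h.trans h') c := by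
  obtain ⟨f, hf, rfl⟩ := mk_surjective j c
  rw [τ_mk, τ_mk, τ_mk]

lemma mapJ_refl (j : Idx A B) : mapJ (le_refl j) = 𝟙 (objJ j) := by
  apply Under.UnderMorphism.ext
  apply CommRingCat.hom_ext
  apply RingHom.ext
  intro c
  exact τ_refl_apply j c

lemma mapJ_trans {j j' j'' : Idx A B} (h : j ≤ j') (h' : j' ≤ j'') :
    mapJ h ≫ mapJ h' = mapJ (h.trans h') := by
  apply Under.UnderMorphism.ext
  apply CommRingCat.hom_ext
  apply RingHom.ext
  intro c
  exact τ_trans_apply h h' c


/-- the diagram -/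
noncomputable def diag : {j : Idx A B // Q j} ⥤ Under (CommRingCat.of A) where
  obj j := objJ j.1
  map {j j'} f := mapJ (leOfHom f : j.1 ≤ j'.1)
  map_id j := mapJ_refl j.1
  map_comp {j j' j''} f g := (mapJ_trans (leOfHom f : j.1 ≤ j'.1) (leOfHom g : j'.1 ≤ j''.1)).symm

lemma toB_naturality {j j' : Idx A B} (h : j ≤ j') (hv : Valid j) (hv' : Valid j') :
    mapJ h ≫ toB j' hv' = toB j hv := by
  apply Under.UnderMorphism.ext
  apply CommRingCat.hom_ext
  apply RingHom.ext
  intro c
  exact π_τ h hv hv' c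

include hQ in
/-- the cocone -/
noncomputable def cocone : Cocone (diag Q) where
  pt := objB A B
  ι :=
    { app := fun j => toB j.1 (hQ.valid _ j.2)
      naturality := by
        intro j j' f
        refine Eq.trans ?_ (Category.comp_id _).symm
        exact toB_naturality (leOfHom f : j.1 ≤ j'.1) (hQ.valid _ j.2) (hQ.valid _ j'.2) }

include hQ in
lemma isFiltered_idx : IsFiltered {j : Idx A B // Q j} := by
  have h1 : Nonempty {j : Idx A B // Q j} := by
    obtain ⟨j, hj⟩ := hQ.nonempty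
    exact ⟨⟨j, hj⟩⟩
  have h2 : IsDirectedOrder {j : Idx A B // Q j} := ⟨fun a b => by
    obtain ⟨j, hj, h1, h2⟩ := hQ.sup a.1 b.1 a.2 b.2
    exact ⟨⟨j, hj⟩, h1, h2⟩⟩
  infer_instance

include hQ in
theorem isColimit_cocone : Nonempty (IsColimit (cocone Q hQ)) := by
  have := isFiltered_idx Q hQ
  apply Groth.Agent.Helper7.UnderColim.isColimit_of_elementwise
  · intro x
    obtain ⟨j, hj, hx⟩ := hQ.gen x
    refine ⟨⟨j, hj⟩, mk j (MvPolynomial.X x) (X_mem j hx), ?_⟩
    show π j (hQ.valid _ hj) (mk j (MvPolynomial.X x) (X_mem j hx)) = x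
    rw [π_mk]
    simp [ev]
  · intro j y y' h
    obtain ⟨f, hf, rfl⟩ := mk_surjective j.1 y
    obtain ⟨f', hf', rfl⟩ := mk_surjective j.1 y'
    have h' : ev A B f = ev A B f' := h
    obtain ⟨k, hk, hjk, hmem⟩ := hQ.rel j.1 j.2 (f - f') (sub_mem hf hf') (by
      rw [map_sub, h', sub_self])
    refine ⟨⟨k, hk⟩, homOfLE hjk, ?_⟩
    show τ hjk (mk j.1 f hf) = τ hjk (mk j.1 f' hf')
    rw [τ_mk, τ_mk, ← sub_eq_zero, ← mk_sub]
    exact mk_eq_zero_of_mem k _ _ hmem

end cat

end Groth.Agent.Helper7.FPColim
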