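import Mathlib
import Groth.Agent.Lib.Helper7.FPColim1
import Groth.Agent.Lib.Helper7.FPCrit

/-! helper7: propagation of the criteria along pieces. -/

namespace Groth.Agent.Helper7.FPColim
open CategoryTheory CategoryTheory.Limits MvPolynomial
universe u
set_option linter.unusedSectionVars false

section fam
variable {A B : Type u} [CommRing A] [CommRing B] [Algebra A B]

lemma τ_comp_algebraMap {j j' : Idx A B} (h : j ≤ j') :
    (τ h).toRingHom.comp (algebraMap A (C j)) = algebraMap A (C j') :=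
  (τ h).comp_algebraMap

lemma mk_X_mem_range {j' j : Idx A B} (h : j' ≤ j) {b : B} (hb : b ∈ j'.1) :
    mk j (X b) (X_mem j (h.1 hb)) ∈ (τ h).toRingHom.range :=
  ⟨mk j' (X b) (X_mem j' hb), τ_mk h _ _⟩

lemma mk_mem_range {j' j : Idx A B} (h : j' ≤ j) (f : MvPolynomial B A) (hf : f ∈ S j') :
    mk j f (S_mono h hf) ∈ (τ h).toRingHom.range :=
  ⟨mk j' f hf, τ_mk h _ _⟩

/-- `Crit` for a piece -/
def CritJ (j : Idx A B) : Prop := Crit (A := A) (C := C j) (algebraMap A (C j))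

/-- `CritRes` for a piece -/
def CritResJ (j : Idx A B) : Prop := CritRes (A := A) (C := C j) (algebraMap A (C j))

/-- the step condition for the class of a variable -/
def PieceStep (j : Idx A B) (b : B) (hb : b ∈ j.1) (j' : Idx A B) (hle : j' ≤ j) : Prop :=
  ((mk j (X b) (X_mem j hb)) ^ 2 ∈ (τ hle).toRingHom.range ∧
      (mk j (X b) (X_mem j hb)) ^ 3 ∈ (τ hle).toRingHom.range) ∨
    ∃ p : ℕ, p.Prime ∧ (p : C j) * mk j (X b) (X_mem j hb) ∈ (τ hle).toRingHom.range ∧
      (mk j (X b) (X_mem j hb)) ^ p ∈ (τ hle).toRingHom.range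

theorem crit_of_pieces (j : Idx A B)
    (h : ∀ (b : B) (hb : b ∈ j.1), ∃ (j' : Idx A B) (hle : j' ≤ j),
      CritJ j' ∧ PieceStep j b hb j' hle) :
    CritJ j := by
  apply crit_of_gen _ _ (closure_gen j)
  rintro x ⟨b, hb, rfl⟩
  obtain ⟨j', hle, hcrit, hstep⟩ := h b hb
  exact ⟨C j', inferInstance, algebraMap A (C j'), (τ hle).toRingHom, τ_comp_algebraMap hle,
    hcrit, hstep⟩

theorem critRes_of_pieces (j : Idx A B)
    (h : ∀ (b : B) (hb : b ∈ j.1), ∃ (j' : Idx A B) (hle : j' ≤ j),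
      CritResJ j' ∧
      (mk j (X b) (X_mem j hb)) ^ 2 ∈ (τ hle).toRingHom.range ∧
      (mk j (X b) (X_mem j hb)) ^ 3 ∈ (τ hle).toRingHom.range) :
    CritResJ j := by
  apply critRes_of_gen _ _ (closure_gen j)
  rintro x ⟨b, hb, rfl⟩
  obtain ⟨j', hle, hcrit, hstep⟩ := h b hb
  exact ⟨C j', inferInstance, algebraMap A (C j'), (τ hle).toRingHom, τ_comp_algebraMap hle,
    hcrit, hstep⟩

lemma pieceStep_of_mem {j' j : Idx A B} (h : j' ≤ j) {b : B} (hb : b ∈ j'.1) :
    PieceStep j b (h.1 hb) j' h :=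
  Or.inl ⟨Subring.pow_mem _ (mk_X_mem_range h hb) 2, Subring.pow_mem _ (mk_X_mem_range h hb) 3⟩

end fam

end Groth.Agent.Helper7.FPColim
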