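import Mathlib
import Groth.Agent.Lib.Helper7.FPColim2

/-! helper7: operations on presentations (adding relations, suprema, elementary extensions)
and the propagation of the criteria. -/

namespace Groth.Agent.Helper7.FPColim
open CategoryTheory CategoryTheory.Limits MvPolynomial
open Classical
universe u
set_option linter.unusedSectionVars false

section fam
variable {A B : Type u} [CommRing A] [CommRing B] [Algebra A B]

lemma ev_X (x : B) : ev A B (X x) = x := by simp [ev]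

/-- adding finitely many relations -/
noncomputable def addRel (j : Idx A B) (t : Finset (MvPolynomial B A)) : Idx A B :=
  (j.1, t ∪ j.2)

lemma le_addRel (j : Idx A B) (t : Finset (MvPolynomial B A)) : j ≤ addRel j t :=
  ⟨le_refl _, Finset.subset_union_right⟩

lemma valid_addRel (j : Idx A B) (hv : Valid j) (t : Finset (MvPolynomial B A))
    (ht : ∀ f ∈ t, f ∈ S j ∧ ev A B f = 0) : Valid (addRel j t) := by
  intro f hf
  rcases Finset.mem_union.mp hf with h | h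
  · exact ht f h
  · exact hv f h

lemma critJ_addRel (j : Idx A B) (hc : CritJ j) (t : Finset (MvPolynomial B A)) :
    CritJ (addRel j t) := by
  apply crit_of_pieces
  intro b hb
  exact ⟨j, le_addRel j t, hc, pieceStep_of_mem (le_addRel j t) hb⟩

lemma critResJ_addRel (j : Idx A B) (hc : CritResJ j) (t : Finset (MvPolynomial B A)) :
    CritResJ (addRel j t) := by
  apply critRes_of_pieces
  intro b hb
  exact ⟨j, le_addRel j t, hc, Subring.pow_mem _ (mk_X_mem_range (le_addRel j t) hb) 2,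
    Subring.pow_mem _ (mk_X_mem_range (le_addRel j t) hb) 3⟩

/-- the supremum of two indices -/
noncomputable def supIdx (j₁ j₂ : Idx A B) : Idx A B := (j₁.1 ∪ j₂.1, j₁.2 ∪ j₂.2)

lemma le_supIdx_left (j₁ j₂ : Idx A B) : j₁ ≤ supIdx j₁ j₂ :=
  ⟨Finset.subset_union_left, Finset.subset_union_left⟩

lemma le_supIdx_right (j₁ j₂ : Idx A B) : j₂ ≤ supIdx j₁ j₂ :=
  ⟨Finset.subset_union_right, Finset.subset_union_right⟩

lemma valid_supIdx (j₁ j₂ : Idx A B) (h1 : Valid j₁) (h2 : Valid j₂) : Valid (supIdx j₁ j₂) := by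
  intro f hf
  rcases Finset.mem_union.mp hf with h | h
  · exact ⟨S_mono (le_supIdx_left j₁ j₂) (h1 f h).1, (h1 f h).2⟩
  · exact ⟨S_mono (le_supIdx_right j₁ j₂) (h2 f h).1, (h2 f h).2⟩

lemma critJ_supIdx (j₁ j₂ : Idx A B) (h1 : CritJ j₁) (h2 : CritJ j₂) : CritJ (supIdx j₁ j₂) := by
  apply crit_of_pieces
  intro b hb
  rcases Finset.mem_union.mp hb with h | h
  · exact ⟨j₁, le_supIdx_left j₁ j₂, h1, pieceStep_of_mem (le_supIdx_left j₁ j₂) h⟩
  · exact ⟨j₂, le_supIdx_right j₁ j₂, h2, pieceStep_of_mem (le_supIdx_right j₁ j₂) h⟩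

lemma critResJ_supIdx (j₁ j₂ : Idx A B) (h1 : CritResJ j₁) (h2 : CritResJ j₂) :
    CritResJ (supIdx j₁ j₂) := by
  apply critRes_of_pieces
  intro b hb
  rcases Finset.mem_union.mp hb with h | h
  · exact ⟨j₁, le_supIdx_left j₁ j₂, h1,
      Subring.pow_mem _ (mk_X_mem_range (le_supIdx_left j₁ j₂) h) 2,
      Subring.pow_mem _ (mk_X_mem_range (le_supIdx_left j₁ j₂) h) 3⟩
  · exact ⟨j₂, le_supIdx_right j₁ j₂, h2,
      Subring.pow_mem _ (mk_X_mem_range (le_supIdx_right j₁ j₂) h) 2,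
      Subring.pow_mem _ (mk_X_mem_range (le_supIdx_right j₁ j₂) h) 3⟩

/-- the empty index -/
noncomputable def emptyIdx (A B : Type u) [CommRing A] [CommRing B] [Algebra A B] : Idx A B :=
  (∅, ∅)

lemma valid_emptyIdx : Valid (emptyIdx A B) := by
  intro f hf
  exact absurd hf (Finset.notMem_empty f)

lemma critJ_emptyIdx : CritJ (emptyIdx A B) := by
  apply crit_of_pieces
  intro b hb
  exact absurd hb (Finset.notMem_empty b)

lemma critResJ_emptyIdx : CritResJ (emptyIdx A B) := by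
  apply critRes_of_pieces
  intro b hb
  exact absurd hb (Finset.notMem_empty b)




/-- the extended index, first kind -/
noncomputable def ext1 (j : Idx A B) (x : B) (f₂ f₃ : MvPolynomial B A) : Idx A B :=
  (insert x j.1, insert (X x ^ 2 - f₂) (insert (X x ^ 3 - f₃) j.2))

lemma le_ext1 (j : Idx A B) (x : B) (f₂ f₃ : MvPolynomial B A) : j ≤ ext1 j x f₂ f₃ :=
  ⟨Finset.subset_insert _ _, (Finset.subset_insert _ _).trans (Finset.subset_insert _ _)⟩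

lemma mem_ext1 (j : Idx A B) (x : B) (f₂ f₃ : MvPolynomial B A) : x ∈ (ext1 j x f₂ f₃).1 :=
  Finset.mem_insert_self _ _

lemma valid_ext1 (j : Idx A B) (x : B) (f₂ f₃ : MvPolynomial B A) (hv : Valid j)
    (h2 : f₂ ∈ S j) (h3 : f₃ ∈ S j) (e2 : ev A B f₂ = x ^ 2) (e3 : ev A B f₃ = x ^ 3) :
    Valid (ext1 j x f₂ f₃) := by
  have hX : (X x : MvPolynomial B A) ∈ S (ext1 j x f₂ f₃) := X_mem _ (mem_ext1 j x f₂ f₃)
  have hle := S_mono (le_ext1 j x f₂ f₃)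
  intro f hf
  rcases Finset.mem_insert.mp hf with rfl | hf
  · exact ⟨sub_mem (pow_mem hX 2) (hle h2), by rw [map_sub, map_pow, ev_X, e2, sub_self]⟩
  rcases Finset.mem_insert.mp hf with rfl | hf
  · exact ⟨sub_mem (pow_mem hX 3) (hle h3), by rw [map_sub, map_pow, ev_X, e3, sub_self]⟩
  · exact ⟨hle (hv f hf).1, (hv f hf).2⟩

lemma mkX_sq_ext1 (j : Idx A B) (x : B) (f₂ f₃ : MvPolynomial B A) (h2 : f₂ ∈ S j) :
    (mk (ext1 j x f₂ f₃) (X x) (X_mem _ (mem_ext1 j x f₂ f₃))) ^ 2 =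
      mk (ext1 j x f₂ f₃) f₂ (S_mono (le_ext1 j x f₂ f₃) h2) := by
  have hX : (X x : MvPolynomial B A) ∈ S (ext1 j x f₂ f₃) := X_mem _ (mem_ext1 j x f₂ f₃)
  have h0 := mk_eq_zero_of_mem (ext1 j x f₂ f₃) (X x ^ 2 - f₂)
    (sub_mem (pow_mem hX 2) (S_mono (le_ext1 j x f₂ f₃) h2)) (Finset.mem_insert_self _ _)
  rw [mk_sub _ _ _ (pow_mem hX 2) (S_mono (le_ext1 j x f₂ f₃) h2), mk_pow _ _ hX,
    sub_eq_zero] at h0
  exact h0

lemma mkX_cube_ext1 (j : Idx A B) (x : B) (f₂ f₃ : MvPolynomial B A) (h3 : f₃ ∈ S j) :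
    (mk (ext1 j x f₂ f₃) (X x) (X_mem _ (mem_ext1 j x f₂ f₃))) ^ 3 =
      mk (ext1 j x f₂ f₃) f₃ (S_mono (le_ext1 j x f₂ f₃) h3) := by
  have hX : (X x : MvPolynomial B A) ∈ S (ext1 j x f₂ f₃) := X_mem _ (mem_ext1 j x f₂ f₃)
  have h0 := mk_eq_zero_of_mem (ext1 j x f₂ f₃) (X x ^ 3 - f₃)
    (sub_mem (pow_mem hX 3) (S_mono (le_ext1 j x f₂ f₃) h3))
    (Finset.mem_insert_of_mem (Finset.mem_insert_self _ _))
  rw [mk_sub _ _ _ (pow_mem hX 3) (S_mono (le_ext1 j x f₂ f₃) h3), mk_pow _ _ hX,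
    sub_eq_zero] at h0
  exact h0

lemma critJ_ext1 (j : Idx A B) (x : B) (f₂ f₃ : MvPolynomial B A) (hc : CritJ j)
    (h2 : f₂ ∈ S j) (h3 : f₃ ∈ S j) : CritJ (ext1 j x f₂ f₃) := by
  apply crit_of_pieces
  intro b hb
  by_cases hb' : b ∈ j.1
  · exact ⟨j, le_ext1 j x f₂ f₃, hc, pieceStep_of_mem (le_ext1 j x f₂ f₃) hb'⟩
  · have hbx : b = x := by
      rcases Finset.mem_insert.mp hb with h | h
      · exact h
      · exact absurd h hb'
    subst hbx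
    refine ⟨j, le_ext1 j b f₂ f₃, hc, Or.inl ⟨?_, ?_⟩⟩
    · rw [mkX_sq_ext1 j b f₂ f₃ h2]
      exact mk_mem_range (le_ext1 j b f₂ f₃) f₂ h2
    · rw [mkX_cube_ext1 j b f₂ f₃ h3]
      exact mk_mem_range (le_ext1 j b f₂ f₃) f₃ h3

lemma critResJ_ext1 (j : Idx A B) (x : B) (f₂ f₃ : MvPolynomial B A) (hc : CritResJ j)
    (h2 : f₂ ∈ S j) (h3 : f₃ ∈ S j) : CritResJ (ext1 j x f₂ f₃) := by
  apply critRes_of_pieces
  intro b hb
  by_cases hb' : b ∈ j.1
  · exact ⟨j, le_ext1 j x f₂ f₃, hc,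
      Subring.pow_mem _ (mk_X_mem_range (le_ext1 j x f₂ f₃) hb') 2,
      Subring.pow_mem _ (mk_X_mem_range (le_ext1 j x f₂ f₃) hb') 3⟩
  · have hbx : b = x := by
      rcases Finset.mem_insert.mp hb with h | h
      · exact h
      · exact absurd h hb'
    subst hbx
    refine ⟨j, le_ext1 j b f₂ f₃, hc, ?_, ?_⟩
    · rw [mkX_sq_ext1 j b f₂ f₃ h2]
      exact mk_mem_range (le_ext1 j b f₂ f₃) f₂ h2
    · rw [mkX_cube_ext1 j b f₂ f₃ h3]
      exact mk_mem_range (le_ext1 j b f₂ f₃) f₃ h3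


lemma mk_natCast (j : Idx A B) (n : ℕ) (h : (n : MvPolynomial B A) ∈ S j) :
    mk j (n : MvPolynomial B A) h = (n : C j) := by
  have h1 : (⟨(n : MvPolynomial B A), h⟩ : S j) = ((n : S j)) := Subtype.ext (by simp)
  show Ideal.Quotient.mk (I j) ⟨(n : MvPolynomial B A), h⟩ = _
  rw [h1, map_natCast]

lemma natCast_mem_S (j : Idx A B) (n : ℕ) : (n : MvPolynomial B A) ∈ S j := natCast_mem _ n

/-- the extended index, second kind -/
noncomputable def ext2 (j : Idx A B) (x : B) (p : ℕ) (f₂ f₃ : MvPolynomial B A) : Idx A B :=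
  (insert x j.1, insert ((p : MvPolynomial B A) * X x - f₂) (insert (X x ^ p - f₃) j.2))

lemma le_ext2 (j : Idx A B) (x : B) (p : ℕ) (f₂ f₃ : MvPolynomial B A) : j ≤ ext2 j x p f₂ f₃ :=
  ⟨Finset.subset_insert _ _, (Finset.subset_insert _ _).trans (Finset.subset_insert _ _)⟩

lemma mem_ext2 (j : Idx A B) (x : B) (p : ℕ) (f₂ f₃ : MvPolynomial B A) :
    x ∈ (ext2 j x p f₂ f₃).1 :=
  Finset.mem_insert_self _ _

lemma valid_ext2 (j : Idx A B) (x : B) (p : ℕ) (f₂ f₃ : MvPolynomial B A) (hv : Valid j)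
    (h2 : f₂ ∈ S j) (h3 : f₃ ∈ S j) (e2 : ev A B f₂ = (p : B) * x) (e3 : ev A B f₃ = x ^ p) :
    Valid (ext2 j x p f₂ f₃) := by
  have hX : (X x : MvPolynomial B A) ∈ S (ext2 j x p f₂ f₃) := X_mem _ (mem_ext2 j x p f₂ f₃)
  have hle := S_mono (le_ext2 j x p f₂ f₃)
  intro f hf
  rcases Finset.mem_insert.mp hf with rfl | hf
  · exact ⟨sub_mem (mul_mem (natCast_mem_S _ p) hX) (hle h2), by
      rw [map_sub, map_mul, map_natCast, ev_X, e2, sub_self]⟩
  rcases Finset.mem_insert.mp hf with rfl | hf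
  · exact ⟨sub_mem (pow_mem hX p) (hle h3), by rw [map_sub, map_pow, ev_X, e3, sub_self]⟩
  · exact ⟨hle (hv f hf).1, (hv f hf).2⟩

lemma mkX_mul_ext2 (j : Idx A B) (x : B) (p : ℕ) (f₂ f₃ : MvPolynomial B A) (h2 : f₂ ∈ S j) :
    (p : C (ext2 j x p f₂ f₃)) * (mk (ext2 j x p f₂ f₃) (X x) (X_mem _ (mem_ext2 j x p f₂ f₃))) =
      mk (ext2 j x p f₂ f₃) f₂ (S_mono (le_ext2 j x p f₂ f₃) h2) := by
  have hX : (X x : MvPolynomial B A) ∈ S (ext2 j x p f₂ f₃) := X_mem _ (mem_ext2 j x p f₂ f₃)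
  have hp : (p : MvPolynomial B A) ∈ S (ext2 j x p f₂ f₃) := natCast_mem_S _ p
  have h0 := mk_eq_zero_of_mem (ext2 j x p f₂ f₃) ((p : MvPolynomial B A) * X x - f₂)
    (sub_mem (mul_mem hp hX) (S_mono (le_ext2 j x p f₂ f₃) h2)) (Finset.mem_insert_self _ _)
  rw [mk_sub _ _ _ (mul_mem hp hX) (S_mono (le_ext2 j x p f₂ f₃) h2), mk_mul _ _ _ hp hX,
    mk_natCast, sub_eq_zero] at h0
  exact h0

lemma mkX_pow_ext2 (j : Idx A B) (x : B) (p : ℕ) (f₂ f₃ : MvPolynomial B A) (h3 : f₃ ∈ S j) :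
    (mk (ext2 j x p f₂ f₃) (X x) (X_mem _ (mem_ext2 j x p f₂ f₃))) ^ p =
      mk (ext2 j x p f₂ f₃) f₃ (S_mono (le_ext2 j x p f₂ f₃) h3) := by
  have hX : (X x : MvPolynomial B A) ∈ S (ext2 j x p f₂ f₃) := X_mem _ (mem_ext2 j x p f₂ f₃)
  have h0 := mk_eq_zero_of_mem (ext2 j x p f₂ f₃) (X x ^ p - f₃)
    (sub_mem (pow_mem hX p) (S_mono (le_ext2 j x p f₂ f₃) h3))
    (Finset.mem_insert_of_mem (Finset.mem_insert_self _ _))
  rw [mk_sub _ _ _ (pow_mem hX p) (S_mono (le_ext2 j x p f₂ f₃) h3), mk_pow _ _ hX,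
    sub_eq_zero] at h0
  exact h0

lemma critJ_ext2 (j : Idx A B) (x : B) (p : ℕ) (hp : p.Prime) (f₂ f₃ : MvPolynomial B A)
    (hc : CritJ j) (h2 : f₂ ∈ S j) (h3 : f₃ ∈ S j) : CritJ (ext2 j x p f₂ f₃) := by
  apply crit_of_pieces
  intro b hb
  by_cases hb' : b ∈ j.1
  · exact ⟨j, le_ext2 j x p f₂ f₃, hc, pieceStep_of_mem (le_ext2 j x p f₂ f₃) hb'⟩
  · have hbx : b = x := by
      rcases Finset.mem_insert.mp hb with h | h
      · exact h
      · exact absurd h hb'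
    subst hbx
    refine ⟨j, le_ext2 j b p f₂ f₃, hc, Or.inr ⟨p, hp, ?_, ?_⟩⟩
    · rw [mkX_mul_ext2 j b p f₂ f₃ h2]
      exact mk_mem_range (le_ext2 j b p f₂ f₃) f₂ h2
    · rw [mkX_pow_ext2 j b p f₂ f₃ h3]
      exact mk_mem_range (le_ext2 j b p f₂ f₃) f₃ h3

end fam

end Groth.Agent.Helper7.FPColim
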