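import Mathlib
import Groth.Agent.Lib.Helper7.FPColim3

/-! helper7: families of presentations closed under the elementary operations are good as soon
as their generators exhaust the algebra. -/

namespace Groth.Agent.Helper7.FPColim
open CategoryTheory CategoryTheory.Limits MvPolynomial AlgebraicGeometry
open Groth.Agent.Helper7.UHTower
open Classical
universe u
set_option linter.unusedSectionVars false

section fam
variable {A B : Type u} [CommRing A] [CommRing B] [Algebra A B]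

/-- closure properties of a family of presentations -/
structure Closed1 (Q : Idx A B → Prop) : Prop where
  valid : ∀ j, Q j → Valid j
  empty : Q (emptyIdx A B)
  sup : ∀ j₁ j₂, Q j₁ → Q j₂ → Q (supIdx j₁ j₂)
  rel : ∀ j, Q j → ∀ t : Finset (MvPolynomial B A), (∀ f ∈ t, f ∈ S j ∧ ev A B f = 0) →
    Q (addRel j t)
  ext1 : ∀ j, Q j → ∀ (x : B) (f₂ f₃ : MvPolynomial B A), f₂ ∈ S j → f₃ ∈ S j →
    ev A B f₂ = x ^ 2 → ev A B f₃ = x ^ 3 → Q (ext1 j x f₂ f₃)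

/-- presentations satisfying the criterion -/
def Q1 (j : Idx A B) : Prop := Valid j ∧ CritJ j

/-- presentations satisfying both criteria -/
def Q2 (j : Idx A B) : Prop := Valid j ∧ CritJ j ∧ CritResJ j

lemma closed1_Q1 : Closed1 (Q1 (A := A) (B := B)) where
  valid _ hj := hj.1
  empty := ⟨valid_emptyIdx, critJ_emptyIdx⟩
  sup j₁ j₂ h1 h2 := ⟨valid_supIdx j₁ j₂ h1.1 h2.1, critJ_supIdx j₁ j₂ h1.2 h2.2⟩
  rel j hj t ht := ⟨valid_addRel j hj.1 t ht, critJ_addRel j hj.2 t⟩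
  ext1 j hj x f₂ f₃ h2 h3 e2 e3 := ⟨valid_ext1 j x f₂ f₃ hj.1 h2 h3 e2 e3,
    critJ_ext1 j x f₂ f₃ hj.2 h2 h3⟩

lemma closed1_Q2 : Closed1 (Q2 (A := A) (B := B)) where
  valid _ hj := hj.1
  empty := ⟨valid_emptyIdx, critJ_emptyIdx, critResJ_emptyIdx⟩
  sup j₁ j₂ h1 h2 := ⟨valid_supIdx j₁ j₂ h1.1 h2.1, critJ_supIdx j₁ j₂ h1.2.1 h2.2.1,
    critResJ_supIdx j₁ j₂ h1.2.2 h2.2.2⟩
  rel j hj t ht := ⟨valid_addRel j hj.1 t ht, critJ_addRel j hj.2.1 t, critResJ_addRel j hj.2.2 t⟩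
  ext1 j hj x f₂ f₃ h2 h3 e2 e3 := ⟨valid_ext1 j x f₂ f₃ hj.1 h2 h3 e2 e3,
    critJ_ext1 j x f₂ f₃ hj.2.1 h2 h3, critResJ_ext1 j x f₂ f₃ hj.2.2 h2 h3⟩

variable {Q : Idx A B → Prop} (hQ : Closed1 Q)

include hQ in
lemma mem_of_ev (j : Idx A B) (hj : Q j) (f : MvPolynomial B A) (hf : f ∈ S j) :
    ∃ k, Q k ∧ j ≤ k ∧ ev A B f ∈ k.1 :=
  ⟨_, hQ.ext1 j hj (ev A B f) (f ^ 2) (f ^ 3) (pow_mem hf 2) (pow_mem hf 3) (map_pow _ _ _)
    (map_pow _ _ _), le_ext1 _ _ _ _, mem_ext1 _ _ _ _⟩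

/-- the union of the generators -/
noncomputable def Dsub (Q : Idx A B → Prop) (hQ : Closed1 Q) : Subalgebra A B where
  carrier := {b | ∃ j, Q j ∧ b ∈ j.1}
  mul_mem' := by
    rintro a b ⟨j₁, h1, ha⟩ ⟨j₂, h2, hb⟩
    have hj := hQ.sup j₁ j₂ h1 h2
    have hXa : (X a : MvPolynomial B A) ∈ S (supIdx j₁ j₂) :=
      X_mem _ ((le_supIdx_left j₁ j₂).1 ha)
    have hXb : (X b : MvPolynomial B A) ∈ S (supIdx j₁ j₂) :=
      X_mem _ ((le_supIdx_right j₁ j₂).1 hb)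
    obtain ⟨k, hk, -, hmem⟩ := mem_of_ev hQ _ hj (X a * X b) (mul_mem hXa hXb)
    rw [map_mul, ev_X, ev_X] at hmem
    exact ⟨k, hk, hmem⟩
  add_mem' := by
    rintro a b ⟨j₁, h1, ha⟩ ⟨j₂, h2, hb⟩
    have hj := hQ.sup j₁ j₂ h1 h2
    have hXa : (X a : MvPolynomial B A) ∈ S (supIdx j₁ j₂) :=
      X_mem _ ((le_supIdx_left j₁ j₂).1 ha)
    have hXb : (X b : MvPolynomial B A) ∈ S (supIdx j₁ j₂) :=
      X_mem _ ((le_supIdx_right j₁ j₂).1 hb)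
    obtain ⟨k, hk, -, hmem⟩ := mem_of_ev hQ _ hj (X a + X b) (add_mem hXa hXb)
    rw [map_add, ev_X, ev_X] at hmem
    exact ⟨k, hk, hmem⟩
  algebraMap_mem' := by
    intro r
    obtain ⟨k, hk, -, hmem⟩ := mem_of_ev hQ _ hQ.empty (algebraMap A (MvPolynomial B A) r)
      (Subalgebra.algebraMap_mem _ r)
    rw [AlgHom.commutes] at hmem
    exact ⟨k, hk, hmem⟩

lemma mem_Dsub (b : B) : b ∈ Dsub Q hQ ↔ ∃ j, Q j ∧ b ∈ j.1 := Iff.rfl

include hQ in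
theorem gen_of_escape
    (hesc : ∀ D : Subalgebra A B, D ≠ ⊤ → (∀ b ∈ D, ∃ j, Q j ∧ b ∈ j.1) →
      ∃ b, b ∉ D ∧ ∃ j, Q j ∧ b ∈ j.1) :
    ∀ b : B, ∃ j, Q j ∧ b ∈ j.1 := by
  by_cases htop : Dsub Q hQ = ⊤
  · intro b
    have : b ∈ Dsub Q hQ := by rw [htop]; trivial
    exact this
  · obtain ⟨b, hb, hb'⟩ := hesc (Dsub Q hQ) htop (fun b hb => hb)
    exact absurd hb' hb

include hQ in
theorem goodFamily_of_gen (hgen : ∀ b : B, ∃ j, Q j ∧ b ∈ j.1) : GoodFamily Q where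
  valid := hQ.valid
  nonempty := ⟨_, hQ.empty⟩
  sup j₁ j₂ h1 h2 := ⟨_, hQ.sup j₁ j₂ h1 h2, le_supIdx_left j₁ j₂, le_supIdx_right j₁ j₂⟩
  rel j hj f hf h0 := ⟨addRel j {f}, hQ.rel j hj {f} (by
    intro g hg
    rw [Finset.mem_singleton] at hg
    subst hg
    exact ⟨hf, h0⟩), le_addRel j {f}, Finset.mem_union_left _ (Finset.mem_singleton_self f)⟩
  gen := hgen

end fam

end Groth.Agent.Helper7.FPColim
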