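import Mathlib
import Groth.Agent.Lib.Helper7.FPColim4

/-! helper7: an algebra whose spectrum maps by a universal homeomorphism is a filtered colimit
of finitely presented algebras with the same property. -/

namespace Groth.Agent.Helper7.FPColim
open CategoryTheory CategoryTheory.Limits MvPolynomial AlgebraicGeometry
open Groth.Agent.Helper7.UHTower Groth.Agent.Helper7.UHTower2
open Classical
universe u
set_option linter.unusedSectionVars false

section fam
variable {A B : Type u} [CommRing A] [CommRing B] [Algebra A B]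

lemma not_surjective_val (D : Subalgebra A B) (hD : D ≠ ⊤) :
    ¬ Function.Surjective D.val.toRingHom := by
  intro hs
  apply hD
  rw [eq_top_iff]
  intro b _
  obtain ⟨c, rfl⟩ := hs b
  exact c.2

theorem escape_Q1
    (hU : FlatMor.IsUnivHomeo (Spec.map (CommRingCat.ofHom (algebraMap A B))))
    (D : Subalgebra A B) (hD : D ≠ ⊤)
    (hmem : ∀ b ∈ D, ∃ j : Idx A B, Q1 j ∧ b ∈ j.1) :
    ∃ b, b ∉ D ∧ ∃ j : Idx A B, Q1 j ∧ b ∈ j.1 := by
  have hψinj : Function.Injective D.val.toRingHom := Subtype.val_injective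
  have hns := not_surjective_val D hD
  have hUψ := uh_of_comp (algebraMap A D) D.val.toRingHom hψinj hU
  rcases Groth.Agent.Lib.Helper6.SubInt.main7399 D.val.toRingHom hψinj hns hUψ with
    ⟨b, hb, h2, h3⟩ | ⟨p, b, hp, hb, h2, h3⟩
  · refine ⟨b, fun hbD => hb ⟨⟨b, hbD⟩, rfl⟩, ?_⟩
    obtain ⟨j₂, hj₂, hm₂⟩ := hmem _ (mem_of_mem_range D h2)
    obtain ⟨j₃, hj₃, hm₃⟩ := hmem _ (mem_of_mem_range D h3)
    have hj := closed1_Q1.sup j₂ j₃ hj₂ hj₃
    refine ⟨_, closed1_Q1.ext1 _ hj b (X (b ^ 2)) (X (b ^ 3))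
      (X_mem _ ((le_supIdx_left j₂ j₃).1 hm₂)) (X_mem _ ((le_supIdx_right j₂ j₃).1 hm₃))
      (ev_X _) (ev_X _), mem_ext1 _ _ _ _⟩
  · refine ⟨b, fun hbD => hb ⟨⟨b, hbD⟩, rfl⟩, ?_⟩
    obtain ⟨j₂, hj₂, hm₂⟩ := hmem _ (mem_of_mem_range D h2)
    obtain ⟨j₃, hj₃, hm₃⟩ := hmem _ (mem_of_mem_range D h3)
    have hj := closed1_Q1.sup j₂ j₃ hj₂ hj₃
    have hX2 : (X ((p : B) * b) : MvPolynomial B A) ∈ S (supIdx j₂ j₃) :=
      X_mem _ ((le_supIdx_left j₂ j₃).1 hm₂)
    have hX3 : (X (b ^ p) : MvPolynomial B A) ∈ S (supIdx j₂ j₃) :=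
      X_mem _ ((le_supIdx_right j₂ j₃).1 hm₃)
    exact ⟨ext2 (supIdx j₂ j₃) b p (X ((p : B) * b)) (X (b ^ p)),
      ⟨valid_ext2 _ b p _ _ hj.1 hX2 hX3 (ev_X _) (ev_X _),
        critJ_ext2 _ b p hp _ _ hj.2 hX2 hX3⟩, mem_ext2 _ _ _ _ _⟩

theorem escape_Q2
    (hU : FlatMor.IsUnivHomeo (Spec.map (CommRingCat.ofHom (algebraMap A B))))
    (hres : ∀ x : Spec (CommRingCat.of B),
      Function.Surjective ((Spec.map (CommRingCat.ofHom (algebraMap A B))).residueFieldMap x))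
    (D : Subalgebra A B) (hD : D ≠ ⊤)
    (hmem : ∀ b ∈ D, ∃ j : Idx A B, Q2 j ∧ b ∈ j.1) :
    ∃ b, b ∉ D ∧ ∃ j : Idx A B, Q2 j ∧ b ∈ j.1 := by
  have hψinj : Function.Injective D.val.toRingHom := Subtype.val_injective
  have hns := not_surjective_val D hD
  have hUψ := uh_of_comp (algebraMap A D) D.val.toRingHom hψinj hU
  have hresψ := res_of_comp (algebraMap A D) D.val.toRingHom hres
  obtain ⟨b, hb, h2, h3⟩ :=
    Groth.Agent.Lib.Helper6.SubInt.main7398 D.val.toRingHom hψinj hns hUψ hresψ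
  refine ⟨b, fun hbD => hb ⟨⟨b, hbD⟩, rfl⟩, ?_⟩
  obtain ⟨j₂, hj₂, hm₂⟩ := hmem _ (mem_of_mem_range D h2)
  obtain ⟨j₃, hj₃, hm₃⟩ := hmem _ (mem_of_mem_range D h3)
  have hj := closed1_Q2.sup j₂ j₃ hj₂ hj₃
  refine ⟨_, closed1_Q2.ext1 _ hj b (X (b ^ 2)) (X (b ^ 3))
    (X_mem _ ((le_supIdx_left j₂ j₃).1 hm₂)) (X_mem _ ((le_supIdx_right j₂ j₃).1 hm₃))
    (ev_X _) (ev_X _), mem_ext1 _ _ _ _⟩

theorem goodFamily_Q1
    (hU : FlatMor.IsUnivHomeo (Spec.map (CommRingCat.ofHom (algebraMap A B)))) :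
    GoodFamily (Q1 (A := A) (B := B)) :=
  goodFamily_of_gen closed1_Q1 (gen_of_escape closed1_Q1 (escape_Q1 hU))

theorem goodFamily_Q2
    (hU : FlatMor.IsUnivHomeo (Spec.map (CommRingCat.ofHom (algebraMap A B))))
    (hres : ∀ x : Spec (CommRingCat.of B),
      Function.Surjective ((Spec.map (CommRingCat.ofHom (algebraMap A B))).residueFieldMap x)) :
    GoodFamily (Q2 (A := A) (B := B)) :=
  goodFamily_of_gen closed1_Q2 (gen_of_escape closed1_Q2 (escape_Q2 hU hres))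

/-- the pieces are universal homeomorphisms -/
theorem uh_piece
    (hU : FlatMor.IsUnivHomeo (Spec.map (CommRingCat.ofHom (algebraMap A B))))
    (j : Idx A B) (hv : Valid j) (hc : CritJ j) :
    FlatMor.IsUnivHomeo (Spec.map (CommRingCat.ofHom (S := C j) (algebraMap A (C j)))) := by
  rw [uh_iff_crit]
  refine ⟨hc, ?_⟩
  have hker := ((uh_iff_crit (algebraMap A B)).mp hU).2
  intro a ha
  apply hker
  rw [RingHom.mem_ker] at ha ⊢
  rw [← (π j hv).commutes a, ha, map_zero]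

/-- the pieces have surjective residue field maps -/
theorem res_piece (j : Idx A B) (hc : CritResJ j) :
    ∀ x : Spec (CommRingCat.of (C j)), Function.Surjective
      ((Spec.map (CommRingCat.ofHom (S := C j) (algebraMap A (C j)))).residueFieldMap x) := by
  have h := (res_iff_critRes (A := A) (C := C j) (algebraMap A (C j)))
  have h2 := h.mpr hc
  exact h2

lemma fp_piece (j : Idx A B) :
    RingHom.FinitePresentation (A := A) (B := C j) (algebraMap A (C j)) :=
  (RingHom.finitePresentation_algebraMap (A := A) (B := C j)).mpr (finitePresentation j)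

theorem main1
    (hU : FlatMor.IsUnivHomeo (Spec.map (CommRingCat.ofHom (algebraMap A B)))) :
    ∃ (J : Type u) (_ : SmallCategory J) (_ : IsFiltered J) (F : J ⥤ Under (CommRingCat.of A))
      (c : Limits.Cocone F) (_ : Limits.IsColimit c),
      (∀ j, (F.obj j).hom.hom.FinitePresentation ∧
        FlatMor.IsUnivHomeo (Spec.map (F.obj j).hom)) ∧
      Nonempty (c.pt ≅ Under.mk (CommRingCat.ofHom (algebraMap A B))) := by
  have hQ := goodFamily_Q1 hU
  obtain ⟨hc⟩ := isColimit_cocone Q1 hQ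
  refine ⟨{j : Idx A B // Q1 j}, inferInstance, isFiltered_idx Q1 hQ, diag Q1, cocone Q1 hQ, hc,
    ?_, ⟨Iso.refl _⟩⟩
  intro j
  constructor
  · exact fp_piece j.1
  · exact uh_piece hU j.1 j.2.1 j.2.2

theorem main2
    (hU : FlatMor.IsUnivHomeo (Spec.map (CommRingCat.ofHom (algebraMap A B))))
    (hres : ∀ x : Spec (CommRingCat.of B),
      Function.Surjective ((Spec.map (CommRingCat.ofHom (algebraMap A B))).residueFieldMap x)) :
    ∃ (J : Type u) (_ : SmallCategory J) (_ : IsFiltered J) (F : J ⥤ Under (CommRingCat.of A))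
      (c : Limits.Cocone F) (_ : Limits.IsColimit c),
      (∀ j, (F.obj j).hom.hom.FinitePresentation ∧
        FlatMor.IsUnivHomeo (Spec.map (F.obj j).hom) ∧
        ∀ x : Spec (F.obj j).right,
          Function.Surjective ((Spec.map (F.obj j).hom).residueFieldMap x)) ∧
      Nonempty (c.pt ≅ Under.mk (CommRingCat.ofHom (algebraMap A B))) := by
  have hQ := goodFamily_Q2 hU hres
  obtain ⟨hc⟩ := isColimit_cocone Q2 hQ
  refine ⟨{j : Idx A B // Q2 j}, inferInstance, isFiltered_idx Q2 hQ, diag Q2, cocone Q2 hQ, hc,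
    ?_, ⟨Iso.refl _⟩⟩
  intro j
  refine ⟨?_, ?_, ?_⟩
  · exact fp_piece j.1
  · exact uh_piece hU j.1 j.2.1 j.2.2.1
  · exact res_piece j.1 j.2.2.2

end fam

end Groth.Agent.Helper7.FPColim
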