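import Mathlib
import Groth.Prelude.Def_EGA4Misc

set_option autoImplicit false
universe u
open CategoryTheory CategoryTheory.Limits AlgebraicGeometry

/-! helper7: generic points and flat base change of "birational" morphisms: `mem_genericPoints_iff`,
`exists_generic_specializes`, `map_mem_genericPoints` (generalizing maps), `residueFieldMap_bijective_of_isPreimmersion`,
`exists_fibre_iso`, `fibre_lemma`, `main5864`. -/

namespace Groth.Agent.Helper7.BirBC

section Top
variable {α β : Type*} [TopologicalSpace α] [TopologicalSpace β]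

theorem mem_genericPoints_iff [QuasiSober α] [T0Space α] (x : α) :
    x ∈ genericPoints α ↔ ∀ z : α, z ⤳ x → z = x := by
  constructor
  · intro hx z hz
    have h1 : closure ({x} : Set α) ⊆ closure {z} := hz.closure_subset
    have hirr : IsIrreducible (closure ({z} : Set α)) := isIrreducible_singleton.closure
    have h2 : closure ({z} : Set α) ⊆ closure {x} := hx.2 hirr h1
    exact ((inseparable_iff_closure_eq).mpr (h2.antisymm h1)).eq
  · intro h
    refine ⟨isIrreducible_singleton.closure, fun S hS hxS => ?_⟩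
    obtain ⟨z, hz⟩ := QuasiSober.sober hS.closure isClosed_closure
    have hz' : closure ({z} : Set α) = closure S := hz
    have hzx : z ⤳ x := by
      rw [specializes_iff_closure_subset, hz']
      exact hxS.trans subset_closure
    have := h z hzx
    rw [this] at hz'
    rw [hz']
    exact subset_closure

theorem exists_generic_specializes [QuasiSober α] [T0Space α] (x : α) :
    ∃ z ∈ genericPoints α, z ⤳ x := by
  obtain ⟨z, hz⟩ := QuasiSober.sober (isIrreducible_irreducibleComponent (x := x))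
    isClosed_irreducibleComponent
  have hz' : closure ({z} : Set α) = irreducibleComponent x := hz
  refine ⟨z, ?_, ?_⟩
  · change closure {z} ∈ irreducibleComponents α
    rw [hz']
    exact irreducibleComponent_mem_irreducibleComponents x
  · rw [specializes_iff_mem_closure, hz']
    exact mem_irreducibleComponent

theorem map_mem_genericPoints [QuasiSober α] [T0Space α] [QuasiSober β] [T0Space β] {f : α → β}
    (hf : GeneralizingMap f) {x : α} (hx : x ∈ genericPoints α) : f x ∈ genericPoints β := by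
  rw [mem_genericPoints_iff] at hx ⊢
  intro z hz
  obtain ⟨x', hx', rfl⟩ := hf hz
  rw [hx x' hx']

end Top

/-- a preimmersion induces bijections of residue fields -/
theorem residueFieldMap_bijective_of_isPreimmersion {X Y : Scheme.{u}} (f : X ⟶ Y)
    [IsPreimmersion f] (x : X) : Function.Bijective (f.residueFieldMap x).hom := by
  refine ⟨(f.residueFieldMap x).hom.injective, ?_⟩
  intro b
  obtain ⟨b', rfl⟩ := IsLocalRing.residue_surjective (R := X.presheaf.stalk x) b
  obtain ⟨a, rfl⟩ := f.stalkMap_surjective x b'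
  exact ⟨IsLocalRing.residue _ a, rfl⟩

/-- the fibres over `ξ` and over `f ξ` are identified when the residue fields agree -/
theorem exists_fibre_iso {X Y X' Y' : Scheme.{u}} {f : X ⟶ Y} {g : Y' ⟶ Y} {f' : X' ⟶ Y'}
    {g' : X' ⟶ X} (sq : IsPullback g' f' f g) (ξ : X)
    (hres : Function.Bijective (f.residueFieldMap ξ).hom) :
    ∃ top : g'.fiber ξ ⟶ g.fiber (f ξ), IsIso top ∧
      top ≫ g.fiberι (f ξ) = g'.fiberι ξ ≫ f' := by
  have hpb := isPullback_fiberToSpecResidueField_of_isPullback sq.flip ξ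
  have h1 : IsIso (f.residueFieldMap ξ) := (ConcreteCategory.isIso_iff_bijective _).mpr hres
  have h2 : IsIso (Spec.map (f.residueFieldMap ξ)) := inferInstance
  exact ⟨_, hpb.isIso_fst_of_isIso, pullback.lift_fst _ _ _⟩

theorem fibre_lemma {X Y X' Y' : Scheme.{u}} {f : X ⟶ Y} {g : Y' ⟶ Y} {f' : X' ⟶ Y'}
    {g' : X' ⟶ X} (sq : IsPullback g' f' f g) (ξ : X)
    (hres : Function.Bijective (f.residueFieldMap ξ).hom) :
    (∀ y' : Y', g y' = f ξ → ∃ x' : X', g' x' = ξ ∧ f' x' = y') ∧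
    (∀ x₁ x₂ : X', g' x₁ = ξ → g' x₂ = ξ → f' x₁ ⤳ f' x₂ → x₁ ⤳ x₂) ∧
    (∀ x' : X', g' x' = ξ → Function.Bijective (f'.residueFieldMap x').hom) := by
  obtain ⟨top, htop, hcomm⟩ := exists_fibre_iso sq ξ hres
  have hpt : ∀ v, f' (g'.fiberι ξ v) = g.fiberι (f ξ) (top v) := fun v =>
    (congr($(hcomm) v)).symm
  have hlift : ∀ x' : X', g' x' = ξ → ∃ v, g'.fiberι ξ v = x' := by
    intro x' hx'
    have : x' ∈ Set.range (g'.fiberι ξ) := by rw [Scheme.Hom.range_fiberι]; exact hx'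
    exact this
  refine ⟨fun y' hy' => ?_, fun x₁ x₂ h₁ h₂ hsp => ?_, fun x' hx' => ?_⟩
  · have : y' ∈ Set.range (g.fiberι (f ξ)) := by rw [Scheme.Hom.range_fiberι]; exact hy'
    obtain ⟨w, rfl⟩ := this
    refine ⟨g'.fiberι ξ ((inv top) w), ?_, ?_⟩
    · have : g'.fiberι ξ ((inv top) w) ∈ Set.range (g'.fiberι ξ) := ⟨_, rfl⟩
      rw [Scheme.Hom.range_fiberι] at this
      exact this
    · rw [hpt]
      congr 1
      exact congr($(IsIso.inv_hom_id top) w)
  · obtain ⟨v₁, rfl⟩ := hlift x₁ h₁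
    obtain ⟨v₂, rfl⟩ := hlift x₂ h₂
    rw [hpt, hpt, (g.fiberι (f ξ)).isEmbedding.toIsInducing.specializes_iff] at hsp
    have h3 := hsp.map (inv top).continuous
    have e1 : (inv top) (top v₁) = v₁ := congr($(IsIso.hom_inv_id top) v₁)
    have e2 : (inv top) (top v₂) = v₂ := congr($(IsIso.hom_inv_id top) v₂)
    rw [e1, e2] at h3
    exact h3.map (g'.fiberι ξ).continuous
  · obtain ⟨v, rfl⟩ := hlift x' hx'
    have hA := residueFieldMap_bijective_of_isPreimmersion (g'.fiberι ξ) v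
    have hB := residueFieldMap_bijective_of_isPreimmersion (g.fiberι (f ξ)) (top v)
    have hC : Function.Bijective (top.residueFieldMap v).hom :=
      (ConcreteCategory.isIso_iff_bijective _).mp inferInstance
    have h1 : Function.Bijective ((top ≫ g.fiberι (f ξ)).residueFieldMap v).hom := by
      rw [Scheme.residueFieldMap_comp]
      exact hC.comp hB
    have h2 : Function.Bijective ((g'.fiberι ξ ≫ f').residueFieldMap v).hom := hcomm ▸ h1
    rw [Scheme.residueFieldMap_comp] at h2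
    exact (Function.Bijective.of_comp_iff' hA _).mp h2

theorem main5864 {X Y X' Y' : Scheme.{u}} {f : X ⟶ Y} {g : Y' ⟶ Y} [Flat g] {f' : X' ⟶ Y'}
    {g' : X' ⟶ X} (sq : IsPullback g' f' f g) (hf : _root_.RadPt.IsBirational f) :
    _root_.RadPt.IsBirational f' := by
  obtain ⟨hbij, hfib⟩ := hf
  have hg' : Flat g' := MorphismProperty.of_isPullback sq.flip inferInstance
  have hgen : GeneralizingMap g := Flat.generalizingMap g
  have hgen' : GeneralizingMap g' := Flat.generalizingMap g'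
  have hw : ∀ x' : X', f (g' x') = g (f' x') := fun x' => congr($(sq.w) x')
  -- data attached to a generic point of `X`
  have hdata : ∀ ξ ∈ genericPoints X,
      (∀ y' : Y', g y' = f ξ → ∃ x' : X', g' x' = ξ ∧ f' x' = y') ∧
      (∀ x₁ x₂ : X', g' x₁ = ξ → g' x₂ = ξ → f' x₁ ⤳ f' x₂ → x₁ ⤳ x₂) ∧
      (∀ x' : X', g' x' = ξ → Function.Bijective (f'.residueFieldMap x').hom) := fun ξ hξ =>
    fibre_lemma sq ξ ((hfib (f ξ) (hbij.mapsTo hξ)).2 ξ rfl)
  -- generic points of `Y'` lie over generic points of `X`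
  have hover : ∀ η' ∈ genericPoints Y', ∃ ξ ∈ genericPoints X, g η' = f ξ := by
    intro η' hη'
    obtain ⟨ξ, hξ, hξη⟩ := hbij.surjOn (map_mem_genericPoints hgen hη')
    exact ⟨ξ, hξ, hξη.symm⟩
  -- the fibre over a point lying over a generic point has at most one point
  have hfib1 : ∀ (y' : Y') (ξ : X), ξ ∈ genericPoints X → g y' = f ξ →
      ∀ x₁ x₂ : X', f' x₁ = y' → f' x₂ = y' → x₁ = x₂ := by
    intro y' ξ hξ hy' x₁ x₂ h₁ h₂
    have e₁ : g' x₁ = ξ := (hfib (f ξ) (hbij.mapsTo hξ)).1 _ _ (by rw [hw, h₁, hy']) rfl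
    have e₂ : g' x₂ = ξ := (hfib (f ξ) (hbij.mapsTo hξ)).1 _ _ (by rw [hw, h₂, hy']) rfl
    have s₁ := (hdata ξ hξ).2.1 x₁ x₂ e₁ e₂ (by rw [h₁, h₂])
    have s₂ := (hdata ξ hξ).2.1 x₂ x₁ e₂ e₁ (by rw [h₁, h₂])
    exact (s₁.antisymm s₂).eq
  have hmaps : Set.MapsTo f' (genericPoints X') (genericPoints Y') := by
    intro ξ' hξ'
    have hξ : g' ξ' ∈ genericPoints X := map_mem_genericPoints hgen' hξ'
    rw [mem_genericPoints_iff]
    intro z hz
    obtain ⟨z₀, hz₀, hz₀z⟩ := exists_generic_specializes z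
    have h1 : g z₀ ⤳ f (g' ξ') := by
      rw [hw]
      exact (hz₀z.trans hz).map g.continuous
    have h2 : g z₀ = f (g' ξ') :=
      (mem_genericPoints_iff _).mp (hbij.mapsTo hξ) _ h1
    obtain ⟨x₀, hx₀, hx₀z⟩ := (hdata _ hξ).1 z₀ h2
    have h3 : x₀ ⤳ ξ' := (hdata _ hξ).2.1 x₀ ξ' hx₀ rfl (by rw [hx₀z]; exact hz₀z.trans hz)
    have h4 : x₀ = ξ' := (mem_genericPoints_iff _).mp hξ' _ h3
    rw [h4] at hx₀z
    rw [← hx₀z] at hz₀z
    exact (hz.antisymm hz₀z).eq
  refine ⟨⟨hmaps, ?_, ?_⟩, ?_⟩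
  · intro x₁ h₁ x₂ h₂ h
    obtain ⟨ξ, hξ, hξη⟩ := hover _ (hmaps h₂)
    exact hfib1 _ ξ hξ hξη x₁ x₂ h rfl
  · intro η' hη'
    obtain ⟨ξ, hξ, hξη⟩ := hover η' hη'
    obtain ⟨x', hx'₁, hx'₂⟩ := (hdata ξ hξ).1 η' hξη
    refine ⟨x', ?_, hx'₂⟩
    rw [mem_genericPoints_iff]
    intro z hz
    have h1 : f' z ⤳ η' := by
      rw [← hx'₂]
      exact hz.map f'.continuous
    have h2 : f' z = η' := (mem_genericPoints_iff _).mp hη' _ h1
    exact hfib1 η' ξ hξ hξη z x' h2 hx'₂
  · intro η' hη'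
    obtain ⟨ξ, hξ, hξη⟩ := hover η' hη'
    refine ⟨fun x₁ x₂ h₁ h₂ => hfib1 η' ξ hξ hξη x₁ x₂ h₁ h₂, fun x hx => ?_⟩
    have e : g' x = ξ := (hfib (f ξ) (hbij.mapsTo hξ)).1 _ _ (by rw [hw, hx, hξη]) rfl
    exact (hdata ξ hξ).2.2 x e

end Groth.Agent.Helper7.BirBC
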