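import Mathlib
import Groth.Agent.Lib.Helper7.UHSch3
import Groth.Prelude.Def_Pi1

set_option autoImplicit false
universe u
open CategoryTheory CategoryTheory.Limits AlgebraicGeometry

/-! helper7: sections of a normal integral scheme over affine opens are integrally closed
(`isIntegrallyClosed_sections`), `stalkMap_bijective`, `bijective_of_frac`, and `main3568`: a
universally closed, universally injective, birational morphism to a normal integral scheme is an
isomorphism. -/

namespace Groth.Agent.Helper7.BirIso

open Groth.Agent.Helper7.UHSch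

theorem isIntegrallyClosed_sections {V : Scheme.{u}} [IsIntegral V] (hN : Pi1.IsNormalScheme V)
    {W : V.Opens} (hW : IsAffineOpen W) [Nonempty W] : IsIntegrallyClosed Γ(V, W) := by
  refine IsIntegrallyClosed.of_localization_maximal (fun p _ hpm => ?_)
  let y : PrimeSpectrum Γ(V, W) := ⟨p, hpm.isPrime⟩
  have hx : hW.fromSpec y ∈ W := by
    have : hW.fromSpec y ∈ Set.range hW.fromSpec := Set.mem_range_self y
    rw [hW.range_fromSpec] at this
    exact this
  let _ : Algebra Γ(V, W) (V.presheaf.stalk (hW.fromSpec y)) :=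
    TopCat.Presheaf.algebra_section_stalk V.presheaf ⟨hW.fromSpec y, hx⟩
  have hloc : IsLocalization.AtPrime (V.presheaf.stalk (hW.fromSpec y)) p :=
    hW.isLocalization_stalk' y hx
  have hic : IsIntegrallyClosed (V.presheaf.stalk (hW.fromSpec y)) := (hN _).2
  let e : Localization.AtPrime p ≃ₐ[Γ(V, W)] V.presheaf.stalk (hW.fromSpec y) :=
    IsLocalization.algEquiv p.primeCompl _ _
  exact IsIntegrallyClosed.of_equiv e.symm.toRingEquiv

theorem bijective_of_frac {V : Scheme.{u}} [IsIntegral V] (hN : Pi1.IsNormalScheme V)
    {W : V.Opens} (hW : IsAffineOpen W) [Nonempty W]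
    (v : V) (hv : genericPoint V = v) (hvW : v ∈ W)
    {B K : Type u} [CommRing B] [CommRing K] (φ : Γ(V, W) →+* B) (hφ : φ.IsIntegral)
    (g : B →+* K) (hg : Function.Injective g)
    (ψ : V.presheaf.stalk v →+* K) (hψ : Function.Bijective ψ)
    (hc : ∀ a, ψ (V.presheaf.germ W v hvW a) = g (φ a)) : Function.Bijective φ := by
  subst hv
  have hfr : IsFractionRing Γ(V, W) V.functionField :=
    functionField_isFractionRing_of_isAffineOpen V W hW
  have hic : IsIntegrallyClosed Γ(V, W) := isIntegrallyClosed_sections hN hW
  have hgerm : ∀ a : Γ(V, W), algebraMap Γ(V, W) V.functionField a =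
      V.presheaf.germ W (genericPoint V) hvW a := fun a => rfl
  constructor
  · intro a a' h
    have h1 : ψ (V.presheaf.germ W (genericPoint V) hvW a) =
        ψ (V.presheaf.germ W (genericPoint V) hvW a') := by rw [hc, hc, h]
    have h2 := hψ.1 h1
    rw [← hgerm, ← hgerm] at h2
    exact IsFractionRing.injective Γ(V, W) V.functionField h2
  · intro b
    obtain ⟨c, hcb⟩ := hψ.2 (g b)
    obtain ⟨p, hpm, hpe⟩ := hφ b
    have hint : IsIntegral Γ(V, W) c := by
      refine ⟨p, hpm, ?_⟩
      apply hψ.1
      rw [map_zero, Polynomial.hom_eval₂, hcb]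
      have : ψ.comp (algebraMap Γ(V, W) V.functionField) = g.comp φ := by
        ext a
        simp only [RingHom.comp_apply]
        rw [hgerm, hc]
      rw [this, ← Polynomial.hom_eval₂, hpe, map_zero]
    obtain ⟨a, ha⟩ := IsIntegrallyClosed.algebraMap_eq_of_integral hint
    refine ⟨a, hg ?_⟩
    rw [← hc, ← hgerm, ha, hcb]

theorem residue_bijective_of_isField (R : Type u) [CommRing R] [IsLocalRing R] (hR : IsField R) :
    Function.Bijective (IsLocalRing.residue R) := by
  refine ⟨?_, IsLocalRing.residue_surjective⟩
  rw [injective_iff_map_eq_zero]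
  intro x hx
  rw [IsLocalRing.residue_eq_zero_iff] at hx
  rwa [IsLocalRing.isField_iff_maximalIdeal_eq.mp hR, Ideal.mem_bot] at hx

theorem stalkMap_bijective {U V : Scheme.{u}} (h : U ⟶ V) (x : U)
    (hU : IsField (U.presheaf.stalk x)) (hV : IsField (V.presheaf.stalk (h x)))
    (hbir : Function.Bijective (h.residueFieldMap x).hom) :
    Function.Bijective (h.stalkMap x).hom := by
  have hrU : Function.Bijective (U.residue x).hom := residue_bijective_of_isField _ hU
  have hrV : Function.Bijective (V.residue (h x)).hom := residue_bijective_of_isField _ hV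
  have hcomm : ∀ s, (U.residue x).hom ((h.stalkMap x).hom s) =
      (h.residueFieldMap x).hom ((V.residue (h x)).hom s) := by
    intro s
    have := Scheme.residue_residueFieldMap h x
    exact (congrArg (fun t => t.hom s) this).symm
  constructor
  · intro s s' hs
    have h1 : (h.residueFieldMap x).hom ((V.residue (h x)).hom s) =
        (h.residueFieldMap x).hom ((V.residue (h x)).hom s') := by
      rw [← hcomm, ← hcomm, hs]
    exact hrV.1 (hbir.1 h1)
  · intro t
    obtain ⟨r, hr⟩ := hbir.2 ((U.residue x).hom t)
    obtain ⟨s, hs⟩ := hrV.2 r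
    refine ⟨s, hrU.1 ?_⟩
    rw [hcomm, hs, hr]

theorem main3568 {U V : Scheme.{u}} [AlgebraicGeometry.IsIntegral U] [AlgebraicGeometry.IsIntegral V]
    (hN : Pi1.IsNormalScheme V) (h : U ⟶ V) [UniversallyClosed h]
    [UniversallyInjective h] (hgen : h.base (genericPoint U) = genericPoint V)
    (hbir : Function.Bijective (h.residueFieldMap (genericPoint U)).hom) :
    IsIso h := by
  have hgen' : h (genericPoint U) = genericPoint V := hgen
  have hsurj : Surjective h := by
    constructor
    intro v
    have hcl : IsClosed (Set.range h) := h.isClosedMap.isClosed_range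
    have hmem : genericPoint V ∈ Set.range h := ⟨_, hgen'⟩
    have hsub : closure {genericPoint V} ⊆ Set.range h :=
      hcl.closure_subset_iff.mpr (Set.singleton_subset_iff.mpr hmem)
    rw [(genericPoint_spec V).def] at hsub
    exact hsub trivial
  have hUH : FlatMor.IsUnivHomeo h := Groth.Agent.Helper9.UH.isUnivHomeo_of h
  have haff := isAffineHom_of_isUnivHomeo h hUH
  have hint := isIntegralHom_of_isUnivHomeo h hUH
  have hfU : IsField (U.presheaf.stalk (genericPoint U)) := Field.toIsField U.functionField
  have hfV : IsField (V.presheaf.stalk (h (genericPoint U))) := by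
    rw [hgen']; exact Field.toIsField V.functionField
  have hψ := stalkMap_bijective h (genericPoint U) hfU hfV hbir
  apply (IsZariskiLocalAtTarget.iff_of_iSup_eq_top (P := MorphismProperty.isomorphisms Scheme)
    (f := h) (fun W : V.affineOpens => W.1) (iSup_affineOpens_eq_top V)).mpr
  intro W
  refine (isIso_morphismRestrict_iff_isIso_app h W.2).mpr ?_
  rw [ConcreteCategory.isIso_iff_bijective]
  by_cases hne : Nonempty W.1
  · have hvW : h (genericPoint U) ∈ W.1 := by
      rw [hgen']
      exact ((genericPoint_spec V).mem_open_set_iff W.1.isOpen).mpr (by simpa using hne)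
    have hne' : Nonempty ↥(h ⁻¹ᵁ W.1) := ⟨⟨genericPoint U, hvW⟩⟩
    exact bijective_of_frac hN W.2 (h (genericPoint U)) hgen'.symm hvW (h.app W.1).hom
      (h.isIntegral_app W.1 W.2)
      (U.presheaf.germ (h ⁻¹ᵁ W.1) (genericPoint U) hvW).hom
      (germ_injective_of_isIntegral U (genericPoint U) hvW)
      (h.stalkMap (genericPoint U)).hom hψ (fun a => by
        have := Scheme.Hom.germ_stalkMap h W.1 (genericPoint U) hvW
        exact congrArg (fun t => t.hom a) this)
  · have hW : (W.1 : Set V) = ∅ := by
      by_contra hc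
      obtain ⟨v, hv⟩ := Set.nonempty_iff_ne_empty.mpr hc
      exact hne ⟨⟨v, hv⟩⟩
    have hWbot : W.1 = ⊥ := TopologicalSpace.Opens.ext hW
    have h1 : Subsingleton Γ(V, W.1) := by rw [hWbot]; infer_instance
    have h2 : Subsingleton Γ(U, h ⁻¹ᵁ W.1) := by
      rw [hWbot, Scheme.Hom.preimage_bot]; infer_instance
    exact ⟨fun a b _ => Subsingleton.elim a b, fun b => ⟨0, Subsingleton.elim _ _⟩⟩

end Groth.Agent.Helper7.BirIso
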