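import Mathlib

universe u
open AlgebraicGeometry CategoryTheory

/-! helper7: birationality via partial isomorphisms versus mutually inverse dominant rational maps. -/

namespace Groth.Agent.Helper7.Birat


set_option backward.isDefEq.respectTransparency false in
/-- Two partial morphisms which are mutually inverse where defined give an isomorphism of opens. -/
theorem iso_of_partial_inverse {X Y : Scheme.{u}} (W : X.Opens) (W' : Y.Opens)
    (α : W.toScheme ⟶ Y) (β : W'.toScheme ⟶ X)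
    (h1 : (α ∣_ W') ≫ β = (α ⁻¹ᵁ W').ι ≫ W.ι)
    (h2 : (β ∣_ W) ≫ α = (β ⁻¹ᵁ W).ι ≫ W'.ι) :
    Nonempty ((α ⁻¹ᵁ W').toScheme ≅ (β ⁻¹ᵁ W).toScheme) := by
  have hr1 : Set.range (α ∣_ W') ⊆ Set.range (β ⁻¹ᵁ W).ι := by
    rintro _ ⟨z, rfl⟩
    rw [Scheme.Opens.range_ι]
    show β ((α ∣_ W') z) ∈ W
    have := congr($(h1) z)
    simp only [Scheme.Hom.comp_apply] at this
    rw [this]
    exact (((α ⁻¹ᵁ W').ι z)).2
  have hr2 : Set.range (β ∣_ W) ⊆ Set.range (α ⁻¹ᵁ W').ι := by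
    rintro _ ⟨z, rfl⟩
    rw [Scheme.Opens.range_ι]
    show α ((β ∣_ W) z) ∈ W'
    have := congr($(h2) z)
    simp only [Scheme.Hom.comp_apply] at this
    rw [this]
    exact (((β ⁻¹ᵁ W).ι z)).2
  let p := IsOpenImmersion.lift (β ⁻¹ᵁ W).ι (α ∣_ W') hr1
  let q := IsOpenImmersion.lift (α ⁻¹ᵁ W').ι (β ∣_ W) hr2
  have hp : p ≫ (β ⁻¹ᵁ W).ι = α ∣_ W' := IsOpenImmersion.lift_fac _ _ _
  have hq : q ≫ (α ⁻¹ᵁ W').ι = β ∣_ W := IsOpenImmersion.lift_fac _ _ _
  refine ⟨⟨p, q, ?_, ?_⟩⟩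
  · rw [← cancel_mono ((α ⁻¹ᵁ W').ι ≫ W.ι)]
    rw [Category.assoc, reassoc_of% hq, morphismRestrict_ι, reassoc_of% hp, h1, Category.id_comp]
  · rw [← cancel_mono ((β ⁻¹ᵁ W).ι ≫ W'.ι)]
    rw [Category.assoc, reassoc_of% hp, morphismRestrict_ι, reassoc_of% hq, h2, Category.id_comp]



set_option backward.isDefEq.respectTransparency false in
theorem claimA {X Y : Scheme.{u}} [PreirreducibleSpace X] [Nonempty Y] (F : X.PartialMap Y)
    [IsDominant F.hom] (G : Y.PartialMap X) (h : (F.comp G).equiv (Scheme.PartialMap.id X)) :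
    ∃ (W : X.Opens) (_ : Dense (W : Set X)) (hWU : W ≤ F.domain)
      (α' : W.toScheme ⟶ G.domain.toScheme),
      α' ≫ G.domain.ι = X.homOfLE hWU ≫ F.hom ∧ α' ≫ G.hom = W.ι := by
  obtain ⟨W, hW, hWl, hWr, e⟩ := h
  have hWU : W ≤ F.domain := hWl.trans (F.domain.ι_image_le _)
  refine ⟨W, hW, hWU, X.homOfLE hWl ≫ (F.domain.ι.isoImage _).inv ≫ F.hom ∣_ G.domain, ?_, ?_⟩
  · simp only [Category.assoc, morphismRestrict_ι]
    have : X.homOfLE hWl ≫ (F.domain.ι.isoImage (F.hom ⁻¹ᵁ G.domain)).inv ≫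
        (F.hom ⁻¹ᵁ G.domain).ι = X.homOfLE hWU := by
      rw [← cancel_mono F.domain.ι]
      simp
    rw [← this]
    simp only [Category.assoc]
  · have e2 : X.homOfLE hWr ≫ (⊤ : X.Opens).ι = W.ι := X.homOfLE_ι _
    rw [← e2]
    simpa using e



instance isDominant_toPartialMap_hom {X Y : Scheme.{u}} (φ : X.PartialIso Y) :
    IsDominant φ.toPartialMap.hom := by
  have := Opens.isDominant_ι φ.dense_target
  show IsDominant (φ.iso.hom ≫ φ.target.ι)
  infer_instance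

instance isDominant_iso_hom_ι {X Y : Scheme.{u}} (φ : X.PartialIso Y) :
    IsDominant (φ.iso.hom ≫ φ.target.ι) := isDominant_toPartialMap_hom φ

set_option backward.isDefEq.respectTransparency false in
theorem comp_symm_equiv_aux {X Y : Scheme.{u}} [PreirreducibleSpace X] [Nonempty Y]
    (U : X.Opens) (hU : Dense (U : Set X)) (V : Y.Opens) (hV : Dense (V : Set Y))
    (a : U.toScheme ⟶ V.toScheme) (b : V.toScheme ⟶ U.toScheme) (hab : a ≫ b = 𝟙 _)
    [IsDominant (a ≫ V.ι)] :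
    (Scheme.PartialMap.comp ⟨U, hU, a ≫ V.ι⟩ ⟨V, hV, b ≫ U.ι⟩).equiv (Scheme.PartialMap.id X) := by
  refine ⟨(Scheme.PartialMap.comp ⟨U, hU, a ≫ V.ι⟩ ⟨V, hV, b ≫ U.ι⟩).domain,
    (Scheme.PartialMap.comp ⟨U, hU, a ≫ V.ι⟩ ⟨V, hV, b ≫ U.ι⟩).dense_domain, le_rfl, le_top, ?_⟩
  have hres : (a ≫ V.ι) ∣_ V = ((a ≫ V.ι) ⁻¹ᵁ V).ι ≫ a := by
    rw [← cancel_mono V.ι, morphismRestrict_ι]
    simp
  simp only [Scheme.PartialMap.restrict_hom, Scheme.PartialMap.comp_hom,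
    Scheme.Hom.toPartialMap_hom]
  rw [hres]
  simp only [Category.assoc, reassoc_of% hab]
  simp only [Scheme.Hom.isoImage_inv_ι, Category.comp_id, Scheme.topIso_hom]
  exact (X.homOfLE_ι _).trans (X.homOfLE_ι _).symm

theorem comp_symm_equiv {X Y : Scheme.{u}} [PreirreducibleSpace X] [Nonempty Y]
    (φ : X.PartialIso Y) :
    (φ.toPartialMap.comp φ.symm.toPartialMap).equiv (Scheme.PartialMap.id X) :=
  comp_symm_equiv_aux φ.source φ.dense_source φ.target φ.dense_target φ.iso.hom φ.iso.inv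
    φ.iso.hom_inv_id

set_option backward.isDefEq.respectTransparency false in
theorem birational_of_partialMaps {X Y : Scheme.{u}} [IsIntegral X] [IsIntegral Y]
    (F : X.PartialMap Y) (G : Y.PartialMap X) [IsDominant F.hom] [IsDominant G.hom]
    (e1 : (F.comp G).equiv (Scheme.PartialMap.id X))
    (e2 : (G.comp F).equiv (Scheme.PartialMap.id Y)) :
    Scheme.Birational X Y := by
  obtain ⟨W, hW, hWU, α', hα1, hα2⟩ := claimA F G e1
  obtain ⟨W', hW', hWV, β', hβ1, hβ2⟩ := claimA G F e2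
  have h1 : ((α' ≫ G.domain.ι) ∣_ W') ≫ (β' ≫ F.domain.ι) =
      ((α' ≫ G.domain.ι) ⁻¹ᵁ W').ι ≫ W.ι := by
    have : ((α' ≫ G.domain.ι) ∣_ W') ≫ Y.homOfLE hWV =
        ((α' ≫ G.domain.ι) ⁻¹ᵁ W').ι ≫ α' := by
      rw [← cancel_mono G.domain.ι]
      simp only [Category.assoc, Scheme.homOfLE_ι, morphismRestrict_ι]
    rw [hβ1, reassoc_of% this, hα2]
  have h2 : ((β' ≫ F.domain.ι) ∣_ W) ≫ (α' ≫ G.domain.ι) =
      ((β' ≫ F.domain.ι) ⁻¹ᵁ W).ι ≫ W'.ι := by
    have : ((β' ≫ F.domain.ι) ∣_ W) ≫ X.homOfLE hWU =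
        ((β' ≫ F.domain.ι) ⁻¹ᵁ W).ι ≫ β' := by
      rw [← cancel_mono F.domain.ι]
      simp only [Category.assoc, Scheme.homOfLE_ι, morphismRestrict_ι]
    rw [hα1, reassoc_of% this, hβ2]
  obtain ⟨i⟩ := iso_of_partial_inverse W W' _ _ h1 h2
  have hdomα : IsDominant (α' ≫ G.domain.ι) := by
    rw [hα1]
    have := Opens.isDominant_homOfLE hW hWU
    infer_instance
  have hdomβ : IsDominant (β' ≫ F.domain.ι) := by
    rw [hβ1]
    have := Opens.isDominant_homOfLE hW' hWV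
    infer_instance
  refine ⟨⟨W.ι ''ᵁ ((α' ≫ G.domain.ι) ⁻¹ᵁ W'), ?_, W'.ι ''ᵁ ((β' ≫ F.domain.ι) ⁻¹ᵁ W), ?_,
    (W.ι.isoImage _).symm ≪≫ i ≪≫ (W'.ι.isoImage _)⟩⟩
  · refine (W.ι ''ᵁ ((α' ≫ G.domain.ι) ⁻¹ᵁ W')).2.dense ?_
    obtain ⟨_, hy, z, rfl⟩ :=
      (α' ≫ G.domain.ι).denseRange.inter_open_nonempty _ W'.2 hW'.nonempty
    exact ⟨W.ι z, ⟨z, hy, rfl⟩⟩
  · refine (W'.ι ''ᵁ ((β' ≫ F.domain.ι) ⁻¹ᵁ W)).2.dense ?_
    obtain ⟨_, hy, z, rfl⟩ :=
      (β' ≫ F.domain.ι).denseRange.inter_open_nonempty _ W.2 hW.nonempty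
    exact ⟨W'.ι z, ⟨z, hy, rfl⟩⟩

theorem birational_of_inverse {X Y : Scheme.{u}} [IsIntegral X] [IsIntegral Y]
    (f : X ⤏ Y) (g : Y ⤏ X) [f.IsDominant] [g.IsDominant]
    (hfg : f.comp g = Scheme.RationalMap.id X) (hgf : g.comp f = Scheme.RationalMap.id Y) :
    Scheme.Birational X Y := by
  have e1 : (f.representative.comp g.representative).equiv (Scheme.PartialMap.id X) := by
    rw [← Scheme.PartialMap.toRationalMap_eq_iff, ← Scheme.RationalMap.comp_def,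
      g.toRationalMap_representative]
    exact hfg
  have e2 : (g.representative.comp f.representative).equiv (Scheme.PartialMap.id Y) := by
    rw [← Scheme.PartialMap.toRationalMap_eq_iff, ← Scheme.RationalMap.comp_def,
      f.toRationalMap_representative]
    exact hgf
  exact birational_of_partialMaps _ _ e1 e2

theorem S14360_main (X Y : Scheme.{u}) [IsIntegral X] [IsIntegral Y] :
    Scheme.Birational X Y ↔
      ∃ (f : X ⤏ Y) (g : Y ⤏ X) (_ : f.IsDominant) (_ : g.IsDominant),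
        f.comp g = Scheme.RationalMap.id X ∧ g.comp f = Scheme.RationalMap.id Y := by
  constructor
  · rintro ⟨φ⟩
    refine ⟨φ.toRationalMap, φ.symm.toRationalMap, inferInstance, inferInstance, ?_, ?_⟩
    · rw [Scheme.RationalMap.toRationalMap_comp, Scheme.PartialMap.toRationalMap_eq_iff]
      exact comp_symm_equiv φ
    · rw [Scheme.RationalMap.toRationalMap_comp, Scheme.PartialMap.toRationalMap_eq_iff]
      exact comp_symm_equiv φ.symm
  · rintro ⟨f, g, hf, hg, hfg, hgf⟩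
    exact birational_of_inverse f g hfg hgf

end Groth.Agent.Helper7.Birat
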