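import Mathlib

/-! helper7: abstract poset codimension and catenary posets (used for PtTop statements). -/

namespace Groth.Agent.Helper7.CatLib

variable {P : Type*} [PartialOrder P]

/-- codimension of `a` in `b` in a poset -/
noncomputable def cd (a b : P) : ℕ∞ :=
  ⨆ (s : LTSeries P) (_ : s.head = a ∧ s.last ≤ b), (s.length : ℕ∞)

lemma le_cd {a b : P} (s : LTSeries P) (h1 : s.head = a) (h2 : s.last ≤ b) :
    (s.length : ℕ∞) ≤ cd a b :=
  le_iSup₂_of_le s ⟨h1, h2⟩ le_rfl

lemma cd_le {a b : P} {n : ℕ∞} (h : ∀ s : LTSeries P, s.head = a → s.last ≤ b → (s.length : ℕ∞) ≤ n) :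
    cd a b ≤ n :=
  iSup₂_le fun s hs => h s hs.1 hs.2

lemma length_eq_zero_of_head_eq_last (s : LTSeries P) (h : s.head = s.last) : s.length = 0 := by
  have := s.strictMono.injective h
  simpa [Fin.ext_iff] using this.symm

lemma cd_self (a : P) : cd a a = 0 := by
  refine le_antisymm (cd_le fun s h1 h2 => ?_) zero_le
  have : s.head = s.last := le_antisymm s.head_le_last (h2.trans h1.symm.le)
  rw [length_eq_zero_of_head_eq_last s this]
  rfl

lemma exists_max {a b : P} (hab : a ≤ b) (hfin : cd a b ≠ ⊤) :
    ∃ s : LTSeries P, s.head = a ∧ s.last ≤ b ∧ (s.length : ℕ∞) = cd a b := by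
  have hne : Nonempty {s : LTSeries P // s.head = a ∧ s.last ≤ b} :=
    ⟨⟨RelSeries.singleton _ a, by simp, by simpa using hab⟩⟩
  have heq : cd a b = ⨆ s : {s : LTSeries P // s.head = a ∧ s.last ≤ b}, (s.1.length : ℕ∞) := by
    rw [cd, iSup_subtype']
  rw [heq] at hfin ⊢
  obtain ⟨s, hs⟩ := ENat.exists_eq_iSup_of_lt_top (lt_top_iff_ne_top.mpr hfin)
  exact ⟨s.1, s.2.1, s.2.2, hs⟩


lemma last_eq_of_max {a b : P} (s : LTSeries P) (h1 : s.head = a) (h2 : s.last ≤ b)
    (hmax : (s.length : ℕ∞) = cd a b) : s.last = b := by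
  by_contra hne
  have hlt : s.last < b := lt_of_le_of_ne h2 hne
  have h3 := le_cd (a := a) (b := b) (s.snoc b hlt) (by simp [h1]) (by simp)
  rw [← hmax, RelSeries.snoc_length] at h3
  exact absurd (Nat.cast_le.mp h3) (by omega)

lemma covBy_of_max {a b : P} (s : LTSeries P) (h1 : s.head = a) (h2 : s.last ≤ b)
    (hmax : (s.length : ℕ∞) = cd a b) (i : Fin s.length) : s i.castSucc ⋖ s i.succ := by
  refine ⟨s.strictMono (Fin.castSucc_lt_succ), fun c hc1 hc2 => ?_⟩
  let t1 : LTSeries P := (s.take i.castSucc).snoc c (by rw [RelSeries.last_take]; exact hc1)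
  let t2 : LTSeries P := t1.append (s.drop i.succ)
    (by rw [RelSeries.last_snoc, RelSeries.head_drop]; exact hc2)
  have hh : t2.head = a := by
    simp only [t2, t1, RelSeries.head_append, RelSeries.head_snoc, RelSeries.head_take, h1]
  have hl : t2.last ≤ b := by
    simp only [t2, RelSeries.last_append, RelSeries.last_drop]
    exact h2
  have h3 := le_cd t2 hh hl
  rw [← hmax] at h3
  have h4 : t2.length = s.length + 1 := by
    simp only [t2, t1, RelSeries.append_length, RelSeries.snoc_length, RelSeries.take_length,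
      RelSeries.drop_length]
    have := i.2
    simp only [Fin.val_castSucc, Fin.val_succ]
    omega
  rw [h4] at h3
  exact absurd (Nat.cast_le.mp h3) (by omega)


lemma cd_covBy {a b : P} (h : a ⋖ b) : cd a b = 1 := by
  apply le_antisymm
  · refine cd_le fun s h1 h2 => ?_
    by_contra hlen
    have h2' : 2 ≤ s.length := by
      by_contra h3
      apply hlen
      have : s.length ≤ 1 := by omega
      exact_mod_cast this
    have e0 : s ⟨0, by omega⟩ = a := h1
    have l1 : s ⟨0, by omega⟩ < s ⟨1, by omega⟩ := s.strictMono (by simp [Fin.lt_def])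
    have l2 : s ⟨1, by omega⟩ < s ⟨2, by omega⟩ := s.strictMono (by simp [Fin.lt_def])
    have l3 : s ⟨2, by omega⟩ ≤ s.last := s.monotone (Fin.le_last _)
    rw [e0] at l1
    exact h.2 l1 (lt_of_lt_of_le l2 (l3.trans h2))
  · have := le_cd (a := a) (b := b) ((RelSeries.singleton _ a).snoc b h.lt) (by simp) (by simp)
    simpa using this

/-- catenary posets -/
def IsCat (P : Type*) [PartialOrder P] : Prop :=
  ∀ a b : P, a ≤ b → cd a b ≠ ⊤ ∧ ∀ s : LTSeries P, s.head = a → s.last = b →
    (∀ i : Fin s.length, s i.castSucc ⋖ s i.succ) → (s.length : ℕ∞) = cd a b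

lemma exists_saturated {a b : P} (hab : a ≤ b) (hfin : cd a b ≠ ⊤) :
    ∃ s : LTSeries P, s.head = a ∧ s.last = b ∧ (s.length : ℕ∞) = cd a b ∧
      ∀ i : Fin s.length, s i.castSucc ⋖ s i.succ := by
  obtain ⟨s, h1, h2, h3⟩ := exists_max hab hfin
  exact ⟨s, h1, last_eq_of_max s h1 h2 h3, h3, covBy_of_max s h1 h2 h3⟩

lemma smash_saturated (s₁ s₂ : LTSeries P) (h : s₁.last = s₂.head)
    (h1 : ∀ i : Fin s₁.length, s₁ i.castSucc ⋖ s₁ i.succ)
    (h2 : ∀ i : Fin s₂.length, s₂ i.castSucc ⋖ s₂ i.succ)
    (i : Fin (s₁.smash s₂ h).length) :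
    (s₁.smash s₂ h) i.castSucc ⋖ (s₁.smash s₂ h) i.succ := by
  refine Fin.addCases (fun j => ?_) (fun j => ?_) i
  · have := h1 j
    rw [← RelSeries.smash_castAdd h j, ← RelSeries.smash_succ_castAdd h j] at this
    exact this
  · have := h2 j
    rw [← RelSeries.smash_natAdd h j, ← RelSeries.smash_succ_natAdd h j] at this
    exact this

theorem isCat_iff : IsCat P ↔ (∀ a b : P, a ≤ b → cd a b ≠ ⊤) ∧
    (∀ a b c : P, a ≤ b → b ≤ c → cd a c = cd a b + cd b c) := by
  constructor
  · intro hcat
    refine ⟨fun a b hab => (hcat a b hab).1, fun a b c hab hbc => ?_⟩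
    obtain ⟨s₁, h11, h12, h13, h14⟩ := exists_saturated hab (hcat a b hab).1
    obtain ⟨s₂, h21, h22, h23, h24⟩ := exists_saturated hbc (hcat b c hbc).1
    have h : s₁.last = s₂.head := h12.trans h21.symm
    have := (hcat a c (hab.trans hbc)).2 (s₁.smash s₂ h) (by simp [h11]) (by simp [h22])
      (smash_saturated s₁ s₂ h h14 h24)
    rw [← this, ← h13, ← h23]
    simp
  · rintro ⟨hfin, hadd⟩
    have key : ∀ n : ℕ, ∀ (a b : P) (s : LTSeries P), s.length = n → s.head = a → s.last = b →
        (∀ i : Fin s.length, s i.castSucc ⋖ s i.succ) → (n : ℕ∞) = cd a b := by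
      intro n
      induction n with
      | zero =>
        intro a b s hn h1 h2 _
        have : a = b := by
          rw [← h1, ← h2]
          simp only [RelSeries.head, RelSeries.last]
          congr 1
          ext
          simp [hn]
        subst this
        rw [cd_self]; rfl
      | succ n ih =>
        intro a b s hn h1 h2 hsat
        have hn0 : s.length ≠ 0 := by omega
        have hm := s.eraseLast_last_rel_last hn0
        have hcov : s.eraseLast.last ⋖ s.last := by
          have := hsat ⟨s.length - 1, by omega⟩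
          convert this using 2
          · simp only [RelSeries.last_eraseLast]
            congr 1
          · simp only [RelSeries.last]
            congr 1
            ext
            simp
            omega
        have h3 := ih a s.eraseLast.last s.eraseLast (by simp [hn]) (by simp [h1]) rfl (by
          intro i
          have := hsat ⟨i.1, by have := i.2; simp at this; omega⟩
          exact this)
        have hle1 : a ≤ s.eraseLast.last := by
          rw [← h1]; exact LTSeries.head_le_last s.eraseLast
        have hle2 : s.eraseLast.last ≤ b := h2 ▸ hcov.le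
        rw [hadd a s.eraseLast.last b hle1 hle2, ← h3, ← h2, cd_covBy hcov]
        simp
    intro a b hab
    exact ⟨hfin a b hab, fun s h1 h2 hsat => key s.length a b s rfl h1 h2 hsat⟩

end Groth.Agent.Helper7.CatLib
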