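import Groth.Agent.Lib.Helper7.CatLib
import Groth.Prelude.Def_W4stktopologysheavesDim

/-! helper7: codimension via dimension functions, generic points of irreducible closed sets. -/

namespace Groth.Agent.Helper7.CatLib2
open Groth.Agent.Helper7.CatLib TopologicalSpace
universe u

section poset
variable {P : Type*} [PartialOrder P]

lemma le_of_strictMono (d : P → ℤ) (hd : ∀ a b : P, a < b → d a < d b) (s : LTSeries P) :
    ∀ (n : ℕ) (hn : n < s.length + 1), d s.head + n ≤ d (s ⟨n, hn⟩) := by
  intro n
  induction n with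
  | zero => intro hn; simp [RelSeries.head]
  | succ n ih =>
    intro hn
    have h1 := ih (by omega)
    have h2 : s ⟨n, by omega⟩ < s ⟨n + 1, hn⟩ := s.strictMono (by simp [Fin.lt_def])
    have h3 := hd _ _ h2
    push_cast
    omega

lemma length_le_of_strictMono (d : P → ℤ) (hd : ∀ a b : P, a < b → d a < d b) (s : LTSeries P) :
    (s.length : ℤ) ≤ d s.last - d s.head := by
  have := le_of_strictMono d hd s s.length (by omega)
  have e : s ⟨s.length, by omega⟩ = s.last := rfl
  rw [e] at this
  omega

lemma eq_of_saturated (d : P → ℤ) (hd : ∀ a b : P, a ⋖ b → d b = d a + 1) (s : LTSeries P)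
    (hs : ∀ i : Fin s.length, s i.castSucc ⋖ s i.succ) :
    ∀ (n : ℕ) (hn : n < s.length + 1), d (s ⟨n, hn⟩) = d s.head + n := by
  intro n
  induction n with
  | zero => intro hn; simp [RelSeries.head]
  | succ n ih =>
    intro hn
    have h1 := ih (by omega)
    have h2 := hd _ _ (hs ⟨n, by omega⟩)
    have e1 : (⟨n, by omega⟩ : Fin s.length).castSucc = ⟨n, by omega⟩ := rfl
    have e2 : (⟨n, by omega⟩ : Fin s.length).succ = ⟨n + 1, hn⟩ := rfl
    rw [e1, e2] at h2
    push_cast
    omega

lemma length_eq_of_saturated (d : P → ℤ) (hd : ∀ a b : P, a ⋖ b → d b = d a + 1) (s : LTSeries P)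
    (hs : ∀ i : Fin s.length, s i.castSucc ⋖ s i.succ) :
    (s.length : ℤ) = d s.last - d s.head := by
  have := eq_of_saturated d hd s hs s.length (by omega)
  have e : s ⟨s.length, by omega⟩ = s.last := rfl
  rw [e] at this
  omega

theorem cd_eq_of_dimFun (d : P → ℤ) (hd : ∀ a b : P, a < b → d a < d b)
    (hd' : ∀ a b : P, a ⋖ b → d b = d a + 1) {a b : P} (hab : a ≤ b) :
    cd a b = ((d b - d a).toNat : ℕ∞) := by
  have hmono : Monotone d := fun x y hxy => by
    rcases hxy.lt_or_eq with h | h
    · exact (hd _ _ h).le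
    · rw [h]
  have hle : cd a b ≤ ((d b - d a).toNat : ℕ∞) := by
    refine cd_le fun s h1 h2 => ?_
    have := length_le_of_strictMono d hd s
    have h3 := hmono h2
    rw [h1] at this
    have : s.length ≤ (d b - d a).toNat := by omega
    exact_mod_cast this
  have hfin : cd a b ≠ ⊤ := ne_top_of_le_ne_top (ENat.natCast_ne_top _) hle
  obtain ⟨s, h1, h2, h3, h4⟩ := exists_saturated hab hfin
  have := length_eq_of_saturated d hd' s h4
  rw [h1, h2] at this
  rw [← h3]
  have : s.length = (d b - d a).toNat := by omega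
  rw [this]

theorem isCat_of_dimFun (d : P → ℤ) (hd : ∀ a b : P, a < b → d a < d b)
    (hd' : ∀ a b : P, a ⋖ b → d b = d a + 1) : IsCat P := by
  intro a b hab
  have h := cd_eq_of_dimFun d hd hd' hab
  refine ⟨by rw [h]; exact ENat.natCast_ne_top _, fun s h1 h2 hs => ?_⟩
  have := length_eq_of_saturated d hd' s hs
  rw [h1, h2] at this
  rw [h]
  have : s.length = (d b - d a).toNat := by omega
  rw [this]

end poset

section top
variable {X : Type u} [TopologicalSpace X]

lemma codim_eq_cd (Y Y' : IrreducibleCloseds X) : PtTop.codim Y (Y' : Set X) = cd Y Y' := rfl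

lemma isCatenarySpace_iff_isCat : PtTop.IsCatenarySpace X ↔ IsCat (IrreducibleCloseds X) := Iff.rfl

/-- closure of a point as an irreducible closed set -/
def cl (x : X) : IrreducibleCloseds X :=
  ⟨closure {x}, isIrreducible_singleton.closure, isClosed_closure⟩

@[simp] lemma coe_cl (x : X) : (cl x : Set X) = closure {x} := rfl

lemma cl_le_cl {x y : X} : cl y ≤ cl x ↔ x ⤳ y := by
  rw [specializes_iff_closure_subset]
  exact Iff.rfl

variable [QuasiSober X]

/-- generic point of an irreducible closed set -/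
noncomputable def gp (T : IrreducibleCloseds X) : X := T.isIrreducible.genericPoint

lemma closure_gp (T : IrreducibleCloseds X) : closure {gp T} = (T : Set X) := by
  have := T.isIrreducible.isGenericPoint_genericPoint_closure
  rw [T.isClosed.closure_eq] at this
  exact this

@[simp] lemma cl_gp (T : IrreducibleCloseds X) : cl (gp T) = T :=
  IrreducibleCloseds.ext (closure_gp T)

lemma gp_specializes {T T' : IrreducibleCloseds X} (h : T ≤ T') : gp T' ⤳ gp T := by
  rw [← cl_le_cl]; simpa using h

lemma gp_ne {T T' : IrreducibleCloseds X} (h : T < T') : gp T' ≠ gp T := by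
  intro he
  have : T' = T := by rw [← cl_gp T', he, cl_gp]
  exact h.ne this.symm

variable [T0Space X]

@[simp] lemma gp_cl (x : X) : gp (cl x) = x := by
  have h : closure {gp (cl x)} = closure {x} := closure_gp (cl x)
  have h1 : gp (cl x) ⤳ x := by rw [specializes_iff_closure_subset, h]
  have h2 : x ⤳ gp (cl x) := by rw [specializes_iff_closure_subset, h]
  exact (h1.antisymm h2).eq

lemma isImmediate_of_covBy {T T' : IrreducibleCloseds X} (h : T ⋖ T') :
    PtTop.IsImmediateSpecialization (gp T') (gp T) := by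
  refine ⟨gp_specializes h.le, gp_ne h.lt, fun z hz1 hz2 => ?_⟩
  have h1 : cl z ≤ T' := by rw [← cl_gp T']; exact cl_le_cl.mpr hz1
  have h2 : T ≤ cl z := by rw [← cl_gp T]; exact cl_le_cl.mpr hz2
  rcases h.eq_or_eq h2 h1 with e | e
  · right; rw [← gp_cl z, e]
  · left; rw [← gp_cl z, e]

theorem cd_eq_of_isDimensionFunction (δ : X → ℤ) (hδ : PtTop.IsDimensionFunction δ)
    {T T' : IrreducibleCloseds X} (h : T ≤ T') :
    cd T T' = ((δ (gp T') - δ (gp T)).toNat : ℕ∞) :=
  cd_eq_of_dimFun (fun T => δ (gp T))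
    (fun _ _ hab => hδ.1 _ _ (gp_specializes hab.le) (gp_ne hab))
    (fun _ _ hab => hδ.2 _ _ (isImmediate_of_covBy hab)) h

theorem isCat_of_isDimensionFunction (δ : X → ℤ) (hδ : PtTop.IsDimensionFunction δ) :
    IsCat (IrreducibleCloseds X) :=
  isCat_of_dimFun (fun T => δ (gp T))
    (fun _ _ hab => hδ.1 _ _ (gp_specializes hab.le) (gp_ne hab))
    (fun _ _ hab => hδ.2 _ _ (isImmediate_of_covBy hab))

end top

end Groth.Agent.Helper7.CatLib2
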