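import Mathlib.Topology.KrullDimension
import Mathlib.Topology.Inseparable
import Mathlib.Topology.Sober

/-!
# Helper library (helper7): lifting chains of specializations, Krull dimension
-/

set_option autoImplicit false

namespace Groth.Agent.Helper7

open Topology TopologicalSpace

universe u v

/-- Lifting a sequence along a fibration of relations. -/
theorem exists_seq_lift_of_fibration {α : Type u} {β : Type v} (r : α → α → Prop)
    (s : β → β → Prop) (f : α → β) (hfib : Relation.Fibration r s f)
    (hsurj : Function.Surjective f) (b : ℕ → β) (hb : ∀ i, s (b (i + 1)) (b i)) :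
    ∃ a : ℕ → α, (∀ i, f (a i) = b i) ∧ ∀ i, r (a (i + 1)) (a i) := by
  classical
  obtain ⟨a0, ha0⟩ := hsurj (b 0)
  have hstep : ∀ i (x : {x : α // f x = b i}), ∃ y : {x : α // f x = b (i + 1)}, r y.1 x.1 := by
    intro i x
    have h : s (b (i + 1)) (f x.1) := by rw [x.2]; exact hb i
    obtain ⟨y, hy1, hy2⟩ := hfib h
    exact ⟨⟨y, hy2⟩, hy1⟩
  choose step hstep' using hstep
  let a : ∀ i, {x : α // f x = b i} := fun i => Nat.rec ⟨a0, ha0⟩ (fun i x => step i x) i
  exact ⟨fun i => (a i).1, fun i => (a i).2, fun i => hstep' i (a i)⟩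

variable {X Y : Type u} [TopologicalSpace X] [TopologicalSpace Y]

/-- The irreducible closed set `closure {x}`. -/
def irrClosure (x : X) : IrreducibleCloseds X :=
  ⟨closure {x}, isIrreducible_singleton.closure, isClosed_closure⟩

theorem irrClosure_le_of_specializes {x y : X} (h : x ⤳ y) : irrClosure y ≤ irrClosure x :=
  show closure {y} ⊆ closure {x} from specializes_iff_closure_subset.mp h

theorem map_eq_of_irrClosure_eq [T0Space Y] {f : X → Y} (hf : Continuous f) {x y : X}
    (h : irrClosure x = irrClosure y) : f x = f y := by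
  have h' : closure ({x} : Set X) = closure {y} := congrArg (fun Z : IrreducibleCloseds X => Z.1) h
  exact ((inseparable_iff_closure_eq.mpr h').map hf).eq

/-- Stacks 0542-type statement: Krull dimension does not drop along a surjective map onto a sober
space along which specializations or generalizations lift. -/
theorem topologicalKrullDim_le_of_surjective [QuasiSober Y] [T0Space Y] (f : X → Y)
    (hf : Continuous f) (hsurj : Function.Surjective f)
    (hlift : SpecializingMap f ∨ GeneralizingMap f) :
    topologicalKrullDim Y ≤ topologicalKrullDim X := by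
  unfold topologicalKrullDim
  rw [Order.krullDim]
  refine iSup_le fun p => ?_
  suffices h : ∃ q : LTSeries (IrreducibleCloseds X), q.length = p.length by
    obtain ⟨q, hq⟩ := h
    rw [← hq]; exact Order.LTSeries.length_le_krullDim q
  let η : IrreducibleCloseds Y → Y := fun Z => Z.2.genericPoint
  have hη : ∀ Z : IrreducibleCloseds Y, IsGenericPoint (η Z) (Z : Set Y) := fun Z =>
    Z.2.isGenericPoint_genericPoint Z.3
  have hη_le : ∀ {Z Z' : IrreducibleCloseds Y}, Z ≤ Z' → η Z' ⤳ η Z := fun {Z Z'} h =>
    (hη Z').specializes (h (hη Z).mem)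
  have hη_inj : ∀ {Z Z' : IrreducibleCloseds Y}, η Z = η Z' → Z = Z' := by
    intro Z Z' h
    apply SetLike.coe_injective
    rw [← (hη Z).def, ← (hη Z').def, h]
  set n := p.length with hn
  have hmono : Monotone p.toFun := p.strictMono.monotone
  rcases hlift with hspec | hgen
  · -- specializing: lift from the top
    let g : ℕ → Y := fun i => η (p ⟨n - i, Nat.lt_succ_of_le (Nat.sub_le n i)⟩)
    have hg : ∀ i, g i ⤳ g (i + 1) := fun i =>
      hη_le (hmono (Fin.mk_le_mk.mpr (Nat.sub_le_sub_left (Nat.le_succ i) n)))
    obtain ⟨x, hx1, hx2⟩ := exists_seq_lift_of_fibration (flip (· ⤳ ·)) (flip (· ⤳ ·)) f hspec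
      hsurj g hg
    refine ⟨LTSeries.mk n (fun i => irrClosure (x (n - i))) ?_, rfl⟩
    rw [Fin.strictMono_iff_lt_succ]
    intro i
    have hi : (i : ℕ) < n := i.2
    have hk : n - (i : ℕ) = (n - ((i : ℕ) + 1)) + 1 := by omega
    simp only [Fin.val_castSucc, Fin.val_succ]
    refine lt_of_le_of_ne ?_ ?_
    · rw [hk]
      exact irrClosure_le_of_specializes (hx2 (n - ((i : ℕ) + 1)))
    · intro heq
      have h1 := map_eq_of_irrClosure_eq hf heq
      rw [hx1, hx1] at h1
      have h2 := hη_inj h1
      have h3 := p.strictMono.injective h2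
      simp only [Fin.mk.injEq] at h3
      omega
  · -- generalizing: lift from the bottom
    let g : ℕ → Y := fun i => η (p ⟨min i n, Nat.lt_succ_of_le (min_le_right i n)⟩)
    have hg : ∀ i, g (i + 1) ⤳ g i := fun i =>
      hη_le (hmono (Fin.mk_le_mk.mpr (min_le_min_right n (Nat.le_succ i))))
    obtain ⟨x, hx1, hx2⟩ := exists_seq_lift_of_fibration (· ⤳ ·) (· ⤳ ·) f hgen hsurj g hg
    refine ⟨LTSeries.mk n (fun i => irrClosure (x i)) ?_, rfl⟩
    rw [Fin.strictMono_iff_lt_succ]
    intro i
    have hi : (i : ℕ) < n := i.2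
    simp only [Fin.val_castSucc, Fin.val_succ]
    refine lt_of_le_of_ne ?_ ?_
    · exact irrClosure_le_of_specializes (hx2 i)
    · intro heq
      have h1 := map_eq_of_irrClosure_eq hf heq
      rw [hx1, hx1] at h1
      have h2 := hη_inj h1
      have h3 := p.strictMono.injective h2
      simp only [Fin.mk.injEq] at h3
      omega
end Groth.Agent.Helper7
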