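import Mathlib

set_option autoImplicit false

/-! helper7: constructible topology on quasi-separated schemes: T2, compactness of
quasi-compact opens, and quasi-compact iff proper for the constructible topologies. -/

namespace Groth.Agent.Helper7.ConsTop

open Topology Set Filter

universe u

theorem isProperMap_of_cover {X Y : Type*} [TopologicalSpace X] [TopologicalSpace Y] [T2Space Y]
    {f : X → Y} (hf : Continuous f)
    (h : ∀ y : Y, ∃ U : Set Y, IsOpen U ∧ y ∈ U ∧ IsCompact (f ⁻¹' U)) : IsProperMap f := by
  rw [isProperMap_iff_ultrafilter]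
  refine ⟨hf, fun 𝒰 y hy => ?_⟩
  obtain ⟨U, hU, hyU, hc⟩ := h y
  have hmem : f ⁻¹' U ∈ (𝒰 : Filter X) := hy (hU.mem_nhds hyU)
  obtain ⟨x, hx, hle⟩ := hc.ultrafilter_le_nhds 𝒰 (by simpa using hmem)
  refine ⟨x, ?_, hle⟩
  have h1 : Tendsto f 𝒰 (𝓝 (f x)) := (hf.tendsto x).mono_left hle
  exact tendsto_nhds_unique h1 hy

theorem t2Space_constructibleTopology (X : Type*) [TopologicalSpace X] [T0Space X]
    [PrespectralSpace X] : @T2Space X (constructibleTopology X) := by
  refine @T2Space.mk X (constructibleTopology X) fun x y hxy => ?_
  obtain ⟨U, hU, hxor⟩ := exists_isOpen_xor_mem hxy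
  rcases hxor with ⟨hx, hy⟩ | ⟨hy, hx⟩
  · obtain ⟨V, ⟨hVo, hVc⟩, hxV, hVU⟩ :=
      (PrespectralSpace.isTopologicalBasis (X := X)).exists_subset_of_mem_open hx hU
    refine ⟨V, Vᶜ, hVc.isOpen_constructibleTopology_of_isOpen hVo,
      IsCompact.isOpen_constructibleTopology_of_isClosed (s := Vᶜ) (by simpa using hVc)
        hVo.isClosed_compl, hxV, fun h => hy (hVU h), disjoint_compl_right⟩
  · obtain ⟨V, ⟨hVo, hVc⟩, hyV, hVU⟩ :=
      (PrespectralSpace.isTopologicalBasis (X := X)).exists_subset_of_mem_open hy hU
    refine ⟨Vᶜ, V, IsCompact.isOpen_constructibleTopology_of_isClosed (s := Vᶜ) (by simpa using hVc)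
        hVo.isClosed_compl, hVc.isOpen_constructibleTopology_of_isOpen hVo,
        fun h => hx (hVU h), hyV, disjoint_compl_left⟩

theorem constructibleTopology_le (X : Type*) [t : TopologicalSpace X] [PrespectralSpace X] :
    constructibleTopology X ≤ t := by
  intro s hs
  obtain ⟨S, hS, rfl⟩ := (PrespectralSpace.isTopologicalBasis (X := X)).open_eq_sUnion hs
  exact @isOpen_sUnion X (constructibleTopology X) S fun t ht =>
    (hS ht).2.isOpen_constructibleTopology_of_isOpen (hS ht).1

theorem isCompact_of_isCompact_constructibleTopology {X : Type*} [t : TopologicalSpace X]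
    [PrespectralSpace X] {s : Set X} (hs : @IsCompact X (constructibleTopology X) s) :
    IsCompact s := by
  have hc : @Continuous X X (constructibleTopology X) t id :=
    continuous_id_iff_le.mpr (constructibleTopology_le X)
  have := @IsCompact.image X X (constructibleTopology X) t s id hs hc
  simpa using this

theorem isCompact_constructibleTopology_of_isOpen {X : Type*} [TopologicalSpace X]
    [QuasiSeparatedSpace X] [QuasiSober X] [PrespectralSpace X] {W : Set X} (hWo : IsOpen W)
    (hWc : IsCompact W) : @IsCompact X (constructibleTopology X) W := by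
  have e := hWo.isOpenEmbedding_subtypeVal
  have : CompactSpace W := isCompact_iff_compactSpace.mp hWc
  have : QuasiSeparatedSpace W := e.quasiSeparatedSpace
  have : QuasiSober W := e.quasiSober
  have : PrespectralSpace W := e.prespectralSpace
  have hcpt : CompactSpace (WithConstructibleTopology W) := inferInstance
  let g : WithConstructibleTopology W → X := fun x => (WithTopology.ofTopology x).1
  have hg : @Continuous _ X _ (constructibleTopology X) g := by
    rw [continuous_generateFrom_iff]
    intro s hs
    rw [WithConstructibleTopology.isOpen_iff]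
    change IsOpen[constructibleTopology W] (Subtype.val ⁻¹' s)
    rcases hs with ⟨ho, hc⟩ | ⟨hcl, hc⟩
    · apply IsCompact.isOpen_constructibleTopology_of_isOpen
      · rw [e.isInducing.isCompact_iff, Subtype.image_preimage_coe]
        exact QuasiSeparatedSpace.inter_isCompact W s hWo hWc ho hc
      · exact ho.preimage continuous_subtype_val
    · apply IsCompact.isOpen_constructibleTopology_of_isClosed
      · rw [← preimage_compl, e.isInducing.isCompact_iff, Subtype.image_preimage_coe]
        exact QuasiSeparatedSpace.inter_isCompact W sᶜ hWo hWc hcl.isOpen_compl hc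
      · exact hcl.preimage continuous_subtype_val
  have h1 := @isCompact_range _ X _ (constructibleTopology X) _ g hg
  have h2 : range g = W := by
    ext x
    constructor
    · rintro ⟨y, rfl⟩
      exact (WithTopology.ofTopology y).2
    · intro hx
      exact ⟨WithTopology.toTopology _ ⟨x, hx⟩, rfl⟩
  rw [h2] at h1
  exact h1

open AlgebraicGeometry in
theorem quasiCompact_iff_isProperMap {X Y : Scheme.{u}} [QuasiSeparatedSpace X]
    [QuasiSeparatedSpace Y] (f : X ⟶ Y) :
    QuasiCompact f ↔ @IsProperMap X Y (constructibleTopology X) (constructibleTopology Y) f := by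
  constructor
  · intro hf
    have hcont : @Continuous X Y (constructibleTopology X) (constructibleTopology Y) f := by
      rw [continuous_generateFrom_iff]
      intro s hs
      rcases hs with ⟨ho, hc⟩ | ⟨hcl, hc⟩
      · exact (hf.isCompact_preimage s ho hc).isOpen_constructibleTopology_of_isOpen
          (ho.preimage f.continuous)
      · apply IsCompact.isOpen_constructibleTopology_of_isClosed
        · rw [← preimage_compl]
          exact hf.isCompact_preimage sᶜ hcl.isOpen_compl hc
        · exact hcl.preimage f.continuous
    refine @isProperMap_of_cover X Y (constructibleTopology X) (constructibleTopology Y)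
      (t2Space_constructibleTopology Y) f hcont fun y => ?_
    obtain ⟨_, ⟨V, hV, rfl⟩, hyV, -⟩ := Y.isBasis_affineOpens.exists_subset_of_mem_open
      (Set.mem_univ y) isOpen_univ
    refine ⟨(V : Set Y), ?_, hyV, ?_⟩
    · exact (IsAffineOpen.isCompact hV).isOpen_constructibleTopology_of_isOpen V.2
    · exact isCompact_constructibleTopology_of_isOpen (V.2.preimage f.continuous)
        (hf.isCompact_preimage _ V.2 (IsAffineOpen.isCompact hV))
  · intro h
    refine ⟨fun U hUo hUc => ?_⟩
    have h1 := isCompact_constructibleTopology_of_isOpen hUo hUc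
    have h2 := @IsProperMap.isCompact_preimage X Y (constructibleTopology X)
      (constructibleTopology Y) f h U h1
    exact isCompact_of_isCompact_constructibleTopology h2

end Groth.Agent.Helper7.ConsTop
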