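import Mathlib
import Groth.Prelude.Def_W4c3irrattreebunCvg

universe u
open W4c3irrattreebun

/-! helper7: covering gonality is insensitive to replacing the base field by the field of constants. -/

namespace Groth.Agent.Helper7.Cvg

theorem sInf_eq {A A' : Set ℕ} (h1 : A' ⊆ A) (h2 : ∀ e ∈ A, ∃ e' ∈ A', e' ≤ e) :
    sInf A = sInf A' := by
  by_cases hA : A.Nonempty
  · have hA' : A'.Nonempty := by
      obtain ⟨e, he⟩ := hA
      obtain ⟨e', he', -⟩ := h2 e he
      exact ⟨e', he'⟩
    apply le_antisymm
    · exact Nat.sInf_le (h1 (Nat.sInf_mem hA'))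
    · obtain ⟨e', he', hle⟩ := h2 _ (Nat.sInf_mem hA)
      exact (Nat.sInf_le he').trans hle
  · rw [Set.not_nonempty_iff_eq_empty] at hA
    have hA' : A' = ∅ := Set.subset_empty_iff.mp (hA ▸ h1)
    rw [hA, hA']

variable (k K : Type u) [Field k] [Field K] [Algebra k K]

/-- A covering diagram over the field of constants is a covering diagram over the base. -/
noncomputable def down {e : ℕ} (D : CovDiag (algebraicClosure k K) K e) : CovDiag k K e :=
  letI i1 : Algebra k D.KC := ((algebraMap K D.KC).comp (algebraMap k K)).toAlgebra
  letI i2 : Algebra k D.KB := ((algebraMap (algebraicClosure k K) D.KB).comp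
      (algebraMap k (algebraicClosure k K))).toAlgebra
  { KC := D.KC
    KB := D.KB
    instFieldC := D.instFieldC
    instFieldB := D.instFieldB
    algKC := D.algKC
    algkC := i1
    towerK := IsScalarTower.of_algebraMap_eq (fun _ => rfl)
    algkB := i2
    algBC := D.algBC
    towerB := IsScalarTower.of_algebraMap_eq (fun x => by
      show algebraMap K D.KC (algebraMap k K x) =
        algebraMap D.KB D.KC (algebraMap (algebraicClosure k K) D.KB
          (algebraMap k (algebraicClosure k K) x))
      have h1 := @IsScalarTower.algebraMap_apply (algebraicClosure k K) D.KB D.KC _ _ _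
        D.algkB D.algBC D.algkC D.towerB (algebraMap k (algebraicClosure k K) x)
      have h2 := @IsScalarTower.algebraMap_apply (algebraicClosure k K) K D.KC _ _ _
        _ D.algKC D.algkC D.towerK (algebraMap k (algebraicClosure k K) x)
      rw [← h1, h2]
      rfl)
    finiteK := D.finiteK
    t := D.t
    transc := D.transc
    finiteT := D.finiteT
    finrank_eq := D.finrank_eq }

theorem down_sep {e : ℕ} (D : CovDiag (algebraicClosure k K) K e)
    (h : Algebra.IsSeparable K D.KC) : Algebra.IsSeparable K (down k K D).KC := h

theorem up {e : ℕ} (D : CovDiag k K e) :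
    ∃ (e' : ℕ) (D' : CovDiag (algebraicClosure k K) K e'), e' ≤ e ∧
      (Algebra.IsSeparable K D.KC → Algebra.IsSeparable K D'.KC) := by
  let ι : (algebraicClosure k K) →+* D.KC :=
    (algebraMap K D.KC).comp (algebraMap (algebraicClosure k K) K)
  let KB' : IntermediateField D.KB D.KC := IntermediateField.adjoin D.KB (Set.range ι)
  let a2 : Algebra (algebraicClosure k K) KB' :=
    (ι.codRestrict KB' (fun x => IntermediateField.subset_adjoin _ _ ⟨x, rfl⟩)).toAlgebra
  have t1 : IsScalarTower (algebraicClosure k K) K D.KC := inferInstance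
  have t2 : IsScalarTower (algebraicClosure k K) KB' D.KC :=
    IsScalarTower.of_algebraMap_eq (fun _ => rfl)
  have halg : Algebra.IsAlgebraic D.KB KB' := by
    apply IntermediateField.isAlgebraic_adjoin
    rintro _ ⟨x, rfl⟩
    have hx : IsIntegral k (x : K) := x.2
    have hx2 : IsIntegral k (algebraMap K D.KC (x : K)) := hx.map (IsScalarTower.toAlgHom k K D.KC)
    exact hx2.tower_top
  have htr : Transcendental KB' D.t := fun h => D.transc (h.restrictScalars D.KB)
  let L : IntermediateField D.KB D.KC := IntermediateField.adjoin D.KB ({D.t} : Set D.KC)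
  let L' : IntermediateField KB' D.KC := IntermediateField.adjoin KB' ({D.t} : Set D.KC)
  have hle : L ≤ L'.restrictScalars D.KB := by
    rw [IntermediateField.adjoin_le_iff]
    rintro _ rfl
    exact IntermediateField.mem_adjoin_simple_self KB' D.t
  have hfinL : Module.Finite L D.KC := D.finiteT
  have hfin : Module.Finite (L'.restrictScalars D.KB) D.KC := by
    let _ := (IntermediateField.inclusion hle).toRingHom.toAlgebra
    have : IsScalarTower L (L'.restrictScalars D.KB) D.KC :=
      IsScalarTower.of_algebraMap_eq fun x ↦ rfl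
    exact Module.Finite.of_restrictScalars_finite L (L'.restrictScalars D.KB) D.KC
  have hfin' : Module.Finite L' D.KC := hfin
  have hrank : Module.finrank L' D.KC ≤ e := by
    have h1 := IntermediateField.finrank_le_of_le_left hle
    have h2 : Module.finrank L D.KC = e := D.finrank_eq
    rw [h2] at h1
    exact h1
  refine ⟨Module.finrank L' D.KC,
    { KC := D.KC
      KB := KB'
      algKC := D.algKC
      algkC := inferInstance
      towerK := t1
      algkB := a2
      towerB := t2
      finiteK := D.finiteK
      t := D.t
      transc := htr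
      finiteT := hfin'
      finrank_eq := rfl }, hrank, fun h => h⟩

theorem S16310_main : cvg k K = cvg (algebraicClosure k K) K := by
  unfold cvg
  apply sInf_eq
  · rintro e ⟨D⟩
    exact ⟨down k K D⟩
  · rintro e ⟨D⟩
    obtain ⟨e', D', hle, -⟩ := up k K D
    exact ⟨e', ⟨D'⟩, hle⟩

theorem S16311_main : scvg k K = scvg (algebraicClosure k K) K := by
  unfold scvg
  apply sInf_eq
  · rintro e ⟨D, hD⟩
    exact ⟨down k K D, down_sep k K D hD⟩
  · rintro e ⟨D, hD⟩
    obtain ⟨e', D', hle, hsep⟩ := up k K D
    exact ⟨e', ⟨D', hsep hD⟩, hle⟩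

end Groth.Agent.Helper7.Cvg
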