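import Mathlib
import Groth.Agent.Lib.Helper7.GalOrb

set_option autoImplicit false
universe u
open CategoryTheory CategoryTheory.Limits AlgebraicGeometry

/-! helper7: consequences of `GalOrb.exists_conj`: `τ_inv_comp`, `isIso_τ`, `isClosedMap_fst`,
`exists_closed_preimage` (invariant closed subsets descend), `image_eq_iff_conj` (irreducible components with
the same image are conjugate). -/

namespace Groth.Agent.Helper7.GalOrb

section
variable {k K : Type u} [Field k] [Field K] [Algebra k K] [Normal k K]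
  {X : Scheme.{u}} (s : X ⟶ Spec (CommRingCat.of k))
  (τ : (K ≃ₐ[k] K) → (pullback s (Spec.map (CommRingCat.ofHom (algebraMap k K))) ⟶
      pullback s (Spec.map (CommRingCat.ofHom (algebraMap k K)))))
  (hτ1 : ∀ σ, τ σ ≫ pullback.fst s _ = pullback.fst s _)
  (hτ2 : ∀ σ, τ σ ≫ pullback.snd s (Spec.map (CommRingCat.ofHom (algebraMap k K))) =
      pullback.snd s _ ≫ Spec.map (CommRingCat.ofHom (σ : K →+* K)))

omit [Normal k K] in
include hτ1 hτ2 in
theorem τ_inv_comp (σ : K ≃ₐ[k] K) : τ σ⁻¹ ≫ τ σ = 𝟙 _ := by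
  apply pullback.hom_ext
  · rw [Category.assoc, hτ1, hτ1, Category.id_comp]
  · rw [Category.assoc, hτ2, ← Category.assoc, hτ2, Category.assoc, ← Spec.map_comp,
      Category.id_comp]
    have : CommRingCat.ofHom (σ : K →+* K) ≫ CommRingCat.ofHom ((σ⁻¹ : K ≃ₐ[k] K) : K →+* K) =
        𝟙 _ := by
      ext c
      exact σ.symm_apply_apply c
    rw [this, Spec.map_id, Category.comp_id]

omit [Normal k K] in
include hτ1 hτ2 in
theorem isIso_τ (σ : K ≃ₐ[k] K) : IsIso (τ σ) := by
  refine ⟨τ σ⁻¹, ?_, τ_inv_comp s τ hτ1 hτ2 σ⟩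
  have := τ_inv_comp s τ hτ1 hτ2 σ⁻¹
  rwa [inv_inv] at this

theorem isClosedMap_fst :
    IsClosedMap (pullback.fst s (Spec.map (CommRingCat.ofHom (algebraMap k K)))) := by
  have h1 : IsIntegralHom (Spec.map (CommRingCat.ofHom (algebraMap k K))) := by
    rw [IsIntegralHom.SpecMap_iff]
    exact algebraMap_isIntegral_iff.mpr inferInstance
  exact (pullback.fst s (Spec.map (CommRingCat.ofHom (algebraMap k K)))).isClosedMap

include hτ1 hτ2 in
theorem exists_closed_preimage
    (T' : Set ↑(pullback s (Spec.map (CommRingCat.ofHom (algebraMap k K))))) (hT' : IsClosed T')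
    (hinv : ∀ σ : K ≃ₐ[k] K, (τ σ) '' T' = T') :
    ∃ T : Set X, IsClosed T ∧
      (pullback.fst s (Spec.map (CommRingCat.ofHom (algebraMap k K)))) ⁻¹' T = T' := by
  refine ⟨(pullback.fst s (Spec.map (CommRingCat.ofHom (algebraMap k K)))) '' T',
    isClosedMap_fst s T' hT', ?_⟩
  apply Set.Subset.antisymm
  · rintro x ⟨t, ht, htx⟩
    obtain ⟨σ, hσ⟩ := exists_conj s τ hτ1 hτ2 t x htx
    rw [← hinv σ]
    exact ⟨t, ht, hσ⟩
  · exact Set.subset_preimage_image _ _

include hτ1 hτ2 in
theorem image_eq_iff_conj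
    (Z' Z'' : Set ↑(pullback s (Spec.map (CommRingCat.ofHom (algebraMap k K)))))
    (hZ' : Z' ∈ irreducibleComponents ↑(pullback s (Spec.map (CommRingCat.ofHom (algebraMap k K)))))
    (hZ'' : Z'' ∈ irreducibleComponents
      ↑(pullback s (Spec.map (CommRingCat.ofHom (algebraMap k K))))) :
    (pullback.fst s (Spec.map (CommRingCat.ofHom (algebraMap k K)))) '' Z' =
        (pullback.fst s (Spec.map (CommRingCat.ofHom (algebraMap k K)))) '' Z'' ↔
      ∃ σ : K ≃ₐ[k] K, (τ σ) '' Z' = Z'' := by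
  constructor
  · intro h
    obtain ⟨ξ', hξ'⟩ := QuasiSober.sober hZ'.1 (isClosed_of_mem_irreducibleComponents _ hZ')
    obtain ⟨ξ'', hξ''⟩ := QuasiSober.sober hZ''.1 (isClosed_of_mem_irreducibleComponents _ hZ'')
    have hcl := isClosedMap_fst (K := K) s
    have hcont := (pullback.fst s (Spec.map (CommRingCat.ofHom (algebraMap k K)))).continuous
    have h1 := hcl.closure_image_eq_of_continuous hcont {ξ'}
    have h2 := hcl.closure_image_eq_of_continuous hcont {ξ''}
    rw [Set.image_singleton, hξ'.def] at h1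
    rw [Set.image_singleton, hξ''.def] at h2
    have h3 : (pullback.fst s (Spec.map (CommRingCat.ofHom (algebraMap k K)))) ξ' =
        (pullback.fst s (Spec.map (CommRingCat.ofHom (algebraMap k K)))) ξ'' := by
      apply Inseparable.eq
      rw [inseparable_iff_closure_eq, h1, h2, h]
    obtain ⟨σ, hσ⟩ := exists_conj s τ hτ1 hτ2 ξ' ξ'' h3
    refine ⟨σ, ?_⟩
    have hiso := isIso_τ s τ hτ1 hτ2 σ
    have h4 := ((τ σ).isClosedMap).closure_image_eq_of_continuous (τ σ).continuous {ξ'}
    rw [Set.image_singleton, hξ'.def, hσ, hξ''.def] at h4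
    exact h4.symm
  · rintro ⟨σ, rfl⟩
    rw [← Set.image_comp]
    congr 1
    ext x
    exact congr($(hτ1 σ) x).symm

end

end Groth.Agent.Helper7.GalOrb
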