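import Mathlib
import Groth.Agent.Lib.Helper7.GalOrb2
import Groth.Agent.Lib.Helper7.TopInv

set_option autoImplicit false
universe u
open CategoryTheory CategoryTheory.Limits AlgebraicGeometry

/-! helper7: Galois descent of morphisms: `exists_comp_τ_eq` (field-valued points of `X_K` with the
same image are conjugate), `comp_eq_of_invariant(_aux)` (the opens `(id, τ_σ)` cover `X_K ×_X X_K`),
`etale_SpecMap`, `effectiveEpi_fst`, `exists_desc_of_invariant`, `main14400`. -/

namespace Groth.Agent.Helper7.GalOrb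

/-- field-valued points of the base change with the same projection are conjugate -/
theorem exists_comp_τ_eq {k K : Type u} [Field k] [Field K] [Algebra k K] [Normal k K]
    {X : Scheme.{u}} (s : X ⟶ Spec (CommRingCat.of k))
    (e : Spec (CommRingCat.of K) ⟶ Spec (CommRingCat.of k))
    (he : e = Spec.map (CommRingCat.ofHom (algebraMap k K)))
    (τ : (K ≃ₐ[k] K) → (pullback s e ⟶ pullback s e))
    (hτ1 : ∀ σ, τ σ ≫ pullback.fst s e = pullback.fst s e)
    (hτ2 : ∀ σ, τ σ ≫ pullback.snd s e =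
        pullback.snd s e ≫ Spec.map (CommRingCat.ofHom (σ : K →+* K)))
    {L : Type u} [Field L] (u v : Spec (CommRingCat.of L) ⟶ pullback s e)
    (huv : u ≫ pullback.fst s e = v ≫ pullback.fst s e) :
    ∃ σ, v ≫ τ σ = u := by
  obtain ⟨α, hα⟩ : ∃ α : CommRingCat.of K ⟶ CommRingCat.of L,
      Spec.map α = u ≫ pullback.snd s e :=
    ⟨Spec.preimage _, Spec.map_preimage _⟩
  obtain ⟨β, hβ⟩ : ∃ β : CommRingCat.of K ⟶ CommRingCat.of L,
      Spec.map β = v ≫ pullback.snd s e :=
    ⟨Spec.preimage _, Spec.map_preimage _⟩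
  have hαβ : CommRingCat.ofHom (algebraMap k K) ≫ α = CommRingCat.ofHom (algebraMap k K) ≫ β := by
    apply Spec.map_injective
    rw [Spec.map_comp, Spec.map_comp, hα, hβ, ← he, Category.assoc, Category.assoc,
      ← pullback.condition, ← Category.assoc, ← Category.assoc, huv]
  let _ : Algebra k L := (α.hom.comp (algebraMap k K)).toAlgebra
  let a : K →ₐ[k] L := { α.hom with commutes' := fun c => rfl }
  let b : K →ₐ[k] L := { β.hom with commutes' := fun c => (congr($(hαβ).hom c)).symm }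
  obtain ⟨σ, hσ⟩ := exists_algEquiv_of_algHom a b
  refine ⟨σ, ?_⟩
  have hσ' : α = CommRingCat.ofHom (σ : K →+* K) ≫ β := by
    ext c
    exact (hσ c).symm
  apply pullback.hom_ext
  · rw [Category.assoc, hτ1, huv]
  · rw [Category.assoc, hτ2, ← Category.assoc, ← hβ, ← Spec.map_comp, ← hσ', hα]

/-- the equalizer condition for invariant morphisms, general `e` -/
theorem comp_eq_of_invariant_aux {k K : Type u} [Field k] [Field K] [Algebra k K] [Normal k K]
    {X : Scheme.{u}} (s : X ⟶ Spec (CommRingCat.of k))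
    (e : Spec (CommRingCat.of K) ⟶ Spec (CommRingCat.of k))
    (he : e = Spec.map (CommRingCat.ofHom (algebraMap k K))) [Etale e]
    (τ : (K ≃ₐ[k] K) → (pullback s e ⟶ pullback s e))
    (hτ1 : ∀ σ, τ σ ≫ pullback.fst s e = pullback.fst s e)
    (hτ2 : ∀ σ, τ σ ≫ pullback.snd s e =
        pullback.snd s e ≫ Spec.map (CommRingCat.ofHom (σ : K →+* K)))
    {Y : Scheme.{u}} (a : pullback s e ⟶ Y) (ha : ∀ σ, τ σ ≫ a = a) {Z : Scheme.{u}}
    (g₁ g₂ : Z ⟶ pullback s e)
    (hg : g₁ ≫ pullback.fst s e = g₂ ≫ pullback.fst s e) : g₁ ≫ a = g₂ ≫ a := by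
  obtain ⟨π, hπ⟩ : ∃ π : pullback s e ⟶ X, π = pullback.fst s e := ⟨_, rfl⟩
  have hπet : Etale π := by rw [hπ]; infer_instance
  rw [← hπ] at hg
  have hτ1' : ∀ σ, τ σ ≫ π = π := by rw [hπ]; exact hτ1
  suffices h : pullback.fst π π ≫ a = pullback.snd π π ≫ a by
    have h1 := congr(pullback.lift g₁ g₂ hg ≫ $h)
    rwa [← Category.assoc, ← Category.assoc, pullback.lift_fst, pullback.lift_snd] at h1
  let j : (K ≃ₐ[k] K) → (pullback s e ⟶ pullback π π) := fun σ =>
    pullback.lift (𝟙 _) (τ σ) (by rw [Category.id_comp, hτ1'])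
  have hj1 : ∀ σ, j σ ≫ pullback.fst π π = 𝟙 _ := fun σ => pullback.lift_fst _ _ _
  have hj2 : ∀ σ, j σ ≫ pullback.snd π π = τ σ := fun σ => pullback.lift_snd _ _ _
  have hjo : ∀ σ, IsOpenImmersion (j σ) := fun σ =>
    Groth.Agent.Helper7.TopInv.isOpenImmersion_of_section (pullback.fst π π) (j σ) (hj1 σ)
  have hcov : TopologicalSpace.IsOpenCover (fun σ => (j σ).opensRange) := by
    rw [TopologicalSpace.IsOpenCover, eq_top_iff]
    rintro w -
    obtain ⟨φ, hφdef⟩ : ∃ φ : Spec ((pullback π π).residueField w) ⟶ pullback π π,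
      φ = (pullback π π).fromSpecResidueField w := ⟨_, rfl⟩
    have hφpt : ∀ t, φ t = w := fun t => by rw [hφdef, Scheme.fromSpecResidueField_apply]
    obtain ⟨σ, hσ⟩ := exists_comp_τ_eq s e he τ hτ1 hτ2 (L := (pullback π π).residueField w)
      (φ ≫ pullback.snd π π) (φ ≫ pullback.fst π π) (by
        rw [Category.assoc, Category.assoc, ← hπ, pullback.condition])
    have hφ : φ = (φ ≫ pullback.fst π π) ≫ j σ := by
      apply pullback.hom_ext
      · rw [Category.assoc, hj1, Category.comp_id]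
      · rw [Category.assoc, hj2, hσ]
    refine TopologicalSpace.Opens.mem_iSup.mpr ⟨σ, ?_⟩
    rw [← hφpt (IsLocalRing.closedPoint _), hφ]
    exact ⟨_, rfl⟩
  apply (Scheme.openCoverOfIsOpenCover _ _ hcov).hom_ext
  intro σ
  change (j σ).opensRange.ι ≫ _ = (j σ).opensRange.ι ≫ _
  rw [← cancel_epi (j σ).isoOpensRange.hom, Scheme.Hom.isoOpensRange_hom_ι_assoc,
    Scheme.Hom.isoOpensRange_hom_ι_assoc, ← Category.assoc, ← Category.assoc, hj1, hj2,
    Category.id_comp, ha]

section
variable {k K : Type u} [Field k] [Field K] [Algebra k K] [FiniteDimensional k K] [IsGalois k K]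
  {X : Scheme.{u}} (s : X ⟶ Spec (CommRingCat.of k))
  (τ : (K ≃ₐ[k] K) → (pullback s (Spec.map (CommRingCat.ofHom (algebraMap k K))) ⟶
      pullback s (Spec.map (CommRingCat.ofHom (algebraMap k K)))))
  (hτ1 : ∀ σ, τ σ ≫ pullback.fst s _ = pullback.fst s _)
  (hτ2 : ∀ σ, τ σ ≫ pullback.snd s (Spec.map (CommRingCat.ofHom (algebraMap k K))) =
      pullback.snd s _ ≫ Spec.map (CommRingCat.ofHom (σ : K →+* K)))

omit [FiniteDimensional k K] [IsGalois k K] in
theorem etale_SpecMap [FiniteDimensional k K] [Algebra.IsSeparable k K] :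
    Etale (Spec.map (CommRingCat.ofHom (algebraMap k K))) := by
  rw [HasRingHomProperty.Spec_iff (P := @Etale)]
  have h1 : Algebra.FormallyEtale k K := Algebra.FormallyEtale.of_isSeparable k K
  have h2 : Algebra.FinitePresentation k K :=
    Algebra.FinitePresentation.of_finiteType.mp inferInstance
  have h3 : Algebra.Etale k K := ⟨h1, h2⟩
  exact RingHom.etale_algebraMap.mpr h3

include hτ1 hτ2 in
/-- the equalizer condition for invariant morphisms -/
theorem comp_eq_of_invariant {Y : Scheme.{u}}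
    (a : pullback s (Spec.map (CommRingCat.ofHom (algebraMap k K))) ⟶ Y)
    (ha : ∀ σ, τ σ ≫ a = a) {Z : Scheme.{u}}
    (g₁ g₂ : Z ⟶ pullback s (Spec.map (CommRingCat.ofHom (algebraMap k K))))
    (hg : g₁ ≫ pullback.fst s _ = g₂ ≫ pullback.fst s _) : g₁ ≫ a = g₂ ≫ a := by
  have het : Etale (Spec.map (CommRingCat.ofHom (algebraMap k K))) := etale_SpecMap
  exact comp_eq_of_invariant_aux s _ rfl τ hτ1 hτ2 a ha g₁ g₂ hg

omit [FiniteDimensional k K] [IsGalois k K] in
theorem surjective_SpecMap : Surjective (Spec.map (CommRingCat.ofHom (algebraMap k K))) := by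
  refine ⟨fun x => ⟨IsLocalRing.closedPoint K, ?_⟩⟩
  exact Subsingleton.elim (α := PrimeSpectrum k) _ _

omit [FiniteDimensional k K] [IsGalois k K] in
theorem effectiveEpi_fst [FiniteDimensional k K] [Algebra.IsSeparable k K] :
    EffectiveEpi (pullback.fst s (Spec.map (CommRingCat.ofHom (algebraMap k K)))) := by
  have het : Etale (Spec.map (CommRingCat.ofHom (algebraMap k K))) := etale_SpecMap
  have hsurj : Surjective (Spec.map (CommRingCat.ofHom (algebraMap k K))) := surjective_SpecMap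
  infer_instance

include hτ1 hτ2 in
theorem exists_desc_of_invariant {Y : Scheme.{u}}
    (a : pullback s (Spec.map (CommRingCat.ofHom (algebraMap k K))) ⟶ Y)
    (ha : ∀ σ, τ σ ≫ a = a) :
    ∃ f : X ⟶ Y, pullback.fst s (Spec.map (CommRingCat.ofHom (algebraMap k K))) ≫ f = a := by
  have hee := effectiveEpi_fst (K := K) s
  exact ⟨EffectiveEpi.desc _ a (fun g₁ g₂ h => comp_eq_of_invariant s τ hτ1 hτ2 a ha g₁ g₂ h),
    EffectiveEpi.fac _ _ _⟩

end

/-- Galois descent of morphisms for a finite Galois extension -/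
theorem main14400 {k K : Type u} [Field k] [Field K] [Algebra k K] [FiniteDimensional k K]
    [IsGalois k K] {X Y : Scheme.{u}} (sX : X ⟶ Spec (CommRingCat.of k))
    (sY : Y ⟶ Spec (CommRingCat.of k))
    (τX : (K ≃ₐ[k] K) → (pullback sX (Spec.map (CommRingCat.ofHom (algebraMap k K))) ⟶
      pullback sX (Spec.map (CommRingCat.ofHom (algebraMap k K)))))
    (hX1 : ∀ σ, τX σ ≫ pullback.fst sX _ = pullback.fst sX _)
    (hX2 : ∀ σ, τX σ ≫ pullback.snd sX (Spec.map (CommRingCat.ofHom (algebraMap k K))) =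
      pullback.snd sX _ ≫ Spec.map (CommRingCat.ofHom (σ : K →+* K)))
    (τY : (K ≃ₐ[k] K) → (pullback sY (Spec.map (CommRingCat.ofHom (algebraMap k K))) ⟶
      pullback sY (Spec.map (CommRingCat.ofHom (algebraMap k K)))))
    (hY1 : ∀ σ, τY σ ≫ pullback.fst sY _ = pullback.fst sY _)
    (hY2 : ∀ σ, τY σ ≫ pullback.snd sY (Spec.map (CommRingCat.ofHom (algebraMap k K))) =
      pullback.snd sY _ ≫ Spec.map (CommRingCat.ofHom (σ : K →+* K)))
    (g : pullback sX (Spec.map (CommRingCat.ofHom (algebraMap k K))) ⟶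
      pullback sY (Spec.map (CommRingCat.ofHom (algebraMap k K))))
    (hg : g ≫ pullback.snd sY _ = pullback.snd sX _) :
    (∃ f : X ⟶ Y, f ≫ sY = sX ∧ g ≫ pullback.fst sY _ = pullback.fst sX _ ≫ f) ↔
      ∀ σ, τX σ ≫ g = g ≫ τY σ := by
  constructor
  · rintro ⟨f, hf1, hf2⟩ σ
    apply pullback.hom_ext
    · rw [Category.assoc, Category.assoc, hY1, hf2, ← Category.assoc, hX1]
    · rw [Category.assoc, Category.assoc, hY2, hg, hX2, ← Category.assoc, hg]
  · intro h
    have ha : ∀ σ, τX σ ≫ g ≫ pullback.fst sY _ = g ≫ pullback.fst sY _ := by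
      intro σ
      rw [← Category.assoc, h, Category.assoc, hY1]
    obtain ⟨f, hf⟩ := exists_desc_of_invariant sX τX hX1 hX2 (g ≫ pullback.fst sY _) ha
    refine ⟨f, ?_, hf.symm⟩
    have hee := effectiveEpi_fst (K := K) sX
    rw [← cancel_epi (pullback.fst sX (Spec.map (CommRingCat.ofHom (algebraMap k K)))),
      ← Category.assoc, hf, Category.assoc, pullback.condition, ← Category.assoc, hg,
      pullback.condition]

end Groth.Agent.Helper7.GalOrb
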