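import Mathlib
import Groth.Agent.Lib.Helper7.GalDesc

set_option autoImplicit false
universe u
open CategoryTheory CategoryTheory.Limits AlgebraicGeometry

/-! helper7: canonical Galois action `gal s σ` on `X_K` (`gal_fst`, `gal_snd`), `isOpenMap_fst` (the
projection `X_K ⟶ X` is open for `K/k` normal), `connectedSpace_bc`. -/

namespace Groth.Agent.Helper7.GalOrb

section
variable {k K : Type u} [Field k] [Field K] [Algebra k K]
  {X : Scheme.{u}} (s : X ⟶ Spec (CommRingCat.of k))

/-- the canonical Galois action on the base change -/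
noncomputable def gal (σ : K ≃ₐ[k] K) :
    pullback s (Spec.map (CommRingCat.ofHom (algebraMap k K))) ⟶
      pullback s (Spec.map (CommRingCat.ofHom (algebraMap k K))) :=
  pullback.lift (pullback.fst _ _)
    (pullback.snd _ _ ≫ Spec.map (CommRingCat.ofHom (σ : K →+* K))) (by
      rw [Category.assoc, ← Spec.map_comp, pullback.condition]
      congr 2
      ext c
      exact (σ.commutes c).symm)

theorem gal_fst (σ : K ≃ₐ[k] K) : gal s σ ≫ pullback.fst s _ = pullback.fst s _ :=
  pullback.lift_fst _ _ _

theorem gal_snd (σ : K ≃ₐ[k] K) :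
    gal s σ ≫ pullback.snd s (Spec.map (CommRingCat.ofHom (algebraMap k K))) =
      pullback.snd s _ ≫ Spec.map (CommRingCat.ofHom (σ : K →+* K)) :=
  pullback.lift_snd _ _ _

variable [Normal k K]

theorem isOpenMap_fst :
    IsOpenMap (pullback.fst s (Spec.map (CommRingCat.ofHom (algebraMap k K)))) := by
  intro U hU
  have hsurj : Surjective (Spec.map (CommRingCat.ofHom (algebraMap k K))) := surjective_SpecMap
  have hq : Topology.IsQuotientMap (pullback.fst s (Spec.map (CommRingCat.ofHom (algebraMap k K)))) :=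
    IsClosedMap.isQuotientMap (isClosedMap_fst s)
      (pullback.fst s (Spec.map (CommRingCat.ofHom (algebraMap k K)))).continuous
      (pullback.fst s (Spec.map (CommRingCat.ofHom (algebraMap k K)))).surjective
  rw [← hq.isOpen_preimage]
  have hsat : (pullback.fst s (Spec.map (CommRingCat.ofHom (algebraMap k K)))) ⁻¹'
      ((pullback.fst s (Spec.map (CommRingCat.ofHom (algebraMap k K)))) '' U) =
      ⋃ σ : K ≃ₐ[k] K, (gal s σ) '' U := by
    ext x
    simp only [Set.mem_preimage, Set.mem_image, Set.mem_iUnion]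
    constructor
    · rintro ⟨y, hy, hyx⟩
      obtain ⟨σ, hσ⟩ := exists_conj s (gal s) (gal_fst s) (gal_snd s) y x hyx
      exact ⟨σ, y, hy, hσ⟩
    · rintro ⟨σ, y, hy, rfl⟩
      exact ⟨y, hy, congr($(gal_fst s σ) y).symm⟩
  rw [hsat]
  refine isOpen_iUnion fun σ => ?_
  have hiso := isIso_τ s (gal s) (gal_fst s) (gal_snd s) σ
  exact (gal s σ).isOpenEmbedding.isOpenMap U hU

end

/-- connectedness of `X_K` from connectedness of `X` and of `T_K` for some `T ⟶ X` -/
theorem connectedSpace_bc {k K : Type u} [Field k] [Field K] [Algebra k K] [Normal k K]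
    {T X : Scheme.{u}} (sT : T ⟶ Spec (CommRingCat.of k)) (sX : X ⟶ Spec (CommRingCat.of k))
    (f : T ⟶ X) (hf : f ≫ sX = sT)
    [ConnectedSpace ↥(pullback sT (Spec.map (CommRingCat.ofHom (algebraMap k K))))]
    [ConnectedSpace ↥X] :
    ConnectedSpace ↥(pullback sX (Spec.map (CommRingCat.ofHom (algebraMap k K)))) := by
  let fK : pullback sT (Spec.map (CommRingCat.ofHom (algebraMap k K))) ⟶
      pullback sX (Spec.map (CommRingCat.ofHom (algebraMap k K))) :=
    pullback.lift (pullback.fst _ _ ≫ f) (pullback.snd _ _) (by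
      rw [Category.assoc, hf, pullback.condition])
  have hfK1 : fK ≫ pullback.fst sX _ = pullback.fst sT _ ≫ f := pullback.lift_fst _ _ _
  have hfK2 : fK ≫ pullback.snd sX _ = pullback.snd sT _ := pullback.lift_snd _ _ _
  have hequiv : ∀ σ : K ≃ₐ[k] K, gal sT σ ≫ fK = fK ≫ gal sX σ := by
    intro σ
    apply pullback.hom_ext
    · rw [Category.assoc, Category.assoc, gal_fst, hfK1, ← Category.assoc, gal_fst]
    · rw [Category.assoc, Category.assoc, gal_snd, hfK2, gal_snd, ← Category.assoc, hfK2]
  obtain ⟨t₀⟩ : Nonempty ↥(pullback sT (Spec.map (CommRingCat.ofHom (algebraMap k K)))) :=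
    inferInstance
  have hne : Nonempty ↥(pullback sX (Spec.map (CommRingCat.ofHom (algebraMap k K)))) := ⟨fK t₀⟩
  -- key: a clopen containing the image of `fK` is everything
  have key : ∀ U : Set ↥(pullback sX (Spec.map (CommRingCat.ofHom (algebraMap k K)))),
      IsClopen U → Set.range fK ⊆ U → U = Set.univ := by
    intro U hU hUf
    have h1 : IsClopen ((pullback.fst sX (Spec.map (CommRingCat.ofHom (algebraMap k K)))) '' Uᶜ) :=
      ⟨isClosedMap_fst sX _ hU.compl.1, isOpenMap_fst sX _ hU.compl.2⟩
    rcases isClopen_iff.mp h1 with h2 | h2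
    · rw [Set.image_eq_empty, Set.compl_empty_iff] at h2
      exact h2
    · exfalso
      have h3 : (pullback.fst sX (Spec.map (CommRingCat.ofHom (algebraMap k K)))) (fK t₀) ∈
          (pullback.fst sX (Spec.map (CommRingCat.ofHom (algebraMap k K)))) '' Uᶜ := by
        rw [h2]; trivial
      obtain ⟨y, hy, hyx⟩ := h3
      obtain ⟨σ, hσ⟩ := exists_conj sX (gal sX) (gal_fst sX) (gal_snd sX) (fK t₀) y hyx.symm
      apply hy
      apply hUf
      refine ⟨gal sT σ t₀, ?_⟩
      rw [← hσ]
      exact congr($(hequiv σ) t₀)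
  refine @ConnectedSpace.mk _ _ (preconnectedSpace_iff_clopen.mpr fun U hU => ?_) hne
  have hpre : IsClopen (fK ⁻¹' U) := hU.preimage fK.continuous
  rcases isClopen_iff.mp hpre with h | h
  · left
    have h' : Set.range fK ⊆ Uᶜ := by
      rintro _ ⟨t, rfl⟩ ht
      have : t ∈ fK ⁻¹' U := ht
      rw [h] at this
      exact this
    have := key Uᶜ hU.compl h'
    rwa [Set.compl_univ_iff] at this
  · right
    apply key U hU
    rintro _ ⟨t, rfl⟩
    have : t ∈ fK ⁻¹' U := by rw [h]; trivial
    exact this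

end Groth.Agent.Helper7.GalOrb
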