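import Mathlib
import Groth.Prelude.Def_FDesc
import Groth.Agent.Lib.Helper7.UHSch3
import Groth.Agent.Lib.Helper7.FPCrit

/-! helper7: purely inseparable field extensions induce universal homeomorphisms. -/

namespace Groth.Agent.Helper7.UHSch
open AlgebraicGeometry CategoryTheory Limits MorphismProperty
open Groth.Agent.Helper7.FPColim
universe u

theorem uh_of_isPurelyInseparable (k k' : Type u) [Field k] [Field k'] [Algebra k k']
    [IsPurelyInseparable k k'] :
    FlatMor.IsUnivHomeo (Spec.map (CommRingCat.ofHom (algebraMap k k'))) := by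
  rw [uh_iff_crit]
  refine ⟨⟨?_, ?_⟩, ?_⟩
  · have : Algebra.IsIntegral k k' := inferInstance
    exact algebraMap_isIntegral_iff.mpr this
  · intro K _ ψ ψ' h
    exact IsPurelyInseparable.injective_comp_algebraMap k k' K h
  · rw [(RingHom.injective_iff_ker_eq_bot _).mp (algebraMap k k').injective]
    exact bot_le

theorem main4622 {k k' : Type u} [Field k] [IsSepClosed k] [Field k'] [Algebra k k']
    [IsAlgClosure k k'] {X : Scheme.{u}} (f : X ⟶ Spec (CommRingCat.of k)) :
    FlatMor.IsUnivHomeo (FBase.bcπ f k') := by
  have : Algebra.IsAlgebraic k k' := IsAlgClosure.isAlgebraic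
  have : IsPurelyInseparable k k' := inferInstance
  exact MorphismProperty.pullback_fst _ _ (uh_of_isPurelyInseparable k k')

end Groth.Agent.Helper7.UHSch
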