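import Mathlib

universe u
open AlgebraicGeometry CategoryTheory TopologicalSpace Opposite

/-! helper7: a homeomorphism of schemes with injective maps on sections (over a basis) is an epimorphism. -/

namespace Groth.Agent.Helper7.EpiHomeo

set_option backward.isDefEq.respectTransparency false in
theorem stalkMap_injective_of_isHomeomorph {X Y : Scheme.{u}} (f : X ⟶ Y) (hf : IsHomeomorph f)
    (B : Set Y.Opens) (hB : Opens.IsBasis B) (h : ∀ U ∈ B, Function.Injective (f.app U)) (x : X) :
    Function.Injective (f.stalkMap x) := by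
  rw [injective_iff_map_eq_zero]
  intro t ht
  obtain ⟨U, hxU, hUB, s, rfl⟩ :=
    TopCat.Presheaf.exists_mem_germ_eq_of_isBasis hB Y.presheaf (f x) t
  rw [Scheme.Hom.germ_stalkMap_apply] at ht
  have h0 : X.presheaf.germ (f ⁻¹ᵁ U) x hxU (f.app U s) =
      X.presheaf.germ (f ⁻¹ᵁ U) x hxU 0 := by rw [ht, map_zero]
  obtain ⟨V, hxV, iU, iV, e⟩ := X.presheaf.germ_eq x hxU hxU _ _ h0
  rw [map_zero] at e
  -- the open set f(V) ∩ U
  let V' : Y.Opens := ⟨f '' (V : Set X), hf.isOpenMap _ V.2⟩
  have hxV' : f x ∈ V' ⊓ U := ⟨⟨x, hxV, rfl⟩, hxU⟩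
  obtain ⟨_, ⟨U', hU'B, rfl⟩, hxU', hU'⟩ :=
    hB.exists_subset_of_mem_open hxV' (V' ⊓ U).2
  have hU'U : U' ≤ U := fun y hy => (hU' hy).2
  have hpre : f ⁻¹ᵁ U' ≤ V := by
    intro y hy
    obtain ⟨z, hzV, hz⟩ := (hU' hy).1
    rwa [← hf.injective hz]
  have hres : f.app U' (Y.presheaf.map (homOfLE hU'U).op s) = 0 := by
    have nat := congr($(f.naturality (homOfLE hU'U).op) s)
    simp only [CommRingCat.comp_apply] at nat
    rw [nat]
    have : (homOfLE (f.preimage_mono hU'U)).op = iU.op ≫ (homOfLE hpre).op := rfl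
    show X.presheaf.map (homOfLE (f.preimage_mono hU'U)).op (f.app U s) = 0
    rw [this, Functor.map_comp, CommRingCat.comp_apply, e, map_zero]
  have hs0 : Y.presheaf.map (homOfLE hU'U).op s = 0 := by
    apply h U' hU'B
    rw [hres, map_zero]
  rw [← TopCat.Presheaf.germ_res_apply Y.presheaf (homOfLE hU'U) (f x) hxU' s, hs0, map_zero]

set_option backward.isDefEq.respectTransparency.types false in
theorem epi_of_isHomeomorph {X Y : Scheme.{u}} (f : X ⟶ Y) (hf : IsHomeomorph f)
    (B : Set Y.Opens) (hB : Opens.IsBasis B) (h : ∀ U ∈ B, Function.Injective (f.app U)) :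
    Epi f := by
  apply CategoryTheory.Functor.epi_of_epi_map (Scheme.forgetToLocallyRingedSpace)
  apply CategoryTheory.Functor.epi_of_epi_map (LocallyRingedSpace.forgetToSheafedSpace)
  apply SheafedSpace.epi_of_base_surjective_of_stalk_mono _ hf.surjective
  intro x
  apply ConcreteCategory.mono_of_injective
  exact stalkMap_injective_of_isHomeomorph f hf B hB h x

theorem epi_of_isHomeomorph_of_ker_eq_bot {X Y : Scheme.{u}} (f : X ⟶ Y) [QuasiCompact f]
    (hf : IsHomeomorph f) (hker : f.ker = ⊥) : Epi f := by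
  refine epi_of_isHomeomorph f hf _ Y.isBasis_affineOpens ?_
  intro U hU
  rw [injective_iff_map_eq_zero]
  intro a ha
  have h1 : a ∈ f.ker.ideal ⟨U, hU⟩ := by
    rw [Scheme.Hom.ker_apply]
    exact ha
  rw [hker] at h1
  simpa using h1

end Groth.Agent.Helper7.EpiHomeo
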