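import Mathlib
import Groth.Prelude.Def_Frob
import Groth.Agent.Lib.Helper7.EpiHomeo

universe u
open AlgebraicGeometry CategoryTheory TopologicalSpace Opposite

/-! helper7: the canonical map to the scheme-theoretic image of the absolute Frobenius is an epimorphism. -/

namespace Groth.Agent.Helper7.EpiFrob

set_option backward.isDefEq.respectTransparency false in
theorem S19611_main (p : ℕ) [Fact p.Prime] (Y : Scheme.{u}) [FrobSch.IsCharP Y p] :
    Epi (FrobSch.frob Y p).toImage := by
  have hqc : QuasiCompact (FrobSch.frob Y p) := ⟨fun U _ hc => hc⟩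
  have hcomp : ∀ y, (FrobSch.frob Y p).imageι ((FrobSch.frob Y p).toImage y) = y := fun y => by
    have h1 : ((FrobSch.frob Y p).toImage ≫ (FrobSch.frob Y p).imageι) y = (FrobSch.frob Y p) y :=
      congr($((FrobSch.frob Y p).toImage_imageι) y)
    rw [Scheme.Hom.comp_apply] at h1
    exact h1
  have hinj : Function.Injective (FrobSch.frob Y p).imageι :=
    (FrobSch.frob Y p).imageι.isClosedEmbedding.injective
  have hhomeo : IsHomeomorph (FrobSch.frob Y p).toImage := by
    rw [isHomeomorph_iff_exists_inverse]
    refine ⟨(FrobSch.frob Y p).toImage.continuous, (FrobSch.frob Y p).imageι, hcomp, ?_,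
      (FrobSch.frob Y p).imageι.continuous⟩
    intro z
    exact hinj (hcomp _)
  refine EpiHomeo.epi_of_isHomeomorph _ hhomeo _
    (Y.isBasis_affineOpens.of_isInducing (FrobSch.frob Y p).imageι.isEmbedding.isInducing) ?_
  rintro _ ⟨U, hU, rfl⟩
  exact (FrobSch.frob Y p).toImage_app_injective ⟨U, hU⟩

end Groth.Agent.Helper7.EpiFrob
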