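import Mathlib

set_option autoImplicit false
set_option linter.style.haveILetI false
set_option linter.unusedVariables false

open CategoryTheory AlgebraicGeometry IsLocalRing

/-! helper7: points of an etale scheme over a field with values in an algebraic closure versus a bigger field. -/

namespace Groth.Agent.Helper7.EtPtsAlgCl

universe u

/-- An algebra map from an algebraic `k`-algebra to an extension `Ω` of an algebraically closed
field `K` algebraic... factors through `K`. -/
theorem exists_factor (k K Ω : Type u) [Field k] [Field K] [Field Ω] [Algebra k K] [IsAlgClosed K]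
    [Algebra K Ω] [Algebra k Ω] [IsScalarTower k K Ω]
    (C : Type u) [CommRing C] [Algebra k C] [Algebra.IsIntegral k C] (χ : C →ₐ[k] Ω) :
    ∃ χ' : C →ₐ[k] K, ∀ c, algebraMap K Ω (χ' c) = χ c := by
  let ι : K →ₐ[k] Ω := IsScalarTower.toAlgHom k K Ω
  have hι : Function.Injective ι := (algebraMap K Ω).injective
  have hmem : ∀ c, χ c ∈ ι.range := by
    intro c
    have hint : IsIntegral k (χ c) := (Algebra.IsIntegral.isIntegral c).map χ
    exact hint.mem_range_algHom_of_minpoly_splits (IsAlgClosed.splits _) ι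
  let e : K ≃ₐ[k] ι.range := AlgEquiv.ofInjective ι hι
  refine ⟨e.symm.toAlgHom.comp (χ.codRestrict ι.range hmem), fun c => ?_⟩
  show ι (e.symm (χ.codRestrict ι.range hmem c)) = χ c
  have h1 : (e (e.symm (χ.codRestrict ι.range hmem c)) : Ω) = χ c := by
    rw [AlgEquiv.apply_symm_apply]; rfl
  exact h1

set_option backward.isDefEq.respectTransparency false in
theorem S15506_main
    (k K Ω : Type u) [Field k] [Field K] [Field Ω] [Algebra k K] [IsAlgClosed K]
    [Algebra.IsAlgebraic k K]
    [Algebra K Ω] [Algebra k Ω] [IsScalarTower k K Ω]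
    (Z : Scheme.{u}) (f : Z ⟶ Spec (CommRingCat.of k)) [AlgebraicGeometry.Etale f] :
    (∀ g₁ g₂ : Spec (CommRingCat.of K) ⟶ Z,
        g₁ ≫ f = Spec.map (CommRingCat.ofHom (algebraMap k K)) →
        g₂ ≫ f = Spec.map (CommRingCat.ofHom (algebraMap k K)) →
        Spec.map (CommRingCat.ofHom (algebraMap K Ω)) ≫ g₁ =
          Spec.map (CommRingCat.ofHom (algebraMap K Ω)) ≫ g₂ →
        g₁ = g₂) ∧
    (∀ h : Spec (CommRingCat.of Ω) ⟶ Z, h ≫ f = Spec.map (CommRingCat.ofHom (algebraMap k Ω)) →
        ∃ g : Spec (CommRingCat.of K) ⟶ Z, g ≫ f = Spec.map (CommRingCat.ofHom (algebraMap k K)) ∧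
          Spec.map (CommRingCat.ofHom (algebraMap K Ω)) ≫ g = h) := by
  constructor
  · intro g₁ g₂ _ _ h12
    haveI : Flat (Spec.map (CommRingCat.ofHom (algebraMap K Ω))) := by
      rw [HasRingHomProperty.Spec_iff (P := @Flat)]
      exact RingHom.flat_algebraMap_iff.mpr inferInstance
    haveI : Surjective (Spec.map (CommRingCat.ofHom (algebraMap K Ω))) := by
      constructor
      intro y
      refine ⟨closedPoint Ω, Subsingleton.elim _ _⟩
    haveI : Epi (Spec.map (CommRingCat.ofHom (algebraMap K Ω))) :=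
      Flat.epi_of_flat_of_surjective _
    exact (cancel_epi _).mp h12
  · intro h hh
    let pt : Spec (CommRingCat.of Ω) := closedPoint Ω
    let z : Z := h.base pt
    obtain ⟨V, hV, hzV, -⟩ := exists_isAffineOpen_mem_and_subset (x := z) (U := ⊤) trivial
    have hrange : Set.range h.base ⊆ Set.range hV.fromSpec.base := by
      rw [hV.range_fromSpec]
      rintro _ ⟨y, rfl⟩
      have : y = pt := Subsingleton.elim _ _
      rw [this]
      exact hzV
    let v₀ : Spec (CommRingCat.of Ω) ⟶ Spec Γ(Z, V) := IsOpenImmersion.lift hV.fromSpec h hrange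
    have hv₀ : v₀ ≫ hV.fromSpec = h := IsOpenImmersion.lift_fac _ _ _
    let σc : Γ(Z, V) ⟶ CommRingCat.of Ω := Spec.preimage v₀
    have hσc : Spec.map σc = v₀ := Spec.map_preimage _
    let ψ : CommRingCat.of k ⟶ Γ(Z, V) := Spec.preimage (hV.fromSpec ≫ f)
    have hψ : Spec.map ψ = hV.fromSpec ≫ f := Spec.map_preimage _
    have het : Etale (Spec.map ψ) := by rw [hψ]; infer_instance
    have hψet : ψ.hom.Etale := (HasRingHomProperty.Spec_iff (P := @Etale)).mp het
    have hcomp : ψ ≫ σc = CommRingCat.ofHom (algebraMap k Ω) := by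
      apply Spec.map_injective
      rw [Spec.map_comp, hσc, hψ, ← Category.assoc, hv₀, hh]
    algebraize [ψ.hom]
    haveI : Module.Finite k Γ(Z, V) := Algebra.FormallyUnramified.finite_of_free k Γ(Z, V)
    haveI : Algebra.IsIntegral k Γ(Z, V) := inferInstance
    let χ : Γ(Z, V) →ₐ[k] Ω :=
      { σc.hom with
        commutes' := fun a => by
          have := congrArg (fun φ => φ.hom a) hcomp
          exact this }
    obtain ⟨χ', hχ'⟩ := exists_factor k K Ω Γ(Z, V) χ
    refine ⟨Spec.map (CommRingCat.ofHom χ'.toRingHom) ≫ hV.fromSpec, ?_, ?_⟩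
    · rw [Category.assoc, ← hψ, ← Spec.map_comp]
      congr 1
      ext a
      exact χ'.commutes a
    · rw [← Category.assoc, ← Spec.map_comp, ← hv₀, ← hσc]
      congr 2
      ext c
      exact hχ' c

end Groth.Agent.Helper7.EtPtsAlgCl
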