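import Mathlib

set_option autoImplicit false
open CategoryTheory CategoryTheory.Limits Opposite
universe u

set_option linter.unusedSectionVars false

/-! helper7: retracts of finitely presented algebras, an algebra as the directed colimit of its
finitely generated subalgebras and a quotient as the directed colimit of the quotients by finitely
generated subideals (in `Under A`), and the characterisation of finite presentation through
preservation of directed colimits (EGA IV 8.14.2, necessity). -/

namespace Groth.Agent.Helper7.FPRetract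

section Retract

variable {A C B : Type*} [CommRing A] [CommRing C] [CommRing B] [Algebra A C] [Algebra A B]

/-- a retract of a finitely presented algebra is finitely presented. -/
theorem finitePresentation_of_retract [Algebra.FinitePresentation A C] (π : C →ₐ[A] B)
    (g : B →ₐ[A] C) (h : ∀ b, π (g b) = b) : Algebra.FinitePresentation A B := by
  classical
  have hsurj : Function.Surjective π := fun b => ⟨g b, h b⟩
  obtain ⟨s, hs⟩ := (Algebra.FiniteType.out : (⊤ : Subalgebra A C).FG)
  let E : Ideal C := Ideal.span ((fun x => x - g (π x)) '' (s : Set C))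
  have hE : ∀ y : C, y - g (π y) ∈ E := by
    intro y
    have hy : y ∈ Algebra.adjoin A (s : Set C) := by rw [hs]; trivial
    induction hy using Algebra.adjoin_induction with
    | mem x hx => exact Ideal.subset_span ⟨x, hx, rfl⟩
    | algebraMap a => simp
    | add x y _ _ hx hy =>
      have : x + y - g (π (x + y)) = (x - g (π x)) + (y - g (π y)) := by
        simp only [map_add]; ring
      rw [this]
      exact E.add_mem hx hy
    | mul x y _ _ hx hy =>
      have : x * y - g (π (x * y)) = (x - g (π x)) * y + g (π x) * (y - g (π y)) := by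
        simp only [map_mul]; ring
      rw [this]
      exact E.add_mem (E.mul_mem_right _ hx) (E.mul_mem_left _ hy)
  have hker : RingHom.ker π.toRingHom = E := by
    apply le_antisymm
    · intro y hy
      have hy' : π y = 0 := hy
      have := hE y
      rwa [hy', map_zero, sub_zero] at this
    · rw [Ideal.span_le]
      rintro _ ⟨x, _, rfl⟩
      change π (x - g (π x)) = 0
      rw [map_sub, h, sub_self]
  refine Algebra.FinitePresentation.of_surjective hsurj ?_
  rw [hker]
  exact ⟨s.image (fun x => x - g (π x)), by simp [E]⟩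

end Retract

section FGSub

variable (A B : Type u) [CommRing A] [CommRing B] [Algebra A B]

/-- the directed set of finitely generated subalgebras. -/
abbrev J1 : Type u := {S : Subalgebra A B // S.FG}

instance : IsDirected (J1 A B) (· ≤ ·) :=
  ⟨fun S T => ⟨⟨S.1 ⊔ T.1, S.2.sup T.2⟩, (le_sup_left : S.1 ≤ S.1 ⊔ T.1),
    (le_sup_right : T.1 ≤ S.1 ⊔ T.1)⟩⟩

instance : Nonempty (J1 A B) := ⟨⟨⊥, Subalgebra.fg_bot⟩⟩

/-- the diagram of finitely generated subalgebras. -/
noncomputable def F1 : J1 A B ⥤ Under (CommRingCat.of A) where
  obj S := Under.mk (CommRingCat.ofHom (algebraMap A S.1))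
  map {S T} h := Under.homMk (CommRingCat.ofHom (Subalgebra.inclusion (leOfHom h)).toRingHom)
    (by ext; rfl)
  map_id S := by ext; rfl
  map_comp f g := by ext; rfl

/-- the cocone of inclusions. -/
noncomputable def cocone1 : Cocone (F1 A B) where
  pt := Under.mk (CommRingCat.ofHom (algebraMap A B))
  ι :=
    { app := fun S => Under.homMk (CommRingCat.ofHom S.1.val.toRingHom) (by ext; rfl)
      naturality := fun S T h => by ext; rfl }

theorem singleton_mem (b : B) : b ∈ Algebra.adjoin A ({b} : Set B) :=
  Algebra.subset_adjoin rfl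

/-- the index of the subalgebra generated by one element. -/
noncomputable def idx (b : B) : J1 A B :=
  ⟨Algebra.adjoin A ({b} : Set B), by
    have := Subalgebra.fg_adjoin_finset (R := A) ({b} : Finset B)
    simpa using this⟩

set_option backward.isDefEq.respectTransparency false in
theorem exists_desc1 (s : Cocone (F1 A B)) :
    ∃ φ : B →+* s.pt.right, (∀ (S : J1 A B) (x : S.1), φ x.1 = (s.ι.app S).right.hom x) ∧
      ∀ a : A, φ (algebraMap A B a) = s.pt.hom.hom a := by
  let _ : Algebra A s.pt.right := s.pt.hom.hom.toAlgebra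
  let fS : ∀ S : J1 A B, S.1 →ₐ[A] s.pt.right := fun S =>
    { toRingHom := (s.ι.app S).right.hom
      commutes' := fun a => by
        have h := Under.w (s.ι.app S)
        exact congrArg (fun g => g.hom a) h }
  have hdir : Directed (· ≤ ·) (fun S : J1 A B => S.1) := by
    intro S T
    exact ⟨⟨S.1 ⊔ T.1, S.2.sup T.2⟩, (le_sup_left : S.1 ≤ S.1 ⊔ T.1),
      (le_sup_right : T.1 ≤ S.1 ⊔ T.1)⟩
  have hf : ∀ (S T : J1 A B) (h : S.1 ≤ T.1), fS S = (fS T).comp (Subalgebra.inclusion h) := by
    intro S T h
    ext x
    have := congrArg (fun g => g.right.hom x) (s.w (homOfLE (show S ≤ T from h)))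
    exact this.symm
  have htop : (⊤ : Subalgebra A B) ≤ iSup (fun S : J1 A B => S.1) := by
    intro b _
    exact le_iSup (fun S : J1 A B => S.1) (idx A B b) (singleton_mem A B b)
  let L := Subalgebra.iSupLift (fun S : J1 A B => S.1) hdir fS hf ⊤ htop
  refine ⟨(L.comp (Subalgebra.topEquiv (R := A) (A := B)).symm.toAlgHom).toRingHom, ?_, ?_⟩
  · intro S x
    change L ⟨x.1, Algebra.mem_top⟩ = _
    rw [Subalgebra.iSupLift_of_mem (fun S : J1 A B => S.1) (i := S)
      (⟨x.1, Algebra.mem_top⟩ : (⊤ : Subalgebra A B)) x.2]
    rfl
  · intro a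
    change (L.comp (Subalgebra.topEquiv (R := A) (A := B)).symm.toAlgHom) (algebraMap A B a) = _
    rw [AlgHom.commutes]
    rfl

set_option backward.isDefEq.respectTransparency false in
/-- an algebra is the colimit of its finitely generated subalgebras. -/
noncomputable def isColimit1 : IsColimit (cocone1 A B) := by
  apply IsColimit.ofExistsUnique
  intro s
  obtain ⟨φ, hφ, hφA⟩ := exists_desc1 A B s
  refine ⟨Under.homMk (CommRingCat.ofHom φ) (by ext a; exact hφA a), ?_, ?_⟩
  · intro S
    ext x
    exact hφ S x
  · intro d hd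
    ext b
    have := congrArg (fun g => g.right.hom ⟨b, singleton_mem A B b⟩) (hd (idx A B b))
    exact this.trans (hφ (idx A B b) ⟨b, singleton_mem A B b⟩).symm

end FGSub

section FGIdeal

variable (A P B : Type u) [CommRing A] [CommRing P] [CommRing B] [Algebra A P] [Algebra A B]
  (π : P →ₐ[A] B)

/-- the directed set of finitely generated ideals contained in the kernel. -/
abbrev J2 : Type u := {K' : Ideal P // K'.FG ∧ K' ≤ RingHom.ker π.toRingHom}

instance : IsDirected (J2 A P B π) (· ≤ ·) :=
  ⟨fun S T => ⟨⟨S.1 ⊔ T.1, Submodule.FG.sup S.2.1 T.2.1, sup_le S.2.2 T.2.2⟩,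
    (le_sup_left : S.1 ≤ S.1 ⊔ T.1), (le_sup_right : T.1 ≤ S.1 ⊔ T.1)⟩⟩

instance : Nonempty (J2 A P B π) := ⟨⟨⊥, Submodule.fg_bot, bot_le⟩⟩

/-- the diagram of quotients by finitely generated subideals of the kernel. -/
noncomputable def F2 : J2 A P B π ⥤ Under (CommRingCat.of A) where
  obj K' := Under.mk (CommRingCat.ofHom (algebraMap A (P ⧸ K'.1)))
  map {S T} h := Under.homMk (CommRingCat.ofHom (Ideal.Quotient.factor (leOfHom h)))
    (by ext a; rfl)
  map_id S := by
    ext x
    obtain ⟨x, rfl⟩ := Ideal.Quotient.mk_surjective x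
    rfl
  map_comp f g := by
    ext x
    obtain ⟨x, rfl⟩ := Ideal.Quotient.mk_surjective x
    rfl

/-- the cocone of the canonical maps to the quotient by the kernel. -/
noncomputable def cocone2 : Cocone (F2 A P B π) where
  pt := Under.mk (CommRingCat.ofHom (algebraMap A B))
  ι :=
    { app := fun K' => Under.homMk
        (CommRingCat.ofHom (Ideal.Quotient.lift K'.1 π.toRingHom (fun a ha => K'.2.2 ha)))
        (by
          ext a
          exact π.commutes a)
      naturality := fun S T h => by
        ext x
        obtain ⟨x, rfl⟩ := Ideal.Quotient.mk_surjective x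
        rfl }

/-- the bottom index. -/
def bot2 : J2 A P B π := ⟨⊥, Submodule.fg_bot, bot_le⟩

/-- the index of a principal subideal. -/
def idx2 (x : P) (hx : π x = 0) : J2 A P B π :=
  ⟨Ideal.span {x}, ⟨{x}, by simp⟩, by
    rw [Ideal.span_le]
    rintro _ rfl
    exact hx⟩

variable {A P B π}

set_option backward.isDefEq.respectTransparency false in
theorem cocone_app_mk (s : Cocone (F2 A P B π)) (K' : J2 A P B π) (x : P) :
    (s.ι.app K').right.hom (Ideal.Quotient.mk K'.1 x) =
      (s.ι.app (bot2 A P B π)).right.hom (Ideal.Quotient.mk _ x) := by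
  have h : bot2 A P B π ≤ K' := (bot_le : (⊥ : Ideal P) ≤ K'.1)
  have := congrArg (fun g => g.right.hom (Ideal.Quotient.mk _ x)) (s.w (homOfLE h))
  exact this

set_option backward.isDefEq.respectTransparency false in
theorem exists_desc2 (hπ : Function.Surjective π) (s : Cocone (F2 A P B π)) :
    ∃ φ : B →+* s.pt.right,
      (∀ (K' : J2 A P B π) (x : P), φ (π x) = (s.ι.app K').right.hom (Ideal.Quotient.mk K'.1 x)) ∧
      ∀ a : A, φ (algebraMap A B a) = s.pt.hom.hom a := by
  let ψ : P →+* s.pt.right :=
    ((s.ι.app (bot2 A P B π)).right.hom).comp (Ideal.Quotient.mk (bot2 A P B π).1)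
  have hker : RingHom.ker π.toRingHom ≤ RingHom.ker ψ := by
    intro x hx
    have hx' : π x = 0 := hx
    change (s.ι.app (bot2 A P B π)).right.hom (Ideal.Quotient.mk _ x) = 0
    rw [← cocone_app_mk s (idx2 A P B π x hx') x]
    have : Ideal.Quotient.mk (idx2 A P B π x hx').1 x = 0 :=
      Ideal.Quotient.eq_zero_iff_mem.mpr (Ideal.subset_span rfl)
    rw [this, map_zero]
  have hπ' : Function.Surjective π.toRingHom := hπ
  refine ⟨π.toRingHom.liftOfSurjective hπ' ⟨ψ, hker⟩, ?_, ?_⟩
  · intro K' x
    have := RingHom.liftOfSurjective_comp_apply π.toRingHom hπ' ⟨ψ, hker⟩ x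
    rw [cocone_app_mk s K' x]
    exact this
  · intro a
    have := RingHom.liftOfSurjective_comp_apply π.toRingHom hπ' ⟨ψ, hker⟩ (algebraMap A P a)
    have h2 : π.toRingHom (algebraMap A P a) = algebraMap A B a := π.commutes a
    rw [h2] at this
    rw [this]
    have h := Under.w (s.ι.app (bot2 A P B π))
    exact congrArg (fun g => g.hom a) h

set_option backward.isDefEq.respectTransparency false in
/-- a quotient algebra is the colimit of the quotients by the finitely generated subideals. -/
noncomputable def isColimit2 (hπ : Function.Surjective π) : IsColimit (cocone2 A P B π) := by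
  apply IsColimit.ofExistsUnique
  intro s
  obtain ⟨φ, hφ, hφA⟩ := exists_desc2 hπ s
  refine ⟨Under.homMk (CommRingCat.ofHom φ) (by ext a; exact hφA a), ?_, ?_⟩
  · intro K'
    ext x
    obtain ⟨x, rfl⟩ := Ideal.Quotient.mk_surjective x
    exact hφ K' x
  · intro d hd
    ext b
    obtain ⟨x, rfl⟩ := hπ b
    have := congrArg (fun g => g.right.hom (Ideal.Quotient.mk _ x)) (hd (bot2 A P B π))
    exact this.trans (hφ (bot2 A P B π) x).symm

end FGIdeal

section Main

set_option backward.isDefEq.respectTransparency false in
/-- an algebra such that `Hom(B, -)` preserves directed colimits is of finite type. -/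
theorem finiteType_of_preservesColimit (A B : Type u) [CommRing A] [CommRing B] [Algebra A B]
    (h : PreservesColimit (F1 A B)
      (coyoneda.obj (op (Under.mk (CommRingCat.ofHom (algebraMap A B)))))) :
    Algebra.FiniteType A B := by
  have hc := isColimitOfPreserves
    (coyoneda.obj (op (Under.mk (CommRingCat.ofHom (algebraMap A B))))) (isColimit1 A B)
  obtain ⟨S, y, hy⟩ := Types.jointly_surjective_of_isColimit hc
    (𝟙 (Under.mk (CommRingCat.ofHom (algebraMap A B))))
  have hy' : y ≫ (cocone1 A B).ι.app S = 𝟙 _ := hy
  have htop : S.1 = ⊤ := by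
    rw [eq_top_iff]
    intro b _
    obtain ⟨z, hz⟩ : ∃ z : S.1, z = y.right.hom b := ⟨_, rfl⟩
    have := congrArg (fun g => g.right.hom b) hy'
    have h2 : (z : B) = b := hz ▸ this
    rw [← h2]
    exact z.2
  exact ⟨htop ▸ S.2⟩

set_option backward.isDefEq.respectTransparency false in
/-- an algebra of finite type such that `Hom(B, -)` preserves directed colimits is of finite
presentation. -/
theorem finitePresentation_of_preservesColimit (A B : Type u) [CommRing A] [CommRing B]
    [Algebra A B] (n : ℕ) (π : MvPolynomial (Fin n) A →ₐ[A] B) (hπ : Function.Surjective π)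
    (h : PreservesColimit (F2 A (MvPolynomial (Fin n) A) B π)
      (coyoneda.obj (op (Under.mk (CommRingCat.ofHom (algebraMap A B)))))) :
    Algebra.FinitePresentation A B := by
  have hc := isColimitOfPreserves
    (coyoneda.obj (op (Under.mk (CommRingCat.ofHom (algebraMap A B))))) (isColimit2 hπ)
  obtain ⟨K', y, hy⟩ := Types.jointly_surjective_of_isColimit hc
    (𝟙 (Under.mk (CommRingCat.ofHom (algebraMap A B))))
  have hy' : y ≫ (cocone2 A _ B π).ι.app K' = 𝟙 _ := hy
  have : Algebra.FinitePresentation A (MvPolynomial (Fin n) A ⧸ K'.1) :=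
    Algebra.FinitePresentation.quotient K'.2.1
  let g : B →ₐ[A] (MvPolynomial (Fin n) A ⧸ K'.1) :=
    { toRingHom := y.right.hom
      commutes' := fun a => by
        have h := Under.w y
        exact congrArg (fun g => g.hom a) h }
  refine finitePresentation_of_retract
    (Ideal.Quotient.liftₐ K'.1 π (fun a ha => K'.2.2 ha)) g ?_
  intro b
  have := congrArg (fun g => g.right.hom b) hy'
  exact this

set_option backward.isDefEq.respectTransparency false in
/-- the necessity half of the characterisation of algebras of finite presentation. -/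
theorem finitePresentation_of_preservesColimit_directed {A B : CommRingCat.{u}} (f : A ⟶ B)
    (h : ∀ (J : Type u) [Preorder J] [IsDirected J (· ≤ ·)] [Nonempty J] (F : J ⥤ Under A),
      PreservesColimit F (coyoneda.obj (op (Under.mk f)))) : f.hom.FinitePresentation := by
  let _ : Algebra A B := f.hom.toAlgebra
  have h1 : Algebra.FiniteType A B := finiteType_of_preservesColimit A B (h _ _)
  obtain ⟨n, π, hπ⟩ := Algebra.FiniteType.iff_quotient_mvPolynomial''.mp h1
  exact finitePresentation_of_preservesColimit A B n π hπ (h _ _)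

end Main

end Groth.Agent.Helper7.FPRetract
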