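import Mathlib
import Groth.Agent.Lib.Helper7.FPRetract
import Groth.Agent.Lib.Helper7.LimBC

set_option autoImplicit false
open CategoryTheory CategoryTheory.Limits AlgebraicGeometry Opposite TopologicalSpace
universe u

set_option linter.unusedSectionVars false

/-! helper7: the inverse system of spectra of a directed system of algebras, and the
characterisation of morphisms locally of finite presentation by lifting of morphisms from limits
of directed inverse systems of affine schemes (EGA IV 8.14.2, necessity, surjectivity only). -/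

namespace Groth.Agent.Helper7.FPGeom

open Groth.Agent.Helper7.FPRetract

section Variants

set_option backward.isDefEq.respectTransparency false in
/-- an algebra whose identity factors through a finitely generated subalgebra is of finite type. -/
theorem finiteType_of_section (A B : Type u) [CommRing A] [CommRing B] [Algebra A B]
    (h : ∃ (S : J1 A B) (y : (cocone1 A B).pt ⟶ (F1 A B).obj S),
      y ≫ (cocone1 A B).ι.app S = 𝟙 _) :
    Algebra.FiniteType A B := by
  obtain ⟨S, y, hy'⟩ := h
  have htop : S.1 = ⊤ := by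
    rw [eq_top_iff]
    intro b _
    obtain ⟨z, hz⟩ : ∃ z : S.1, z = y.right.hom b := ⟨_, rfl⟩
    have := congrArg (fun g => g.right.hom b) hy'
    have h2 : (z : B) = b := hz ▸ this
    rw [← h2]
    exact z.2
  exact ⟨htop ▸ S.2⟩

set_option backward.isDefEq.respectTransparency false in
/-- an algebra of finite type whose identity factors through the quotient of a polynomial algebra
by a finitely generated subideal of the kernel is of finite presentation. -/
theorem finitePresentation_of_section (A B : Type u) [CommRing A] [CommRing B]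
    [Algebra A B] (n : ℕ) (π : MvPolynomial (Fin n) A →ₐ[A] B)
    (h : ∃ (K' : J2 A (MvPolynomial (Fin n) A) B π)
      (y : (cocone2 A _ B π).pt ⟶ (F2 A (MvPolynomial (Fin n) A) B π).obj K'),
      y ≫ (cocone2 A _ B π).ι.app K' = 𝟙 _) :
    Algebra.FinitePresentation A B := by
  obtain ⟨K', y, hy'⟩ := h
  have : Algebra.FinitePresentation A (MvPolynomial (Fin n) A ⧸ K'.1) :=
    Algebra.FinitePresentation.quotient K'.2.1
  let g : B →ₐ[A] (MvPolynomial (Fin n) A ⧸ K'.1) :=
    { toRingHom := y.right.hom
      commutes' := fun a => by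
        have h := Under.w y
        exact congrArg (fun g => g.hom a) h }
  refine finitePresentation_of_retract
    (Ideal.Quotient.liftₐ K'.1 π (fun a ha => K'.2.2 ha)) g ?_
  intro b
  have := congrArg (fun g => g.right.hom b) hy'
  exact this

end Variants

section Geom

attribute [local instance] IsFiltered.isConnected

variable {A : CommRingCat.{u}} {J : Type u} [Preorder J] [IsDirected J (· ≤ ·)] [Nonempty J]
  (F : J ⥤ Under A) (cc : Cocone F)

/-- the inverse system of spectra attached to a directed system of algebras. -/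
noncomputable def specDiagram : Jᵒᵖ ⥤ Scheme.{u} := (F ⋙ Under.forget A).op ⋙ Scheme.Spec

/-- the cone of spectra attached to a cocone of algebras. -/
noncomputable def specCone : Cone (specDiagram F) :=
  Scheme.Spec.mapCone ((Under.forget A).mapCocone cc).op

/-- the spectrum of a directed colimit is the limit of the spectra. -/
noncomputable def isLimitSpecCone (hcc : IsColimit cc) : IsLimit (specCone F cc) := by
  have : PreservesLimitsOfSize.{u, u} Scheme.Spec.{u} :=
    ΓSpec.adjunction.rightAdjoint_preservesLimits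
  exact isLimitOfPreserves Scheme.Spec
    (IsColimit.op (isColimitOfPreserves (Under.forget A) hcc))

instance (j : Jᵒᵖ) : IsAffine ((specDiagram F).obj j) :=
  inferInstanceAs (IsAffine (Spec (F.obj j.unop).right))

instance {i j : Jᵒᵖ} (g : i ⟶ j) : IsAffineHom ((specDiagram F).map g) :=
  inferInstanceAs (IsAffineHom (Spec.map (F.map g.unop).right))

set_option backward.isDefEq.respectTransparency false in
/-- if the inclusion of an affine open lifts to a stage of the inverse system of spectra, then the
identity of the colimit algebra factors through a (later) stage. -/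
theorem exists_section_of_lift {X S : Scheme.{u}} (f : X ⟶ S) (u : Spec A ⟶ S) [Mono u]
    (hcc : IsColimit cc) (v : Spec cc.pt.right ⟶ X) [IsOpenImmersion v]
    (j : J) (gj : Spec (F.obj j).right ⟶ X) (hgj : gj ≫ f = Spec.map (F.obj j).hom ≫ u)
    (hgv : Spec.map (cc.ι.app j).right ≫ gj = v) :
    ∃ (j' : J) (y : cc.pt ⟶ F.obj j'), y ≫ cc.ι.app j' = 𝟙 _ := by
  have hc := isLimitSpecCone F cc hcc
  -- the closed complement of the preimage of the open
  obtain ⟨W, hW⟩ : ∃ W : (Spec (F.obj j).right).Opens, W = gj ⁻¹ᵁ v.opensRange := ⟨_, rfl⟩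
  let Z : Closeds (Spec (F.obj j).right) := ⟨(W : Set _)ᶜ, W.isOpen.isClosed_compl⟩
  obtain ⟨T, a, ha, hrange⟩ : ∃ (T : Scheme.{u}) (a : T ⟶ Spec (F.obj j).right),
      IsClosedImmersion a ∧ Set.range a = (W : Set _)ᶜ :=
    ⟨_, (Scheme.IdealSheafData.vanishingIdeal Z).subschemeι, inferInstance, by
      rw [Scheme.IdealSheafData.range_subschemeι,
        Scheme.IdealSheafData.coe_support_vanishingIdeal]
      rfl⟩
  have : IsAffine T := isAffine_of_isAffineHom a
  have hempty : IsEmpty ↥(pullback a ((specCone F cc).π.app (op j))) := by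
    refine ⟨fun z => ?_⟩
    have h1 : a (pullback.fst a ((specCone F cc).π.app (op j)) z) ∈ (W : Set _)ᶜ := by
      rw [← hrange]; exact ⟨_, rfl⟩
    apply h1
    rw [← Scheme.Hom.comp_apply, pullback.condition, Scheme.Hom.comp_apply, hW]
    change gj (Spec.map (cc.ι.app j).right _) ∈ Set.range v
    rw [← Scheme.Hom.comp_apply, hgv]
    exact ⟨_, rfl⟩
  obtain ⟨j', φ, hj'⟩ := LimBC.exists_isEmpty_pullback (specDiagram F) (specCone F cc) (op j) a hc
    (IsPullback.of_hasPullback a ((specCone F cc).π.app (op j)))
  -- the later stage maps into the open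
  obtain ⟨g', hg'⟩ : ∃ g' : Spec (F.obj j'.unop).right ⟶ X,
      g' = Spec.map (F.map φ.unop).right ≫ gj := ⟨_, rfl⟩
  have hsub : Set.range g' ⊆ Set.range v := by
    rintro _ ⟨x, rfl⟩
    by_contra hx
    have h1 : Spec.map (F.map φ.unop).right x ∈ (W : Set _)ᶜ := by
      intro h2
      rw [hW] at h2
      apply hx
      rw [hg', Scheme.Hom.comp_apply]
      exact h2
    rw [← hrange] at h1
    obtain ⟨t, ht⟩ := h1
    obtain ⟨z, -, -⟩ := Scheme.Pullback.exists_preimage_pullback (f := a)
      (g := (specDiagram F).map φ) t x ht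
    exact hj'.false z
  obtain ⟨l, hl⟩ : ∃ l : Spec (F.obj j'.unop).right ⟶ Spec cc.pt.right, l ≫ v = g' :=
    ⟨IsOpenImmersion.lift v g' hsub, IsOpenImmersion.lift_fac _ _ _⟩
  have hv : v ≫ f = Spec.map cc.pt.hom ≫ u := by
    rw [← hgv, Category.assoc, hgj, ← Category.assoc, ← Spec.map_comp]
    congr 2
    exact Under.w (cc.ι.app j)
  have hw : cc.pt.hom ≫ Spec.preimage l = (F.obj j'.unop).hom := by
    apply Spec.map_injective
    rw [← cancel_mono u, Spec.map_comp, Spec.map_preimage, Category.assoc, ← hv,
      ← Category.assoc, hl, hg', Category.assoc, hgj, ← Category.assoc, ← Spec.map_comp]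
    congr 2
    exact Under.w (F.map φ.unop)
  refine ⟨j'.unop, Under.homMk (Spec.preimage l) hw, ?_⟩
  ext1
  apply Spec.map_injective
  rw [← cancel_mono v]
  change Spec.map (Spec.preimage l ≫ (cc.ι.app j'.unop).right) ≫ v = Spec.map (𝟙 _) ≫ v
  rw [Spec.map_comp, Spec.map_preimage, Category.assoc, hl, hg', ← Category.assoc,
    ← Spec.map_comp, Spec.map_id, Category.id_comp, ← hgv]
  congr 2
  exact congrArg (fun g => g.right) (cc.w φ.unop)

/-- the lifting hypothesis: morphisms from limits of directed inverse systems of affine schemes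
factor through a stage. -/
def LiftHyp {X S : Scheme.{u}} (f : X ⟶ S) : Prop :=
  ∀ (J : Type u) [Preorder J] [IsDirected J (· ≤ ·)] [Nonempty J] (D : Jᵒᵖ ⥤ Scheme.{u})
    (t : D ⟶ (Functor.const Jᵒᵖ).obj S) (c : Limits.Cone D) (_ : Limits.IsLimit c),
    (∀ j, IsAffine (D.obj j)) → ∀ (j₀ : Jᵒᵖ) (g : c.pt ⟶ X), g ≫ f = c.π.app j₀ ≫ t.app j₀ →
      ∃ (j : Jᵒᵖ) (gj : D.obj j ⟶ X), gj ≫ f = t.app j ∧ c.π.app j ≫ gj = g

set_option backward.isDefEq.respectTransparency false in
theorem exists_section_of_liftHyp {X S : Scheme.{u}} (f : X ⟶ S) (h : LiftHyp f)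
    (u : Spec A ⟶ S) [Mono u]
    (hcc : IsColimit cc) (v : Spec cc.pt.right ⟶ X) [IsOpenImmersion v]
    (hv : v ≫ f = Spec.map cc.pt.hom ≫ u) :
    ∃ (j' : J) (y : cc.pt ⟶ F.obj j'), y ≫ cc.ι.app j' = 𝟙 _ := by
  let t : specDiagram F ⟶ (Functor.const Jᵒᵖ).obj S :=
    { app := fun j => Spec.map (F.obj j.unop).hom ≫ u
      naturality := fun i j g => by
        simp only [Functor.const_obj_obj, Functor.const_obj_map, Category.comp_id]
        change Spec.map (F.map g.unop).right ≫ Spec.map (F.obj j.unop).hom ≫ u = _
        rw [← Category.assoc, ← Spec.map_comp]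
        congr 2
        exact Under.w (F.map g.unop) }
  obtain ⟨j, gj, h1, h2⟩ := h J (specDiagram F) t (specCone F cc) (isLimitSpecCone F cc hcc)
    (fun j => inferInstance) (op (Classical.arbitrary J)) v (by
      rw [hv]
      change _ = Spec.map (cc.ι.app _).right ≫ Spec.map (F.obj _).hom ≫ u
      rw [← Category.assoc, ← Spec.map_comp]
      congr 2
      exact (Under.w (cc.ι.app _)).symm)
  exact exists_section_of_lift F cc f u hcc v j.unop gj h1 h2

end Geom

section Main

set_option backward.isDefEq.respectTransparency false in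
/-- a morphism satisfying the lifting hypothesis is locally of finite presentation. -/
theorem locallyOfFinitePresentation_of_liftHyp {X S : Scheme.{u}} (f : X ⟶ S) (h : LiftHyp f) :
    LocallyOfFinitePresentation f := by
  rw [HasRingHomProperty.iff_appLE (P := @LocallyOfFinitePresentation)]
  intro U V e
  let _ : Algebra Γ(S, U.1) Γ(X, V.1) := (f.appLE U.1 V.1 e).hom.toAlgebra
  have hv := IsAffineOpen.SpecMap_appLE_fromSpec f U.2 V.2 e
  have h1 : Algebra.FiniteType Γ(S, U.1) Γ(X, V.1) := by
    apply finiteType_of_section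
    exact exists_section_of_liftHyp (F1 _ _) (cocone1 _ _) f h U.2.fromSpec (isColimit1 _ _)
      V.2.fromSpec hv.symm
  obtain ⟨n, π, hπ⟩ := Algebra.FiniteType.iff_quotient_mvPolynomial''.mp h1
  exact finitePresentation_of_section _ _ n π
    (exists_section_of_liftHyp (F2 _ _ _ π) (cocone2 _ _ _ π) f h U.2.fromSpec (isColimit2 hπ)
      V.2.fromSpec hv.symm)

end Main

end Groth.Agent.Helper7.FPGeom
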