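import Mathlib
import Groth.Agent.Lib.Helper7.FPGeom

set_option autoImplicit false
open CategoryTheory CategoryTheory.Limits AlgebraicGeometry Opposite TopologicalSpace
universe u

set_option linter.unusedSectionVars false

/-! helper7: the inverse system of spectra of a directed system of algebras as a diagram of schemes
over an affine open of the base, and the characterisation of morphisms locally of finite
presentation by `Hom_S(-, X)` turning such limits into colimits (EGA IV 8.14.2, necessity). -/

namespace Groth.Agent.Helper7.FPGeom2

open Groth.Agent.Helper7.FPRetract Groth.Agent.Helper7.FPGeom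

attribute [local instance] IsFiltered.isConnected IsCofiltered.isConnected

section Geom

variable {S : Scheme.{u}} {U : S.Opens} (hU : IsAffineOpen U)
  {J : Type u} [Preorder J] [IsDirected J (· ≤ ·)] [Nonempty J]
  (F : J ⥤ Under Γ(S, U)) (cc : Cocone F)

/-- the inverse system of spectra, as schemes over the affine open. -/
noncomputable def overDiagram : Jᵒᵖ ⥤ Over (U : Scheme.{u}) where
  obj j := Over.mk (Spec.map (F.obj j.unop).hom ≫ hU.isoSpec.inv)
  map {i j} g := Over.homMk (Spec.map (F.map g.unop).right) (by
    change Spec.map (F.map g.unop).right ≫ Spec.map (F.obj j.unop).hom ≫ hU.isoSpec.inv = _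
    rw [← Category.assoc, ← Spec.map_comp]
    congr 2
    exact Under.w (F.map g.unop))
  map_id j := by
    ext1
    change Spec.map (F.map (𝟙 j.unop)).right = 𝟙 _
    rw [F.map_id]
    exact Spec.map_id _
  map_comp f g := by
    ext1
    change Spec.map (F.map (g.unop ≫ f.unop)).right = _
    rw [F.map_comp]
    exact Spec.map_comp _ _

/-- the cone over the inverse system of spectra in schemes over the base. -/
noncomputable def overCone : Cone (overDiagram hU F ⋙ Over.map U.ι) where
  pt := Over.mk (Spec.map cc.pt.hom ≫ hU.fromSpec)
  π :=
    { app := fun j => Over.homMk (Spec.map (cc.ι.app j.unop).right) (by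
        change Spec.map (cc.ι.app j.unop).right ≫
          (Spec.map (F.obj j.unop).hom ≫ hU.isoSpec.inv) ≫ U.ι = Spec.map cc.pt.hom ≫ hU.fromSpec
        rw [Category.assoc, ← Category.assoc, ← Spec.map_comp]
        congr 2
        exact Under.w (cc.ι.app j.unop))
      naturality := fun i j g => by
        ext1
        change 𝟙 _ ≫ Spec.map (cc.ι.app j.unop).right =
          Spec.map (cc.ι.app i.unop).right ≫ Spec.map (F.map g.unop).right
        rw [Category.id_comp, ← Spec.map_comp]
        congr 1
        exact (congrArg (fun g => g.right) (cc.w g.unop)).symm }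

set_option backward.isDefEq.respectTransparency false in
/-- the cone over the inverse system of spectra in schemes over the base is a limit cone. -/
noncomputable def isLimitOverCone (hcc : IsColimit cc) : IsLimit (overCone hU F cc) := by
  apply isLimitOfReflects (Over.forget S)
  exact isLimitSpecCone F cc hcc

/-- the hypothesis that `Hom_S(-, X)` turns limits of directed inverse systems of affine schemes
over affine opens of the base into colimits. -/
def PresHyp {X S : Scheme.{u}} (f : X ⟶ S) : Prop :=
  ∀ (U : S.Opens), IsAffineOpen U →
    ∀ (J : Type u) [Preorder J] [IsDirected J (· ≤ ·)] [Nonempty J]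
      (Z : Jᵒᵖ ⥤ Over (U : Scheme.{u})),
      (∀ j, IsAffine (Z.obj j).left) →
      Limits.PreservesColimit (Z ⋙ Over.map U.ι).op (yoneda.obj (Over.mk f))

set_option backward.isDefEq.respectTransparency false in
theorem exists_section_of_presHyp {X : Scheme.{u}} (f : X ⟶ S) (h : PresHyp f)
    (hcc : IsColimit cc) (v : Spec cc.pt.right ⟶ X) [IsOpenImmersion v]
    (hv : v ≫ f = Spec.map cc.pt.hom ≫ hU.fromSpec) :
    ∃ (j' : J) (y : cc.pt ⟶ F.obj j'), y ≫ cc.ι.app j' = 𝟙 _ := by
  have hp := h U hU J (overDiagram hU F) (fun j => inferInstanceAs (IsAffine (Spec _)))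
  have hc := isColimitOfPreserves (yoneda.obj (Over.mk f)) (isLimitOverCone hU F cc hcc).op
  obtain ⟨j, y, hy⟩ := Types.jointly_surjective_of_isColimit hc
    (Over.homMk v hv : (overCone hU F cc).pt ⟶ Over.mk f)
  refine exists_section_of_lift F cc f hU.fromSpec hcc v j.unop.unop y.left ?_ ?_
  · have := Over.w y
    exact this.trans (Category.assoc _ _ _)
  · exact congrArg (fun g => g.left) hy

end Geom

section Main

set_option backward.isDefEq.respectTransparency false in
/-- a morphism such that `Hom_S(-, X)` turns limits of directed inverse systems of affine schemes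
into colimits is locally of finite presentation. -/
theorem locallyOfFinitePresentation_of_presHyp {X S : Scheme.{u}} (f : X ⟶ S) (h : PresHyp f) :
    LocallyOfFinitePresentation f := by
  rw [HasRingHomProperty.iff_appLE (P := @LocallyOfFinitePresentation)]
  intro U V e
  let _ : Algebra Γ(S, U.1) Γ(X, V.1) := (f.appLE U.1 V.1 e).hom.toAlgebra
  have hv := IsAffineOpen.SpecMap_appLE_fromSpec f U.2 V.2 e
  have h1 : Algebra.FiniteType Γ(S, U.1) Γ(X, V.1) := by
    apply finiteType_of_section
    exact exists_section_of_presHyp U.2 (F1 _ _) (cocone1 _ _) f h (isColimit1 _ _)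
      V.2.fromSpec hv.symm
  obtain ⟨n, π, hπ⟩ := Algebra.FiniteType.iff_quotient_mvPolynomial''.mp h1
  exact finitePresentation_of_section _ _ n π
    (exists_section_of_presHyp U.2 (F2 _ _ _ π) (cocone2 _ _ _ π) f h (isColimit2 hπ)
      V.2.fromSpec hv.symm)

end Main

end Groth.Agent.Helper7.FPGeom2
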