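import Mathlib
import Groth.Prelude.Def_FSch3

set_option autoImplicit false
set_option linter.style.haveILetI false
set_option linter.unusedVariables false
universe u

open AlgebraicGeometry CategoryTheory Limits

/-! helper7: morphisms from quasi-compact schemes with image in V(J) factor through an infinitesimal neighbourhood (S7883). -/

namespace Groth.Agent.Helper7.FactThick

lemma exists_pow_le_ker {A B : Type*} [CommRing A] [CommRing B] (φ : A →+* B) (𝔞 : Ideal A)
    (hfg : 𝔞.FG) (hnil : ∀ a ∈ 𝔞, IsNilpotent (φ a)) : ∃ N : ℕ, 𝔞 ^ N ≤ RingHom.ker φ := by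
  have h1 : (𝔞.map φ).FG := hfg.map φ
  have h2 : 𝔞.map φ ≤ nilradical B := by
    rw [Ideal.map_le_iff_le_comap]
    intro a ha
    exact hnil a ha
  obtain ⟨N, hN⟩ := h1.isNilpotent_iff_le_nilradical.mpr h2
  refine ⟨N, ?_⟩
  rw [← Ideal.map_pow] at hN
  exact (RingHom.ker_eq_comap_bot φ) ▸ Ideal.map_le_iff_le_comap.mp (le_of_eq hN)

set_option backward.isDefEq.respectTransparency false in
theorem S7883_main (Y : Scheme.{u}) [CompactSpace Y] [QuasiSeparatedSpace Y]
    (J : Y.IdealSheafData) (hJ : FSch.IdealFT J) (T : Scheme.{u}) [CompactSpace T] (f : T ⟶ Y)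
    (h : ∀ t : T, f.base t ∈ (J.support : Set Y)) :
    ∃ (n : ℕ) (g : T ⟶ (J ^ (n + 1)).subscheme), g ≫ (J ^ (n + 1)).subschemeι = f := by
  -- local exponents
  have hloc : ∀ W : Y.affineOpens, ∃ N : ℕ, (J.ideal W) ^ N ≤ RingHom.ker (f.app W.1).hom := by
    intro W
    apply exists_pow_le_ker _ _ (hJ W)
    intro a ha
    have hc : IsCompact ((f ⁻¹ᵁ W.1 : T.Opens) : Set T) :=
      QuasiCompact.isCompact_preimage (f := f) _ W.1.isOpen W.2.isCompact
    rw [Scheme.isNilpotent_iff_basicOpen_eq_bot_of_isCompact hc, ← Scheme.preimage_basicOpen]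
    ext t
    simp only [TopologicalSpace.Opens.coe_bot, Set.mem_empty_iff_false, iff_false]
    intro ht
    have htW : f.base t ∈ W.1 := Y.basicOpen_le a ht
    have hts := (Scheme.IdealSheafData.mem_support_iff_of_mem (I := J) (U := W) htW).mp (h t)
    rw [Scheme.mem_zeroLocus_iff] at hts
    exact hts a ha ht
  choose N hN using hloc
  -- finite affine cover
  obtain ⟨s, hs⟩ : ∃ s : Finset Y.affineOpens, (⨆ W ∈ s, (W : Y.affineOpens).1) = ⊤ := by
    have hcov : (Set.univ : Set Y) ⊆ ⋃ W : Y.affineOpens, (W.1 : Set Y) := by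
      intro y _
      obtain ⟨_, ⟨W, hW, rfl⟩, hyW, -⟩ :=
        Y.isBasis_affineOpens.exists_subset_of_mem_open (Set.mem_univ y) isOpen_univ
      exact Set.mem_iUnion.mpr ⟨⟨W, hW⟩, hyW⟩
    obtain ⟨s, hs⟩ := isCompact_univ.elim_finite_subcover _ (fun W : Y.affineOpens => W.1.isOpen) hcov
    refine ⟨s, ?_⟩
    rw [eq_top_iff]
    intro y _
    have := hs (Set.mem_univ y)
    simp only [Set.mem_iUnion] at this
    obtain ⟨W, hWs, hyW⟩ := this
    simp only [TopologicalSpace.Opens.mem_iSup]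
    exact ⟨W, hWs, hyW⟩
  let n := s.sup N
  have hle : J ^ (n + 1) ≤ f.ker := by
    refine Scheme.IdealSheafData.le_of_iSup_eq_top (ι := {W : Y.affineOpens // W ∈ s})
      (fun W => W.1) ?_ ?_
    · rw [eq_top_iff, ← hs]
      refine iSup₂_le fun W hW => ?_
      exact le_iSup (fun W : {W : Y.affineOpens // W ∈ s} => W.1.1) ⟨W, hW⟩
    · rintro ⟨W, hW⟩
      rw [Scheme.Hom.ker_apply]
      simp only [Scheme.IdealSheafData.ideal_pow, Pi.pow_apply]
      refine (Ideal.pow_le_pow_right ?_).trans (hN W)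
      exact (Finset.le_sup hW).trans (Nat.le_succ _)
  refine ⟨n, IsClosedImmersion.lift (J ^ (n + 1)).subschemeι f ?_, IsClosedImmersion.lift_fac _ _ _⟩
  rw [Scheme.IdealSheafData.ker_subschemeι]
  exact hle

end Groth.Agent.Helper7.FactThick
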