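import Mathlib
import Groth.Prelude.Def_W4stkschemesremainderFib

/-! helper7: fibre-degree bounds: induced maps on fibres, descent of finiteness of degree along
flat surjective maps. -/

open CategoryTheory AlgebraicGeometry BddFib Limits

universe u

namespace Groth.Agent.Helper7.FibDeg

variable {X Y Z : Scheme.{u}}


/-- the induced map on fibres -/
noncomputable def fiberMap (f : X ⟶ Y) (h : Y ⟶ Z) (z : Z) : (f ≫ h).fiber z ⟶ h.fiber z :=
  (pullback.lift (pullback.fst (f ≫ h) (Z.fromSpecResidueField z) ≫ f)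
    (pullback.snd (f ≫ h) (Z.fromSpecResidueField z))
    (by rw [Category.assoc, pullback.condition]) :
    pullback (f ≫ h) (Z.fromSpecResidueField z) ⟶ pullback h (Z.fromSpecResidueField z))

lemma fiberMap_toSpec (f : X ⟶ Y) (h : Y ⟶ Z) (z : Z) :
    fiberMap f h z ≫ h.fiberToSpecResidueField z = (f ≫ h).fiberToSpecResidueField z :=
  pullback.lift_snd _ _ _

lemma fiberMap_ι (f : X ⟶ Y) (h : Y ⟶ Z) (z : Z) :
    fiberMap f h z ≫ h.fiberι z = (f ≫ h).fiberι z ≫ f :=
  pullback.lift_fst _ _ _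

lemma fiberMap_isPullback (f : X ⟶ Y) (h : Y ⟶ Z) (z : Z) :
    IsPullback (fiberMap f h z) ((f ≫ h).fiberι z) (h.fiberι z) f := by
  refine IsPullback.of_right (h₁₂ := h.fiberToSpecResidueField z) (h₂₂ := h)
    (v₁₃ := Z.fromSpecResidueField z) ?_ (fiberMap_ι f h z) ?_
  · rw [fiberMap_toSpec]
    exact (IsPullback.of_hasPullback (f ≫ h) (Z.fromSpecResidueField z)).flip
  · exact (IsPullback.of_hasPullback h (Z.fromSpecResidueField z)).flip

instance (f : X ⟶ Y) (h : Y ⟶ Z) (z : Z) [Flat f] : Flat (fiberMap f h z) :=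
  MorphismProperty.of_isPullback (fiberMap_isPullback f h z).flip inferInstance

instance (f : X ⟶ Y) (h : Y ⟶ Z) (z : Z) [Surjective f] : Surjective (fiberMap f h z) :=
  MorphismProperty.of_isPullback (fiberMap_isPullback f h z).flip inferInstance



lemma finite_discrete_of_flat_surjective {T T' : Scheme.{u}} (φ : T ⟶ T') [Flat φ] [Surjective φ]
    [Finite T] [DiscreteTopology T] : Finite T' ∧ DiscreteTopology T' := by
  have hfin : Finite T' := Finite.of_surjective φ φ.surjective
  have ht1 : T1Space T' := by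
    rw [t1Space_iff_specializes_imp_eq]
    intro y' y hy
    obtain ⟨x, rfl⟩ := φ.surjective y
    obtain ⟨x', hx', rfl⟩ := (Flat.generalizingMap φ) hy
    rw [hx'.eq]
  exact ⟨hfin, inferInstance⟩

theorem finiteOfDegLE_of_flat_surjective (z : Z) {T T' : Scheme.{u}}
    (p : T ⟶ Spec (Z.residueField z)) (p' : T' ⟶ Spec (Z.residueField z)) (φ : T ⟶ T')
    [Flat φ] [Surjective φ] (hφ : φ ≫ p' = p) (n : ℕ)
    (hT : FiniteOfDegLE (Z.residueField z) p n) : FiniteOfDegLE (Z.residueField z) p' n := by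
  let _ : Algebra (Z.residueField z) Γ(T, ⊤) := secAlgebra _ p
  let _ : Algebra (Z.residueField z) Γ(T', ⊤) := secAlgebra _ p'
  obtain ⟨hA, hfin, hrk⟩ : IsAffine T ∧ Module.Finite (Z.residueField z) Γ(T, ⊤) ∧
    Module.finrank (Z.residueField z) Γ(T, ⊤) ≤ n := hT
  have hart : IsArtinianRing Γ(T, ⊤) := IsArtinianRing.of_finite (Z.residueField z) _
  have e : T ≃ₜ PrimeSpectrum Γ(T, ⊤) := T.isoSpec.hom.homeomorph
  have hTf : Finite T := Finite.of_equiv _ e.symm.toEquiv
  have hTd : DiscreteTopology T := e.symm.discreteTopology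
  obtain ⟨h1, h2⟩ := finite_discrete_of_flat_surjective φ
  have hA' : IsAffine T' := inferInstance
  have hff : φ.appTop.hom.FaithfullyFlat :=
    (Flat.flat_and_surjective_iff_faithfullyFlat_of_isAffine (f := φ)).mp ⟨inferInstance, inferInstance⟩
  have hinj : Function.Injective φ.appTop.hom := hff.injective
  let ψ : Γ(T', ⊤) →ₐ[Z.residueField z] Γ(T, ⊤) :=
    { φ.appTop.hom with
      commutes' := fun r => by
        change (φ.appTop.hom) (((Scheme.ΓSpecIso _).inv ≫ p'.appTop).hom r) =
          ((Scheme.ΓSpecIso _).inv ≫ p.appTop).hom r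
        rw [← hφ]
        simp }
  refine ⟨hA', ?_, ?_⟩
  · exact Module.Finite.of_injective ψ.toLinearMap hinj
  · exact (LinearMap.finrank_le_finrank_of_injective (f := ψ.toLinearMap) hinj).trans hrk

end Groth.Agent.Helper7.FibDeg
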