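import Mathlib
import Groth.Agent.Lib.Helper7.FibDeg

/-! helper7: fibre-degree bounds: base change and descent of finiteness of degree along
field extensions. -/

open CategoryTheory AlgebraicGeometry BddFib Limits TensorProduct

universe u

namespace Groth.Agent.Helper7.FibDeg

section BaseChange

variable {K k : CommRingCat.{u}} {T T' : Scheme.{u}}

lemma isPushout_sections [IsAffine T] (φ : K ⟶ k) (p : T ⟶ Spec K) (p' : T' ⟶ Spec k)
    (q : T' ⟶ T) (h : IsPullback q p' p (Spec.map φ)) :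
    IsPushout φ ((Scheme.ΓSpecIso K).inv ≫ p.appTop) ((Scheme.ΓSpecIso k).inv ≫ p'.appTop)
      q.appTop := by
  have h1 := (isPushout_appTop_of_isPullback h).flip
  refine h1.of_iso (Scheme.ΓSpecIso K) (Scheme.ΓSpecIso k) (Iso.refl _) (Iso.refl _) ?_ ?_ ?_ ?_
  · exact Scheme.ΓSpecIso_naturality φ
  · simp
  · simp
  · simp

/-- the algebraic pushout -/
lemma algebra_isPushout [IsAffine T] (φ : K ⟶ k) (p : T ⟶ Spec K) (p' : T' ⟶ Spec k)
    (q : T' ⟶ T) (h : IsPullback q p' p (Spec.map φ)) :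
    let _ : Algebra K k := φ.hom.toAlgebra
    let _ : Algebra K Γ(T, ⊤) := secAlgebra K p
    let _ : Algebra k Γ(T', ⊤) := secAlgebra k p'
    let _ : Algebra Γ(T, ⊤) Γ(T', ⊤) := q.appTop.hom.toAlgebra
    let _ : Algebra K Γ(T', ⊤) := (φ ≫ (Scheme.ΓSpecIso k).inv ≫ p'.appTop).hom.toAlgebra
    ∃ (_ : IsScalarTower K k Γ(T', ⊤)) (_ : IsScalarTower K Γ(T, ⊤) Γ(T', ⊤)),
      Algebra.IsPushout K k Γ(T, ⊤) Γ(T', ⊤) := by
  intro i1 i2 i3 i4 i5
  have hp := isPushout_sections φ p p' q h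
  have t1 : IsScalarTower K k Γ(T', ⊤) := .of_algebraMap_eq' rfl
  have t2 : IsScalarTower K Γ(T, ⊤) Γ(T', ⊤) := .of_algebraMap_eq' (by
    change (φ ≫ (Scheme.ΓSpecIso k).inv ≫ p'.appTop).hom =
      (((Scheme.ΓSpecIso K).inv ≫ p.appTop) ≫ q.appTop).hom
    rw [hp.w])
  exact ⟨t1, t2, CommRingCat.isPushout_iff_isPushout.mp hp⟩

end BaseChange

section Fields

variable {K k : Type u} [Field K] [Field k] {T T' : Scheme.{u}}

instance flat_SpecMap_field (φ : K →+* k) : Flat (Spec.map (CommRingCat.ofHom φ)) := by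
  rw [Flat.SpecMap_iff]
  algebraize [φ]
  exact (inferInstance : Module.Flat K k)

instance surjective_SpecMap_field (φ : K →+* k) : Surjective (Spec.map (CommRingCat.ofHom φ)) := by
  constructor
  intro x
  refine ⟨default, Subsingleton.elim (α := PrimeSpectrum K) _ _⟩

/-- base change along a field extension preserves finiteness of degree. -/
theorem finiteOfDegLE_baseChange (φ : K →+* k) (p : T ⟶ Spec (.of K)) (p' : T' ⟶ Spec (.of k))
    (q : T' ⟶ T) (h : IsPullback q p' p (Spec.map (CommRingCat.ofHom φ))) (n : ℕ)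
    (hT : FiniteOfDegLE (.of K) p n) : FiniteOfDegLE (.of k) p' n := by
  let i1 : Algebra K k := φ.toAlgebra
  let i2 : Algebra K Γ(T, ⊤) := secAlgebra (.of K) p
  let i3 : Algebra k Γ(T', ⊤) := secAlgebra (.of k) p'
  let i4 : Algebra Γ(T, ⊤) Γ(T', ⊤) := q.appTop.hom.toAlgebra
  let i5 : Algebra K Γ(T', ⊤) :=
    (CommRingCat.ofHom φ ≫ (Scheme.ΓSpecIso (.of k)).inv ≫ p'.appTop).hom.toAlgebra
  obtain ⟨hA, hfin, hrk⟩ : IsAffine T ∧ Module.Finite K Γ(T, ⊤) ∧
    Module.finrank K Γ(T, ⊤) ≤ n := hT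
  obtain ⟨t1, t2, hpo⟩ := algebra_isPushout (CommRingCat.ofHom φ) p p' q h
  have hA' : IsAffine T' := IsAffine.of_isPullback h
  let e : k ⊗[K] Γ(T, ⊤) ≃ₐ[k] Γ(T', ⊤) := Algebra.IsPushout.equiv K k Γ(T, ⊤) Γ(T', ⊤)
  refine ⟨hA', Module.Finite.equiv e.toLinearEquiv, ?_⟩
  rw [← e.toLinearEquiv.finrank_eq, Module.finrank_baseChange]
  exact hrk


/-- descent of finiteness of degree along a field extension. -/
theorem finiteOfDegLE_descent (φ : K →+* k) (p : T ⟶ Spec (.of K)) (p' : T' ⟶ Spec (.of k))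
    (q : T' ⟶ T) (h : IsPullback q p' p (Spec.map (CommRingCat.ofHom φ))) (n : ℕ)
    (hT' : FiniteOfDegLE (.of k) p' n) : FiniteOfDegLE (.of K) p n := by
  let i1 : Algebra K k := φ.toAlgebra
  let i2 : Algebra K Γ(T, ⊤) := secAlgebra (.of K) p
  let i3 : Algebra k Γ(T', ⊤) := secAlgebra (.of k) p'
  let i4 : Algebra Γ(T, ⊤) Γ(T', ⊤) := q.appTop.hom.toAlgebra
  let i5 : Algebra K Γ(T', ⊤) :=
    (CommRingCat.ofHom φ ≫ (Scheme.ΓSpecIso (.of k)).inv ≫ p'.appTop).hom.toAlgebra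
  obtain ⟨hA', hfin', hrk'⟩ : IsAffine T' ∧ Module.Finite k Γ(T', ⊤) ∧
    Module.finrank k Γ(T', ⊤) ≤ n := hT'
  have hart : IsArtinianRing Γ(T', ⊤) := IsArtinianRing.of_finite k _
  have e0 : T' ≃ₜ PrimeSpectrum Γ(T', ⊤) := T'.isoSpec.hom.homeomorph
  have hTf : Finite T' := Finite.of_equiv _ e0.symm.toEquiv
  have hTd : DiscreteTopology T' := e0.symm.discreteTopology
  have hqf : Flat q := MorphismProperty.of_isPullback h.flip inferInstance
  have hqs : Surjective q := MorphismProperty.of_isPullback h.flip inferInstance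
  obtain ⟨h1, h2⟩ := finite_discrete_of_flat_surjective q
  have hA : IsAffine T := inferInstance
  obtain ⟨t1, t2, hpo⟩ := algebra_isPushout (CommRingCat.ofHom φ) p p' q h
  let e : k ⊗[K] Γ(T, ⊤) ≃ₐ[k] Γ(T', ⊤) := Algebra.IsPushout.equiv K k Γ(T, ⊤) Γ(T', ⊤)
  have hfin2 : Module.Finite k (k ⊗[K] Γ(T, ⊤)) := Module.Finite.equiv e.symm.toLinearEquiv
  have hfin : Module.Finite K Γ(T, ⊤) := by
    rw [← Module.rank_lt_aleph0_iff] at hfin2 ⊢
    rw [Module.rank_baseChange] at hfin2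
    simpa using hfin2
  refine ⟨hA, hfin, ?_⟩
  rw [← Module.finrank_baseChange (R := k), e.toLinearEquiv.finrank_eq]
  exact hrk'

end Fields

end Groth.Agent.Helper7.FibDeg
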