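import Mathlib
import Groth.Agent.Lib.Helper7.FibDeg2

/-! helper7: fibre-degree bounds: characterisation by field-valued points, and the count of
points / sum of residue degrees of a scheme finite of bounded degree over a field. -/

open CategoryTheory AlgebraicGeometry BddFib Limits TensorProduct

universe u

namespace Groth.Agent.Helper7.FibDeg


variable {X Y : Scheme.{u}}

/-- the comparison map from a field-valued base change to the fibre -/
noncomputable def toFiber (f : X ⟶ Y) {k : CommRingCat.{u}} (y : Y) (ψ : Y.residueField y ⟶ k) :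
    pullback f (Spec.map ψ ≫ Y.fromSpecResidueField y) ⟶ f.fiber y :=
  (pullback.lift (pullback.fst _ _) (pullback.snd _ _ ≫ Spec.map ψ)
    (by rw [Category.assoc, pullback.condition]) :
    pullback f (Spec.map ψ ≫ Y.fromSpecResidueField y) ⟶ pullback f (Y.fromSpecResidueField y))

lemma toFiber_isPullback (f : X ⟶ Y) {k : CommRingCat.{u}} (y : Y) (ψ : Y.residueField y ⟶ k) :
    IsPullback (toFiber f y ψ) (pullback.snd f (Spec.map ψ ≫ Y.fromSpecResidueField y))
      (f.fiberToSpecResidueField y) (Spec.map ψ) := by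
  refine IsPullback.of_right (h₁₂ := f.fiberι y) (h₂₂ := Y.fromSpecResidueField y)
    (v₁₃ := f) ?_ (pullback.lift_snd _ _ _) ?_
  · have : toFiber f y ψ ≫ f.fiberι y = pullback.fst _ _ := pullback.lift_fst _ _ _
    rw [this]
    exact IsPullback.of_hasPullback _ _
  · exact IsPullback.of_hasPullback _ _

theorem finiteOfDegLE_pullback_snd_iff (f : X ⟶ Y) (k : Type u) [Field k] (y : Y)
    (ψ : Y.residueField y ⟶ .of k) (n : ℕ) :
    FiniteOfDegLE (.of k) (pullback.snd f (Spec.map ψ ≫ Y.fromSpecResidueField y)) n ↔
      FiniteOfDegLE (Y.residueField y) (f.fiberToSpecResidueField y) n := by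
  constructor
  · intro h
    exact finiteOfDegLE_descent (K := Y.residueField y) (k := k) ψ.hom _ _ _
      (toFiber_isPullback f y ψ) n h
  · intro h
    exact finiteOfDegLE_baseChange (K := Y.residueField y) (k := k) ψ.hom _ _ _
      (toFiber_isPullback f y ψ) n h

theorem fibreDegLE_iff (f : X ⟶ Y) (n : ℕ) :
    BddFib.FibreDegLE f n ↔ ∀ (k : Type u) [Field k] (g : Spec (CommRingCat.of k) ⟶ Y),
      BddFib.FiniteOfDegLE (CommRingCat.of k) (Limits.pullback.snd f g) n := by
  constructor
  · intro h k _ g
    have hg : g = Spec.map (Scheme.SpecToEquivOfField k Y g).2 ≫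
        Y.fromSpecResidueField (Scheme.SpecToEquivOfField k Y g).1 :=
      ((Scheme.SpecToEquivOfField k Y).symm_apply_apply g).symm
    rw [hg, finiteOfDegLE_pullback_snd_iff]
    exact h _
  · intro h y
    exact h (Y.residueField y) (Y.fromSpecResidueField y)



section Points

variable {T : Scheme.{u}}

lemma Γevaluation_surjective [IsAffine T] [IsArtinianRing Γ(T, ⊤)] (x : T) :
    Function.Surjective (T.Γevaluation x).hom := by
  have h1 : Function.Surjective (T.presheaf.germ ⊤ x trivial).hom := by
    let _ := T.presheaf.algebra_section_stalk (U := ⊤) ⟨x, trivial⟩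
    have := (isAffineOpen_top T).isLocalization_stalk ⟨x, trivial⟩
    exact IsArtinianRing.localization_surjective
      ((isAffineOpen_top T).primeIdealOf ⟨x, trivial⟩).asIdeal.primeCompl (T.presheaf.stalk x)
  have h2 := T.residue_surjective x
  intro c
  obtain ⟨s, rfl⟩ := h2 c
  obtain ⟨a, rfl⟩ := h1 s
  exact ⟨a, rfl⟩

lemma ker_Γevaluation (x : T) :
    RingHom.ker (T.Γevaluation x).hom = (T.toSpecΓ x).asIdeal := by
  ext a
  rw [RingHom.mem_ker, Scheme.toSpecΓ_apply]
  change T.residue x (T.presheaf.germ ⊤ x trivial a) = 0 ↔ _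
  erw [IsLocalRing.residue_eq_zero_iff]
  rfl

lemma ker_Γevaluation_injective [IsAffine T] :
    Function.Injective (fun x : T => RingHom.ker (T.Γevaluation x).hom) := by
  intro x y hxy
  simp only [ker_Γevaluation] at hxy
  have : T.toSpecΓ x = T.toSpecΓ y := PrimeSpectrum.ext hxy
  have hiso : IsIso T.toSpecΓ := inferInstance
  exact (T.isoSpec.hom.homeomorph).injective this

end Points


section Points2

variable {k : Type u} [Field k] {T : Scheme.{u}}

lemma Γevaluation_Spec_field_bijective (y : Spec (CommRingCat.of k)) :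
    Function.Bijective
      ((Scheme.ΓSpecIso (CommRingCat.of k)).inv ≫ (Spec (CommRingCat.of k)).Γevaluation y).hom := by
  constructor
  · exact RingHom.injective _
  · have hsurj : Function.Surjective (Scheme.ΓSpecIso (CommRingCat.of k)).inv.hom :=
      (ConcreteCategory.bijective_of_isIso (Scheme.ΓSpecIso (CommRingCat.of k)).inv).2
    have hart : IsArtinianRing Γ(Spec (CommRingCat.of k), ⊤) :=
      Function.Surjective.isArtinianRing hsurj
    have := Γevaluation_surjective (T := Spec (CommRingCat.of k)) y
    intro c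
    obtain ⟨a, rfl⟩ := this c
    obtain ⟨b, rfl⟩ := hsurj a
    exact ⟨b, rfl⟩

theorem points_of_finiteOfDegLE (p : T ⟶ Spec (.of k)) (n : ℕ)
    (hT : FiniteOfDegLE (.of k) p n) :
    Finite T ∧ (∀ x, 0 < p.residueDegree x) ∧ ∑ᶠ x : T, p.residueDegree x ≤ n := by
  classical
  let i2 : Algebra k Γ(T, ⊤) := secAlgebra (.of k) p
  obtain ⟨hA, hfin, hrk⟩ : IsAffine T ∧ Module.Finite k Γ(T, ⊤) ∧
    Module.finrank k Γ(T, ⊤) ≤ n := hT
  have hart : IsArtinianRing Γ(T, ⊤) := IsArtinianRing.of_finite k _
  have e0 : T ≃ₜ PrimeSpectrum Γ(T, ⊤) := T.isoSpec.hom.homeomorph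
  have hTf : Finite T := Finite.of_equiv _ e0.symm.toEquiv
  let ev : ∀ x : T, Γ(T, ⊤) →+* T.residueField x := fun x => (T.Γevaluation x).hom
  have hev : ∀ x, Function.Surjective (ev x) := fun x => Γevaluation_surjective x
  let ia : ∀ x : T, Algebra k (T.residueField x) :=
    fun x => ((ev x).comp (algebraMap k Γ(T, ⊤))).toAlgebra
  let L : Γ(T, ⊤) →ₗ[k] (∀ x : T, T.residueField x) :=
    { toFun := fun a x => ev x a
      map_add' := fun a b => by ext x; simp
      map_smul' := fun c a => by
        ext x
        simp only [Algebra.smul_def, map_mul, RingHom.id_apply, Pi.smul_apply]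
        rfl }
  have hmax : ∀ x : T, (RingHom.ker (ev x)).IsMaximal := fun x =>
    RingHom.ker_isMaximal_of_surjective _ (hev x)
  have hcop : Pairwise (Function.onFun IsCoprime fun x : T => RingHom.ker (ev x)) := by
    intro x y hxy
    change IsCoprime (RingHom.ker (ev x)) (RingHom.ker (ev y))
    rw [Ideal.isCoprime_iff_sup_eq]
    refine Ideal.IsMaximal.coprime_of_ne (hmax x) (hmax y) ?_
    intro h
    exact hxy (ker_Γevaluation_injective h)
  have hL : Function.Surjective L := by
    intro c
    choose a ha using fun x => hev x (c x)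
    obtain ⟨r, hr⟩ := Ideal.exists_forall_sub_mem_ideal hcop a
    refine ⟨r, ?_⟩
    ext x
    have := hr x
    rw [RingHom.mem_ker, map_sub, sub_eq_zero] at this
    change ev x r = c x
    rw [this, ha]
  have hfinx : ∀ x : T, Module.Finite k (T.residueField x) := fun x =>
    Module.Finite.of_surjective
      ({ toFun := ev x
         map_add' := map_add _
         map_smul' := fun c a => by
           simp only [Algebra.smul_def, map_mul, RingHom.id_apply]
           rfl } : Γ(T, ⊤) →ₗ[k] T.residueField x) (hev x)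
  have hdeg : ∀ x, p.residueDegree x = Module.finrank k (T.residueField x) := by
    intro x
    let c := ((Scheme.ΓSpecIso (CommRingCat.of k)).inv ≫
      (Spec (CommRingCat.of k)).Γevaluation (p x)).hom
    have hc : Function.Bijective c := Γevaluation_Spec_field_bijective (p x)
    let _ : Algebra ((Spec (CommRingCat.of k)).residueField (p x)) (T.residueField x) :=
      (p.residueFieldMap x).hom.toAlgebra
    symm
    refine Algebra.finrank_eq_of_equiv_equiv (RingEquiv.ofBijective c hc) (RingEquiv.refl _) ?_
    ext r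
    change (p.residueFieldMap x).hom (c r) = ev x (algebraMap k Γ(T, ⊤) r)
    have := Scheme.Γevaluation_naturality_apply p x
      ((Scheme.ΓSpecIso (CommRingCat.of k)).inv r)
    exact this
  have hfr : Module.finrank k (∀ x : T, T.residueField x) ≤ Module.finrank k Γ(T, ⊤) :=
    LinearMap.finrank_le_finrank_of_surjective hL
  cases nonempty_fintype T
  refine ⟨hTf, ?_, ?_⟩
  · intro x
    rw [hdeg]
    exact Module.finrank_pos
  · rw [finsum_eq_sum_of_fintype]
    simp_rw [hdeg]
    rw [← Module.finrank_pi_fintype k]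
    exact hfr.trans hrk

end Points2


theorem card_le_of_finiteOfDegLE {k : Type u} [Field k] {T : Scheme.{u}}
    (p : T ⟶ Spec (.of k)) (n : ℕ) (hT : FiniteOfDegLE (.of k) p n) :
    Finite T ∧ Nat.card T ≤ n := by
  classical
  obtain ⟨h1, h2, h3⟩ := points_of_finiteOfDegLE p n hT
  refine ⟨h1, ?_⟩
  cases nonempty_fintype T
  rw [finsum_eq_sum_of_fintype] at h3
  refine le_trans ?_ h3
  rw [Nat.card_eq_fintype_card, Fintype.card, Finset.card_eq_sum_ones]
  exact Finset.sum_le_sum fun x _ => h2 x

end Groth.Agent.Helper7.FibDeg
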