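import Mathlib
import Groth.Agent.Lib.Helper7.FibDeg3
import Groth.Prelude.Def_Mor2

/-! helper7: fibre-degree bounds: (pre)immersions have fibre degree at most one; finite locally
free morphisms of degree d have fibre degree d. -/

open CategoryTheory AlgebraicGeometry BddFib Limits TensorProduct

universe u

namespace Groth.Agent.Helper7.FibDeg


theorem finiteOfDegLE_one_of_isPreimmersion {k : Type u} [Field k] {T : Scheme.{u}}
    (p : T ⟶ Spec (.of k)) [IsPreimmersion p] : FiniteOfDegLE (.of k) p 1 := by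
  have hss : Subsingleton (Spec (CommRingCat.of k)) :=
    inferInstanceAs (Subsingleton (PrimeSpectrum k))
  have hcl : IsClosed (Set.range p) := by
    rcases (Set.range p).eq_empty_or_nonempty with h | ⟨x, hx⟩
    · rw [h]; exact isClosed_empty
    · have : Set.range p = Set.univ := by
        ext z
        simp only [Set.mem_univ, iff_true]
        rwa [Subsingleton.elim z x]
      rw [this]; exact isClosed_univ
  have : IsClosedImmersion p := .of_isPreimmersion p hcl
  obtain ⟨hA, hs⟩ := IsClosedImmersion.isAffine_surjective_of_isAffine p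
  let i2 : Algebra k Γ(T, ⊤) := secAlgebra (.of k) p
  have hsurj : Function.Surjective (algebraMap k Γ(T, ⊤)) := by
    have h1 : Function.Surjective (Scheme.ΓSpecIso (CommRingCat.of k)).inv.hom :=
      (ConcreteCategory.bijective_of_isIso (Scheme.ΓSpecIso (CommRingCat.of k)).inv).2
    intro a
    obtain ⟨b, rfl⟩ := hs a
    obtain ⟨c, rfl⟩ := h1 b
    exact ⟨c, rfl⟩
  refine ⟨hA, Module.Finite.of_surjective (Algebra.linearMap k _) hsurj, ?_⟩
  exact (LinearMap.finrank_le_finrank_of_surjective (f := Algebra.linearMap k _) hsurj).trans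
    (Module.finrank_self k).le

theorem fibreDegLE_one_of_isPreimmersion {X Y : Scheme.{u}} (f : X ⟶ Y) [IsPreimmersion f] :
    BddFib.FibreDegLE f 1 := by
  intro y
  have : IsPreimmersion (f.fiberToSpecResidueField y) :=
    MorphismProperty.pullback_snd (P := @IsPreimmersion) _ _ inferInstance
  exact finiteOfDegLE_one_of_isPreimmersion (k := Y.residueField y) (f.fiberToSpecResidueField y)



theorem finiteOfDegLE_of_isFinite {k : Type u} [Field k] {T : Scheme.{u}}
    (p : T ⟶ Spec (.of k)) [IsFinite p] [Flat p] (x : Spec (CommRingCat.of k)) (n : ℕ)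
    (hn : p.finrank x = n) : FiniteOfDegLE (.of k) p n := by
  have hA : IsAffine T := isAffine_of_isAffineHom p
  let i2 : Algebra k Γ(T, ⊤) := secAlgebra (.of k) p
  let φ' : CommRingCat.of k ⟶ Γ(T, ⊤) := (Scheme.ΓSpecIso (CommRingCat.of k)).inv ≫ p.appTop
  have hp : p = T.isoSpec.hom ≫ Spec.map φ' := by
    have h1 := Scheme.isoSpec_hom_naturality p
    rw [Scheme.isoSpec_Spec_hom] at h1
    simp only [φ', Spec.map_comp]
    rw [reassoc_of% h1, ← Spec.map_comp, Iso.inv_hom_id, Spec.map_id, Category.comp_id]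
  have hfl : Flat (Spec.map φ') := by
    have : Spec.map φ' = T.isoSpec.inv ≫ p := by rw [hp, Iso.inv_hom_id_assoc]
    rw [this]; infer_instance
  have hfi : IsFinite (Spec.map φ') := by
    have : Spec.map φ' = T.isoSpec.inv ≫ p := by rw [hp, Iso.inv_hom_id_assoc]
    rw [this]; infer_instance
  have hfin' : φ'.hom.Finite := (IsFinite.SpecMap_iff φ').mp hfi
  have hflat' : φ'.hom.Flat := Flat.SpecMap_iff.mp hfl
  have hfin : Module.Finite k Γ(T, ⊤) := hfin'
  refine ⟨hA, hfin, le_of_eq ?_⟩
  rw [← hn]
  conv_rhs => rw [hp]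
  rw [Scheme.Hom.finrank_comp_left_of_isIso, Scheme.Hom.finrank_SpecMap_eq_finrank hfin' hflat']
  change _ = Module.rankAtStalk (R := k) Γ(T, ⊤) x
  rw [Module.rankAtStalk_eq_finrank_of_free]
  rfl

theorem fibreDegLE_of_isFinLocFreeOfDeg {X Y : Scheme.{u}} (f : X ⟶ Y) (d : ℕ)
    (hf : Mor2.IsFinLocFreeOfDeg d f) : BddFib.FibreDegLE f d := by
  obtain ⟨⟨h1, h2, h3⟩, hd⟩ := hf
  intro y
  have i1 : IsFinite (f.fiberToSpecResidueField y) :=
    MorphismProperty.pullback_snd (P := @IsFinite) _ _ inferInstance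
  have i2 : Flat (f.fiberToSpecResidueField y) :=
    MorphismProperty.pullback_snd (P := @Flat) _ _ inferInstance
  refine finiteOfDegLE_of_isFinite (k := Y.residueField y)
    (f.fiberToSpecResidueField y) default d ?_
  refine (Scheme.Hom.finrank_of_isPullback (f.fiberι y) (f.fiberToSpecResidueField y) f
    (Y.fromSpecResidueField y) (IsPullback.of_hasPullback _ _) _).trans ?_
  exact hd _

end Groth.Agent.Helper7.FibDeg
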