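import Mathlib

/-! helper7: dimension bound for modules over a finite-dimensional algebra in terms of the
dimensions of the fibres over maximal ideals (composition-series argument). -/

open TensorProduct

namespace Groth.Agent.Helper7.FibDegAlg

section Exact

variable {k : Type*} [Field k] {U V W : Type*} [AddCommGroup U] [Module k U] [AddCommGroup V]
  [Module k V] [AddCommGroup W] [Module k W]

lemma finrank_of_exact (f : U →ₗ[k] V) (g : V →ₗ[k] W) (hg : Function.Surjective g)
    (hfg : LinearMap.range f = LinearMap.ker g) [Module.Finite k U] [Module.Finite k W] :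
    Module.Finite k V ∧ Module.finrank k V ≤ Module.finrank k U + Module.finrank k W ∧
      (Function.Injective f → Module.finrank k V = Module.finrank k U + Module.finrank k W) := by
  have h1 : Module.Finite k (LinearMap.ker g) := hfg ▸ Module.Finite.range f
  have h2 : Module.Finite k (V ⧸ LinearMap.ker g) :=
    Module.Finite.equiv (g.quotKerEquivOfSurjective hg).symm
  have hV : Module.Finite k V := Module.Finite.of_submodule_quotient (LinearMap.ker g)
  have h3 := LinearMap.finrank_range_add_finrank_ker g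
  rw [LinearMap.range_eq_top.mpr hg, finrank_top, ← hfg] at h3
  refine ⟨hV, ?_, ?_⟩
  · have := LinearMap.finrank_range_le f
    omega
  · intro hf
    have := LinearMap.finrank_range_of_inj hf
    omega

end Exact

section Step

variable {k : Type*} [Field k] {B : Type*} [CommRing B] [Algebra k B]
variable (M : Type*) [AddCommGroup M] [Module B M] [Module k M] [IsScalarTower k B M]
variable (I I₁ m : Ideal B) (t : B)

/-- multiplication by `t` from `M/mM` to `M/IM`. -/
noncomputable def fMap (hm : ∀ b ∈ m, b * t ∈ I) :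
    (M ⧸ (m • ⊤ : Submodule B M)) →ₗ[B] (M ⧸ (I • ⊤ : Submodule B M)) :=
  Submodule.mapQ _ _ (t • LinearMap.id) (by
    rw [Submodule.smul_le]
    intro b hb x _
    change t • (b • x) ∈ I • (⊤ : Submodule B M)
    rw [smul_smul, mul_comm]
    exact Submodule.smul_mem_smul (hm b hb) trivial)

/-- the projection `M/IM → M/I₁M`. -/
noncomputable def gMap (h : I ≤ I₁) :
    (M ⧸ (I • ⊤ : Submodule B M)) →ₗ[B] (M ⧸ (I₁ • ⊤ : Submodule B M)) :=
  Submodule.mapQ _ _ LinearMap.id (by
    rw [Submodule.comap_id]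
    exact Submodule.smul_mono_left h)

lemma gMap_surjective (h : I ≤ I₁) : Function.Surjective (gMap M I I₁ h) := by
  intro y
  obtain ⟨a, rfl⟩ := Submodule.Quotient.mk_surjective _ y
  exact ⟨Submodule.Quotient.mk a, rfl⟩

lemma exists_sub_mem (hI₁ : I₁ = I ⊔ Ideal.span {t}) (a : M)
    (ha : a ∈ (I₁ • ⊤ : Submodule B M)) :
    ∃ a' : M, a - t • a' ∈ (I • ⊤ : Submodule B M) := by
  refine Submodule.smul_induction_on ha ?_ ?_
  · intro r hr x _
    rw [hI₁, Submodule.mem_sup] at hr
    obtain ⟨i, hi, j, hj, rfl⟩ := hr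
    obtain ⟨c, rfl⟩ := Ideal.mem_span_singleton'.mp hj
    refine ⟨c • x, ?_⟩
    have : (i + c * t) • x - t • c • x = i • x := by
      rw [add_smul, smul_smul, mul_comm c t]; abel
    rw [this]
    exact Submodule.smul_mem_smul hi trivial
  · intro x y hx hy
    obtain ⟨x', hx'⟩ := hx
    obtain ⟨y', hy'⟩ := hy
    refine ⟨x' + y', ?_⟩
    have : x + y - t • (x' + y') = (x - t • x') + (y - t • y') := by
      rw [smul_add]; abel
    rw [this]
    exact Submodule.add_mem _ hx' hy'

lemma range_fMap (hm : ∀ b ∈ m, b * t ∈ I) (h : I ≤ I₁) (hI₁ : I₁ = I ⊔ Ideal.span {t}) :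
    LinearMap.range (fMap M I m t hm) = LinearMap.ker (gMap M I I₁ h) := by
  have ht : t ∈ I₁ := by
    rw [hI₁]; exact Ideal.mem_sup_right (Ideal.subset_span rfl)
  apply le_antisymm
  · rintro _ ⟨y, rfl⟩
    obtain ⟨a, rfl⟩ := Submodule.Quotient.mk_surjective _ y
    rw [LinearMap.mem_ker]
    change Submodule.Quotient.mk (t • a) = (0 : M ⧸ (I₁ • ⊤ : Submodule B M))
    rw [Submodule.Quotient.mk_eq_zero]
    exact Submodule.smul_mem_smul ht trivial
  · intro y hy
    obtain ⟨a, rfl⟩ := Submodule.Quotient.mk_surjective _ y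
    rw [LinearMap.mem_ker] at hy
    change Submodule.Quotient.mk a = (0 : M ⧸ (I₁ • ⊤ : Submodule B M)) at hy
    rw [Submodule.Quotient.mk_eq_zero] at hy
    obtain ⟨a', ha'⟩ := exists_sub_mem M I I₁ t hI₁ a hy
    refine ⟨Submodule.Quotient.mk a', ?_⟩
    change Submodule.Quotient.mk (t • a') = (Submodule.Quotient.mk a : M ⧸ (I • ⊤ : Submodule B M))
    rw [eq_comm, Submodule.Quotient.eq]
    exact ha'

lemma fMap_injective (hm : ∀ b ∈ m, b * t ∈ I)
    (hinj : ∀ x : M, t • x ∈ (I • ⊤ : Submodule B M) → x ∈ (m • ⊤ : Submodule B M)) :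
    Function.Injective (fMap M I m t hm) := by
  rw [← LinearMap.ker_eq_bot, LinearMap.ker_eq_bot']
  intro y hy
  obtain ⟨a, rfl⟩ := Submodule.Quotient.mk_surjective _ y
  change Submodule.Quotient.mk (t • a) = (0 : M ⧸ (I • ⊤ : Submodule B M)) at hy
  rw [Submodule.Quotient.mk_eq_zero] at hy
  rw [Submodule.Quotient.mk_eq_zero]
  exact hinj a hy

theorem step (hm : ∀ b ∈ m, b * t ∈ I) (h : I ≤ I₁) (hI₁ : I₁ = I ⊔ Ideal.span {t})
    [Module.Finite k (M ⧸ (m • ⊤ : Submodule B M))]
    [Module.Finite k (M ⧸ (I₁ • ⊤ : Submodule B M))] :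
    Module.Finite k (M ⧸ (I • ⊤ : Submodule B M)) ∧
      Module.finrank k (M ⧸ (I • ⊤ : Submodule B M)) ≤
        Module.finrank k (M ⧸ (m • ⊤ : Submodule B M)) +
          Module.finrank k (M ⧸ (I₁ • ⊤ : Submodule B M)) ∧
      ((∀ x : M, t • x ∈ (I • ⊤ : Submodule B M) → x ∈ (m • ⊤ : Submodule B M)) →
        Module.finrank k (M ⧸ (I • ⊤ : Submodule B M)) =
          Module.finrank k (M ⧸ (m • ⊤ : Submodule B M)) +
            Module.finrank k (M ⧸ (I₁ • ⊤ : Submodule B M))) := by
  have key := finrank_of_exact ((fMap M I m t hm).restrictScalars k)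
    ((gMap M I I₁ h).restrictScalars k) (gMap_surjective M I I₁ h) (by
      ext y
      have := range_fMap M I I₁ m t hm h hI₁
      have h2 := SetLike.ext_iff.mp this y
      simpa using h2)
  refine ⟨key.1, key.2.1, fun hinj => key.2.2 ?_⟩
  exact fMap_injective M I m t hm hinj

end Step


section Main

variable {k : Type*} [Field k] {B : Type*} [CommRing B] [Algebra k B] [Module.Finite k B]
variable (M : Type*) [AddCommGroup M] [Module B M] [Module k M] [IsScalarTower k B M]

theorem chain_bound (n : ℕ)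
    (H : ∀ m : Ideal B, m.IsMaximal → Module.Finite k (M ⧸ (m • ⊤ : Submodule B M)) ∧
      Module.finrank k (M ⧸ (m • ⊤ : Submodule B M)) ≤
        n * Module.finrank k (B ⧸ (m • ⊤ : Submodule B B))) (I : Ideal B) :
    Module.Finite k (M ⧸ (I • ⊤ : Submodule B M)) ∧
      Module.finrank k (M ⧸ (I • ⊤ : Submodule B M)) ≤
        n * Module.finrank k (B ⧸ (I • ⊤ : Submodule B B)) := by
  have hN : IsNoetherian B B := isNoetherian_of_tower k (inferInstance : IsNoetherian k B)
  have hA : IsArtinian B B := isArtinian_of_tower k (inferInstance : IsArtinian k B)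
  induction I using IsNoetherian.induction with
  | hgt I IH =>
  by_cases hI : I = ⊤
  · subst hI
    have h1 : ((⊤ : Ideal B) • ⊤ : Submodule B M) = ⊤ := Submodule.top_smul ⊤
    have hsub : Subsingleton (M ⧸ ((⊤ : Ideal B) • ⊤ : Submodule B M)) := by
      rw [h1]; infer_instance
    refine ⟨inferInstance, ?_⟩
    rw [Module.finrank_zero_of_subsingleton]
    exact Nat.zero_le _
  · -- choose a minimal ideal strictly above I
    have hne : {J : Ideal B | I < J}.Nonempty := ⟨⊤, lt_top_iff_ne_top.mpr hI⟩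
    obtain ⟨I₁, hI₁, hmin⟩ := (IsWellFounded.wf (α := Ideal B) (r := (· < ·))).has_min _ hne
    have hII₁ : I < I₁ := hI₁
    obtain ⟨t, ht₁, ht⟩ := SetLike.exists_of_lt hII₁
    have hsup : I₁ = I ⊔ Ideal.span {t} := by
      have h1 : I < I ⊔ Ideal.span {t} := by
        refine lt_of_le_of_ne le_sup_left ?_
        intro h
        apply ht
        rw [h]
        exact Ideal.mem_sup_right (Ideal.subset_span rfl)
      have h2 : I ⊔ Ideal.span {t} ≤ I₁ :=
        sup_le hII₁.le ((Ideal.span_singleton_le_iff_mem _).mpr ht₁)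
      by_contra hne'
      exact hmin _ h1 (lt_of_le_of_ne h2 (Ne.symm hne'))
    let m : Ideal B := (I : Submodule B B).colon {t}
    have hm : ∀ b, b ∈ m ↔ b * t ∈ I := fun b => Submodule.mem_colon_singleton
    have hmmax : m.IsMaximal := by
      rw [Ideal.isMaximal_iff]
      refine ⟨?_, ?_⟩
      · rw [hm, one_mul]; exact ht
      · intro J b hmJ hb hbJ
        rw [hm] at hb
        have h1 : I < I ⊔ Ideal.span {b * t} := by
          refine lt_of_le_of_ne le_sup_left ?_
          intro h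
          apply hb
          rw [h]
          exact Ideal.mem_sup_right (Ideal.subset_span rfl)
        have h2 : I ⊔ Ideal.span {b * t} ≤ I₁ :=
          sup_le hII₁.le ((Ideal.span_singleton_le_iff_mem _).mpr (I₁.mul_mem_left b ht₁))
        have h3 : I ⊔ Ideal.span {b * t} = I₁ := by
          by_contra hne'
          exact hmin _ h1 (lt_of_le_of_ne h2 hne')
        have h4 : t ∈ I ⊔ Ideal.span {b * t} := h3 ▸ ht₁
        rw [Submodule.mem_sup] at h4
        obtain ⟨i, hi, j, hj, hij⟩ := h4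
        obtain ⟨c, rfl⟩ := Ideal.mem_span_singleton'.mp hj
        have h5 : (1 - c * b) ∈ m := by
          rw [hm]
          have : (1 - c * b) * t = i := by
            linear_combination (-1 : B) * hij
          rw [this]; exact hi
        have h6 : (1 : B) = (1 - c * b) + c * b := by ring
        rw [h6]
        exact J.add_mem (hmJ h5) (J.mul_mem_left c hbJ)
    obtain ⟨hmf, hmr⟩ := H m hmmax
    obtain ⟨hI₁f, hI₁r⟩ := IH I₁ hII₁
    have hBm : Module.Finite k (B ⧸ (m • ⊤ : Submodule B B)) := inferInstance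
    have hBI₁ : Module.Finite k (B ⧸ (I₁ • ⊤ : Submodule B B)) := inferInstance
    obtain ⟨s1, s2, -⟩ := step (k := k) M I I₁ m t (fun b hb => (hm b).mp hb) hII₁.le hsup
    obtain ⟨-, -, s3⟩ := step (k := k) B I I₁ m t (fun b hb => (hm b).mp hb) hII₁.le hsup
    have s4 := s3 (by
      intro x hx
      have e1 : (I • ⊤ : Submodule B B) = I := by simp
      have e2 : (m • ⊤ : Submodule B B) = m := by simp
      rw [e1] at hx
      rw [e2, hm, mul_comm]
      exact hx)
    refine ⟨s1, ?_⟩
    rw [s4, Nat.mul_add]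
    exact s2.trans (Nat.add_le_add hmr hI₁r)

end Main


section Final

variable {k : Type*} [Field k] {B : Type*} [CommRing B] [Algebra k B] [Module.Finite k B]
variable (M : Type*) [AddCommGroup M] [Module B M] [Module k M] [IsScalarTower k B M]

theorem bound_of_quotients (n : ℕ)
    (H : ∀ m : Ideal B, m.IsMaximal → Module.Finite k (M ⧸ (m • ⊤ : Submodule B M)) ∧
      Module.finrank k (M ⧸ (m • ⊤ : Submodule B M)) ≤
        n * Module.finrank k (B ⧸ (m • ⊤ : Submodule B B))) :
    Module.Finite k M ∧ Module.finrank k M ≤ n * Module.finrank k B := by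
  obtain ⟨h1, h2⟩ := chain_bound M n H ⊥
  have eM : ((⊥ : Ideal B) • ⊤ : Submodule B M) = ⊥ := Submodule.bot_smul ⊤
  have eB : ((⊥ : Ideal B) • ⊤ : Submodule B B) = ⊥ := Submodule.bot_smul ⊤
  let e1 : (M ⧸ ((⊥ : Ideal B) • ⊤ : Submodule B M)) ≃ₗ[k] M :=
    (Submodule.quotEquivOfEqBot _ eM).restrictScalars k
  let e2 : (B ⧸ ((⊥ : Ideal B) • ⊤ : Submodule B B)) ≃ₗ[k] B :=
    (Submodule.quotEquivOfEqBot _ eB).restrictScalars k
  refine ⟨Module.Finite.equiv e1, ?_⟩
  rw [← e1.finrank_eq, ← e2.finrank_eq]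
  exact h2

theorem bound_of_fibers (n : ℕ)
    (H : ∀ (m : Ideal B) [m.IsMaximal], Module.Finite (B ⧸ m) ((B ⧸ m) ⊗[B] M) ∧
      Module.finrank (B ⧸ m) ((B ⧸ m) ⊗[B] M) ≤ n) :
    Module.Finite k M ∧ Module.finrank k M ≤ n * Module.finrank k B := by
  refine bound_of_quotients M n ?_
  intro m hm
  let _ : Field (B ⧸ m) := Ideal.Quotient.field m
  obtain ⟨h1, h2⟩ := H m
  let e : ((B ⧸ m) ⊗[B] M) ≃ₗ[k] (M ⧸ (m • ⊤ : Submodule B M)) :=
    (TensorProduct.quotTensorEquivQuotSMul M m).restrictScalars k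
  have hfin : Module.Finite k ((B ⧸ m) ⊗[B] M) := Module.Finite.trans (B ⧸ m) _
  have eB : (m • ⊤ : Submodule B B) = m := by simp
  let e2 : (B ⧸ (m • ⊤ : Submodule B B)) ≃ₗ[k] (B ⧸ m) :=
    (Submodule.quotEquivOfEq _ _ eB).restrictScalars k
  refine ⟨Module.Finite.equiv e, ?_⟩
  rw [← e.finrank_eq, e2.finrank_eq, ← Module.finrank_mul_finrank k (B ⧸ m) ((B ⧸ m) ⊗[B] M),
    mul_comm]
  exact Nat.mul_le_mul_right _ h2

end Final

end Groth.Agent.Helper7.FibDegAlg
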