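import Mathlib
import Groth.Agent.Lib.Helper7.FibDeg3
import Groth.Agent.Lib.Helper7.FibDegAlg

/-! helper7: fibre-degree bounds: composition (degrees multiply). -/

open CategoryTheory AlgebraicGeometry BddFib Limits TensorProduct

universe u

namespace Groth.Agent.Helper7.FibDeg

lemma finite_discrete_of_fibers {T S : Scheme.{u}} (φ : T ⟶ S) [Finite S] [DiscreteTopology S]
    (h : ∀ s : S, Finite (φ.fiber s) ∧ DiscreteTopology (φ.fiber s)) :
    Finite T ∧ DiscreteTopology T := by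
  have hfib : ∀ s : S, Finite (φ ⁻¹' {s}) ∧ DiscreteTopology (φ ⁻¹' {s}) := by
    intro s
    obtain ⟨h1, h2⟩ := h s
    exact ⟨Finite.of_equiv _ (φ.fiberHomeo s).toEquiv, (φ.fiberHomeo s).discreteTopology⟩
  constructor
  · have : (Set.univ : Set T).Finite := by
      refine Set.Finite.of_finite_fibers φ (Set.toFinite _) ?_
      intro s _
      rw [Set.univ_inter]
      have := (hfib s).1
      exact Set.toFinite _
    exact Set.finite_univ_iff.mp this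
  · rw [discreteTopology_iff_isOpen_singleton]
    intro x
    have hU : IsOpen (φ ⁻¹' {φ x}) := (isOpen_discrete _).preimage φ.continuous
    have hd := (hfib (φ x)).2
    have hx : IsOpen ({⟨x, rfl⟩} : Set (φ ⁻¹' {φ x})) := isOpen_discrete _
    have := hU.isOpenMap_subtype_val _ hx
    simpa using this



lemma finite_discrete_of_finiteOfDegLE {k : Type u} [Field k] {T : Scheme.{u}}
    (p : T ⟶ Spec (.of k)) (n : ℕ) (hT : FiniteOfDegLE (.of k) p n) :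
    Finite T ∧ DiscreteTopology T := by
  let i2 : Algebra k Γ(T, ⊤) := secAlgebra (.of k) p
  obtain ⟨hA, hfin, hrk⟩ : IsAffine T ∧ Module.Finite k Γ(T, ⊤) ∧
    Module.finrank k Γ(T, ⊤) ≤ n := hT
  have hart : IsArtinianRing Γ(T, ⊤) := IsArtinianRing.of_finite k _
  have e0 : T ≃ₜ PrimeSpectrum Γ(T, ⊤) := T.isoSpec.hom.homeomorph
  exact ⟨Finite.of_equiv _ e0.symm.toEquiv, e0.symm.discreteTopology⟩

/-- flexible version of `algebra_isPushout` where the base algebra instance is given. -/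
lemma algebra_isPushout' {K k : Type u} [CommRing K] [CommRing k] [Algebra K k]
    {T T' : Scheme.{u}} [IsAffine T]
    (p : T ⟶ Spec (.of K)) (p' : T' ⟶ Spec (.of k))
    (q : T' ⟶ T) (h : IsPullback q p' p (Spec.map (CommRingCat.ofHom (algebraMap K k)))) :
    let _ : Algebra K Γ(T, ⊤) := secAlgebra (.of K) p
    let _ : Algebra k Γ(T', ⊤) := secAlgebra (.of k) p'
    let _ : Algebra Γ(T, ⊤) Γ(T', ⊤) := q.appTop.hom.toAlgebra
    let _ : Algebra K Γ(T', ⊤) := (CommRingCat.ofHom (algebraMap K k) ≫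
      (Scheme.ΓSpecIso (.of k)).inv ≫ p'.appTop).hom.toAlgebra
    ∃ (_ : IsScalarTower K k Γ(T', ⊤)) (_ : IsScalarTower K Γ(T, ⊤) Γ(T', ⊤)),
      Algebra.IsPushout K k Γ(T, ⊤) Γ(T', ⊤) := by
  intro i2 i3 i4 i5
  have hp := isPushout_sections (CommRingCat.ofHom (algebraMap K k)) p p' q h
  have t1 : IsScalarTower K k Γ(T', ⊤) := .of_algebraMap_eq' rfl
  have t2 : IsScalarTower K Γ(T, ⊤) Γ(T', ⊤) := .of_algebraMap_eq' (by
    change (CommRingCat.ofHom (algebraMap K k) ≫ (Scheme.ΓSpecIso (.of k)).inv ≫ p'.appTop).hom =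
      (((Scheme.ΓSpecIso (.of K)).inv ≫ p.appTop) ≫ q.appTop).hom
    rw [hp.w])
  exact ⟨t1, t2, CommRingCat.isPushout_iff_isPushout.mp hp⟩



theorem fibreDegLE_of_isPullback {X Y X' Y' : Scheme.{u}} (f : X ⟶ Y) (g : Y' ⟶ Y) (f' : X' ⟶ Y')
    (g' : X' ⟶ X) (h : IsPullback g' f' f g) (n : ℕ) (hf : BddFib.FibreDegLE f n) :
    BddFib.FibreDegLE f' n := by
  intro y'
  exact finiteOfDegLE_baseChange (K := Y.residueField (g y'))
    (k := Y'.residueField y') (g.residueFieldMap y').hom _ _ _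
    (isPullback_fiberToSpecResidueField_of_isPullback h y') n (hf (g y'))

theorem finiteOfDegLE_comp {k : Type u} [Field k] {S T : Scheme.{u}} (q : S ⟶ Spec (.of k))
    (φ : T ⟶ S) (n m : ℕ) (hq : FiniteOfDegLE (.of k) q m) (hφ : FibreDegLE φ n) :
    FiniteOfDegLE (.of k) (φ ≫ q) (n * m) := by
  obtain ⟨hSf, hSd⟩ := finite_discrete_of_finiteOfDegLE q m hq
  obtain ⟨hTf, hTd⟩ := finite_discrete_of_fibers φ
    (fun s => finite_discrete_of_finiteOfDegLE (k := S.residueField s) _ n (hφ s))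
  have hTA : IsAffine T := inferInstance
  let iB : Algebra k Γ(S, ⊤) := secAlgebra (.of k) q
  obtain ⟨hSA, hBfin, hBrk⟩ : IsAffine S ∧ Module.Finite k Γ(S, ⊤) ∧
    Module.finrank k Γ(S, ⊤) ≤ m := hq
  let p : T ⟶ Spec (.of Γ(S, ⊤)) := φ ≫ S.isoSpec.hom
  let iA : Algebra k Γ(T, ⊤) := secAlgebra (.of k) (φ ≫ q)
  let iBA : Algebra Γ(S, ⊤) Γ(T, ⊤) := secAlgebra (.of Γ(S, ⊤)) p
  have hBA : algebraMap Γ(S, ⊤) Γ(T, ⊤) = φ.appTop.hom := by
    change ((Scheme.ΓSpecIso _).inv ≫ (φ ≫ S.isoSpec.hom).appTop).hom = _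
    rw [Scheme.Hom.comp_appTop, Scheme.isoSpec_hom, Scheme.toSpecΓ_appTop]
    simp
  have tower : IsScalarTower k Γ(S, ⊤) Γ(T, ⊤) := .of_algebraMap_eq' (by
    rw [hBA]
    change ((Scheme.ΓSpecIso _).inv ≫ (φ ≫ q).appTop).hom =
      φ.appTop.hom.comp ((Scheme.ΓSpecIso _).inv ≫ q.appTop).hom
    rw [Scheme.Hom.comp_appTop]
    rfl)
  have hp : FibreDegLE p n := by
    refine fibreDegLE_of_isPullback φ S.isoSpec.inv p (𝟙 T) ?_ n hφ
    exact IsPullback.of_horiz_isIso ⟨by simp [p]⟩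
  have key := FibDegAlg.bound_of_fibers (k := k) (B := Γ(S, ⊤)) Γ(T, ⊤) n ?_
  · exact ⟨hTA, key.1, key.2.trans (Nat.mul_le_mul_left n hBrk)⟩
  · intro m' hm'
    let iF : Field (Γ(S, ⊤) ⧸ m') := Ideal.Quotient.field m'
    have h1 := (fibreDegLE_iff p n).mp hp (Γ(S, ⊤) ⧸ m')
      (Spec.map (CommRingCat.ofHom (algebraMap Γ(S, ⊤) (Γ(S, ⊤) ⧸ m'))))
    let iC : Algebra (Γ(S, ⊤) ⧸ m')
        Γ(pullback p (Spec.map (CommRingCat.ofHom (algebraMap Γ(S, ⊤) (Γ(S, ⊤) ⧸ m')))), ⊤) :=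
      secAlgebra (.of (Γ(S, ⊤) ⧸ m')) (pullback.snd _ _)
    obtain ⟨hPA, hCfin, hCrk⟩ := h1
    let i4 : Algebra Γ(T, ⊤)
        Γ(pullback p (Spec.map (CommRingCat.ofHom (algebraMap Γ(S, ⊤) (Γ(S, ⊤) ⧸ m')))), ⊤) :=
      (pullback.fst p
        (Spec.map (CommRingCat.ofHom (algebraMap Γ(S, ⊤) (Γ(S, ⊤) ⧸ m'))))).appTop.hom.toAlgebra
    let i5 : Algebra Γ(S, ⊤)
        Γ(pullback p (Spec.map (CommRingCat.ofHom (algebraMap Γ(S, ⊤) (Γ(S, ⊤) ⧸ m')))), ⊤) :=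
      (CommRingCat.ofHom (algebraMap Γ(S, ⊤) (Γ(S, ⊤) ⧸ m')) ≫
        (Scheme.ΓSpecIso (.of (Γ(S, ⊤) ⧸ m'))).inv ≫ (pullback.snd p
          (Spec.map (CommRingCat.ofHom
            (algebraMap Γ(S, ⊤) (Γ(S, ⊤) ⧸ m'))))).appTop).hom.toAlgebra
    obtain ⟨t1, t2, hpo⟩ := algebra_isPushout' (K := Γ(S, ⊤)) (k := Γ(S, ⊤) ⧸ m') p
      (pullback.snd _ _) (pullback.fst _ _) (IsPullback.of_hasPullback _ _)
    let e := Algebra.IsPushout.equiv Γ(S, ⊤) (Γ(S, ⊤) ⧸ m') Γ(T, ⊤)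
      Γ(pullback p (Spec.map (CommRingCat.ofHom (algebraMap Γ(S, ⊤) (Γ(S, ⊤) ⧸ m')))), ⊤)
    exact ⟨Module.Finite.equiv e.symm.toLinearEquiv, by
      rw [e.toLinearEquiv.finrank_eq]; exact hCrk⟩


theorem fibreDegLE_comp_mul {X Y Z : Scheme.{u}} (f : X ⟶ Y) (g : Y ⟶ Z) (n m : ℕ)
    (hf : BddFib.FibreDegLE f n) (hg : BddFib.FibreDegLE g m) :
    BddFib.FibreDegLE (f ≫ g) (n * m) := by
  intro z
  have h1 : FibreDegLE (fiberMap f g z) n :=
    fibreDegLE_of_isPullback f (g.fiberι z) (fiberMap f g z) ((f ≫ g).fiberι z)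
      (fiberMap_isPullback f g z).flip n hf
  have h2 := finiteOfDegLE_comp (k := Z.residueField z) (g.fiberToSpecResidueField z)
    (fiberMap f g z) n m (hg z) h1
  have h3 : fiberMap f g z ≫ g.fiberToSpecResidueField z =
      (f ≫ g).fiberToSpecResidueField z := fiberMap_toSpec f g z
  exact h3 ▸ h2

end Groth.Agent.Helper7.FibDeg
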