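import Mathlib
import Groth.Agent.Lib.Helper7.FibDeg5

/-! helper7: fibre-degree bounds for etale morphisms via counts of geometric points. -/

open CategoryTheory AlgebraicGeometry BddFib Limits TensorProduct

universe u

namespace Groth.Agent.Helper7.FibDeg

/-- a scheme étale over a field is discrete. -/
lemma discreteTopology_of_etale {k : Type u} [Field k] {T : Scheme.{u}}
    (p : T ⟶ Spec (.of k)) [Etale p] : DiscreteTopology T := by
  rw [discreteTopology_iff_isOpen_singleton]
  intro x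
  obtain ⟨_, ⟨U, hU, rfl⟩, hxU, -⟩ :=
    T.isBasis_affineOpens.exists_subset_of_mem_open (Set.mem_univ x) isOpen_univ
  have het := HasRingHomProperty.appLE (P := @Etale) p inferInstance
    ⟨⊤, isAffineOpen_top _⟩ ⟨U, hU⟩ (by simp)
  let ψ : k →+* Γ(T, U) :=
    ((Scheme.ΓSpecIso (.of k)).inv ≫ p.appLE ⊤ U (by simp)).hom
  have hψ : ψ.Etale := by
    have h1 : ((Scheme.ΓSpecIso (CommRingCat.of k)).inv).hom.Etale :=
      RingHom.Etale.of_bijective
        (ConcreteCategory.bijective_of_isIso (Scheme.ΓSpecIso (CommRingCat.of k)).inv)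
    exact RingHom.Etale.stableUnderComposition _ _ h1 het
  let _ : Algebra k Γ(T, U) := ψ.toAlgebra
  have hA : Algebra.Etale k Γ(T, U) := RingHom.etale_algebraMap.mp hψ
  have hfin : Module.Finite k Γ(T, U) :=
    Algebra.FormallyUnramified.finite_of_free (R := k) (S := Γ(T, U))
  have hart : IsArtinianRing Γ(T, U) := IsArtinianRing.of_finite k _
  have e0 : (U : Scheme) ≃ₜ PrimeSpectrum Γ(T, U) := hU.isoSpec.hom.homeomorph
  have hd : DiscreteTopology (U : Scheme) := e0.symm.discreteTopology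
  have hx : IsOpen ({⟨x, hxU⟩} : Set U) := isOpen_discrete _
  have := U.isOpen.isOpenMap_subtype_val _ hx
  convert this using 1
  exact (Set.image_singleton (f := Subtype.val) (a := (⟨x, hxU⟩ : U))).symm


theorem finiteOfDegLE_of_etale_of_isSepClosed {k : Type u} [Field k] [IsSepClosed k]
    {T : Scheme.{u}} (p : T ⟶ Spec (.of k)) [Etale p] [Finite T] :
    FiniteOfDegLE (.of k) p (Nat.card T) := by
  have hd := discreteTopology_of_etale p
  have hA : IsAffine T := inferInstance
  let i2 : Algebra k Γ(T, ⊤) := secAlgebra (.of k) p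
  have het : (algebraMap k Γ(T, ⊤)).Etale := by
    have h0 := HasRingHomProperty.appTop (P := @Etale) p inferInstance
    have h1 : ((Scheme.ΓSpecIso (CommRingCat.of k)).inv).hom.Etale :=
      RingHom.Etale.of_bijective
        (ConcreteCategory.bijective_of_isIso (Scheme.ΓSpecIso (CommRingCat.of k)).inv)
    exact RingHom.Etale.stableUnderComposition _ _ h1 h0
  have hE : Algebra.Etale k Γ(T, ⊤) := RingHom.etale_algebraMap.mp het
  have hfin : Module.Finite k Γ(T, ⊤) :=
    Algebra.FormallyUnramified.finite_of_free (R := k) (S := Γ(T, ⊤))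
  let e := Algebra.FormallyEtale.equivPiOfIsSepClosed k Γ(T, ⊤)
  have e0 : T ≃ₜ PrimeSpectrum Γ(T, ⊤) := T.isoSpec.hom.homeomorph
  have hfinP : Finite (PrimeSpectrum Γ(T, ⊤)) := Finite.of_equiv _ e0.toEquiv
  cases nonempty_fintype (PrimeSpectrum Γ(T, ⊤))
  refine ⟨hA, hfin, le_of_eq ?_⟩
  rw [e.toLinearEquiv.finrank_eq, Module.finrank_fintype_fun_eq_card,
    ← Nat.card_eq_fintype_card]
  exact (Nat.card_congr e0.toEquiv).symm


lemma FiniteOfDegLE.mono {K : CommRingCat.{u}} {T : Scheme.{u}} {p : T ⟶ Spec K} {n n' : ℕ}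
    (h : FiniteOfDegLE K p n) (hn : n ≤ n') : FiniteOfDegLE K p n' :=
  ⟨h.1, h.2.1, h.2.2.trans hn⟩

theorem fibreDegLE_of_natCard_le_of_etale {X Y : Scheme.{u}} (f : X ⟶ Y) [Etale f] (n : ℕ)
    (h : ∀ (k : Type u) [Field k] (g : Spec (CommRingCat.of k) ⟶ Y),
      Finite ↥(Limits.pullback f g) ∧ Nat.card ↥(Limits.pullback f g) ≤ n) :
    BddFib.FibreDegLE f n := by
  intro y
  let ψ : Y.residueField y ⟶ .of (AlgebraicClosure (Y.residueField y)) :=
    CommRingCat.ofHom (algebraMap (Y.residueField y) (AlgebraicClosure (Y.residueField y)))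
  obtain ⟨h1, h2⟩ := h (AlgebraicClosure (Y.residueField y))
    (Spec.map ψ ≫ Y.fromSpecResidueField y)
  have het : Etale (pullback.snd f (Spec.map ψ ≫ Y.fromSpecResidueField y)) :=
    MorphismProperty.pullback_snd (P := @Etale) _ _ inferInstance
  have key := finiteOfDegLE_of_etale_of_isSepClosed (k := AlgebraicClosure (Y.residueField y))
    (pullback.snd f (Spec.map ψ ≫ Y.fromSpecResidueField y))
  exact (finiteOfDegLE_pullback_snd_iff f _ y ψ n).mp (FiniteOfDegLE.mono key h2)

end Groth.Agent.Helper7.FibDeg
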