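import Mathlib
import Groth.Agent.Lib.Helper7.FibDeg6
import Groth.Agent.Lib.Helper7.FibDeg4

/-! helper7: fibre-degree bounds: gluing along finite open covers, finite algebras spanned by
N elements, and universal boundedness of quasi-compact locally quasi-finite morphisms (via the
ring-theoretic form of Zariski's main theorem). -/

open CategoryTheory AlgebraicGeometry BddFib Limits TensorProduct

universe u

namespace Groth.Agent.Helper7.FibDeg


/-- sections vanishing on a jointly surjective family of open immersions vanish. -/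
lemma section_eq_zero_of_cover {T : Scheme.{u}} {ι : Type*} (Ti : ι → Scheme.{u})
    (j : ∀ i, Ti i ⟶ T) [∀ i, IsOpenImmersion (j i)]
    (hcov : ∀ t : T, ∃ i, t ∈ Set.range (j i)) (s : Γ(T, ⊤))
    (hs : ∀ i, (j i).appTop s = 0) : s = 0 := by
  refine TopCat.Presheaf.section_ext T.sheaf ⊤ s 0 ?_
  intro x _
  obtain ⟨i, t, rfl⟩ := hcov x
  have h1 := congr($(Scheme.Hom.germ_stalkMap (j i) ⊤ t trivial) s)
  simp only [CommRingCat.hom_comp, RingHom.coe_comp, Function.comp_apply] at h1
  have h2 : (j i).app ⊤ s = 0 := hs i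
  rw [h2, map_zero] at h1
  have hinj : Function.Injective ((j i).stalkMap t).hom :=
    (ConcreteCategory.bijective_of_isIso ((j i).stalkMap t)).1
  rw [map_zero]
  apply hinj
  exact h1.trans (map_zero _).symm


theorem finiteOfDegLE_of_openCover {k : Type u} [Field k] {T : Scheme.{u}}
    (p : T ⟶ Spec (.of k)) {ι : Type*} [Fintype ι] (Ti : ι → Scheme.{u})
    (j : ∀ i, Ti i ⟶ T) [∀ i, IsOpenImmersion (j i)]
    (hcov : ∀ t : T, ∃ i, t ∈ Set.range (j i)) (N : ι → ℕ)
    (h : ∀ i, FiniteOfDegLE (.of k) (j i ≫ p) (N i)) :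
    FiniteOfDegLE (.of k) p (∑ i, N i) := by
  have hfd : ∀ i, Finite (Ti i) ∧ DiscreteTopology (Ti i) := fun i =>
    finite_discrete_of_finiteOfDegLE _ _ (h i)
  have hTf : Finite T := by
    have : (Set.univ : Set T) = ⋃ i, Set.range (j i) := by
      ext t
      simp only [Set.mem_univ, Set.mem_iUnion, true_iff]
      exact hcov t
    have hfin : (Set.univ : Set T).Finite := by
      rw [this]
      refine Set.finite_iUnion fun i => ?_
      have := (hfd i).1
      exact Set.finite_range _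
    exact Set.finite_univ_iff.mp hfin
  have hTd : DiscreteTopology T := by
    rw [discreteTopology_iff_isOpen_singleton]
    intro x
    obtain ⟨i, t, rfl⟩ := hcov x
    have := (hfd i).2
    have ho : IsOpen ({t} : Set (Ti i)) := isOpen_discrete _
    have := (j i).isOpenEmbedding.isOpenMap _ ho
    rwa [Set.image_singleton] at this
  have hTA : IsAffine T := inferInstance
  let iA : Algebra k Γ(T, ⊤) := secAlgebra (.of k) p
  let iAi : ∀ i, Algebra k Γ(Ti i, ⊤) := fun i => secAlgebra (.of k) (j i ≫ p)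
  have hi : ∀ i, IsAffine (Ti i) ∧ Module.Finite k Γ(Ti i, ⊤) ∧
      Module.finrank k Γ(Ti i, ⊤) ≤ N i := fun i => h i
  have hfi : ∀ i, Module.Finite k Γ(Ti i, ⊤) := fun i => (hi i).2.1
  let L : Γ(T, ⊤) →ₗ[k] (∀ i, Γ(Ti i, ⊤)) :=
    { toFun := fun s i => (j i).appTop s
      map_add' := fun a b => by ext i; simp
      map_smul' := fun c a => by
        ext i
        simp only [Algebra.smul_def, map_mul, RingHom.id_apply, Pi.smul_apply]
        congr 1 }
  have hL : Function.Injective L := by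
    rw [← LinearMap.ker_eq_bot, LinearMap.ker_eq_bot']
    intro s hs
    refine section_eq_zero_of_cover Ti j hcov s fun i => ?_
    exact congr_fun hs i
  refine ⟨hTA, Module.Finite.of_injective L hL, ?_⟩
  refine (LinearMap.finrank_le_finrank_of_injective hL).trans ?_
  rw [Module.finrank_pi_fintype]
  exact Finset.sum_le_sum fun i _ => (hi i).2.2


lemma exists_preimage_of_isPullback {P X Y S : Scheme.{u}} {fst : P ⟶ X} {snd : P ⟶ Y}
    {f : X ⟶ S} {g : Y ⟶ S} (h : IsPullback fst snd f g) (x : X) (y : Y) (hxy : f x = g y) :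
    ∃ z : P, fst z = x ∧ snd z = y := by
  obtain ⟨z₀, h1, h2⟩ := Scheme.Pullback.exists_preimage_pullback x y hxy
  refine ⟨h.isoPullback.inv z₀, ?_, ?_⟩
  · rw [← Scheme.Hom.comp_apply, h.isoPullback_inv_fst, h1]
  · rw [← Scheme.Hom.comp_apply, h.isoPullback_inv_snd, h2]

theorem fibreDegLE_of_openCover {X Y : Scheme.{u}} (f : X ⟶ Y) {ι : Type*} [Fintype ι]
    (W : ι → X.Opens) (hW : ∀ x : X, ∃ i, x ∈ W i) (N : ι → ℕ)
    (h : ∀ i, FibreDegLE ((W i).ι ≫ f) (N i)) : FibreDegLE f (∑ i, N i) := by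
  intro y
  have hoi : ∀ i, IsOpenImmersion (fiberMap (W i).ι f y) := fun i =>
    MorphismProperty.of_isPullback (P := @IsOpenImmersion)
      (fiberMap_isPullback (W i).ι f y).flip inferInstance
  refine finiteOfDegLE_of_openCover (k := Y.residueField y) (f.fiberToSpecResidueField y)
    (fun i => ((W i).ι ≫ f).fiber y) (fun i => fiberMap (W i).ι f y) ?_ N ?_
  · intro t
    obtain ⟨i, hi⟩ := hW (f.fiberι y t)
    obtain ⟨z, hz, -⟩ := exists_preimage_of_isPullback (fiberMap_isPullback (W i).ι f y) t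
      ⟨_, hi⟩ rfl
    exact ⟨i, z, hz⟩
  · intro i
    have h3 : fiberMap (W i).ι f y ≫ f.fiberToSpecResidueField y =
      ((W i).ι ≫ f).fiberToSpecResidueField y := fiberMap_toSpec (W i).ι f y
    exact h3 ▸ h i y



/-- base change of a spanning family. -/
lemma finrank_baseChange_le_of_span {R : Type*} [CommRing R] {κ : Type*} [Field κ] [Algebra R κ]
    {A : Type*} [AddCommGroup A] [Module R A] (N : ℕ) (s : Fin N → A)
    (hs : Submodule.span R (Set.range s) = ⊤) :
    Module.Finite κ (κ ⊗[R] A) ∧ Module.finrank κ (κ ⊗[R] A) ≤ N := by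
  have h1 : Submodule.span κ (Set.range fun i => (1 : κ) ⊗ₜ[R] s i) = ⊤ := by
    have := Submodule.baseChange_span (R := R) (A := κ) (Set.range s)
    rw [hs, Submodule.baseChange_top, ← Set.range_comp] at this
    exact this.symm
  have hfin : Module.Finite κ (κ ⊗[R] A) :=
    Module.Finite.of_fg_top (by rw [← h1]; exact Submodule.fg_span (Set.finite_range _))
  refine ⟨hfin, ?_⟩
  have h2 := finrank_range_le_card (R := κ) (fun i : Fin N => (1 : κ) ⊗ₜ[R] s i)
  rw [Set.finrank, h1, finrank_top, Fintype.card_fin] at h2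
  exact h2


theorem finiteOfDegLE_of_span {R : Type u} [CommRing R] {κ : Type u} [Field κ] [Algebra R κ]
    {T T' : Scheme.{u}} [IsAffine T]
    (p : T ⟶ Spec (.of R)) (p' : T' ⟶ Spec (.of κ)) (q : T' ⟶ T)
    (h : IsPullback q p' p (Spec.map (CommRingCat.ofHom (algebraMap R κ))))
    (N : ℕ) (s : Fin N → Γ(T, ⊤))
    (hs : letI := secAlgebra (.of R) p; Submodule.span R (Set.range s) = ⊤) :
    FiniteOfDegLE (.of κ) p' N := by
  let i2 : Algebra R Γ(T, ⊤) := secAlgebra (.of R) p
  let i3 : Algebra κ Γ(T', ⊤) := secAlgebra (.of κ) p'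
  let i4 : Algebra Γ(T, ⊤) Γ(T', ⊤) := q.appTop.hom.toAlgebra
  let i5 : Algebra R Γ(T', ⊤) :=
    (CommRingCat.ofHom (algebraMap R κ) ≫
      (Scheme.ΓSpecIso (.of κ)).inv ≫ p'.appTop).hom.toAlgebra
  obtain ⟨t1, t2, hpo⟩ := algebra_isPushout' (K := R) (k := κ) p p' q h
  let e := Algebra.IsPushout.equiv R κ Γ(T, ⊤) Γ(T', ⊤)
  obtain ⟨h1, h2⟩ := finrank_baseChange_le_of_span (κ := κ) N s hs
  have hA : IsAffine T' := IsAffine.of_isPullback h
  exact ⟨hA, Module.Finite.equiv e.toLinearEquiv, by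
    rw [← e.toLinearEquiv.finrank_eq]; exact h2⟩

theorem fibreDegLE_of_span {R : Type u} [CommRing R] {T : Scheme.{u}} [IsAffine T]
    (p : T ⟶ Spec (.of R)) (N : ℕ) (s : Fin N → Γ(T, ⊤))
    (hs : letI := secAlgebra (.of R) p; Submodule.span R (Set.range s) = ⊤) :
    FibreDegLE p N := by
  intro y
  have hg : (Spec (.of R)).fromSpecResidueField y =
      Spec.map (Spec.preimage ((Spec (.of R)).fromSpecResidueField y)) :=
    (Spec.map_preimage ((Spec (.of R)).fromSpecResidueField y)).symm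
  have hpb : IsPullback (p.fiberι y) (p.fiberToSpecResidueField y) p
      (Spec.map (Spec.preimage ((Spec (.of R)).fromSpecResidueField y))) :=
    hg ▸ IsPullback.of_hasPullback p ((Spec (.of R)).fromSpecResidueField y)
  exact @finiteOfDegLE_of_span R _ ((Spec (.of R)).residueField y) _
    (Spec.preimage ((Spec (.of R)).fromSpecResidueField y)).hom.toAlgebra T (p.fiber y) _ p
    (p.fiberToSpecResidueField y) (p.fiberι y) hpb N s hs



lemma isLocalization_away_of_awayMap_bijective {A B C : Type*} [CommRing A] [CommRing B]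
    [CommRing C] (v : A →+* B) (r : A) [Algebra B C] [IsLocalization.Away (v r) C]
    (hb : Function.Bijective (Localization.awayMap v r)) :
    @IsLocalization.Away A _ r C _ ((algebraMap B C).comp v).toAlgebra := by
  let e1 : Localization.Away r ≃+* Localization.Away (v r) := RingEquiv.ofBijective _ hb
  let e2 : Localization.Away (v r) ≃ₐ[B] C :=
    IsLocalization.algEquiv (Submonoid.powers (v r)) _ _
  let Ψ : Localization.Away r ≃+* C := e1.trans e2.toRingEquiv
  have key := (IsLocalization.isLocalization_iff_of_ringEquiv (Submonoid.powers r) Ψ).mp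
    inferInstance
  have hΨ : Ψ.toRingHom.comp (algebraMap A (Localization.Away r)) = (algebraMap B C).comp v := by
    ext a
    simp [Ψ, e1, e2, Localization.awayMap, IsLocalization.Away.map, IsLocalization.map_eq]
  rw [← hΨ]
  exact key



/-- a finite module spanned by `N` elements gives fibre degree at most `N` for `Spec`. -/
theorem fibreDegLE_SpecMap_of_span {R S : Type u} [CommRing R] [CommRing S] [Algebra R S]
    (N : ℕ) (s : Fin N → S) (hs : Submodule.span R (Set.range s) = ⊤) :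
    FibreDegLE (Spec.map (CommRingCat.ofHom (algebraMap R S))) N := by
  refine fibreDegLE_of_span _ N (fun i => (Scheme.ΓSpecIso (.of S)).inv.hom (s i)) ?_
  let i2 : Algebra R Γ(Spec (.of S), ⊤) :=
    secAlgebra (.of R) (Spec.map (CommRingCat.ofHom (algebraMap R S)))
  have hcomm : ∀ c : R, algebraMap R Γ(Spec (.of S), ⊤) c =
      (Scheme.ΓSpecIso (.of S)).inv.hom (algebraMap R S c) := by
    intro c
    change ((Scheme.ΓSpecIso (.of R)).inv ≫
      (Spec.map (CommRingCat.ofHom (algebraMap R S))).appTop).hom c = _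
    rw [← Scheme.ΓSpecIso_inv_naturality]
    rfl
  let L : S →ₗ[R] Γ(Spec (.of S), ⊤) :=
    { toFun := (Scheme.ΓSpecIso (.of S)).inv.hom
      map_add' := map_add _
      map_smul' := fun c a => by
        simp only [Algebra.smul_def, map_mul, RingHom.id_apply, hcomm] }
  have hL : Function.Surjective L :=
    (ConcreteCategory.bijective_of_isIso (Scheme.ΓSpecIso (CommRingCat.of S)).inv).2
  have : Set.range (fun i => (Scheme.ΓSpecIso (.of S)).inv.hom (s i)) = L '' Set.range s := by
    rw [← Set.range_comp]; rfl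
  change Submodule.span R (Set.range fun i => (Scheme.ΓSpecIso (.of S)).inv.hom (s i)) = ⊤
  rw [this, ← Submodule.map_span, hs, Submodule.map_top, LinearMap.range_eq_top]
  exact hL


theorem exists_open_fibreDegLE {X Y : Scheme.{u}} (f : X ⟶ Y) [LocallyQuasiFinite f]
    [LocallyOfFiniteType f] (x : X) :
    ∃ (W : X.Opens) (N : ℕ), x ∈ W ∧ FibreDegLE (W.ι ≫ f) N := by
  obtain ⟨_, ⟨V, hV, rfl⟩, hxV, -⟩ := Y.isBasis_affineOpens.exists_subset_of_mem_open
    (Set.mem_univ (f x)) isOpen_univ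
  obtain ⟨_, ⟨U, hU, rfl⟩, hxU, hUV⟩ := X.isBasis_affineOpens.exists_subset_of_mem_open
    (show x ∈ ((f ⁻¹ᵁ V : X.Opens) : Set X) from hxV) (f ⁻¹ᵁ V).isOpen
  have e : U ≤ f ⁻¹ᵁ V := hUV
  let iRS : Algebra Γ(Y, V) Γ(X, U) := (f.appLE V U e).hom.toAlgebra
  have hft : Algebra.FiniteType Γ(Y, V) Γ(X, U) :=
    HasRingHomProperty.appLE (P := @LocallyOfFiniteType) f inferInstance ⟨V, hV⟩ ⟨U, hU⟩ e
  have hqf : Algebra.QuasiFinite Γ(Y, V) Γ(X, U) :=
    HasRingHomProperty.appLE (P := @LocallyQuasiFinite) f inferInstance ⟨V, hV⟩ ⟨U, hU⟩ e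
  obtain ⟨S', hS', r, hrP, hbij⟩ :=
    Algebra.QuasiFiniteAt.exists_fg_and_exists_notMem_and_awayMap_bijective (R := Γ(Y, V))
      (hU.primeIdealOf ⟨x, hxU⟩).asIdeal
  have hfinS' : Module.Finite Γ(Y, V) S' := ⟨(Submodule.fg_top _).mpr hS'⟩
  obtain ⟨N, s, hs⟩ := Module.Finite.exists_fin (R := Γ(Y, V)) (M := S')
  refine ⟨X.basicOpen (r : Γ(X, U)), 1 * (N * 1), ?_, ?_⟩
  · rw [X.mem_basicOpen _ x hxU]
    rw [IsAffineOpen.primeIdealOf_eq_map_closedPoint] at hrP
    have : X.presheaf.germ U x hxU (r : Γ(X, U)) ∉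
        IsLocalRing.maximalIdeal (X.presheaf.stalk x) := hrP
    exact (IsLocalRing.notMem_maximalIdeal).mp this
  · have hW : IsAffineOpen (X.basicOpen (r : Γ(X, U))) := hU.basicOpen _
    have hloc : IsLocalization.Away (S'.val.toRingHom r) Γ(X, X.basicOpen (r : Γ(X, U))) :=
      hU.isLocalization_basicOpen (r : Γ(X, U))
    have hloc' := isLocalization_away_of_awayMap_bijective (C := Γ(X, X.basicOpen (r : Γ(X, U))))
      S'.val.toRingHom r hbij
    let θ : CommRingCat.of S' ⟶ Γ(X, X.basicOpen (r : Γ(X, U))) :=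
      CommRingCat.ofHom ((algebraMap Γ(X, U) Γ(X, X.basicOpen (r : Γ(X, U)))).comp
        S'.val.toRingHom)
    have hoi : IsOpenImmersion (Spec.map θ) :=
      @IsOpenImmersion.of_isLocalization S' Γ(X, X.basicOpen (r : Γ(X, U))) _ _
        ((algebraMap Γ(X, U) Γ(X, X.basicOpen (r : Γ(X, U)))).comp S'.val.toRingHom).toAlgebra
        r hloc'
    let j : (X.basicOpen (r : Γ(X, U)) : Scheme) ⟶ Spec (.of S') := hW.isoSpec.hom ≫ Spec.map θ
    let π : Spec (.of S') ⟶ Spec (.of Γ(Y, V)) :=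
      Spec.map (CommRingCat.ofHom (algebraMap Γ(Y, V) S'))
    have hfac : (X.basicOpen (r : Γ(X, U))).ι ≫ f = j ≫ π ≫ hV.fromSpec := by
      have e' : X.basicOpen (r : Γ(X, U)) ≤ f ⁻¹ᵁ V := (X.basicOpen_le _).trans e
      have h1 : f.appLE V (X.basicOpen (r : Γ(X, U))) e' =
          CommRingCat.ofHom (algebraMap Γ(Y, V) S') ≫ θ := by
        rw [← Scheme.Hom.appLE_map f e (homOfLE (X.basicOpen_le (r : Γ(X, U)))).op]
        rfl
      rw [← hW.isoSpec_hom_fromSpec, Category.assoc, ← hV.SpecMap_appLE_fromSpec f hW e', h1,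
        Spec.map_comp]
      simp only [j, π, Category.assoc]
    rw [hfac]
    refine fibreDegLE_comp_mul j (π ≫ hV.fromSpec) 1 (N * 1)
      (fibreDegLE_one_of_isPreimmersion j) ?_
    exact fibreDegLE_comp_mul π hV.fromSpec N 1 (fibreDegLE_SpecMap_of_span N s hs)
      (fibreDegLE_one_of_isPreimmersion _)


theorem univBounded_of_locallyQuasiFinite {X Y : Scheme.{u}} (f : X ⟶ Y) [LocallyQuasiFinite f]
    [LocallyOfFiniteType f] [CompactSpace X] : BddFib.UnivBounded f := by
  choose W N hxW hWN using exists_open_fibreDegLE f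
  obtain ⟨t, ht⟩ := isCompact_univ.elim_finite_subcover (fun x => (W x : Set X))
    (fun x => (W x).isOpen) (fun x _ => Set.mem_iUnion.mpr ⟨x, hxW x⟩)
  refine ⟨∑ i : t, N i.1, ?_⟩
  refine fibreDegLE_of_openCover f (fun i : t => W i.1) ?_ (fun i : t => N i.1)
    (fun i => hWN i.1)
  intro x
  have := ht (Set.mem_univ x)
  simp only [Set.mem_iUnion, exists_prop] at this
  obtain ⟨y, hy, hxy⟩ := this
  exact ⟨⟨y, hy⟩, hxy⟩

end Groth.Agent.Helper7.FibDeg
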