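import Mathlib

set_option autoImplicit false
universe u

open AlgebraicGeometry CategoryTheory Limits IsLocalRing

/-! helper7: stalk of a scheme-theoretic fibre: surjectivity and kernel of the stalk map
(for S9501). -/

namespace Groth.Agent.Helper7.FibStalk

set_option backward.isDefEq.respectTransparency false in
/-- General lemma: a factorization of `Spec.map q ≫ fromSpecStalk` through `ι` gives a retraction
on stalks. -/
lemma exists_stalk_factor {F X : Scheme.{u}} (ι : F ⟶ X) (y : F) {C : CommRingCat.{u}}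
    [IsLocalRing C] (q : X.presheaf.stalk (ι.base y) ⟶ C) [IsLocalHom q.hom]
    (ℓ : Spec C ⟶ F) (hℓ : ℓ ≫ ι = Spec.map q ≫ X.fromSpecStalk (ι.base y))
    (hy : ℓ.base (closedPoint C) = y) :
    ∃ σ : F.presheaf.stalk y ⟶ C, ι.stalkMap y ≫ σ = q := by
  subst hy
  refine ⟨Scheme.stalkClosedPointTo ℓ, ?_⟩
  rw [← Scheme.stalkClosedPointTo_comp]
  have h1 : (SpecToEquivOfLocalRing X C) (ℓ ≫ ι) =
      ⟨ι.base (ℓ.base (closedPoint C)), q, inferInstance⟩ := by
    rw [hℓ]
    exact (SpecToEquivOfLocalRing X C).apply_symm_apply ⟨ι.base (ℓ.base (closedPoint C)), q, inferInstance⟩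
  obtain ⟨h₁, h₂⟩ := SpecToEquivOfLocalRing_eq_iff.mp h1
  simp only [SpecToEquivOfLocalRing_apply_snd_coe] at h₂
  rw [h₂]
  simp only [TopCat.Presheaf.stalkCongr_hom, TopCat.Presheaf.stalkSpecializes_refl]
  exact Category.id_comp q

variable {X S : Scheme.{u}} (f : X ⟶ S) (s : S) (y : ↥(f.fiber s))

lemma fiberι_apply_eq : f.base ((f.fiberι s).base y) = s := by
  have : (f.fiberι s).base y ∈ Set.range (f.fiberι s) := ⟨y, rfl⟩
  rw [Scheme.Hom.range_fiberι] at this
  exact this

set_option backward.isDefEq.respectTransparency false in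
lemma isField_stalk_Spec_field (K : Type u) [Field K] (p : Spec (CommRingCat.of K)) :
    IsField ((Spec (CommRingCat.of K)).presheaf.stalk p) := by
  apply isField_stalk_of_closure_mem_irreducibleComponents
  have : closure {p} = Set.univ := by
    apply Set.eq_univ_of_forall
    intro z
    rw [Subsingleton.elim z p]
    exact subset_closure rfl
  rw [this, irreducibleComponents_eq_singleton]
  rfl

set_option backward.isDefEq.respectTransparency false in
lemma map_le_ker :
    Ideal.map (f.stalkMap ((f.fiberι s).base y)).hom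
      (IsLocalRing.maximalIdeal (S.presheaf.stalk (f.base ((f.fiberι s).base y)))) ≤
      RingHom.ker ((f.fiberι s).stalkMap y).hom := by
  rw [Ideal.map_le_iff_le_comap]
  intro a ha
  rw [Ideal.mem_comap, RingHom.mem_ker]
  have h1 : ((f.fiberι s).stalkMap y).hom ((f.stalkMap _).hom a) =
      ((f.fiberι s ≫ f).stalkMap y).hom a := by
    rw [Scheme.Hom.stalkMap_comp]; rfl
  rw [h1, Scheme.Hom.stalkMap_congr_hom _ _ (f.fiber_fac s) y, Scheme.Hom.stalkMap_comp]
  simp only [CommRingCat.hom_comp, RingHom.coe_comp, Function.comp_apply]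
  have hF := isField_stalk_Spec_field (S.residueField s) ((f.fiberToSpecResidueField s).base y)
  have key : ∀ b : S.presheaf.stalk ((S.fromSpecResidueField s).base
      ((f.fiberToSpecResidueField s).base y)), ¬ IsUnit b →
      ((S.fromSpecResidueField s).stalkMap ((f.fiberToSpecResidueField s).base y)).hom b = 0 := by
    intro b hb
    by_contra hne
    obtain ⟨c, hc⟩ := hF.mul_inv_cancel hne
    have hu : IsUnit (((S.fromSpecResidueField s).stalkMap
        ((f.fiberToSpecResidueField s).base y)).hom b) := IsUnit.of_mul_eq_one _ hc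
    exact hb ((isUnit_map_iff _ _).mp hu)
  refine (congrArg _ (key _ ?_)).trans (map_zero _)
  intro hub
  exact ha ((isUnit_map_iff _ _).mp hub)

set_option backward.isDefEq.respectTransparency false in
lemma ker_le_map :
    RingHom.ker ((f.fiberι s).stalkMap y).hom ≤
      Ideal.map (f.stalkMap ((f.fiberι s).base y)).hom
        (IsLocalRing.maximalIdeal (S.presheaf.stalk (f.base ((f.fiberι s).base y)))) := by
  set x : X := (f.fiberι s).base y with hxdef
  set I : Ideal (X.presheaf.stalk x) := Ideal.map (f.stalkMap x).hom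
    (maximalIdeal (S.presheaf.stalk (f.base x))) with hI
  have hIle : I ≤ maximalIdeal (X.presheaf.stalk x) :=
    ((IsLocalRing.local_hom_TFAE (f.stalkMap x).hom).out 0 2).mp
      (show IsLocalHom (f.stalkMap x).hom from inferInstance)
  have hIne : I ≠ ⊤ := fun h =>
    (maximalIdeal.isMaximal (X.presheaf.stalk x)).ne_top (top_le_iff.mp (h ▸ hIle))
  haveI : Nontrivial (X.presheaf.stalk x ⧸ I) := Ideal.Quotient.nontrivial_iff.mpr hIne
  haveI : IsLocalRing (X.presheaf.stalk x ⧸ I) :=
    IsLocalRing.of_surjective' (Ideal.Quotient.mk I) Ideal.Quotient.mk_surjective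
  let C : CommRingCat.{u} := CommRingCat.of (X.presheaf.stalk x ⧸ I)
  let q : X.presheaf.stalk x ⟶ C := CommRingCat.ofHom (Ideal.Quotient.mk I)
  haveI : IsLocalRing C := inferInstanceAs (IsLocalRing (X.presheaf.stalk x ⧸ I))
  have hq : IsLocalHom q.hom := by
    refine ⟨fun a ha => ?_⟩
    by_contra hna
    have h1 : a ∈ maximalIdeal (X.presheaf.stalk x) := hna
    obtain ⟨b, hb⟩ := ha.exists_right_inv
    obtain ⟨b', rfl⟩ := Ideal.Quotient.mk_surjective b
    have h2 : a * b' - 1 ∈ I := by
      rw [← Ideal.Quotient.eq_zero_iff_mem, map_sub, map_mul, map_one, sub_eq_zero]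
      exact hb
    have h3 : a * b' - 1 ∈ maximalIdeal (X.presheaf.stalk x) := hIle h2
    have h4 : a * b' ∈ maximalIdeal (X.presheaf.stalk x) := Ideal.mul_mem_right _ _ h1
    have h5 : (1 : X.presheaf.stalk x) ∈ maximalIdeal (X.presheaf.stalk x) := by
      have := Ideal.sub_mem _ h4 h3
      simpa using this
    exact (Ideal.ne_top_iff_one _).mp (maximalIdeal.isMaximal _).ne_top h5
  have hfx : f.base x = s := fiberι_apply_eq f s y
  let e : S.presheaf.stalk s ⟶ S.presheaf.stalk (f.base x) :=
    S.presheaf.stalkSpecializes (specializes_of_eq hfx)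
  let e' : S.presheaf.stalk (f.base x) ⟶ S.presheaf.stalk s :=
    S.presheaf.stalkSpecializes (specializes_of_eq hfx.symm)
  have hee' : e' ≫ e = 𝟙 _ := by
    simp [e, e']
  have he'e : e ≫ e' = 𝟙 _ := by
    simp [e, e']
  let r0 : S.presheaf.stalk s →+* (X.presheaf.stalk x ⧸ I) :=
    (q.hom.comp (f.stalkMap x).hom).comp e.hom
  have hr0 : ∀ a ∈ maximalIdeal (S.presheaf.stalk s), r0 a = 0 := by
    intro a ha
    have h1 : e.hom a ∈ maximalIdeal (S.presheaf.stalk (f.base x)) := by
      intro hu
      apply ha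
      have := hu.map e'.hom
      rw [← CommRingCat.comp_apply, he'e] at this
      simpa using this
    exact Ideal.Quotient.eq_zero_iff_mem.mpr (Ideal.mem_map_of_mem _ h1)
  let r : S.residueField s ⟶ C := CommRingCat.ofHom (Ideal.Quotient.lift _ r0 hr0)
  have hr : S.residue s ≫ r = e ≫ f.stalkMap x ≫ q := by
    ext a
    rfl
  have hcond : (Spec.map q ≫ X.fromSpecStalk x) ≫ f =
      Spec.map r ≫ S.fromSpecResidueField s := by
    rw [Category.assoc, ← Scheme.SpecMap_stalkMap_fromSpecStalk, Scheme.fromSpecResidueField,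
      ← Spec.map_comp_assoc (S.residue s) r, hr, Spec.map_comp_assoc, Spec.map_comp_assoc]
    congr 2
    exact (Scheme.SpecMap_stalkSpecializes_fromSpecStalk (specializes_of_eq hfx)).symm
  let ℓ : Spec C ⟶ f.fiber s := pullback.lift (Spec.map q ≫ X.fromSpecStalk x) (Spec.map r) hcond
  have hℓ : ℓ ≫ f.fiberι s = Spec.map q ≫ X.fromSpecStalk x := pullback.lift_fst _ _ _
  have hc : ℓ.base (closedPoint C) = y := by
    apply (f.fiberι s).isEmbedding.injective
    have h1 : (f.fiberι s).base (ℓ.base (closedPoint C)) = (ℓ ≫ f.fiberι s).base (closedPoint C) := rfl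
    rw [h1, hℓ]
    have h2 : (Spec.map q ≫ X.fromSpecStalk x).base (closedPoint C) =
        (X.fromSpecStalk x).base ((Spec.map q).base (closedPoint C)) := rfl
    rw [h2]
    have h3 : (Spec.map q).base (closedPoint C) = closedPoint (X.presheaf.stalk x) := by
      haveI := hq
      exact Spec_closedPoint
    rw [h3, Scheme.fromSpecStalk_closedPoint]
  haveI := hq
  obtain ⟨σ, hσ⟩ := exists_stalk_factor (f.fiberι s) y q ℓ hℓ hc
  intro a ha
  rw [RingHom.mem_ker] at ha
  have h1 : q.hom a = 0 := by
    rw [← hσ]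
    simp only [CommRingCat.hom_comp, RingHom.coe_comp, Function.comp_apply]
    rw [ha, map_zero]
  exact Ideal.Quotient.eq_zero_iff_mem.mp h1

theorem main :
    Function.Surjective ((f.fiberι s).stalkMap y).hom ∧
      RingHom.ker ((f.fiberι s).stalkMap y).hom =
        Ideal.map (f.stalkMap ((f.fiberι s).base y)).hom
          (IsLocalRing.maximalIdeal (S.presheaf.stalk (f.base ((f.fiberι s).base y)))) :=
  ⟨(f.fiberι s).stalkMap_surjective y, le_antisymm (ker_le_map f s y) (map_le_ker f s y)⟩

end Groth.Agent.Helper7.FibStalk
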