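import Mathlib
import Groth.Prelude.Def_MoreMor
import Groth.Prelude.Def_OmegaPn

set_option autoImplicit false
set_option linter.style.haveILetI false
set_option linter.unusedVariables false
universe u

open AlgebraicGeometry CategoryTheory Limits

/-! helper7: finiteness through a thickening of the source; infinitesimal neighbourhoods of sections are finite (S5965). -/

namespace Groth.Agent.Helper7.FinCompThick

variable {X X' Y : Scheme.{u}}

set_option backward.isDefEq.respectTransparency false in
/-- separatedness descends from a thickening of the source. -/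
theorem isSeparated_of_comp_thickening (t : X ⟶ X') (p : X' ⟶ Y) [IsClosedImmersion t]
    (ht : Function.Surjective t.base) [IsSeparated (t ≫ p)] : IsSeparated p := by
  refine ⟨IsClosedImmersion.of_isPreimmersion _ ?_⟩
  have hm : IsClosedImmersion (pullback.map (t ≫ p) (t ≫ p) p p t t (𝟙 Y)
      ((Category.comp_id _).trans rfl) ((Category.comp_id _).trans rfl)) :=
    MorphismProperty.pullbackMap (P := @IsClosedImmersion) (inferInstance : IsClosedImmersion t)
      (inferInstance : IsClosedImmersion t) rfl rfl
  have hcomm : t ≫ pullback.diagonal p =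
      pullback.diagonal (t ≫ p) ≫ pullback.map (t ≫ p) (t ≫ p) p p t t (𝟙 Y)
        ((Category.comp_id _).trans rfl) ((Category.comp_id _).trans rfl) := by
    apply pullback.hom_ext <;> simp
  have hr : Set.range (pullback.diagonal p) =
      (pullback.map (t ≫ p) (t ≫ p) p p t t (𝟙 Y)
        ((Category.comp_id _).trans rfl) ((Category.comp_id _).trans rfl)) ''
        Set.range (pullback.diagonal (t ≫ p)) := by
    ext z
    constructor
    · rintro ⟨x', rfl⟩
      obtain ⟨x, rfl⟩ := ht x'
      refine ⟨pullback.diagonal (t ≫ p) x, ⟨x, rfl⟩, ?_⟩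
      have := congrArg (fun g => g.base x) hcomm
      exact this.symm
    · rintro ⟨_, ⟨x, rfl⟩, rfl⟩
      refine ⟨t x, ?_⟩
      have := congrArg (fun g => g.base x) hcomm
      exact this
  rw [hr]
  exact (pullback.map (t ≫ p) (t ≫ p) p p t t (𝟙 Y)
    ((Category.comp_id _).trans rfl) ((Category.comp_id _).trans rfl)).isClosedEmbedding.isClosedMap _
    (pullback.diagonal (t ≫ p)).isClosedEmbedding.isClosed_range

set_option backward.isDefEq.respectTransparency false in
/-- a morphism locally of finite type which becomes finite on a thickening of its source is finite. -/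
theorem isFinite_of_comp_thickening (t : X ⟶ X') (p : X' ⟶ Y) [IsClosedImmersion t]
    (ht : Function.Surjective t.base) [LocallyOfFiniteType p] [IsFinite (t ≫ p)] : IsFinite p := by
  haveI : Surjective t := ⟨ht⟩
  haveI : UniversallyClosed p := UniversallyClosed.of_comp_surjective t p
  haveI : IsSeparated p := isSeparated_of_comp_thickening t p ht
  haveI : IsProper p := {}
  haveI : LocallyQuasiFinite p := by
    rw [locallyQuasiFinite_iff_isDiscrete_preimage_singleton]
    intro y
    have h1 : _root_.IsDiscrete ((t ≫ p) ⁻¹' {y}) := (t ≫ p).isDiscrete_preimage_singleton y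
    have h2 : p ⁻¹' {y} = t '' ((t ≫ p) ⁻¹' {y}) := by
      ext x'
      constructor
      · intro hx'
        obtain ⟨x, rfl⟩ := ht x'
        exact ⟨x, hx', rfl⟩
      · rintro ⟨x, hx, rfl⟩
        exact hx
    rw [h2]
    exact h1.image t.isClosedEmbedding.isEmbedding.toIsInducing
  exact (IsFinite.iff_isProper_and_locallyQuasiFinite p).mpr ⟨inferInstance, inferInstance⟩

set_option backward.isDefEq.respectTransparency false in
theorem S5965_main (g : X ⟶ Y) [LocallyOfFiniteType g] (f : Y ⟶ X)
    [IsClosedImmersion f] (hf : f ≫ g = 𝟙 Y) (n : ℕ) :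
    IsFinite (PrinPart.infNbhdι f n ≫ g) := by
  haveI : IsClosedImmersion (PrinPart.infNbhdι f n) :=
    (inferInstance : IsClosedImmersion (f.ker ^ (n + 1)).subschemeι)
  haveI : IsClosedImmersion (PrinPart.toInfNbhd f n ≫ PrinPart.infNbhdι f n) := by
    rw [PrinPart.toInfNbhd_ι]; infer_instance
  haveI : IsClosedImmersion (PrinPart.toInfNbhd f n) :=
    IsClosedImmersion.of_comp_isClosedImmersion (PrinPart.toInfNbhd f n) (PrinPart.infNbhdι f n)
  haveI : IsFinite (PrinPart.toInfNbhd f n ≫ PrinPart.infNbhdι f n ≫ g) := by
    rw [PrinPart.toInfNbhd_ι_assoc, hf]; infer_instance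
  exact isFinite_of_comp_thickening (PrinPart.toInfNbhd f n) (PrinPart.infNbhdι f n ≫ g)
    (PrinPart.toInfNbhd_surjective f n)

end Groth.Agent.Helper7.FinCompThick
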