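import Mathlib
import Groth.Prelude.Def_MoreMor
import Groth.Prelude.Def_FSch2
import Groth.Agent.Lib.Helper7.FormalProper
import Groth.Agent.S1312

set_option autoImplicit false
set_option linter.style.haveILetI false
set_option linter.unusedVariables false
universe u

open AlgebraicGeometry CategoryTheory Limits

/-! helper7: closed immersions and finite morphisms along adic systems of thickenings (S5736, S5737). -/

namespace Groth.Agent.Helper7.FormalProper

open Groth.Agent.Helper7.ThickSch Groth.Agent.Helper7.ThickAff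

variable {X X' Y Y' : Scheme.{u}} {iX : X ⟶ X'} {iY : Y ⟶ Y'} {f : X ⟶ Y} {f' : X' ⟶ Y'}

set_option backward.isDefEq.respectTransparency false in
/-- closed immersions pass up a cartesian square over a finite order thickening. -/
theorem isClosedImmersion_of_thickening (hY : MoreMor.IsFiniteOrderThickening iY)
    (hc : IsPullback iX f f' iY) [IsClosedImmersion f] : IsClosedImmersion f' := by
  haveI : LocallyOfFiniteType f' := (S1309_main hY hc).1 inferInstance
  exact (S1313_main hY.1 hc).1 inferInstance

set_option backward.isDefEq.respectTransparency false in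
/-- finite morphisms pass up a cartesian square over a finite order thickening. -/
theorem isFinite_of_thickening (hY : MoreMor.IsFiniteOrderThickening iY)
    (hc : IsPullback iX f f' iY) [IsFinite f] : IsFinite f' := by
  haveI : IsProper f' := isProper_of_thickening hY hc
  haveI : LocallyQuasiFinite f' :=
    (Groth.Agent.S1312.result iX iY f f' hY.1 hc).1 inferInstance
  exact (IsFinite.iff_isProper_and_locallyQuasiFinite f').mpr ⟨inferInstance, inferInstance⟩

theorem S5737_main {𝔛 𝔜 : FSch.Sys.{u}} (f : 𝔛 ⟶ 𝔜)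
    (h𝔜 : 𝔜.IsLocNoethFormal) (hf : FSch.IsAdicHom f)
    [IsClosedImmersion ((f : FSch.Hom 𝔛 𝔜).app 0)] (n : ℕ) :
    IsClosedImmersion ((f : FSch.Hom 𝔛 𝔜).app n) := by
  induction n with
  | zero => infer_instance
  | succ n ih =>
    haveI := ih
    exact isClosedImmersion_of_thickening (isFiniteOrderThickening_ι 𝔜 h𝔜.1 h𝔜.2.1 n) (hf n)

theorem S5736_main {𝔛 𝔜 : FSch.Sys.{u}} (f : 𝔛 ⟶ 𝔜)
    (h𝔜 : 𝔜.IsLocNoethFormal) (hf : FSch.IsAdicHom f)
    [IsFinite ((f : FSch.Hom 𝔛 𝔜).app 0)] (n : ℕ) :
    IsFinite ((f : FSch.Hom 𝔛 𝔜).app n) := by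
  induction n with
  | zero => infer_instance
  | succ n ih =>
    haveI := ih
    exact isFinite_of_thickening (isFiniteOrderThickening_ι 𝔜 h𝔜.1 h𝔜.2.1 n) (hf n)

end Groth.Agent.Helper7.FormalProper
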