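import Mathlib
import Groth.Prelude.Def_MoreMor
import Groth.Prelude.Def_Mor2
import Groth.Agent.Lib.Helper7.FormalProper2
import Groth.Agent.Lib.Helper7.ThickSch5

set_option autoImplicit false
set_option linter.style.haveILetI false
set_option linter.unusedVariables false
universe u

open AlgebraicGeometry CategoryTheory Limits

/-! helper7: finite locally free morphisms of given degree deform along finite order thickenings (S1323). -/

namespace Groth.Agent.Helper7.FinLocFreeThick

open Groth.Agent.Helper7.ThickSch Groth.Agent.Helper7.FormalProper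

variable {X X' Y Y' S S' : Scheme.{u}} {iX : X ⟶ X'} {iY : Y ⟶ Y'} {iS : S ⟶ S'}
  {f : X ⟶ Y} {f' : X' ⟶ Y'} {g : Y ⟶ S} {g' : Y' ⟶ S'}

set_option backward.isDefEq.respectTransparency false in
theorem S1323_main (d : ℕ) (hS : MoreMor.IsFiniteOrderThickening iS)
    (hcX : IsPullback iX (f ≫ g) (f' ≫ g') iS) (hcY : IsPullback iY g g' iS)
    (w : iX ≫ f' = f ≫ iY) [Flat (f' ≫ g')] :
    Mor2.IsFinLocFreeOfDeg d f ↔ Mor2.IsFinLocFreeOfDeg d f' := by
  have hTop : IsPullback iX f f' iY := isPullback_top hcX hcY w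
  have hY : MoreMor.IsFiniteOrderThickening iY := isFiniteOrderThickening_left hS hcY
  constructor
  · rintro ⟨⟨hfin, hflat, hlfp⟩, hrank⟩
    haveI := hfin
    haveI : IsFinite f' := isFinite_of_thickening hY hTop
    haveI : Flat f' := (S1317_main hS hcX hcY w).1 hflat
    have hlfp' : LocallyOfFinitePresentation f' := (S1320_main hS hcX hcY w).1 hlfp
    refine ⟨⟨inferInstance, inferInstance, hlfp'⟩, fun y' => ?_⟩
    obtain ⟨y, rfl⟩ := hY.1.2.surj y'
    rw [← Scheme.Hom.finrank_of_isPullback iX f f' iY hTop y]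
    exact hrank y
  · rintro ⟨⟨hfin, hflat, hlfp⟩, hrank⟩
    haveI := hfin
    haveI := hflat
    refine ⟨⟨MorphismProperty.of_isPullback hTop hfin, MorphismProperty.of_isPullback hTop hflat,
      MorphismProperty.of_isPullback hTop hlfp⟩, fun y => ?_⟩
    rw [Scheme.Hom.finrank_of_isPullback iX f f' iY hTop y]
    exact hrank (iY y)

end Groth.Agent.Helper7.FinLocFreeThick
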