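import Mathlib

set_option autoImplicit false
set_option linter.style.haveILetI false
universe u

open AlgebraicGeometry CategoryTheory Limits IsLocalRing

/-! helper7: stalk map of a finite morphism at a point alone in its fibre is finite (S0443). -/

namespace Groth.Agent.Helper7.FinStalk

lemma localRingHom_finite {R S : Type u} [CommRing R] [CommRing S] (φ : R →+* S) (hφ : φ.Finite)
    (p : Ideal R) [p.IsPrime] (q : Ideal S) [q.IsPrime] (hpq : p = q.comap φ)
    (huniq : ∀ q' : Ideal S, q'.IsPrime → q'.comap φ = p → q' = q) :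
    (Localization.localRingHom p q φ hpq).Finite := by
  letI := φ.toAlgebra
  haveI : Module.Finite R S := hφ
  haveI : q.LiesOver p := ⟨hpq⟩
  letI := Localization.AtPrime.algebraOfLiesOver p q
  have hq : p.primesOver S = {q} := by
    ext q'
    simp only [Ideal.primesOver, Set.mem_setOf_eq, Set.mem_singleton_iff]
    constructor
    · rintro ⟨h1, h2⟩
      exact huniq q' h1 h2.over.symm
    · rintro rfl
      exact ⟨inferInstance, inferInstance⟩
  exact Localization.finite_of_primesOver_eq_singleton hq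

lemma finite_of_arrow_iso {A B A' B' : CommRingCat.{u}} (g : A ⟶ B) (g' : A' ⟶ B')
    (e : Arrow.mk g ≅ Arrow.mk g') (h : g'.hom.Finite) : g.hom.Finite := by
  have h1 : g = e.hom.left ≫ g' ≫ e.inv.right := by
    have := Arrow.w e.hom
    simp only [Arrow.mk_hom] at this
    have h2 : e.hom.right ≫ e.inv.right = 𝟙 _ := by
      rw [← Arrow.comp_right, e.hom_inv_id]; rfl
    calc g = g ≫ (e.hom.right ≫ e.inv.right) := by rw [h2]; exact (Category.comp_id g).symm
      _ = (g ≫ e.hom.right) ≫ e.inv.right := by rw [Category.assoc]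
      _ = e.hom.left ≫ g' ≫ e.inv.right := by erw [← this]; rw [Category.assoc]
  rw [h1]
  simp only [CommRingCat.hom_comp]
  have hl : IsIso e.hom.left := inferInstance
  have hr : IsIso e.inv.right := inferInstance
  refine RingHom.Finite.comp (RingHom.Finite.comp ?_ h) ?_
  · exact RingHom.Finite.of_surjective _
      ((ConcreteCategory.bijective_of_isIso e.inv.right).2)
  · exact RingHom.Finite.of_surjective _
      ((ConcreteCategory.bijective_of_isIso e.hom.left).2)

set_option backward.isDefEq.respectTransparency false in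
theorem S0443_main {X Y : Scheme.{u}} (π : X ⟶ Y) [IsFinite π] (x : X)
    (hx : ∀ x' : ↑X, π x' = π x → x' = x) :
    (π.stalkMap x).hom.Finite := by
  obtain ⟨_, ⟨U, hU : IsAffineOpen U, rfl⟩, hxU, -⟩ :=
    Y.isBasis_affineOpens.exists_subset_of_mem_open (Set.mem_univ (π x)) isOpen_univ
  have hV : IsAffineOpen (π ⁻¹ᵁ U) := hU.preimage π
  have hxV : x ∈ π ⁻¹ᵁ U := hxU
  refine finite_of_arrow_iso _ _
    (IsAffineOpen.arrowStalkMapIso π U hU (π ⁻¹ᵁ U) hV le_rfl hxV) ?_
  simp only [CommRingCat.hom_ofHom]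
  apply localRingHom_finite
  · rw [← Scheme.Hom.app_eq_appLE]
    exact IsFinite.finite_app π U hU
  · intro q' hq' hcomap
    set Q : PrimeSpectrum Γ(X, π ⁻¹ᵁ U) := ⟨q', hq'⟩ with hQ
    set x' : X := hV.fromSpec Q with hx'
    have hx'V : x' ∈ π ⁻¹ᵁ U := by
      have : x' ∈ Set.range hV.fromSpec := ⟨Q, rfl⟩
      rw [hV.range_fromSpec] at this
      exact this
    have hQ' : hV.primeIdealOf ⟨x', hx'V⟩ = Q := by
      apply hV.fromSpec.isOpenEmbedding.injective
      rw [hV.fromSpec_primeIdealOf]
    have h1 := IsAffineOpen.comap_primeIdealOf_appLE (f := π) U hU (π ⁻¹ᵁ U) hV le_rfl hx'V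
    rw [hQ'] at h1
    have h2 : hU.primeIdealOf ⟨π x', hx'V⟩ = hU.primeIdealOf ⟨π x, hxU⟩ := by
      rw [← h1]
      ext1
      exact hcomap
    have h3 : π x' = π x := by
      have := congrArg hU.fromSpec h2
      rw [hU.fromSpec_primeIdealOf, hU.fromSpec_primeIdealOf] at this
      exact this
    have h4 : x' = x := hx x' h3
    have h5 : hV.primeIdealOf ⟨x, hxV⟩ = Q := by
      rw [← hQ']
      congr 1
      exact Subtype.ext h4.symm
    rw [h5]

end Groth.Agent.Helper7.FinStalk
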