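import Mathlib
import Groth.Prelude.Def_MoreMor
import Groth.Agent.Lib.Helper7.FormalProper2
import Groth.Agent.Lib.Helper7.FormalNoeth

set_option autoImplicit false
set_option linter.style.haveILetI false
set_option linter.unusedVariables false
universe u

open AlgebraicGeometry CategoryTheory Limits

/-! helper7: restriction of cartesian squares over opens; finiteness across locally nilpotent thickenings (S13998). -/

namespace Groth.Agent.Helper7.FinThick

open Groth.Agent.Helper7.ThickSch Groth.Agent.Helper7.ThickAff Groth.Agent.Helper7.FormalProper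
  Groth.Agent.Helper7.FormalNoeth

variable {X X₀ Y Y₀ : Scheme.{u}} {F : Y ⟶ X} {F₀ : Y₀ ⟶ X₀} {i : Y₀ ⟶ Y} {j : X₀ ⟶ X}

set_option backward.isDefEq.respectTransparency false in
lemma preimage_comm (hc : IsPullback F₀ i j F) (U : X.Opens) :
    F₀ ⁻¹ᵁ (j ⁻¹ᵁ U) = i ⁻¹ᵁ (F ⁻¹ᵁ U) := by
  rw [← Scheme.Hom.comp_preimage, ← Scheme.Hom.comp_preimage, hc.w]

set_option backward.isDefEq.respectTransparency false in
/-- the restriction of a cartesian square over an open of the base is cartesian. -/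
theorem isPullback_restrict (hc : IsPullback F₀ i j F) (U : X.Opens) :
    IsPullback (i.resLE (F ⁻¹ᵁ U) (F₀ ⁻¹ᵁ (j ⁻¹ᵁ U)) (preimage_comm hc U).le)
      (F₀ ∣_ (j ⁻¹ᵁ U)) (F ∣_ U) (j ∣_ U) := by
  have hcU := (isPullback_morphismRestrict F₀ (j ⁻¹ᵁ U)).flip.paste_horiz hc.flip
  have ha := (isPullback_morphismRestrict F U).flip
  have e1 : (F₀ ⁻¹ᵁ (j ⁻¹ᵁ U)).ι ≫ i =
      i.resLE (F ⁻¹ᵁ U) (F₀ ⁻¹ᵁ (j ⁻¹ᵁ U)) (preimage_comm hc U).le ≫ (F ⁻¹ᵁ U).ι :=
    (Scheme.Hom.resLE_comp_ι _ _).symm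
  have e2 : (j ⁻¹ᵁ U).ι ≫ j = (j ∣_ U) ≫ U.ι := (morphismRestrict_ι j U).symm
  rw [e1, e2] at hcU
  refine IsPullback.of_right hcU ?_ ha
  rw [← cancel_mono U.ι]
  rw [Category.assoc, Category.assoc, morphismRestrict_ι, morphismRestrict_ι, ← Category.assoc,
    ← Category.assoc, Scheme.Hom.resLE_comp_ι, morphismRestrict_ι, Category.assoc, Category.assoc,
    hc.w]

set_option backward.isDefEq.respectTransparency false in
/-- a thickening with nilpotent ideal on an affine open restricts to a finite order thickening. -/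
theorem isFiniteOrderThickening_restrict (hj : MoreMor.IsThickening j) (U : X.Opens)
    (hU : IsAffineOpen U) (hnil : IsNilpotent (j.ker.ideal ⟨U, hU⟩)) :
    MoreMor.IsFiniteOrderThickening (j ∣_ U) := by
  haveI := hj.1
  have hp := isPullback_morphismRestrict j U
  haveI : IsClosedImmersion (j ∣_ U) := isClosedImmersion_left hp
  refine ⟨⟨inferInstance, surjective_left hp hj.2⟩, ?_⟩
  obtain ⟨n, hn⟩ := hnil
  refine ⟨n, ?_⟩
  haveI : IsAffine (U : Scheme.{u}) := hU
  apply Scheme.IdealSheafData.ext_of_isAffine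
  simp only [Scheme.IdealSheafData.ideal_pow, Pi.pow_apply, Scheme.IdealSheafData.zero_eq_bot,
    Scheme.IdealSheafData.ideal_bot, Pi.bot_apply]
  have hle : (⊤ : (U : Scheme.{u}).Opens) ≤ U.ι ⁻¹ᵁ U := by
    intro x _
    exact x.2
  have := ker_ideal_eq_map hp U hU (⊤ : (U : Scheme.{u}).Opens) (isAffineOpen_top _) hle
  rw [this, ← Ideal.map_pow, hn]
  exact Ideal.map_bot

set_option backward.isDefEq.respectTransparency false in
theorem S13998_main (hj : MoreMor.IsThickening j)
    (hjnil : ∀ U : X.affineOpens, IsNilpotent (j.ker.ideal U))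
    (hc : IsPullback F₀ i j F) :
    IsFinite F ↔ IsFinite F₀ := by
  refine ⟨fun hF => MorphismProperty.of_isPullback hc.flip hF, fun hF₀ => ?_⟩
  rw [IsZariskiLocalAtTarget.iff_of_iSup_eq_top (P := @IsFinite) (fun U : X.affineOpens => U.1)
    (iSup_affineOpens_eq_top X)]
  intro U
  have hth := isFiniteOrderThickening_restrict hj U.1 U.2 (hjnil U)
  have hsq := isPullback_restrict hc U.1
  haveI : IsFinite (F₀ ∣_ (j ⁻¹ᵁ U.1)) := IsZariskiLocalAtTarget.restrict hF₀ _
  exact isFinite_of_thickening hth hsq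

end Groth.Agent.Helper7.FinThick
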