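import Mathlib
import Groth.Prelude.Def_MoreMor

set_option autoImplicit false
open CategoryTheory CategoryTheory.Limits AlgebraicGeometry Opposite TopologicalSpace
universe u

/-! helper7: universal property of the first order infinitesimal neighbourhood of a closed
subscheme (S1434). -/

namespace Groth.Agent.Helper7.FirstNbhd

set_option backward.isDefEq.respectTransparency false in
/-- the product of two sections killed by a first order thickening vanishes. -/
theorem mul_eq_zero_of_app_eq_zero {T T' : Scheme.{u}} (t : T ⟶ T')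
    (ht : MoreMor.IsFirstOrderThickening t) (W : T'.Opens) (x y : Γ(T', W))
    (hx : t.app W x = 0) (hy : t.app W y = 0) : x * y = 0 := by
  have : IsClosedImmersion t := ht.1.1
  apply TopCat.Presheaf.section_ext T'.sheaf W
  intro p hp
  change T'.presheaf.germ W p hp (x * y) = T'.presheaf.germ W p hp 0
  rw [map_zero]
  obtain ⟨_, ⟨V, hV, rfl⟩, hpV, hVW⟩ := T'.isBasis_affineOpens.exists_subset_of_mem_open
    (show p ∈ (W : Set T') from hp) W.2
  have hVW' : V ≤ W := hVW
  rw [← TopCat.Presheaf.germ_res_apply T'.presheaf (homOfLE hVW') p hpV]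
  have hker : ∀ z : Γ(T', W), t.app W z = 0 →
      T'.presheaf.map (homOfLE hVW').op z ∈ t.ker.ideal ⟨V, hV⟩ := by
    intro z hz
    rw [Scheme.Hom.ker_apply, RingHom.mem_ker]
    have hnat := congrArg (fun k => k.hom z) (t.naturality (homOfLE hVW').op)
    change t.app V (T'.presheaf.map (homOfLE hVW').op z) =
      T.presheaf.map ((Opens.map t.base).map (homOfLE hVW')).op (t.app W z) at hnat
    change t.app V (T'.presheaf.map (homOfLE hVW').op z) = 0
    rw [hnat, hz, map_zero]
  have hmul : T'.presheaf.map (homOfLE hVW').op x * T'.presheaf.map (homOfLE hVW').op y ∈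
      (t.ker * t.ker).ideal ⟨V, hV⟩ := by
    rw [Scheme.IdealSheafData.ideal_mul]
    exact Ideal.mul_mem_mul (hker x hx) (hker y hy)
  rw [ht.2, Scheme.IdealSheafData.ideal_bot] at hmul
  have hmul' : T'.presheaf.map (homOfLE hVW').op x * T'.presheaf.map (homOfLE hVW').op y = 0 :=
    hmul
  rw [map_mul, hmul', map_zero]

set_option backward.isDefEq.respectTransparency false in
theorem S1434_main {X T T' : Scheme.{u}} (I : X.IdealSheafData) (t : T ⟶ T')
    (ht : MoreMor.IsFirstOrderThickening t)
    (a : T ⟶ I.subscheme) (b : T' ⟶ X) (w : a ≫ I.subschemeι = t ≫ b) :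
    ∃! a' : T' ⟶ (I ^ 2).subscheme, a' ≫ (I ^ 2).subschemeι = b := by
  have hI : I ≤ (t ≫ b).ker := by
    rw [← w]
    have := Scheme.Hom.le_ker_comp a I.subschemeι
    rwa [Scheme.IdealSheafData.ker_subschemeι] at this
  have hle : (I ^ 2).subschemeι.ker ≤ b.ker := by
    rw [Scheme.IdealSheafData.ker_subschemeι]
    apply Scheme.IdealSheafData.le_ofIdeals_iff.mpr
    intro U
    rw [Scheme.IdealSheafData.ideal_pow, pow_two]
    change I.ideal U * I.ideal U ≤ RingHom.ker (b.app U).hom
    rw [Ideal.mul_le]
    intro x hx y hy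
    have hx' : x ∈ RingHom.ker ((t ≫ b).app U).hom :=
      Scheme.Hom.ideal_ker_le (t ≫ b) U (hI U hx)
    have hy' : y ∈ RingHom.ker ((t ≫ b).app U).hom :=
      Scheme.Hom.ideal_ker_le (t ≫ b) U (hI U hy)
    rw [RingHom.mem_ker] at hx' hy' ⊢
    rw [map_mul]
    apply mul_eq_zero_of_app_eq_zero t ht
    · have := hx'
      rw [Scheme.Hom.comp_app] at this
      exact this
    · have := hy'
      rw [Scheme.Hom.comp_app] at this
      exact this
  refine ⟨IsClosedImmersion.lift (I ^ 2).subschemeι b hle, IsClosedImmersion.lift_fac _ _ _, ?_⟩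
  intro a' ha'
  rw [← cancel_mono (I ^ 2).subschemeι, ha', IsClosedImmersion.lift_fac]

end Groth.Agent.Helper7.FirstNbhd
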