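import Groth.Agent.Lib.Helper3.FlatDescent
import Mathlib.AlgebraicGeometry.Morphisms.Flat
import Mathlib.AlgebraicGeometry.Morphisms.UnderlyingMap

/-!
# Helper library (helper7): flatness descends along flat surjective morphisms of schemes
-/

set_option autoImplicit false

namespace Groth.Agent.Helper7

open AlgebraicGeometry CategoryTheory

universe u

/-- If `f : X ⟶ Y` is flat and surjective and `f ≫ h` is flat, then `h` is flat. -/
theorem flat_of_flat_comp_of_surjective {X Y W : Scheme.{u}} (f : X ⟶ Y) (h : Y ⟶ W)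
    [Flat f] [Surjective f] [Flat (f ≫ h)] : Flat h := by
  rw [Flat.iff_flat_stalkMap]
  intro y
  obtain ⟨x, rfl⟩ := f.surjective y
  have hcomp : ((f ≫ h).stalkMap x).hom.Flat := Flat.stalkMap (f ≫ h) x
  rw [Scheme.Hom.stalkMap_comp] at hcomp
  refine Groth.Agent.Helper3.ringHom_flat_of_comp_of_faithfullyFlat (h.stalkMap (f x)).hom
    (f.stalkMap x).hom ?_ hcomp
  algebraize [(f.stalkMap x).hom]
  have : Module.FaithfullyFlat (Y.presheaf.stalk (f x)) (X.presheaf.stalk x) :=
    @Module.FaithfullyFlat.of_flat_of_isLocalHom _ _ _ _ _ _ _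
      (Flat.stalkMap f x) (f.toLRSHom.prop x)
  exact ‹RingHom.FaithfullyFlat _›

end Groth.Agent.Helper7
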