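import Mathlib

universe u
open AlgebraicGeometry CategoryTheory TopologicalSpace Opposite
open scoped nonZeroDivisors

/-! helper7: flatness over a principal ideal domain passes to the scheme-theoretic image. -/

namespace Groth.Agent.Helper7.FlatKt

theorem eq_zero_of_flat {R S : Type*} [CommRing R] [CommRing S] (φ : R →+* S) (h : φ.Flat)
    {r : R} (hr : r ∈ R⁰) {n : S} (hn : φ r * n = 0) : n = 0 := by
  algebraize [φ]
  have h2 := Module.Flat.isSMulRegular_of_nonZeroDivisors (M := S) hr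
  apply h2
  simp only [Algebra.smul_def, mul_zero]
  exact hn

theorem flat_of_torsionFree {R S : Type*} [CommRing R] [IsDomain R] [IsPrincipalIdealRing R]
    [CommRing S] (φ : R →+* S) (h : ∀ r : R, r ≠ 0 → ∀ n : S, φ r * n = 0 → n = 0) : φ.Flat := by
  algebraize [φ]
  show Module.Flat R S
  rw [Module.Flat.flat_iff_torsion_eq_bot_of_isBezout, eq_bot_iff]
  rintro m ⟨⟨r, hr⟩, hm⟩
  refine h r (nonZeroDivisors.ne_zero hr) m ?_
  have hm2 : algebraMap R S r * m = 0 := by simpa [Algebra.smul_def] using hm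
  exact hm2

set_option backward.isDefEq.respectTransparency false in
theorem flat_of_ker_eq_bot {R : CommRingCat.{u}} [IsDomain R] [IsPrincipalIdealRing R]
    {X Y : Scheme.{u}} (f : X ⟶ Y) (g : Y ⟶ Spec R) [QuasiCompact f] (hker : f.ker = ⊥)
    [Flat (f ≫ g)] : Flat g := by
  rw [HasRingHomProperty.iff_of_iSup_eq_top (P := @Flat) (fun V : Y.affineOpens => V)
    (iSup_affineOpens_eq_top Y)]
  intro V
  let e : Γ(Spec R, ⊤) ≃+* R := (Scheme.ΓSpecIso R).commRingCatIsoToRingEquiv
  have hdom : IsDomain Γ(Spec R, ⊤) := e.toMulEquiv.isDomain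
  have hpir : IsPrincipalIdealRing Γ(Spec R, ⊤) :=
    IsPrincipalIdealRing.of_surjective e.symm.toRingHom e.symm.surjective
  apply flat_of_torsionFree
  intro r hr m hm
  have hinj : Function.Injective (f.app V).hom := by
    rw [injective_iff_map_eq_zero]
    intro a ha
    have h1 : a ∈ f.ker.ideal V := by
      rw [Scheme.Hom.ker_apply]
      exact ha
    rw [hker] at h1
    simpa using h1
  apply hinj
  rw [map_zero]
  refine TopCat.Presheaf.section_ext X.sheaf (f ⁻¹ᵁ V.1) _ _ ?_
  intro x hx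
  obtain ⟨_, ⟨W, hW : IsAffineOpen W, rfl⟩, hxW, hWV⟩ :=
    X.isBasis_affineOpens.exists_subset_of_mem_open hx (f ⁻¹ᵁ V.1).2
  replace hWV : W ≤ f ⁻¹ᵁ V.1 := hWV
  have hres : X.presheaf.map (homOfLE hWV).op ((f.app V).hom m) = 0 := by
    have hfl := HasRingHomProperty.appLE (P := @Flat) (f ≫ g) inferInstance
      ⟨⊤, isAffineOpen_top _⟩ ⟨W, hW⟩ le_top
    refine eq_zero_of_flat _ hfl (mem_nonZeroDivisors_of_ne_zero hr) ?_
    have h2 := congr((f.appLE V.1 W hWV).hom $hm)
    rw [map_mul, map_zero] at h2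
    convert h2 using 2
    · rw [← Scheme.Hom.appLE_comp_appLE (f := f) (g := g) (U := ⊤) (V := V.1) (W := W)
        (e₁ := le_top) (e₂ := hWV)]
      rfl
    · rw [Scheme.Hom.appLE]
      rfl
  have key := TopCat.Presheaf.germ_res_apply X.presheaf (homOfLE hWV) x hxW ((f.app V).hom m)
  show X.presheaf.germ (f ⁻¹ᵁ V.1) x hx ((f.app V).hom m) = X.presheaf.germ (f ⁻¹ᵁ V.1) x hx 0
  rw [← key, hres, map_zero, map_zero]

theorem S15151_main (k : Type u) [Field k]
    (X Y : Scheme.{u}) (f : X ⟶ Y) (g : Y ⟶ Spec (CommRingCat.of (Polynomial k)))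
    [QuasiCompact f] (hker : f.ker = ⊥) [Flat (f ≫ g)] : Flat g := by
  have h1 : IsDomain (CommRingCat.of (Polynomial k)) := inferInstanceAs (IsDomain (Polynomial k))
  have h2 : IsPrincipalIdealRing (CommRingCat.of (Polynomial k)) :=
    inferInstanceAs (IsPrincipalIdealRing (Polynomial k))
  exact flat_of_ker_eq_bot f g hker

end Groth.Agent.Helper7.FlatKt
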