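import Mathlib
import Groth.Prelude.Def_MoreMor
import Groth.Prelude.Def_FSch2
import Groth.Prelude.Def_FSch3
import Groth.Agent.Lib.Helper7.FormalCompl

set_option autoImplicit false
set_option linter.style.haveILetI false
set_option linter.unusedVariables false
universe u

open AlgebraicGeometry CategoryTheory Limits

/-! helper7: levelwise cartesian squares of systems and completions of fibre products (S3875). -/

namespace Groth.Agent.Helper7.FormalCompl

/-- a levelwise cartesian square of systems is cartesian. -/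
theorem isPullback_of_levelwise {𝔓 𝔛 𝔜 𝔖 : FSch.Sys.{u}} (a : 𝔓 ⟶ 𝔛) (b : 𝔓 ⟶ 𝔜) (c : 𝔛 ⟶ 𝔖)
    (d : 𝔜 ⟶ 𝔖)
    (H : ∀ n, IsPullback ((a : FSch.Hom 𝔓 𝔛).app n) ((b : FSch.Hom 𝔓 𝔜).app n)
      ((c : FSch.Hom 𝔛 𝔖).app n) ((d : FSch.Hom 𝔜 𝔖).app n)) : IsPullback a b c d := by
  have w : a ≫ c = b ≫ d := by
    apply FSch.Hom.ext
    funext n
    exact (H n).w
  refine ⟨⟨w⟩, ⟨PullbackCone.IsLimit.mk w
    (fun s => ⟨fun n => (H n).lift ((s.fst : FSch.Hom _ _).app n) ((s.snd : FSch.Hom _ _).app n)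
      (by
        have := congrArg (fun (φ : FSch.Hom s.pt 𝔖) => φ.app n) s.condition
        exact this), fun n => ?_⟩) ?_ ?_ ?_⟩⟩
  · apply (H (n + 1)).hom_ext
    · rw [Category.assoc, Category.assoc, (H (n + 1)).lift_fst, ← (a : FSch.Hom 𝔓 𝔛).comm n,
        ← Category.assoc, (H n).lift_fst]
      exact (s.fst : FSch.Hom _ _).comm n
    · rw [Category.assoc, Category.assoc, (H (n + 1)).lift_snd, ← (b : FSch.Hom 𝔓 𝔜).comm n,
        ← Category.assoc, (H n).lift_snd]
      exact (s.snd : FSch.Hom _ _).comm n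
  · intro s
    apply FSch.Hom.ext
    funext n
    exact (H n).lift_fst _ _ _
  · intro s
    apply FSch.Hom.ext
    funext n
    exact (H n).lift_snd _ _ _
  · intro s m hm1 hm2
    apply FSch.Hom.ext
    funext n
    apply (H n).hom_ext
    · rw [(H n).lift_fst]
      have := congrArg (fun (φ : FSch.Hom s.pt 𝔛) => φ.app n) hm1
      exact this
    · rw [(H n).lift_snd]
      have := congrArg (fun (φ : FSch.Hom s.pt 𝔜) => φ.app n) hm2
      exact this

variable {X Y S : Scheme.{u}}

set_option backward.isDefEq.respectTransparency false in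
theorem S3875_main (g : X ⟶ S) (h : Y ⟶ S)
    (𝓡 : X.IdealSheafData) (𝓙 : S.IdealSheafData)
    (hg : FSch.PowCompat g 𝓡 𝓙) (hh : FSch.PowCompat h (𝓙.comap h) 𝓙)
    (hp : FSch.PowCompat (pullback.fst g h) (𝓡.comap (pullback.fst g h)) 𝓡)
    (hq : FSch.PowCompat (pullback.snd g h) (𝓡.comap (pullback.fst g h)) (𝓙.comap h)) :
    IsPullback (FSch.completionMap (pullback.fst g h) (𝓡.comap (pullback.fst g h)) 𝓡 hp)
      (FSch.completionMap (pullback.snd g h) (𝓡.comap (pullback.fst g h)) (𝓙.comap h) hq)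
      (FSch.completionMap g 𝓡 𝓙 hg) (FSch.completionMap h (𝓙.comap h) 𝓙 hh) := by
  apply isPullback_of_levelwise
  intro n
  have hA := isPullback_completionMap_comap (pullback.fst g h) 𝓡 hp n
  have hB := isPullback_completionMap_comap h 𝓙 hh n
  have R1 := hA.flip.paste_vert (IsPullback.of_hasPullback g h)
  have e1 : FSch.completionToX (pullback g h) (𝓡.comap (pullback.fst g h)) n ≫ pullback.snd g h =
      (FSch.completionMap (pullback.snd g h) (𝓡.comap (pullback.fst g h)) (𝓙.comap h) hq :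
        FSch.Hom _ _).app n ≫ FSch.completionToX Y (𝓙.comap h) n :=
    (Scheme.IdealSheafData.subschemeMap_subschemeι ((𝓡.comap (pullback.fst g h)) ^ (n + 1))
      ((𝓙.comap h) ^ (n + 1)) (pullback.snd g h)
      (Scheme.IdealSheafData.le_map_iff_comap_le.mpr (hq n))).symm
  have e2 : FSch.completionToX X 𝓡 n ≫ g =
      (FSch.completionMap g 𝓡 𝓙 hg : FSch.Hom _ _).app n ≫ FSch.completionToX S 𝓙 n :=
    (Scheme.IdealSheafData.subschemeMap_subschemeι (𝓡 ^ (n + 1)) (𝓙 ^ (n + 1)) g
      (Scheme.IdealSheafData.le_map_iff_comap_le.mpr (hg n))).symm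
  rw [e1, e2] at R1
  refine IsPullback.of_bot R1 ?_ hB.flip
  rw [← cancel_mono (FSch.completionToX S 𝓙 n)]
  calc ((FSch.completionMap (pullback.fst g h) (𝓡.comap (pullback.fst g h)) 𝓡 hp :
          FSch.Hom _ _).app n ≫ (FSch.completionMap g 𝓡 𝓙 hg : FSch.Hom _ _).app n) ≫
        FSch.completionToX S 𝓙 n
      = (FSch.completionMap (pullback.fst g h) (𝓡.comap (pullback.fst g h)) 𝓡 hp :
          FSch.Hom _ _).app n ≫ FSch.completionToX X 𝓡 n ≫ g := by
        rw [Category.assoc, e2]
    _ = FSch.completionToX (pullback g h) (𝓡.comap (pullback.fst g h)) n ≫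
          pullback.fst g h ≫ g := by
        rw [← Category.assoc, ← hA.w, Category.assoc]
    _ = FSch.completionToX (pullback g h) (𝓡.comap (pullback.fst g h)) n ≫
          pullback.snd g h ≫ h := by rw [pullback.condition]
    _ = (FSch.completionMap (pullback.snd g h) (𝓡.comap (pullback.fst g h)) (𝓙.comap h) hq :
          FSch.Hom _ _).app n ≫ FSch.completionToX Y (𝓙.comap h) n ≫ h := by
        rw [← Category.assoc, e1, Category.assoc]
    _ = ((FSch.completionMap (pullback.snd g h) (𝓡.comap (pullback.fst g h)) (𝓙.comap h) hq :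
          FSch.Hom _ _).app n ≫ (FSch.completionMap h (𝓙.comap h) 𝓙 hh : FSch.Hom _ _).app n) ≫
        FSch.completionToX S 𝓙 n := by
        rw [hB.w, Category.assoc]

end Groth.Agent.Helper7.FormalCompl
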