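import Mathlib
import Groth.Prelude.Def_FSch2
import Groth.Prelude.Def_FSch3
import Groth.Prelude.Def_FSch4

set_option autoImplicit false
set_option linter.style.haveILetI false
set_option linter.unusedVariables false
universe u

open AlgebraicGeometry CategoryTheory Limits

/-! helper7: the graph of a morphism of formal systems is a closed immersion (S13341). -/

namespace Groth.Agent.Helper7.FormalGraph

section General

variable {C : Type*} [Category C] [HasPullbacks C]
  {X X' Y Y' S S' : C} (iX : X ⟶ X') (iY : Y ⟶ Y') (iS : S ⟶ S') (p : X ⟶ S) (q : Y ⟶ S)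
  (p' : X' ⟶ S') (q' : Y' ⟶ S') (f : X ⟶ Y) (f' : X' ⟶ Y')

/-- graphs are compatible with monomorphic changes of the ambient data: the square of graphs is
cartesian. -/
theorem isPullback_graph (wp : p ≫ iS = iX ≫ p') (wq : q ≫ iS = iY ≫ q')
    (wf : f ≫ iY = iX ≫ f') (w : 𝟙 X ≫ p = f ≫ q) (w' : 𝟙 X' ≫ p' = f' ≫ q') [Mono iY] :
    IsPullback iX (pullback.lift (𝟙 X) f w) (pullback.lift (𝟙 X') f' w')
      (pullback.map p q p' q' iX iY iS wp wq) := by
  have hw : iX ≫ pullback.lift (𝟙 X') f' w' =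
      pullback.lift (𝟙 X) f w ≫ pullback.map p q p' q' iX iY iS wp wq := by
    apply pullback.hom_ext
    · simp only [Category.assoc, pullback.lift_fst, pullback.lift_fst_assoc, Category.comp_id,
        Category.id_comp]
    · simp only [Category.assoc, pullback.lift_snd, pullback.lift_snd_assoc, wf]
  refine ⟨⟨hw⟩, ⟨PullbackCone.IsLimit.mk hw (fun s => s.snd ≫ pullback.fst p q) ?_ ?_ ?_⟩⟩
  · intro s
    have h1 : s.fst = s.fst ≫ pullback.lift (𝟙 X') f' w' ≫ pullback.fst p' q' := by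
      rw [pullback.lift_fst, Category.comp_id]
    have h2 : s.snd ≫ pullback.map p q p' q' iX iY iS wp wq ≫ pullback.fst p' q' =
        s.snd ≫ pullback.fst p q ≫ iX := by
      rw [pullback.lift_fst]
    rw [Category.assoc, ← h2, ← Category.assoc, ← s.condition, Category.assoc, ← h1]
  · intro s
    have h1 : s.fst = s.fst ≫ pullback.lift (𝟙 X') f' w' ≫ pullback.fst p' q' := by
      rw [pullback.lift_fst, Category.comp_id]
    have h2 : s.snd ≫ pullback.map p q p' q' iX iY iS wp wq ≫ pullback.fst p' q' =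
        s.snd ≫ pullback.fst p q ≫ iX := by
      rw [pullback.lift_fst]
    have h3 : s.snd ≫ pullback.fst p q ≫ iX = s.fst := by
      rw [← h2, ← Category.assoc, ← s.condition, Category.assoc, ← h1]
    apply pullback.hom_ext
    · rw [Category.assoc, Category.assoc, pullback.lift_fst, Category.comp_id]
    · have h3' : s.snd ≫ pullback.fst p q ≫ iX ≫ f' = s.fst ≫ f' := by
        rw [← h3, Category.assoc, Category.assoc]
      have h4 : s.snd ≫ pullback.map p q p' q' iX iY iS wp wq ≫ pullback.snd p' q' =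
          s.snd ≫ pullback.snd p q ≫ iY := by
        rw [pullback.lift_snd]
      rw [Category.assoc, Category.assoc, pullback.lift_snd, ← cancel_mono iY, Category.assoc,
        Category.assoc, wf, h3', Category.assoc, ← h4, ← Category.assoc s.snd, ← s.condition,
        Category.assoc, pullback.lift_snd]
  · intro s m hm1 hm2
    rw [← hm2, Category.assoc, pullback.lift_fst, Category.comp_id]

end General

variable {𝔛 𝔜 𝔖 : FSch.Sys.{u}}

set_option backward.isDefEq.respectTransparency false in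
/-- the graph of a morphism of systems is adic as soon as the transition maps of the target are
monomorphisms. -/
theorem isAdicHom_graph (h𝔜 : ∀ n, Mono (𝔜.ι n)) (p : 𝔛 ⟶ 𝔖) (q : 𝔜 ⟶ 𝔖) (f : 𝔛 ⟶ 𝔜)
    (w : f ≫ q = p) : FSch.IsAdicHom (FSch.graph f p q w) := by
  intro n
  haveI := h𝔜 n
  exact isPullback_graph (𝔛.ι n) (𝔜.ι n) (𝔖.ι n) ((p : FSch.Hom 𝔛 𝔖).app n)
    ((q : FSch.Hom 𝔜 𝔖).app n) ((p : FSch.Hom 𝔛 𝔖).app (n + 1)) ((q : FSch.Hom 𝔜 𝔖).app (n + 1))
    ((f : FSch.Hom 𝔛 𝔜).app n) ((f : FSch.Hom 𝔛 𝔜).app (n + 1))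
    ((p : FSch.Hom 𝔛 𝔖).comm n) ((q : FSch.Hom 𝔜 𝔖).comm n) ((f : FSch.Hom 𝔛 𝔜).comm n) _ _

set_option backward.isDefEq.respectTransparency false in
theorem S13341_main (h𝔜 : 𝔜.IsLocNoethFormal) (p : 𝔛 ⟶ 𝔖) (q : 𝔜 ⟶ 𝔖)
    (hq : IsSeparated ((q : FSch.Hom 𝔜 𝔖).app 0)) (f : 𝔛 ⟶ 𝔜) (w : f ≫ q = p) :
    FSch.IsClosedImmHom (FSch.graph f p q w) := by
  refine ⟨isAdicHom_graph (fun n => ?_) p q f w, ?_⟩
  · haveI := (h𝔜.1 n).1
    infer_instance
  · subst w
    haveI := hq
    exact (inferInstance : IsClosedImmersion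
      (pullback.lift (𝟙 _) ((f : FSch.Hom 𝔛 𝔜).app 0)
        (Category.id_comp ((f : FSch.Hom 𝔛 𝔜).app 0 ≫ (q : FSch.Hom 𝔜 𝔖).app 0))))

end Groth.Agent.Helper7.FormalGraph
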