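import Mathlib
import Groth.Prelude.Def_MoreMor
import Groth.Prelude.Def_FSch2
import Groth.Prelude.Def_FSch3
import Groth.Agent.Lib.Helper7.FormalNoeth

set_option autoImplicit false
set_option linter.style.haveILetI false
set_option linter.unusedVariables false
universe u

open AlgebraicGeometry CategoryTheory Limits

/-! helper7: levels of an adic system of thickenings are locally Noetherian (S3853). -/

namespace Groth.Agent.Helper7.FormalNoeth

open Groth.Agent.Helper7.ThickSch Groth.Agent.Helper7.ThickAff Groth.Agent.Helper7.FormalProper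

/-- Nakayama for a nilpotent ideal: if `I` is finitely generated modulo `I * I`, it is finitely generated. -/
lemma fg_of_le_span_sup_mul {P : Type*} [CommRing P] (I : Ideal P) (hI : IsNilpotent I)
    (s : Finset P) (hs : Ideal.span (s : Set P) ≤ I) (h : I ≤ Ideal.span (s : Set P) ⊔ I * I) :
    I.FG := by
  have h3 : ∀ k : ℕ, I ≤ Ideal.span (s : Set P) ⊔ I ^ (k + 1) := by
    intro k
    induction k with
    | zero => rw [zero_add, pow_one]; exact le_sup_right
    | succ k ih =>
      calc I ≤ Ideal.span (s : Set P) ⊔ I * I := h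
        _ ≤ Ideal.span (s : Set P) ⊔ I * (Ideal.span (s : Set P) ⊔ I ^ (k + 1)) :=
          sup_le_sup_left (Ideal.mul_mono_right ih) _
        _ ≤ Ideal.span (s : Set P) ⊔ I ^ (k + 1 + 1) := by
          rw [Ideal.mul_sup, ← sup_assoc, ← pow_succ']
          apply sup_le_sup_right
          exact sup_le le_rfl Ideal.mul_le_right
  obtain ⟨n, hn⟩ := hI
  have h4 : I = Ideal.span (s : Set P) := by
    refine le_antisymm ?_ hs
    have := h3 n
    rw [pow_succ, hn, Ideal.zero_eq_bot, Ideal.bot_mul, sup_bot_eq] at this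
    exact this
  rw [h4]
  exact ⟨s, rfl⟩

/-- the source of a surjection onto a Noetherian ring whose kernel is a power (at least the square) of a
nilpotent ideal is Noetherian. -/
lemma isNoetherianRing_of_ker_eq_pow {A' A : Type*} [CommRing A'] [CommRing A]
    (φ : A' →+* A) (hφ : Function.Surjective φ) (I : Ideal A') (hI : IsNilpotent I) (m : ℕ)
    (hm : 2 ≤ m) (hker : RingHom.ker φ = I ^ m) [IsNoetherianRing A] : IsNoetherianRing A' := by
  classical
  have hInil : I ≤ nilradical A' := by
    intro x hx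
    obtain ⟨n, hn⟩ := hI
    refine ⟨n, ?_⟩
    have : x ^ n ∈ I ^ n := Ideal.pow_mem_pow hx n
    rw [hn] at this
    exact this
  have hkI : RingHom.ker φ ≤ I * I := by
    rw [hker, ← pow_two]
    exact Ideal.pow_le_pow_right hm
  have hIfg : I.FG := by
    obtain ⟨t, ht⟩ := (IsNoetherian.noetherian (I.map φ) : (I.map φ).FG)
    have hmem : ∀ y ∈ t, ∃ p ∈ I, φ p = y := by
      intro y hy
      have : y ∈ I.map φ := by rw [← ht]; exact Ideal.subset_span hy
      exact (Ideal.mem_map_iff_of_surjective _ hφ).mp this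
    choose! c hcI hc using hmem
    have hsI : Ideal.span ((t.image c : Finset A') : Set A') ≤ I := by
      rw [Ideal.span_le]
      intro p hp
      simp only [Finset.coe_image, Set.mem_image, Finset.mem_coe] at hp
      obtain ⟨y, hy, rfl⟩ := hp
      exact hcI y hy
    refine fg_of_le_span_sup_mul I hI (t.image c) hsI ?_
    intro z hz
    have hz' : φ z ∈ (Ideal.span ((t.image c : Finset A') : Set A')).map φ := by
      rw [Ideal.map_span]
      have : φ z ∈ Ideal.span (t : Set A) := by
        have h1 : φ z ∈ I.map φ := Ideal.mem_map_of_mem _ hz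
        rw [← ht] at h1
        exact h1
      refine Ideal.span_mono ?_ this
      intro y hy
      refine ⟨c y, ?_, hc y hy⟩
      simp only [Finset.coe_image, Set.mem_image, Finset.mem_coe]
      exact ⟨y, hy, rfl⟩
    obtain ⟨a, ha, hae⟩ := (Ideal.mem_map_iff_of_surjective _ hφ).mp hz'
    have hza : z - a ∈ RingHom.ker φ := by
      rw [RingHom.mem_ker, map_sub, hae, sub_self]
    have hz2 : z = a + (z - a) := by ring
    rw [hz2]
    exact Submodule.add_mem_sup ha (hkI hza)
  refine isNoetherianRing_of_surjective_of_ker_fg φ hφ ?_ ?_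
  · rw [hker]; exact Ideal.FG.pow hIfg
  · rw [hker]
    exact (Ideal.pow_le_self (by omega)).trans hInil

theorem S3853_main
    (𝔛 : FSch.Sys.{u}) (hF : 𝔛.IsFormal) (hA : 𝔛.IsAdic) [IsLocallyNoetherian (𝔛.X 0)]
    (hft : FSch.IdealFT (𝔛.ι 0).ker) (n : ℕ) : IsLocallyNoetherian (𝔛.X n) := by
  induction n with
  | zero => infer_instance
  | succ n ih =>
    haveI := ih
    haveI := (hF n).1
    refine ⟨fun U => ?_⟩
    haveI : IsNoetherianRing Γ(𝔛.X n, 𝔛.ι n ⁻¹ᵁ U.1) :=
      IsLocallyNoetherian.component_noetherian ⟨𝔛.ι n ⁻¹ᵁ U.1, U.2.preimage (𝔛.ι n)⟩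
    have hsurj : Function.Surjective ((𝔛.ι n).app U.1).hom := (𝔛.ι n).app_surjective U.1 U.2
    have hk : RingHom.ker ((𝔛.ι n).app U.1).hom = (𝔛.ι n).ker.ideal U :=
      (Scheme.Hom.ker_apply (𝔛.ι n) U).symm
    rcases Nat.eq_zero_or_pos n with hn | hn
    · subst hn
      refine isNoetherianRing_of_surjective_of_ker_fg _ hsurj ?_ ?_
      · rw [hk]; exact hft U
      · rw [Scheme.Hom.app_eq_appLE]
        exact ker_appLE_le_nilradical (hF 0).2 U.1 U.2
    · haveI := isClosedImmersion_toX 𝔛 hF (n + 1)
      refine isNoetherianRing_of_ker_eq_pow _ hsurj ((𝔛.toX (n + 1)).ker.ideal U) ⟨n + 2, ?_⟩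
        (n + 1) (by omega) ?_
      · have := congrArg (fun I => I.ideal U) (toX_ker_pow 𝔛 hF hA n)
        simpa using this
      · rw [hk]
        have := congrArg (fun I => I.ideal U) (hA n)
        simpa using this

end Groth.Agent.Helper7.FormalNoeth
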