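import Mathlib
import Groth.Prelude.Def_MoreMor
import Groth.Prelude.Def_FSch2
import Groth.Prelude.Def_FSch3
import Groth.Agent.Lib.Helper7.FormalNoeth

set_option autoImplicit false
set_option linter.style.haveILetI false
set_option linter.unusedVariables false
universe u

open AlgebraicGeometry CategoryTheory Limits

/-! helper7: levelwise fibre products of adic systems (S3858). -/

namespace Groth.Agent.Helper7.FormalNoeth

open Groth.Agent.Helper7.ThickSch Groth.Agent.Helper7.ThickAff Groth.Agent.Helper7.FormalProper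

set_option backward.isDefEq.respectTransparency false in
/-- a scheme locally of finite type over a locally Noetherian scheme is locally Noetherian. -/
theorem isLocallyNoetherian_of_locallyOfFiniteType {X Y : Scheme.{u}} (f : X ⟶ Y)
    [LocallyOfFiniteType f] [IsLocallyNoetherian Y] : IsLocallyNoetherian X := by
  refine isLocallyNoetherian_of_affine_cover (ι := Pairs f) (S := fun p => p.1.2)
    (iSup_pairs_eq_top f) ?_
  rintro ⟨⟨⟨V, hV⟩, ⟨U, hU⟩⟩, e⟩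
  haveI : IsNoetherianRing Γ(Y, V) := IsLocallyNoetherian.component_noetherian ⟨V, hV⟩
  have hft : (f.appLE V U e).hom.FiniteType := f.finiteType_appLE hV hU e
  letI := (f.appLE V U e).hom.toAlgebra
  haveI : Algebra.FiniteType Γ(Y, V) Γ(X, U) := hft
  exact Algebra.FiniteType.isNoetherianRing Γ(Y, V) Γ(X, U)

variable {𝔛 𝔖 𝔖' : FSch.Sys.{u}} (f : 𝔛 ⟶ 𝔖) (g : 𝔖' ⟶ 𝔖)

set_option backward.isDefEq.respectTransparency false in
/-- the second projection of the levelwise fibre product with an adic morphism is adic. -/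
theorem isAdicHom_pullbackSnd (hf : FSch.IsAdicHom f) : FSch.IsAdicHom (FSch.pullbackSnd f g) := by
  intro n
  change IsPullback
    (pullback.map _ _ _ _ (𝔛.ι n) (𝔖'.ι n) (𝔖.ι n) ((f : FSch.Hom 𝔛 𝔖).comm n)
      ((g : FSch.Hom 𝔖' 𝔖).comm n))
    (pullback.snd ((f : FSch.Hom 𝔛 𝔖).app n) ((g : FSch.Hom 𝔖' 𝔖).app n))
    (pullback.snd ((f : FSch.Hom 𝔛 𝔖).app (n + 1)) ((g : FSch.Hom 𝔖' 𝔖).app (n + 1)))
    (𝔖'.ι n)
  have hA := IsPullback.of_hasPullback ((f : FSch.Hom 𝔛 𝔖).app (n + 1))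
    ((g : FSch.Hom 𝔖' 𝔖).app (n + 1))
  have hrect : IsPullback
      (pullback.fst ((f : FSch.Hom 𝔛 𝔖).app n) ((g : FSch.Hom 𝔖' 𝔖).app n) ≫ 𝔛.ι n)
      (pullback.snd ((f : FSch.Hom 𝔛 𝔖).app n) ((g : FSch.Hom 𝔖' 𝔖).app n))
      ((f : FSch.Hom 𝔛 𝔖).app (n + 1))
      ((g : FSch.Hom 𝔖' 𝔖).app n ≫ 𝔖.ι n) :=
    (IsPullback.of_hasPullback ((f : FSch.Hom 𝔛 𝔖).app n)
      ((g : FSch.Hom 𝔖' 𝔖).app n)).paste_horiz (hf n)
  refine IsPullback.of_right ?_ (by simp) hA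
  have e1 : pullback.map _ _ _ _ (𝔛.ι n) (𝔖'.ι n) (𝔖.ι n) ((f : FSch.Hom 𝔛 𝔖).comm n)
      ((g : FSch.Hom 𝔖' 𝔖).comm n) ≫
      pullback.fst ((f : FSch.Hom 𝔛 𝔖).app (n + 1)) ((g : FSch.Hom 𝔖' 𝔖).app (n + 1)) =
      pullback.fst ((f : FSch.Hom 𝔛 𝔖).app n) ((g : FSch.Hom 𝔖' 𝔖).app n) ≫ 𝔛.ι n := by simp
  have e2 : 𝔖'.ι n ≫ (g : FSch.Hom 𝔖' 𝔖).app (n + 1) = (g : FSch.Hom 𝔖' 𝔖).app n ≫ 𝔖.ι n :=
    ((g : FSch.Hom 𝔖' 𝔖).comm n).symm
  rw [e1, e2]
  exact hrect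

theorem S3858_main (h𝔖' : 𝔖'.IsLocNoethFormal) (hf : FSch.IsAdicHom f)
    [LocallyOfFiniteType ((f : FSch.Hom 𝔛 𝔖).app 0)] :
    (FSch.pullbackSys f g).IsLocNoethFormal ∧ FSch.IsAdicHom (FSch.pullbackSnd f g) ∧
      LocallyOfFiniteType ((FSch.pullbackSnd f g : FSch.Hom _ _).app 0) := by
  have hlft : LocallyOfFiniteType ((FSch.pullbackSnd f g : FSch.Hom _ _).app 0) :=
    (inferInstance : LocallyOfFiniteType
      (pullback.snd ((f : FSch.Hom 𝔛 𝔖).app 0) ((g : FSch.Hom 𝔖' 𝔖).app 0)))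
  have hadic := isAdicHom_pullbackSnd f g hf
  refine ⟨?_, hadic, hlft⟩
  haveI := h𝔖'.2.2 0
  haveI : IsLocallyNoetherian ((FSch.pullbackSys f g).X 0) :=
    isLocallyNoetherian_of_locallyOfFiniteType ((FSch.pullbackSnd f g : FSch.Hom _ _).app 0)
  exact S3857_main (FSch.pullbackSnd f g) h𝔖' hadic

end Groth.Agent.Helper7.FormalNoeth
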