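import Mathlib
import Groth.Prelude.Def_MoreMor
import Groth.Prelude.Def_FSch2
import Groth.Prelude.Def_FSch3
import Groth.Agent.Lib.Helper7.FormalNoeth3

set_option autoImplicit false
set_option linter.style.haveILetI false
set_option linter.unusedVariables false
universe u

open AlgebraicGeometry CategoryTheory Limits

/-! helper7: the completion along an ideal sheaf is a locally Noetherian adic system (S3854). -/

namespace Groth.Agent.Helper7.FormalNoeth

open Groth.Agent.Helper7.ThickSch Groth.Agent.Helper7.ThickAff Groth.Agent.Helper7.FormalProper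

set_option backward.isDefEq.respectTransparency false in
/-- the ideal of the first factor of a composite of closed immersions, on preimages of affine opens. -/
lemma ker_ideal_preimage_eq_map {Z Z' Z'' : Scheme.{u}} (p : Z ⟶ Z') (v : Z' ⟶ Z'')
    [IsClosedImmersion p] [IsClosedImmersion v] (U : Z''.Opens) (hU : IsAffineOpen U) :
    p.ker.ideal ⟨v ⁻¹ᵁ U, hU.preimage v⟩ = ((p ≫ v).ker.ideal ⟨U, hU⟩).map (v.app U).hom := by
  have hsurj : Function.Surjective (v.app U).hom := v.app_surjective U hU
  rw [Scheme.Hom.ker_apply, Scheme.Hom.ker_apply, Scheme.Hom.comp_app, CommRingCat.hom_comp,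
    ← RingHom.comap_ker, Ideal.map_comap_of_surjective _ hsurj]

set_option backward.isDefEq.respectTransparency false in
lemma iSup_preimage_affineOpens_eq_top {Z' Z'' : Scheme.{u}} (v : Z' ⟶ Z'') [IsAffineHom v] :
    (⨆ U : Z''.affineOpens,
      ((⟨v ⁻¹ᵁ U.1, U.2.preimage v⟩ : Z'.affineOpens) : Z'.Opens)) = ⊤ := by
  rw [eq_top_iff]
  intro x _
  obtain ⟨_, ⟨V', hV', rfl⟩, hxV, -⟩ :=
    Z''.isBasis_affineOpens.exists_subset_of_mem_open (Set.mem_univ (v.base x)) isOpen_univ
  exact TopologicalSpace.Opens.mem_iSup.mpr ⟨⟨V', hV'⟩, hxV⟩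

variable {X : Scheme.{u}}

set_option backward.isDefEq.respectTransparency false in
lemma isClosedImmersion_inclusion {I J : X.IdealSheafData} (h : I ≤ J) :
    IsClosedImmersion (Scheme.IdealSheafData.inclusion h) := by
  haveI : IsClosedImmersion (Scheme.IdealSheafData.inclusion h ≫ I.subschemeι) := by
    rw [Scheme.IdealSheafData.inclusion_subschemeι]; infer_instance
  exact IsClosedImmersion.of_comp_isClosedImmersion (Scheme.IdealSheafData.inclusion h) I.subschemeι

set_option backward.isDefEq.respectTransparency false in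
lemma surjective_inclusion {I J : X.IdealSheafData} (h : I ≤ J) (hs : I.support = J.support) :
    Function.Surjective (Scheme.IdealSheafData.inclusion h).base := by
  intro y
  have h1 : I.subschemeι.base y ∈ Set.range J.subschemeι.base := by
    have h2 : I.subschemeι.base y ∈ Set.range I.subschemeι.base := ⟨y, rfl⟩
    have e1 : Set.range I.subschemeι.base = Set.range J.subschemeι.base := by
      have a := I.range_subschemeι
      have b := J.range_subschemeι
      rw [← hs] at b
      exact a.trans b.symm
    rw [← e1]; exact h2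
  obtain ⟨x, hx⟩ := h1
  refine ⟨x, ?_⟩
  apply I.subschemeι.isClosedEmbedding.injective
  rw [← hx]
  have := congrArg (fun g => g.base x) (Scheme.IdealSheafData.inclusion_subschemeι h)
  exact this

variable (X) (𝓘 : X.IdealSheafData)

lemma isFormal_completionAlong : (FSch.completionAlong X 𝓘).IsFormal := fun n =>
  ⟨isClosedImmersion_inclusion _, surjective_inclusion _ rfl⟩

set_option backward.isDefEq.respectTransparency false in
lemma toX_completionAlong (n : ℕ) :
    (FSch.completionAlong X 𝓘).toX n ≫ (𝓘 ^ (n + 1)).subschemeι = (𝓘 ^ (0 + 1)).subschemeι := by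
  induction n with
  | zero => exact Category.id_comp _
  | succ n ih =>
    change ((FSch.completionAlong X 𝓘).toX n ≫
      Scheme.IdealSheafData.inclusion (FSch.pow_succ_le X 𝓘 n)) ≫ _ = _
    rw [Category.assoc, Scheme.IdealSheafData.inclusion_subschemeι]
    exact ih

set_option backward.isDefEq.respectTransparency false in
lemma isAdic_completionAlong : (FSch.completionAlong X 𝓘).IsAdic := by
  intro n
  have hF := isFormal_completionAlong X 𝓘
  haveI := isClosedImmersion_toX _ hF (n + 1)
  haveI := (hF n).1
  let v : (FSch.completionAlong X 𝓘).X (n + 1) ⟶ X := (𝓘 ^ (n + 1 + 1)).subschemeι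
  haveI : IsClosedImmersion v := (inferInstance : IsClosedImmersion (𝓘 ^ (n + 1 + 1)).subschemeι)
  refine Scheme.IdealSheafData.ext_of_iSup_eq_top (ι := X.affineOpens)
    (fun U => ⟨v ⁻¹ᵁ U.1, U.2.preimage v⟩) (iSup_preimage_affineOpens_eq_top v) ?_
  rintro ⟨U, hU⟩
  simp only [Scheme.IdealSheafData.ideal_pow, Pi.pow_apply]
  rw [ker_ideal_preimage_eq_map ((FSch.completionAlong X 𝓘).ι n) v U hU,
    ker_ideal_preimage_eq_map ((FSch.completionAlong X 𝓘).toX (n + 1)) v U hU, ← Ideal.map_pow]
  have e1 : (FSch.completionAlong X 𝓘).ι n ≫ v = (𝓘 ^ (n + 1)).subschemeι :=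
    Scheme.IdealSheafData.inclusion_subschemeι _
  have e2 : (FSch.completionAlong X 𝓘).toX (n + 1) ≫ v = (𝓘 ^ (0 + 1)).subschemeι :=
    toX_completionAlong X 𝓘 (n + 1)
  rw [e1, e2, Scheme.IdealSheafData.ker_subschemeι, Scheme.IdealSheafData.ker_subschemeι]
  simp only [Scheme.IdealSheafData.ideal_pow, Pi.pow_apply, zero_add, pow_one]

theorem S3854_main [IsLocallyNoetherian X] : (FSch.completionAlong X 𝓘).IsLocNoethFormal :=
  ⟨isFormal_completionAlong X 𝓘, isAdic_completionAlong X 𝓘, fun n => by
    change IsLocallyNoetherian (𝓘 ^ (n + 1)).subscheme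
    exact isLocallyNoetherian_of_locallyOfFiniteType (𝓘 ^ (n + 1)).subschemeι⟩

end Groth.Agent.Helper7.FormalNoeth
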