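import Mathlib
import Groth.Prelude.Def_MoreMor
import Groth.Prelude.Def_FSch2
import Groth.Prelude.Def_FSch3
import Groth.Agent.Lib.Helper7.FormalNoeth3

set_option autoImplicit false
set_option linter.style.haveILetI false
set_option linter.unusedVariables false
universe u

open AlgebraicGeometry CategoryTheory Limits

/-! helper7: closed sub-systems of locally Noetherian adic systems (S3865). -/

namespace Groth.Agent.Helper7.FormalNoeth

set_option backward.isDefEq.respectTransparency false in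
theorem isAdicHom_subSysι (𝔛 : FSch.Sys.{u})
    (𝒜 : ∀ n, (𝔛.X n).IdealSheafData) (h : ∀ n, (𝒜 (n + 1)).comap (𝔛.ι n) = 𝒜 n) :
    FSch.IsAdicHom (FSch.subSysι 𝔛 𝒜 (fun n ↦ (h n).le)) := by
  intro n
  change IsPullback
    (Scheme.IdealSheafData.subschemeMap (𝒜 n) (𝒜 (n + 1)) (𝔛.ι n)
      (Scheme.IdealSheafData.le_map_iff_comap_le.mpr (h n).le))
    (𝒜 n).subschemeι (𝒜 (n + 1)).subschemeι (𝔛.ι n)
  refine (isPullback_of_isClosedImmersion (𝒜 n).subschemeι (𝒜 (n + 1)).subschemeι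
    (Scheme.IdealSheafData.subschemeMap (𝒜 n) (𝒜 (n + 1)) (𝔛.ι n)
      (Scheme.IdealSheafData.le_map_iff_comap_le.mpr (h n).le)) (𝔛.ι n) ?_ ?_).flip
  · exact (Scheme.IdealSheafData.subschemeMap_subschemeι _ _ _ _).symm
  · rw [Scheme.IdealSheafData.ker_subschemeι, Scheme.IdealSheafData.ker_subschemeι]
    exact h n

theorem S3865_main (𝔛 : FSch.Sys.{u}) (h𝔛 : 𝔛.IsLocNoethFormal)
    (𝒜 : ∀ n, (𝔛.X n).IdealSheafData) (h : ∀ n, (𝒜 (n + 1)).comap (𝔛.ι n) = 𝒜 n) :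
    (FSch.subSys 𝔛 𝒜 (fun n ↦ (h n).le)).IsLocNoethFormal ∧
      FSch.IsAdicHom (FSch.subSysι 𝔛 𝒜 (fun n ↦ (h n).le)) := by
  have hadic := isAdicHom_subSysι 𝔛 𝒜 h
  refine ⟨?_, hadic⟩
  haveI := h𝔛.2.2 0
  haveI : IsLocallyNoetherian ((FSch.subSys 𝔛 𝒜 (fun n ↦ (h n).le)).X 0) := by
    change IsLocallyNoetherian (𝒜 0).subscheme
    exact isLocallyNoetherian_of_locallyOfFiniteType (𝒜 0).subschemeι
  exact S3857_main (FSch.subSysι 𝔛 𝒜 (fun n ↦ (h n).le)) h𝔛 hadic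

end Groth.Agent.Helper7.FormalNoeth
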