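import Mathlib
import Groth.Prelude.Def_FSch2
import Groth.Prelude.Def_FSch3
import Groth.Prelude.Def_FSch4
import Groth.Prelude.Def_FSch5
import Groth.Agent.Lib.Helper7.FormalNoeth3

set_option autoImplicit false
set_option linter.style.haveILetI false
set_option linter.unusedVariables false
universe u

open AlgebraicGeometry CategoryTheory Limits

/-! helper7: formal systems induced on opens (S13342, S13642). -/

namespace Groth.Agent.Helper7.FormalRestrict

open Groth.Agent.Helper7.ThickSch Groth.Agent.Helper7.FormalNoeth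

set_option backward.isDefEq.respectTransparency false in
/-- restriction of a morphism to an open and its full preimage is a base change. -/
lemma isPullback_resLE_of_eq {X Y : Scheme.{u}} (f : X ⟶ Y) (V : Y.Opens) (V' : X.Opens)
    (e : V' = f ⁻¹ᵁ V) : IsPullback (f.resLE V V' e.le) V'.ι V.ι f := by
  subst e
  rw [Scheme.Hom.resLE_eq_morphismRestrict]
  exact isPullback_morphismRestrict f V

variable (𝔛 : FSch.Sys.{u}) (h : 𝔛.IsFormal) (U : (𝔛.X 0).Opens)

/-- the inclusion of the system induced on an open is adic. -/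
theorem isAdicHom_restrictOpenι : FSch.IsAdicHom (𝔛.restrictOpenι h U) := fun n =>
  isPullback_resLE_of_eq (𝔛.ι n) (𝔛.lvU h (n + 1) U) (𝔛.lvU h n U) (𝔛.lvU_succ h n U).symm

theorem isFormal_restrictOpen : (𝔛.restrictOpen h U).IsFormal := by
  intro n
  have hc := isAdicHom_restrictOpenι 𝔛 h U n
  haveI := (h n).1
  exact ⟨isClosedImmersion_left hc, (surjective_left hc ⟨(h n).2⟩).surj⟩

theorem S13342_main :
    (𝔛.restrictOpen h U).IsFormal ∧ (𝔛.IsLocNoethFormal → (𝔛.restrictOpen h U).IsLocNoethFormal) ∧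
      (𝔛.IsLocNoethFormal → CompactSpace (𝔛.X 0) → CompactSpace ((𝔛.restrictOpen h U).X 0)) := by
  refine ⟨isFormal_restrictOpen 𝔛 h U, fun hN => ?_, fun hN hc => ?_⟩
  · haveI := hN.2.2 0
    haveI : IsLocallyNoetherian ((𝔛.restrictOpen h U).X 0) := by
      change IsLocallyNoetherian (𝔛.lvU h 0 U : Scheme.{u})
      exact isLocallyNoetherian_of_isOpenImmersion (𝔛.lvU h 0 U).ι
    exact S3857_main (𝔛.restrictOpenι h U) hN (isAdicHom_restrictOpenι 𝔛 h U)
  · haveI := hN.2.2 0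
    haveI := hc
    haveI : IsNoetherian (𝔛.X 0) := {}
    have : IsCompact ((𝔛.lvU h 0 U : (𝔛.X 0).Opens) : Set (𝔛.X 0)) :=
      TopologicalSpace.NoetherianSpace.isCompact _
    exact isCompact_iff_compactSpace.mp this

variable {𝔛} {𝔜 : FSch.Sys.{u}} (f : 𝔛 ⟶ 𝔜) (h𝔛 : 𝔛.IsFormal) (h𝔜 : 𝔜.IsFormal)
  (V : (𝔜.X 0).Opens)

set_option backward.isDefEq.respectTransparency false in
/-- the restriction of an adic morphism over an open is adic. -/
theorem isAdicHom_restrictOpen (hf : FSch.IsAdicHom f) :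
    FSch.IsAdicHom (FSch.Hom.restrictOpen f h𝔛 h𝔜 V) := by
  intro n
  have hX := isAdicHom_restrictOpenι 𝔛 h𝔛 ((f : FSch.Hom 𝔛 𝔜).app 0 ⁻¹ᵁ V) n
  have hY := isAdicHom_restrictOpenι 𝔜 h𝔜 V n
  have big := hX.paste_vert (hf n)
  have e : ∀ k, (𝔛.restrictOpenι h𝔛 ((f : FSch.Hom 𝔛 𝔜).app 0 ⁻¹ᵁ V) : FSch.Hom _ _).app k ≫
      (f : FSch.Hom 𝔛 𝔜).app k =
      (FSch.Hom.restrictOpen f h𝔛 h𝔜 V : FSch.Hom _ _).app k ≫
        (𝔜.restrictOpenι h𝔜 V : FSch.Hom _ _).app k := fun k =>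
    (Scheme.Hom.resLE_comp_ι _ _).symm
  rw [e n, e (n + 1)] at big
  exact IsPullback.of_bot big ((FSch.Hom.restrictOpen f h𝔛 h𝔜 V : FSch.Hom _ _).comm n).symm hY

set_option backward.isDefEq.respectTransparency false in
theorem S13642_main (hf : FSch.IsFiniteHom f) :
    FSch.IsFiniteHom (FSch.Hom.restrictOpen f h𝔛 h𝔜 V) := by
  refine ⟨isAdicHom_restrictOpen f h𝔛 h𝔜 V hf.1, ?_⟩
  haveI := hf.2
  have hp := isPullback_resLE_of_eq ((f : FSch.Hom 𝔛 𝔜).app 0) (𝔜.lvU h𝔜 0 V)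
    (𝔛.lvU h𝔛 0 ((f : FSch.Hom 𝔛 𝔜).app 0 ⁻¹ᵁ V)) (FSch.Hom.lvU_preimage f h𝔛 h𝔜 0 V).symm
  exact MorphismProperty.of_isPullback hp.flip (inferInstance : IsFinite ((f : FSch.Hom 𝔛 𝔜).app 0))

end Groth.Agent.Helper7.FormalRestrict
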