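import Mathlib
import Groth.Prelude.Def_MoreMor
import Groth.Prelude.Def_FSch2
import Groth.Agent.Lib.Helper7.FormalProper
import Groth.Agent.Lib.Helper7.ThickSch5

set_option autoImplicit false
set_option linter.style.haveILetI false
set_option linter.unusedVariables false
universe u

open AlgebraicGeometry CategoryTheory Limits

/-! helper7: smoothness along adic systems of thickenings (S14004). -/

namespace Groth.Agent.Helper7.FormalProper

open Groth.Agent.Helper7.ThickSch Groth.Agent.Helper7.ThickAff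

variable {X X' Y Y' : Scheme.{u}} {iX : X ⟶ X'} {iY : Y ⟶ Y'} {f : X ⟶ Y} {f' : X' ⟶ Y'}

/-- smoothness passes up a cartesian square over a finite order thickening for a flat morphism. -/
theorem smooth_of_thickening (hY : MoreMor.IsFiniteOrderThickening iY)
    (hc : IsPullback iX f f' iY) [Flat f'] [Smooth f] : Smooth f' := by
  haveI : Flat (f' ≫ 𝟙 Y') := by rw [Category.comp_id]; infer_instance
  have hcX : IsPullback iX (f ≫ 𝟙 Y) (f' ≫ 𝟙 Y') iY := by
    rw [Category.comp_id, Category.comp_id]; exact hc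
  have hcY : IsPullback iY (𝟙 Y) (𝟙 Y') iY := IsPullback.of_vert_isIso ⟨by simp⟩
  exact (S1321_main hY hcX hcY hc.w).1 inferInstance

theorem S14004_main (𝔛 𝔜 : FSch.Sys.{u})
    (h𝔜 : 𝔜.IsLocNoethFormal) (f : 𝔛 ⟶ 𝔜) (hf : FSch.IsAdicHom f)
    (hflat : ∀ n : ℕ, Flat ((f : FSch.Hom 𝔛 𝔜).app n)) :
    (∀ n : ℕ, AlgebraicGeometry.Smooth ((f : FSch.Hom 𝔛 𝔜).app n)) ↔
      AlgebraicGeometry.Smooth ((f : FSch.Hom 𝔛 𝔜).app 0) := by
  refine ⟨fun h => h 0, fun h0 n => ?_⟩
  induction n with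
  | zero => exact h0
  | succ n ih =>
    haveI := ih
    haveI := hflat (n + 1)
    exact smooth_of_thickening (isFiniteOrderThickening_ι 𝔜 h𝔜.1 h𝔜.2.1 n) (hf n)

end Groth.Agent.Helper7.FormalProper
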