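import Mathlib
import Groth.Agent.Lib.Helper7.PerfAWN

/-! helper7: naturality of the relative Frobenius; it is a monomorphism for reduced sources. -/

namespace Groth.Agent.Helper7.FrobNat
open AlgebraicGeometry CategoryTheory Limits
open Groth.Agent.Helper7.FrobUH Groth.Agent.Helper7.PerfAWN
universe u

/-- naturality of the relative Frobenius -/
theorem relFrob_map (p : ℕ) [Fact p.Prime] {Y Z S : Scheme.{u}} [FrobSch.IsCharP S p]
    (a : Y ⟶ S) (b : Z ⟶ S) (g : Y ⟶ Z) (hg : g ≫ b = a) :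
    FrobSch.relFrob a p ≫ pullback.map a (FrobSch.frob S p) b (FrobSch.frob S p) g (𝟙 S) (𝟙 S)
        ((Category.comp_id a).trans hg.symm) ((Category.comp_id _).trans (Category.id_comp _).symm) =
      g ≫ FrobSch.relFrob b p := by
  have hY : FrobSch.IsCharP Y p := FrobSch.IsCharP.of_hom a p
  have hZ : FrobSch.IsCharP Z p := FrobSch.IsCharP.of_hom b p
  apply pullback.hom_ext
  · rw [Category.assoc, pullback.lift_fst, FrobSch.relFrob_fst_assoc, Category.assoc,
      FrobSch.relFrob_fst, FrobSch.frob_comp]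
  · rw [Category.assoc, pullback.lift_snd, FrobSch.relFrob_snd_assoc, Category.assoc,
      FrobSch.relFrob_snd, Category.comp_id, hg]

theorem main16482 (p : ℕ) [Fact p.Prime]
    {Y Z S : Scheme.{u}} [FrobSch.IsCharP S p]
    [IsReduced Y] (a : Y ⟶ S) (b : Z ⟶ S) (g₁ g₂ : Y ⟶ Z) (hg₁ : g₁ ≫ b = a) (hg₂ : g₂ ≫ b = a)
    (h : FrobSch.relFrob a p ≫ pullback.map a (FrobSch.frob S p) b (FrobSch.frob S p) g₁ (𝟙 S) (𝟙 S)
        ((Category.comp_id a).trans hg₁.symm) ((Category.comp_id _).trans (Category.id_comp _).symm) =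
      FrobSch.relFrob a p ≫ pullback.map a (FrobSch.frob S p) b (FrobSch.frob S p) g₂ (𝟙 S) (𝟙 S)
        ((Category.comp_id a).trans hg₂.symm) ((Category.comp_id _).trans (Category.id_comp _).symm)) :
    g₁ = g₂ := by
  rw [relFrob_map p a b g₁ hg₁, relFrob_map p a b g₂ hg₂] at h
  exact hom_ext_of_isUnivHomeo (FrobSch.relFrob b p) (isUnivHomeo_relFrob p b) g₁ g₂ h

end Groth.Agent.Helper7.FrobNat
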