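import Mathlib
import Groth.Agent.Lib.Helper7.FrobUH

/-! helper7: finiteness of the relative Frobenius. -/

namespace Groth.Agent.Helper7.FrobUH
open AlgebraicGeometry CategoryTheory Limits
universe u

theorem main14931 (p : ℕ) [Fact p.Prime] {X S : Scheme.{u}} [FrobSch.IsCharP S p] (f : X ⟶ S)
    [LocallyOfFiniteType f] : IsFinite (FrobSch.relFrob f p) := by
  rw [IsFinite.iff_isIntegralHom_and_locallyOfFiniteType]
  refine ⟨UHSch.isIntegralHom_of_isUnivHomeo _ (isUnivHomeo_relFrob p f), ?_⟩
  have : LocallyOfFiniteType (FrobSch.relFrob f p ≫ pullback.snd f (FrobSch.frob S p)) := by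
    rw [FrobSch.relFrob_snd]; infer_instance
  exact locallyOfFiniteType_of_comp (FrobSch.relFrob f p) (pullback.snd f (FrobSch.frob S p))

end Groth.Agent.Helper7.FrobUH
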