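import Mathlib
import Groth.Agent.Lib.Helper7.QuasiFlat.Closure

/-! helper7: the generic fibre of a scheme over a valuation ring: closure points are
specializations; the schematic closure of the generic fibre is flat -/

set_option autoImplicit false
universe u

namespace Groth.Agent.Helper7.GenFib
open CategoryTheory CategoryTheory.Limits AlgebraicGeometry

variable (V : Type u) [CommRing V] [IsDomain V]

/-- the inclusion of the generic point of the spectrum of a domain -/
noncomputable abbrev genι : Spec (CommRingCat.of (FractionRing V)) ⟶ Spec (CommRingCat.of V) :=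
  Spec.map (CommRingCat.ofHom (algebraMap V (FractionRing V)))

theorem range_genι : Set.range (genι V) = {(⟨⊥, Ideal.isPrime_bot⟩ : PrimeSpectrum V)} := by
  ext y
  simp only [Set.mem_range]
  constructor
  · rintro ⟨q, rfl⟩
    apply PrimeSpectrum.ext
    change Ideal.comap (algebraMap V (FractionRing V)) (q : PrimeSpectrum (FractionRing V)).asIdeal = ⊥
    have hq : (q : PrimeSpectrum (FractionRing V)).asIdeal = ⊥ :=
      ((Ideal.eq_bot_or_top _).resolve_right (q : PrimeSpectrum (FractionRing V)).isPrime.ne_top)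
    rw [hq]
    exact Ideal.comap_bot_of_injective _ (IsFractionRing.injective V (FractionRing V))
  · rintro rfl
    refine ⟨(⟨⊥, Ideal.isPrime_bot⟩ : PrimeSpectrum (FractionRing V)), ?_⟩
    apply PrimeSpectrum.ext
    change Ideal.comap (algebraMap V (FractionRing V)) ⊥ = ⊥
    exact Ideal.comap_bot_of_injective _ (IsFractionRing.injective V (FractionRing V))

variable {V}

theorem range_pullback_fst {X : Scheme.{u}} (f : X ⟶ Spec (CommRingCat.of V)) :
    Set.range (pullback.fst f (genι V)) =
      f ⁻¹' {(⟨⊥, Ideal.isPrime_bot⟩ : PrimeSpectrum V)} := by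
  rw [Scheme.Pullback.range_fst, range_genι]

/-- points in the closure of the generic fibre are specializations of points of the generic
fibre -/
theorem exists_specializes_of_mem_closure {X : Scheme.{u}} (f : X ⟶ Spec (CommRingCat.of V))
    {x : X} (hx : x ∈ closure (f ⁻¹' {(⟨⊥, Ideal.isPrime_bot⟩ : PrimeSpectrum V)})) :
    ∃ x' : X, f x' = (⟨⊥, Ideal.isPrime_bot⟩ : PrimeSpectrum V) ∧ x' ⤳ x := by
  rw [← range_pullback_fst] at hx
  have hpro := Groth.Agent.Helper7.QuasiFlat.isProConstructible_range (pullback.fst f (genι V))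
  obtain ⟨x', hx', hxx⟩ :=
    Groth.Agent.Helper7.ProConsLib.exists_specializes_of_mem_closure_of_isProConstructible
      X hpro hx
  rw [range_pullback_fst] at hx'
  exact ⟨x', hx', hxx⟩

theorem isUnit_genι_appTop {r : Γ(Spec (CommRingCat.of V), ⊤)} (hr : r ≠ 0) :
    IsUnit ((genι V).appTop.hom r) := by
  let eK := Scheme.ΓSpecIso (CommRingCat.of (FractionRing V))
  let eV := Scheme.ΓSpecIso (CommRingCat.of V)
  have hnat : (genι V).appTop ≫ eK.hom =
      eV.hom ≫ CommRingCat.ofHom (algebraMap V (FractionRing V)) :=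
    Scheme.ΓSpecIso_naturality _
  have h1 : eK.hom.hom ((genι V).appTop.hom r) = algebraMap V (FractionRing V) (eV.hom.hom r) := by
    have := congrArg (fun φ => φ.hom r) hnat
    exact this
  have h2 : eV.hom.hom r ≠ 0 := by
    intro h0
    apply hr
    have : eV.inv.hom (eV.hom.hom r) = r := by
      change (eV.hom ≫ eV.inv).hom r = r
      rw [Iso.hom_inv_id]; rfl
    rw [← this, h0, map_zero]
  have h3 : IsUnit (eK.hom.hom ((genι V).appTop.hom r)) := by
    rw [h1]
    apply IsUnit.mk0
    intro h0
    exact h2 ((IsFractionRing.injective V (FractionRing V)) (by rw [h0, map_zero]))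
  have h4 := h3.map eK.inv.hom
  have : eK.inv.hom (eK.hom.hom ((genι V).appTop.hom r)) = (genι V).appTop.hom r := by
    change (eK.hom ≫ eK.inv).hom _ = _
    rw [Iso.hom_inv_id]; rfl
  rw [this] at h4
  exact h4

/-- nonzero elements of the base domain become units on any scheme over the generic point -/
theorem isUnit_appLE_of_factors {A : Scheme.{u}} (h : A ⟶ Spec (CommRingCat.of V))
    (s : A ⟶ Spec (CommRingCat.of (FractionRing V))) (hs : h = s ≫ genι V) (W : A.Opens)
    {r : Γ(Spec (CommRingCat.of V), ⊤)} (hr : r ≠ 0) :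
    IsUnit ((h.appLE ⊤ W le_top).hom r) := by
  subst hs
  have := Scheme.Hom.appLE_comp_appLE s (genι V) ⊤ ⊤ W le_top le_top
  rw [← this]
  change IsUnit ((s.appLE ⊤ W le_top).hom (((genι V).appLE ⊤ ⊤ le_top).hom r))
  apply IsUnit.map
  have h2 : (genι V).appLE ⊤ ⊤ le_top = (genι V).appTop := by
    rw [Scheme.Hom.appTop, Scheme.Hom.app_eq_appLE]
    rfl
  rw [h2]
  exact isUnit_genι_appTop hr

theorem ringHom_flat_of_injective_of_units {R M N : Type*} [CommRing R] [IsDomain R] [IsBezout R]
    [CommRing M] [CommRing N] (φ : R →+* M) (ψ : M →+* N) (hψ : Function.Injective ψ)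
    (hu : ∀ r : R, r ≠ 0 → IsUnit (ψ (φ r))) : φ.Flat := by
  let _ : Algebra R M := φ.toAlgebra
  change Module.Flat R M
  rw [Module.Flat.flat_iff_torsion_eq_bot_of_isBezout, ← Submodule.isTorsionFree_iff_torsion_eq_bot,
    Module.isTorsionFree_iff_smul_eq_zero]
  intro r m hrm
  by_cases hr : r = 0
  · left; exact hr
  · right
    apply hψ
    rw [map_zero]
    have h1 : ψ (φ r) * ψ m = 0 := by
      rw [← map_mul]
      have : φ r * m = r • m := (Algebra.smul_def r m).symm
      rw [this, hrm, map_zero]
    exact (hu r hr).mul_right_eq_zero.mp h1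

/-- if every point of the spectrum of a valuation ring lifts to the closure of the generic fibre,
the schematic closure of the generic fibre is flat and surjective over the base -/
theorem exists_flat_closed [ValuationRing V] {X : Scheme.{u}} (f : X ⟶ Spec (CommRingCat.of V))
    (hc : ∀ y : Spec (CommRingCat.of V), ∃ x : X,
      x ∈ closure (f ⁻¹' {(⟨⊥, Ideal.isPrime_bot⟩ : PrimeSpectrum V)}) ∧ f x = y) :
    ∃ (Z : Scheme.{u}) (i : Z ⟶ X), IsClosedImmersion i ∧ Flat (i ≫ f) ∧ Surjective (i ≫ f) := by
  let j := pullback.fst f (genι V)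
  refine ⟨j.image, j.imageι, inferInstance, ?_, ?_⟩
  · -- flatness
    let eV := Scheme.ΓSpecIso (CommRingCat.of V)
    have hdom : IsDomain Γ(Spec (CommRingCat.of V), ⊤) :=
      MulEquiv.isDomain V eV.commRingCatIsoToRingEquiv.toMulEquiv
    have hbez : IsBezout Γ(Spec (CommRingCat.of V), ⊤) :=
      Function.Surjective.isBezout (eV.commRingCatIsoToRingEquiv.symm : V →+* _)
        eV.commRingCatIsoToRingEquiv.symm.surjective
    have hcov : ⨆ U : X.affineOpens, (j.imageι ⁻¹ᵁ (U : X.Opens)) = ⊤ := by
      rw [← Scheme.Hom.preimage_iSup, iSup_affineOpens_eq_top]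
      rfl
    apply HasRingHomProperty.of_iSup_eq_top (P := @Flat)
      (fun U : X.affineOpens => (⟨j.imageι ⁻¹ᵁ (U : X.Opens), U.2.preimage j.imageι⟩ :
        j.image.affineOpens)) hcov
    intro U
    apply ringHom_flat_of_injective_of_units _
      (j.toImage.app (j.imageι ⁻¹ᵁ (U : X.Opens))).hom (j.toImage_app_injective U)
    intro r hr
    have key := isUnit_appLE_of_factors (j.toImage ≫ j.imageι ≫ f) (pullback.snd f (genι V))
      (by rw [Scheme.Hom.toImage_imageι_assoc]; exact pullback.condition)
      (j.toImage ⁻¹ᵁ (j.imageι ⁻¹ᵁ (U : X.Opens))) hr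
    have hcomp := Scheme.Hom.appLE_comp_appLE j.toImage (j.imageι ≫ f) ⊤
      (j.imageι ⁻¹ᵁ (U : X.Opens)) (j.toImage ⁻¹ᵁ (j.imageι ⁻¹ᵁ (U : X.Opens))) le_top le_rfl
    rw [← hcomp, Scheme.Hom.appLE_eq_app] at key
    exact key
  · constructor
    intro y
    obtain ⟨x, hx, hxy⟩ := hc y
    have : x ∈ Set.range j.imageι := by
      rw [Scheme.IdealSheafData.range_subschemeι, Scheme.Hom.support_ker, range_pullback_fst]
      exact hx
    obtain ⟨z, rfl⟩ := this
    exact ⟨z, hxy⟩

end Groth.Agent.Helper7.GenFib
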