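import Mathlib
import Groth.Agent.Lib.Helper7.UHSch3

/-! helper7: gluing local factorizations through a surjective morphism onto a reduced scheme. -/

namespace Groth.Agent.Helper7.GlueUH
open AlgebraicGeometry CategoryTheory Limits TopologicalSpace
universe u

theorem main13835 {T' T Y : Scheme.{u}} (p : T' ⟶ T) [Surjective p] [IsReduced T]
    [Y.IsSeparated] (f' : T' ⟶ Y)
    {ι : Type u} (U : ι → T.Opens) (hU : ⨆ i, U i = ⊤)
    (hloc : ∀ i, ∃ fi : (U i).toScheme ⟶ Y, (p ⁻¹ᵁ U i).ι ≫ f' = (p ∣_ U i) ≫ fi) :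
    ∃ f : T ⟶ Y, p ≫ f = f' := by
  choose fi hfi using hloc
  have hcov : IsOpenCover U := hU
  let 𝒰 : T.OpenCover := T.openCoverOfIsOpenCover U hcov
  have key : ∀ (i : ι) (P : Scheme.{u}) (q : P ⟶ T) (r : P ⟶ (U i).toScheme)
      (hr : r ≫ (U i).ι = q), pullback.snd p q ≫ r ≫ fi i = pullback.fst p q ≫ f' := by
    intro i P q r hr
    have hsub : Set.range (pullback.fst p q) ⊆ Set.range (p ⁻¹ᵁ U i).ι := by
      rintro _ ⟨w, rfl⟩
      rw [Scheme.Opens.range_ι]
      show p (pullback.fst p q w) ∈ U i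
      have e : (pullback.fst p q ≫ p) w = (pullback.snd p q ≫ r ≫ (U i).ι) w := by
        rw [hr, pullback.condition]
      rw [← Scheme.Hom.comp_apply, e, Scheme.Hom.comp_apply, Scheme.Hom.comp_apply]
      exact (r (pullback.snd p q w)).2
    let li := IsOpenImmersion.lift (p ⁻¹ᵁ U i).ι (pullback.fst p q) hsub
    have h1 : li ≫ (p ⁻¹ᵁ U i).ι = pullback.fst p q := IsOpenImmersion.lift_fac _ _ _
    have h2 : li ≫ (p ∣_ U i) = pullback.snd p q ≫ r := by
      rw [← cancel_mono (U i).ι, Category.assoc, morphismRestrict_ι, ← Category.assoc, h1,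
        pullback.condition, Category.assoc, hr]
    rw [← Category.assoc, ← h2, Category.assoc, ← hfi, ← Category.assoc, h1]
  have compat : ∀ i j, pullback.fst (𝒰.f i) (𝒰.f j) ≫ fi i = pullback.snd _ _ ≫ fi j := by
    intro i j
    have hred : IsReduced (pullback (𝒰.f i) (𝒰.f j)) :=
      isReduced_of_isOpenImmersion (pullback.fst (𝒰.f i) (𝒰.f j) ≫ 𝒰.f i)
    let q : pullback (𝒰.f i) (𝒰.f j) ⟶ T := pullback.fst (𝒰.f i) (𝒰.f j) ≫ 𝒰.f i
    have hsurj : Surjective (pullback.snd p q) := inferInstance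
    have hdom : IsDominant (pullback.snd p q) := inferInstance
    apply ext_of_isDominant (pullback.snd p q)
    have e1 := key i _ q (pullback.fst (𝒰.f i) (𝒰.f j)) rfl
    have e2 := key j _ q (pullback.snd (𝒰.f i) (𝒰.f j)) pullback.condition.symm
    exact e1.trans e2.symm
  refine ⟨𝒰.glueMorphisms fi compat, ?_⟩
  have hcov' : IsOpenCover (fun i => p ⁻¹ᵁ U i) := hcov.comap p.base.hom
  apply Scheme.Cover.hom_ext (T'.openCoverOfIsOpenCover _ hcov')
  intro i
  show (p ⁻¹ᵁ U i).ι ≫ p ≫ _ = (p ⁻¹ᵁ U i).ι ≫ f'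
  rw [← Category.assoc, ← morphismRestrict_ι, Category.assoc]
  have : (U i).ι ≫ 𝒰.glueMorphisms fi compat = fi i := 𝒰.ι_glueMorphisms fi compat i
  rw [this, hfi]

end Groth.Agent.Helper7.GlueUH
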