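import Mathlib
import Groth.Agent.Lib.Helper7.SubmHom

set_option autoImplicit false
universe u
open CategoryTheory CategoryTheory.Limits AlgebraicGeometry

/-! helper7: `main5128`: morphisms into an etale scheme correspond to open subschemes of the fibre
product mapping bijectively (radicially and surjectively) to the source. -/

namespace Groth.Agent.Helper7.GraphEt

open Groth.Agent.Helper7.TopInv Groth.Agent.Helper7.SubmHom

theorem main5128 {S X Y : Scheme.{u}} (p : X ⟶ S)
    (q : Y ⟶ S) [Etale q] :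
    (∀ f : {f : X ⟶ Y // f ≫ q = p},
      IsOpenImmersion (pullback.lift (𝟙 X) f.1 ((Category.id_comp p).trans f.2.symm) : X ⟶ pullback p q)) ∧
    ∀ Γ : (pullback p q).Opens, UniversallyInjective (Γ.ι ≫ pullback.fst p q) → Surjective (Γ.ι ≫ pullback.fst p q) →
      ∃! f : {f : X ⟶ Y // f ≫ q = p},
        Set.range (pullback.lift (𝟙 X) f.1 ((Category.id_comp p).trans f.2.symm) : X ⟶ pullback p q).base =
          (Γ : Set ↥(pullback p q)) := by
  refine ⟨fun f => isOpenImmersion_of_section (pullback.fst p q) _ (pullback.lift_fst _ _ _), ?_⟩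
  intro Γ hinj hsurj
  have hiso : IsIso (Γ.ι ≫ pullback.fst p q) :=
    isIso_of_etale_of_surjective_of_universallyInjective _
  have hfq : (inv (Γ.ι ≫ pullback.fst p q) ≫ Γ.ι ≫ pullback.snd p q) ≫ q = p := by
    rw [Category.assoc, Category.assoc, ← pullback.condition, ← Category.assoc Γ.ι,
      IsIso.inv_hom_id_assoc]
  have hgraph : pullback.lift (𝟙 X) (inv (Γ.ι ≫ pullback.fst p q) ≫ Γ.ι ≫ pullback.snd p q)
      ((Category.id_comp p).trans hfq.symm) = inv (Γ.ι ≫ pullback.fst p q) ≫ Γ.ι := by
    apply pullback.hom_ext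
    · rw [pullback.lift_fst, Category.assoc, IsIso.inv_hom_id]
    · rw [pullback.lift_snd, Category.assoc]
  refine ⟨⟨_, hfq⟩, ?_, ?_⟩
  · change Set.range (pullback.lift (𝟙 X) (inv (Γ.ι ≫ pullback.fst p q) ≫ Γ.ι ≫ pullback.snd p q)
      ((Category.id_comp p).trans hfq.symm)).base = _
    have hs : Function.Surjective (inv (Γ.ι ≫ pullback.fst p q)) :=
      (inv (Γ.ι ≫ pullback.fst p q)).homeomorph.surjective
    rw [hgraph, Scheme.Hom.comp_base, TopCat.coe_comp, Set.range_comp,
      Set.range_eq_univ.mpr hs, Set.image_univ, Scheme.Opens.range_ι]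
  · rintro ⟨f, hf⟩ hrange
    have hrange' : Set.range (pullback.lift (𝟙 X) f ((Category.id_comp p).trans hf.symm)).base ⊆
        Set.range Γ.ι.base := by
      rw [Scheme.Opens.range_ι]; exact hrange.le
    have h1 : IsOpenImmersion.lift Γ.ι (pullback.lift (𝟙 X) f ((Category.id_comp p).trans hf.symm))
        hrange' ≫ Γ.ι = pullback.lift (𝟙 X) f ((Category.id_comp p).trans hf.symm) :=
      IsOpenImmersion.lift_fac _ _ _
    have h2 : IsOpenImmersion.lift Γ.ι (pullback.lift (𝟙 X) f ((Category.id_comp p).trans hf.symm))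
        hrange' = inv (Γ.ι ≫ pullback.fst p q) := by
      rw [← cancel_mono (Γ.ι ≫ pullback.fst p q), IsIso.inv_hom_id, ← Category.assoc, h1,
        pullback.lift_fst]
    apply Subtype.ext
    change f = inv (Γ.ι ≫ pullback.fst p q) ≫ Γ.ι ≫ pullback.snd p q
    rw [← h2, ← Category.assoc, h1, pullback.lift_snd]

end Groth.Agent.Helper7.GraphEt
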