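import Mathlib
import Groth.Prelude.Def_HTop
import Groth.Agent.Lib.Helper7.VCov3

/-! helper7: V coverings by one quasi-compact morphism -/

set_option autoImplicit false
universe w u

namespace Groth.Agent.Helper7.VCov
open CategoryTheory CategoryTheory.Limits AlgebraicGeometry HTop

theorem hasValLift_of_isVCover {T : Scheme.{u}} (E : PreZeroHypercover.{w} T)
    (hE : IsVCover E) : HasValLift E := by
  intro V _ _ g
  obtain ⟨U, hU, hyU, -⟩ := TopologicalSpace.Opens.isBasis_iff_nbhd.mp T.isBasis_affineOpens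
    (show g (IsLocalRing.closedPoint V) ∈ (⊤ : T.Opens) from trivial)
  obtain ⟨g', hg'⟩ := exists_lift_of_closedPoint_mem V g U hyU
  obtain ⟨F, hF, hFref⟩ := hE ⟨U, hU⟩
  obtain ⟨W, hWd, hWv, φ, hφ, j, g'', hg''⟩ := hF.lift V g'
  obtain ⟨i, m, hm⟩ := hFref j
  refine ⟨W, hWd, hWv, φ, hφ, i, g'' ≫ m, ?_⟩
  rw [Category.assoc, hm, ← Category.assoc, hg'', Category.assoc]
  exact congrArg (fun t => Spec.map φ ≫ t) hg'

theorem isVCover_singleton_of_hasValLift {X Y : Scheme.{u}} (f : X ⟶ Y) [QuasiCompact f]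
    (hf : HasValLift (PreZeroHypercover.singleton.{w} f)) :
    IsVCover (PreZeroHypercover.singleton.{w} f) := by
  classical
  intro U
  have hcomp : IsCompact ((f ⁻¹ᵁ (U : Y.Opens) : X.Opens) : Set X) :=
    QuasiCompact.isCompact_preimage (f := f) _ (U : Y.Opens).isOpen U.2.isCompact
  have hpt : ∀ x : X, x ∈ f ⁻¹ᵁ (U : Y.Opens) → ∃ W : X.Opens,
      IsAffineOpen W ∧ x ∈ W ∧ W ≤ f ⁻¹ᵁ (U : Y.Opens) := by
    intro x hx
    obtain ⟨W, hW, hxW, hWU⟩ := TopologicalSpace.Opens.isBasis_iff_nbhd.mp X.isBasis_affineOpens hx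
    exact ⟨W, hW, hxW, hWU⟩
  let Wf : X → X.Opens := fun x => if hx : x ∈ f ⁻¹ᵁ (U : Y.Opens) then (hpt x hx).choose else ⊥
  have hWaff : ∀ x, x ∈ f ⁻¹ᵁ (U : Y.Opens) → IsAffineOpen (Wf x) := by
    intro x hx
    simp only [Wf, dif_pos hx]
    exact (hpt x hx).choose_spec.1
  have hxW : ∀ x, x ∈ f ⁻¹ᵁ (U : Y.Opens) → x ∈ Wf x := by
    intro x hx
    simp only [Wf, dif_pos hx]
    exact (hpt x hx).choose_spec.2.1
  have hWU : ∀ x, Wf x ≤ f ⁻¹ᵁ (U : Y.Opens) := by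
    intro x
    by_cases hx : x ∈ f ⁻¹ᵁ (U : Y.Opens)
    · simp only [Wf, dif_pos hx]
      exact (hpt x hx).choose_spec.2.2
    · simp only [Wf, dif_neg hx]
      exact bot_le
  obtain ⟨t, htsub, ht⟩ := hcomp.elim_finite_subcover_image (b := (f ⁻¹ᵁ (U : Y.Opens) : Set X))
    (c := fun x => (Wf x : Set X)) (fun x _ => (Wf x).isOpen)
    (fun x hx => Set.mem_iUnion₂.mpr ⟨x, hx, hxW x hx⟩)
  have htfin : Finite t := ht.1
  obtain ⟨n, ⟨e⟩⟩ := Finite.exists_equiv_fin t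
  let pt : Fin n → X := fun k => ((e.symm k : t) : X)
  have hpt' : ∀ k, pt k ∈ f ⁻¹ᵁ (U : Y.Opens) := fun k => htsub (e.symm k).2
  let F : PreZeroHypercover.{0} ((U : Y.Opens) : Scheme.{u}) :=
    { I₀ := Fin n
      X := fun k => ((Wf (pt k) : X.Opens) : Scheme.{u})
      f := fun k => f.resLE (U : Y.Opens) (Wf (pt k)) (hWU (pt k)) }
  have hUaff : IsAffine ((U : Y.Opens) : Scheme.{u}) := U.2
  refine ⟨F, ⟨hUaff, inferInstanceAs (Finite (Fin n)), fun k => hWaff (pt k) (hpt' k), ?_⟩, ?_⟩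
  · intro V _ _ g
    obtain ⟨W, hWd, hWv, φ, hφ, j, g', hg'⟩ := hf V (g ≫ (U : Y.Opens).ι)
    let g'' : Spec W ⟶ X := g'
    have hg'' : g'' ≫ f = Spec.map φ ≫ g ≫ (U : Y.Opens).ι := hg'
    have hxU : g'' (IsLocalRing.closedPoint W) ∈ f ⁻¹ᵁ (U : Y.Opens) := by
      change f (g'' (IsLocalRing.closedPoint W)) ∈ (U : Y.Opens)
      rw [← Scheme.Hom.comp_apply, hg'']
      simp only [Scheme.Hom.comp_apply]
      exact ((Spec.map φ ≫ g) (IsLocalRing.closedPoint W)).2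
    obtain ⟨x, hxt, hxmem⟩ := Set.mem_iUnion₂.mp (ht.2 hxU)
    obtain ⟨k, rfl⟩ : ∃ k, pt k = x := ⟨e ⟨x, hxt⟩, by simp [pt]⟩
    obtain ⟨l, hl⟩ := exists_lift_of_closedPoint_mem W g'' (Wf (pt k)) hxmem
    refine ⟨W, hWd, hWv, φ, hφ, k, l, ?_⟩
    rw [← cancel_mono (U : Y.Opens).ι]
    change (l ≫ f.resLE (U : Y.Opens) (Wf (pt k)) (hWU (pt k))) ≫ (U : Y.Opens).ι = _
    rw [Category.assoc, Scheme.Hom.resLE_comp_ι, ← Category.assoc, hl, hg'', Category.assoc]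
  · intro k
    refine ⟨PUnit.unit, (Wf (pt k)).ι, ?_⟩
    change (Wf (pt k)).ι ≫ f = f.resLE (U : Y.Opens) (Wf (pt k)) (hWU (pt k)) ≫ (U : Y.Opens).ι
    rw [Scheme.Hom.resLE_comp_ι]

theorem specializes_lift_of_hasValLift {X Y : Scheme.{u}} (f : X ⟶ Y)
    (hf : HasValLift (PreZeroHypercover.singleton.{w} f))
    (Z : Scheme.{u}) (g : Z ⟶ Y) (z' z : Z) (hz : z' ⤳ z) :
    ∃ w' w : ↑(pullback g f), w' ⤳ w ∧ pullback.fst g f w' = z' ∧ pullback.fst g f w = z := by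
  obtain ⟨A, hAd, hAv, k, hk1, hk2⟩ := exists_valuationRing_of_specializes hz
  obtain ⟨W, hWd, hWv, φ, hφ, j, g', hg'⟩ := hf A (k ≫ g)
  let g'' : Spec W ⟶ X := g'
  have hg'' : g'' ≫ f = Spec.map φ ≫ k ≫ g := hg'
  let l : Spec W ⟶ pullback g f := pullback.lift (Spec.map φ ≫ k) g''
    (by rw [Category.assoc]; exact hg''.symm)
  have hl : l ≫ pullback.fst g f = Spec.map φ ≫ k := pullback.lift_fst _ _ _
  let η : PrimeSpectrum W := ⟨⊥, Ideal.isPrime_bot⟩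
  refine ⟨l η, l (IsLocalRing.closedPoint W), ?_, ?_, ?_⟩
  · exact (IsLocalRing.specializes_closedPoint η).map l.continuous
  · rw [← Scheme.Hom.comp_apply, hl, Scheme.Hom.comp_apply]
    have h1 : Spec.map φ η = (⟨⊥, Ideal.isPrime_bot⟩ : PrimeSpectrum A) := by
      apply PrimeSpectrum.ext
      change Ideal.comap φ.hom ⊥ = ⊥
      exact Ideal.comap_bot_of_injective _ hφ.1
    rw [h1]
    exact hk1
  · rw [← Scheme.Hom.comp_apply, hl, Scheme.Hom.comp_apply]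
    have hloc : IsLocalHom φ.hom := hφ.2
    have h1 : Spec.map φ (IsLocalRing.closedPoint W) = IsLocalRing.closedPoint A :=
      IsLocalRing.comap_closedPoint φ.hom
    rw [h1]
    exact hk2

theorem hasValLift_singleton_of_specializes_lift {X Y : Scheme.{u}} (f : X ⟶ Y)
    (H : ∀ (Z : Scheme.{u}) (g : Z ⟶ Y) (z' z : Z), z' ⤳ z →
      ∃ w' w : ↑(pullback g f), w' ⤳ w ∧ pullback.fst g f w' = z' ∧ pullback.fst g f w = z) :
    HasValLift (PreZeroHypercover.singleton.{w} f) := by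
  intro V _ _ g
  let η : PrimeSpectrum V := ⟨⊥, Ideal.isPrime_bot⟩
  obtain ⟨w', w, hw, hw'1, hw1⟩ := H (Spec V) g η (IsLocalRing.closedPoint V)
    (IsLocalRing.specializes_closedPoint η)
  obtain ⟨W, hWd, hWv, k, hk1, hk2⟩ := exists_valuationRing_of_specializes hw
  obtain ⟨φ, hφ⟩ := Spec.map_surjective (k ≫ pullback.fst g f)
  refine ⟨W, hWd, hWv, φ, ⟨?_, ?_⟩, PUnit.unit, k ≫ pullback.snd g f, ?_⟩
  · rw [RingHom.injective_iff_ker_eq_bot, RingHom.ker_eq_comap_bot]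
    have h1 : Spec.map φ (⟨⊥, Ideal.isPrime_bot⟩ : PrimeSpectrum W) = η := by
      rw [hφ, Scheme.Hom.comp_apply, hk1, hw'1]
    exact congrArg PrimeSpectrum.asIdeal h1
  · have h1 : Spec.map φ (IsLocalRing.closedPoint W) = IsLocalRing.closedPoint V := by
      rw [hφ, Scheme.Hom.comp_apply, hk2, hw1]
    have h2 : (IsLocalRing.maximalIdeal W).comap φ.hom = IsLocalRing.maximalIdeal V :=
      congrArg PrimeSpectrum.asIdeal h1
    exact ((IsLocalRing.local_hom_TFAE φ.hom).out 0 4).mpr h2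
  · change (k ≫ pullback.snd g f) ≫ f = Spec.map φ ≫ g
    rw [Category.assoc, ← pullback.condition, ← Category.assoc, hφ]

end Groth.Agent.Helper7.VCov
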