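import Mathlib
import Groth.Prelude.Def_HTop
import Groth.Agent.Lib.Helper7.VCov4

/-! helper7: valuation ring lifts along flat and along universally closed surjective morphisms -/

set_option autoImplicit false
universe w u

namespace Groth.Agent.Helper7.VCov
open CategoryTheory CategoryTheory.Limits AlgebraicGeometry HTop

/-- a specialization in the fibre product over the specialization of the two points of the
spectrum of a valuation ring gives a lift after an extension of valuation rings -/
theorem exists_extVal_lift_of_specializes {X Y : Scheme.{u}} (f : X ⟶ Y)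
    (V : CommRingCat.{u}) [IsDomain V] [ValuationRing V] (g : Spec V ⟶ Y)
    (w' w : ↑(pullback g f)) (hw : w' ⤳ w)
    (hw'1 : pullback.fst g f w' = (⟨⊥, Ideal.isPrime_bot⟩ : PrimeSpectrum V))
    (hw1 : pullback.fst g f w = IsLocalRing.closedPoint V) :
    ∃ (W : CommRingCat.{u}) (_ : IsDomain W) (_ : ValuationRing W) (φ : V ⟶ W),
      IsExtVal V W φ ∧ ∃ g' : Spec W ⟶ X, g' ≫ f = Spec.map φ ≫ g := by
  obtain ⟨W, hWd, hWv, k, hk1, hk2⟩ := exists_valuationRing_of_specializes hw
  obtain ⟨φ, hφ⟩ := Spec.map_surjective (k ≫ pullback.fst g f)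
  refine ⟨W, hWd, hWv, φ, ⟨?_, ?_⟩, k ≫ pullback.snd g f, ?_⟩
  · rw [RingHom.injective_iff_ker_eq_bot, RingHom.ker_eq_comap_bot]
    have h1 : Spec.map φ (⟨⊥, Ideal.isPrime_bot⟩ : PrimeSpectrum W) =
        (⟨⊥, Ideal.isPrime_bot⟩ : PrimeSpectrum V) := by
      rw [hφ, Scheme.Hom.comp_apply, hk1, hw'1]
    exact congrArg PrimeSpectrum.asIdeal h1
  · have h1 : Spec.map φ (IsLocalRing.closedPoint W) = IsLocalRing.closedPoint V := by
      rw [hφ, Scheme.Hom.comp_apply, hk2, hw1]
    have h2 : (IsLocalRing.maximalIdeal W).comap φ.hom = IsLocalRing.maximalIdeal V :=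
      congrArg PrimeSpectrum.asIdeal h1
    exact ((IsLocalRing.local_hom_TFAE φ.hom).out 0 4).mpr h2
  · rw [Category.assoc, ← pullback.condition, ← Category.assoc, hφ]

/-- lifting along a flat morphism through a point over the closed point -/
theorem exists_extVal_lift_of_flat {X Y : Scheme.{u}} (f : X ⟶ Y) [Flat f]
    (V : CommRingCat.{u}) [IsDomain V] [ValuationRing V] (g : Spec V ⟶ Y)
    (x : X) (hx : f x = g (IsLocalRing.closedPoint V)) :
    ∃ (W : CommRingCat.{u}) (_ : IsDomain W) (_ : ValuationRing W) (φ : V ⟶ W),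
      IsExtVal V W φ ∧ ∃ g' : Spec W ⟶ X, g' ≫ f = Spec.map φ ≫ g := by
  obtain ⟨p, hp1, hp2⟩ := Scheme.Pullback.exists_preimage_pullback (f := g) (g := f)
    (IsLocalRing.closedPoint V) x hx.symm
  have hgen : GeneralizingMap (pullback.fst g f) := Flat.generalizingMap (pullback.fst g f)
  let η : PrimeSpectrum V := ⟨⊥, Ideal.isPrime_bot⟩
  have hη : η ⤳ pullback.fst g f p := by
    rw [hp1]
    exact IsLocalRing.specializes_closedPoint η
  obtain ⟨p', hp'p, hp'η⟩ := hgen hη
  exact exists_extVal_lift_of_specializes f V g p' p hp'p hp'η hp1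

/-- lifting along a universally closed surjective morphism -/
theorem exists_extVal_lift_of_universallyClosed {X Y : Scheme.{u}} (f : X ⟶ Y)
    [UniversallyClosed f] [Surjective f]
    (V : CommRingCat.{u}) [IsDomain V] [ValuationRing V] (g : Spec V ⟶ Y) :
    ∃ (W : CommRingCat.{u}) (_ : IsDomain W) (_ : ValuationRing W) (φ : V ⟶ W),
      IsExtVal V W φ ∧ ∃ g' : Spec W ⟶ X, g' ≫ f = Spec.map φ ≫ g := by
  let η : PrimeSpectrum V := ⟨⊥, Ideal.isPrime_bot⟩
  have hsurj : Function.Surjective (pullback.fst g f) := (pullback.fst g f).surjective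
  obtain ⟨p', hp'η⟩ := hsurj η
  have hcl : IsClosedMap (pullback.fst g f) := (pullback.fst g f).isClosedMap
  have hsp : SpecializingMap (pullback.fst g f) := hcl.specializingMap
  have hη : pullback.fst g f p' ⤳ IsLocalRing.closedPoint V := by
    rw [hp'η]
    exact IsLocalRing.specializes_closedPoint η
  obtain ⟨p, hp'p, hp⟩ := hsp hη
  exact exists_extVal_lift_of_specializes f V g p' p hp'p hp'η hp

end Groth.Agent.Helper7.VCov
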