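import Mathlib
import Groth.Prelude.Def_HTop
import Groth.Agent.Lib.Helper7.VCov7

/-! helper7: standard fpqc and standard ph coverings are standard V coverings -/

set_option autoImplicit false
universe w u

namespace Groth.Agent.Helper7.VCov
open CategoryTheory CategoryTheory.Limits AlgebraicGeometry HTop

theorem isStandardV_of_flat {T : Scheme.{u}} [IsAffine T] (E : PreZeroHypercover.{w} T)
    (hfin : Finite E.I₀) (haff : ∀ j, IsAffine (E.X j)) (hflat : ∀ j, Flat (E.f j))
    (hsurj : ∀ t : T, ∃ (j : E.I₀) (x : E.X j), E.f j x = t) : HTop.IsStandardV E := by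
  refine ⟨inferInstance, hfin, haff, ?_⟩
  intro V _ _ g
  obtain ⟨j, x, hx⟩ := hsurj (g (IsLocalRing.closedPoint V))
  have := hflat j
  obtain ⟨W, hWd, hWv, φ, hφ, g', hg'⟩ := exists_extVal_lift_of_flat (E.f j) V g x hx
  exact ⟨W, hWd, hWv, φ, hφ, j, g', hg'⟩

theorem isStandardV_of_isStandardPh {T : Scheme.{u}} (E : PreZeroHypercover.{w} T)
    (hE : HTop.IsStandardPh E) : HTop.IsStandardV E := by
  refine ⟨hE.isAffine, hE.finite_index, hE.isAffine_obj, ?_⟩
  obtain ⟨U, f, ι, hproper, hsurj, hopen, hι, hcov⟩ := hE.exists_proper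
  intro V _ _ g
  obtain ⟨W, hWd, hWv, φ, hφ, g', hg'⟩ := exists_extVal_lift_of_universallyClosed f V g
  obtain ⟨j, hj⟩ := hcov (g' (IsLocalRing.closedPoint W))
  have := hopen j
  have h1 : g' ⁻¹ᵁ (ι j).opensRange = ⊤ :=
    Scheme.preimage_eq_top_of_closedPoint_mem g' (U := (ι j).opensRange) hj
  have hrange : Set.range g' ⊆ Set.range (ι j) := by
    rintro _ ⟨x, rfl⟩
    have : x ∈ g' ⁻¹ᵁ (ι j).opensRange := by rw [h1]; trivial
    exact this
  refine ⟨W, hWd, hWv, φ, hφ, j, IsOpenImmersion.lift (ι j) g' hrange, ?_⟩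
  rw [← hι j, ← Category.assoc, IsOpenImmersion.lift_fac, hg']

end Groth.Agent.Helper7.VCov
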