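import Mathlib
import Groth.Prelude.Def_HTop
import Groth.Agent.Lib.Helper7.VCov8

/-! helper7: fpqc coverings are V coverings -/

set_option autoImplicit false
universe w u

namespace Groth.Agent.Helper7.VCov
open CategoryTheory CategoryTheory.Limits AlgebraicGeometry HTop

theorem isVCover_of_fpqc {T : Scheme.{u}} (𝒰 : Scheme.Cover.{w} Scheme.fpqcPrecoverage T) :
    HTop.IsVCover 𝒰.toPreZeroHypercover := by
  intro U
  obtain ⟨n, a, V, hVaff, hVeq⟩ := QuasiCompactCover.exists_isAffineOpen_of_isCompact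
    𝒰.toPreZeroHypercover (U := U.1) U.2.isCompact
  have hle : ∀ k, V k ≤ (𝒰.f (a k)) ⁻¹ᵁ U.1 := by
    intro k x hx
    have : 𝒰.f (a k) x ∈ ⋃ i, 𝒰.f (a i) '' (V i) := Set.mem_iUnion.mpr ⟨k, x, hx, rfl⟩
    rw [hVeq] at this
    exact this
  have hflat : ∀ i, Flat (𝒰.f i) := fun i => 𝒰.forgetQc.map_prop i
  let F : PreZeroHypercover.{0} ((U : T.Opens) : Scheme.{u}) :=
    { I₀ := Fin n
      X := fun k => ((V k : (𝒰.X (a k)).Opens) : Scheme.{u})
      f := fun k => (𝒰.f (a k)).resLE U.1 (V k) (hle k) }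
  have hUaff : IsAffine ((U : T.Opens) : Scheme.{u}) := U.2
  refine ⟨F, isStandardV_of_flat F (inferInstanceAs (Finite (Fin n))) (fun k => hVaff k)
    (fun k => ?_) ?_, ?_⟩
  · have := hflat (a k)
    exact inferInstanceAs (Flat ((𝒰.f (a k)).resLE U.1 (V k) (hle k)))
  · intro t
    have : (U : T.Opens).ι t ∈ ⋃ i, 𝒰.f (a i) '' (V i) := by
      rw [hVeq]
      exact t.2
    obtain ⟨k, x, hx, hxt⟩ := Set.mem_iUnion.mp this
    refine ⟨k, ⟨x, hx⟩, ?_⟩
    apply (U : T.Opens).ι.isOpenEmbedding.injective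
    rw [← hxt]
    change ((𝒰.f (a k)).resLE U.1 (V k) (hle k) ≫ (U : T.Opens).ι) ⟨x, hx⟩ = _
    rw [Scheme.Hom.resLE_comp_ι]
    rfl
  · intro k
    refine ⟨a k, (V k).ι, ?_⟩
    change (V k).ι ≫ 𝒰.f (a k) = (𝒰.f (a k)).resLE U.1 (V k) (hle k) ≫ (U : T.Opens).ι
    rw [Scheme.Hom.resLE_comp_ι]

end Groth.Agent.Helper7.VCov
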