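import Mathlib
import Groth.Prelude.Def_HTop
import Groth.Agent.Lib.Helper7.VCov9

/-! helper7: proper surjective finitely presented morphisms are h coverings -/

set_option autoImplicit false
universe w u

namespace Groth.Agent.Helper7.VCov
open CategoryTheory CategoryTheory.Limits AlgebraicGeometry HTop

theorem hasValLift_singleton_of_universallyClosed {X Y : Scheme.{u}} (f : Y ⟶ X)
    [UniversallyClosed f] [Surjective f] : HasValLift (PreZeroHypercover.singleton.{w} f) := by
  intro V _ _ g
  obtain ⟨W, hWd, hWv, φ, hφ, g', hg'⟩ := exists_extVal_lift_of_universallyClosed f V g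
  exact ⟨W, hWd, hWv, φ, hφ, PUnit.unit, g', hg'⟩

theorem isHCover_singleton_of_isProper {X Y : Scheme.{u}} (f : Y ⟶ X) [IsProper f] [Surjective f]
    [LocallyOfFinitePresentation f] : HTop.IsHCover (PreZeroHypercover.singleton.{w} f) := by
  refine ⟨fun _ => ‹LocallyOfFinitePresentation f›, ?_⟩
  exact isVCover_singleton_of_hasValLift f (hasValLift_singleton_of_universallyClosed f)

end Groth.Agent.Helper7.VCov
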