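import Mathlib
import Groth.Prelude.Def_HTop
import Groth.Prelude.Def_MoreMor
import Groth.Agent.Lib.Helper7.VCov10

set_option autoImplicit false
set_option linter.unusedVariables false
set_option linter.style.haveILetI false
universe w v u

open CategoryTheory AlgebraicGeometry Opposite Limits

/-! helper7: h and ph sheaves take the same sections on a thickening (S8988, S8991). -/

namespace Groth.Agent.Helper7.HSheafThick

theorem sheaf_map_bijective_of_mono {C : Type*} [Category C] (J : GrothendieckTopology C)
    (F : Sheaf J (Type w)) {X X' : C} (f : X ⟶ X') [Mono f]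
    (h : Sieve.generate (Presieve.singleton f) ∈ J X') : Function.Bijective (F.obj.map f.op) := by
  have hs : Presieve.IsSheaf J F.obj := (isSheaf_iff_isSheaf_of_type _ _).mp F.property
  have h1 : Presieve.IsSheafFor F.obj (Presieve.singleton f) := by
    rw [Presieve.isSheafFor_iff_generate]
    exact hs _ h
  rw [Presieve.isSheafFor_singleton] at h1
  have key : ∀ x, ∃! y, F.obj.map f.op y = x := fun x => h1 x (by
    intro Z p₁ p₂ hp
    rw [(cancel_mono f).mp hp])
  constructor
  · intro a b hab
    obtain ⟨y, hy, huniq⟩ := key (F.obj.map f.op b)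
    rw [huniq a hab, huniq b rfl]
  · intro x
    obtain ⟨y, hy, _⟩ := key x
    exact ⟨y, hy⟩

theorem generate_singleton_mem_over (S : Scheme.{u}) (K : Precoverage Scheme.{u}) {X X' : Over S}
    (f : X ⟶ X') (h : Presieve.singleton f.left ∈ K X'.left) :
    Sieve.generate (Presieve.singleton f) ∈ (K.toGrothendieck.over S) X' := by
  rw [GrothendieckTopology.mem_over_iff, Sieve.overEquiv_generate]
  refine GrothendieckTopology.superset_covering _ ?_ (Precoverage.generate_mem_toGrothendieck h)
  rw [Sieve.generate_le_iff]
  rintro Z g ⟨⟩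
  have hmem : Presieve.functorPushforward (Over.forget S) (Presieve.singleton f) f.left :=
    ⟨X, f, 𝟙 _, Presieve.singleton.mk, by simp⟩
  exact Sieve.le_generate (Presieve.functorPushforward (Over.forget S) (Presieve.singleton f)) _ _ hmem

lemma mono_over_of_mono_left {S : Scheme.{u}} {X X' : Over S} (f : X ⟶ X') [Mono f.left] :
    Mono f := by
  constructor
  intro Z a b hab
  apply Over.OverMorphism.ext
  rw [← cancel_mono f.left]
  exact congrArg CommaMorphism.left hab

theorem S8988_main (S : Scheme.{u}) (F : HTop.ShH S) {X X' : Over S} (f : X ⟶ X')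
    (hf : MoreMor.IsThickening f.left) [LocallyOfFinitePresentation f.left] :
    Function.Bijective (F.obj.map f.op) := by
  obtain ⟨hcl, hsurj⟩ := hf
  haveI := hcl
  haveI := hsurj
  haveI : Mono f := mono_over_of_mono_left f
  apply sheaf_map_bijective_of_mono
  apply generate_singleton_mem_over
  rw [← PreZeroHypercover.presieve₀_singleton.{_, _, 0}, HTop.presieve₀_mem_hPrecoverage_iff]
  exact Groth.Agent.Helper7.VCov.isHCover_singleton_of_isProper f.left

set_option backward.isDefEq.respectTransparency false in
theorem isPhCover_singleton_of_thickening {X X' : Scheme.{u}} (f : X ⟶ X') [IsClosedImmersion f]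
    [Surjective f] : HTop.IsPhCover (PreZeroHypercover.singleton.{0} f) := by
  refine ⟨fun _ => (inferInstance : LocallyOfFiniteType f), ?_⟩
  intro U
  refine ⟨PreZeroHypercover.singleton.{0} (f ∣_ (U : X'.Opens)), ?_, ?_⟩
  · refine ⟨U.2, (show Finite PUnit from inferInstance), fun _ => ?_, ?_⟩
    · exact (U.2.preimage f : IsAffineOpen (f ⁻¹ᵁ (U : X'.Opens)))
    · refine ⟨(f ⁻¹ᵁ (U : X'.Opens) : Scheme.{u}), f ∣_ (U : X'.Opens), fun _ => 𝟙 _, ?_, ?_,
        fun _ => ?_, fun _ => ?_, fun x => ⟨PUnit.unit, ?_⟩⟩
      · infer_instance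
      · exact MorphismProperty.of_isPullback (isPullback_morphismRestrict f (U : X'.Opens)).flip
          (inferInstance : Surjective f)
      · exact (inferInstance : IsOpenImmersion (𝟙 (f ⁻¹ᵁ (U : X'.Opens) : Scheme.{u})))
      · exact Category.id_comp _
      · exact ⟨x, rfl⟩
  · intro j
    exact ⟨PUnit.unit, (f ⁻¹ᵁ (U : X'.Opens)).ι, (morphismRestrict_ι f (U : X'.Opens)).symm⟩

theorem S8991_main (S : Scheme.{u}) (F : HTop.ShPh S) {X X' : Over S} (f : X ⟶ X')
    (hf : MoreMor.IsThickening f.left) :
    Function.Bijective (F.obj.map f.op) := by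
  obtain ⟨hcl, hsurj⟩ := hf
  haveI := hcl
  haveI := hsurj
  haveI : Mono f := mono_over_of_mono_left f
  apply sheaf_map_bijective_of_mono
  apply generate_singleton_mem_over
  rw [← PreZeroHypercover.presieve₀_singleton.{_, _, 0}, HTop.presieve₀_mem_phPrecoverage_iff]
  exact isPhCover_singleton_of_thickening f.left

end Groth.Agent.Helper7.HSheafThick
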