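import Mathlib
import Groth.Agent.Lib.Helper7.Hens.Structure

set_option autoImplicit false
set_option linter.style.haveILetI false
set_option linter.unusedVariables false

open CategoryTheory

/-! helper7: etale neighbourhoods of V(I) with A/I = A'/IA' form a directed system (S19567). -/

namespace Groth.Agent.Helper7.HensDirected

universe u

open Groth.Agent.Helper7.Hens

variable {A : Type u} [CommRing A] {I : Ideal A}

/-- The canonical section of an étale algebra `E` with `A/I → E/IE` bijective. -/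
noncomputable def secOf (E : Type u) [CommRing E] [Algebra A E]
    (hb : Function.Bijective (Ideal.quotientMap (I.map (algebraMap A E)) (algebraMap A E)
      Ideal.le_comap_map)) : E →ₐ[A] A ⧸ I :=
  { ((RingEquiv.ofBijective _ hb).symm.toRingHom.comp
      (Ideal.Quotient.mk (I.map (algebraMap A E)))) with
    commutes' := fun a => by
      show (RingEquiv.ofBijective _ hb).symm (Ideal.Quotient.mk _ (algebraMap A E a)) = _
      rw [RingEquiv.symm_apply_eq]
      rfl }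

theorem secOf_eq_zero_iff (E : Type u) [CommRing E] [Algebra A E]
    (hb : Function.Bijective (Ideal.quotientMap (I.map (algebraMap A E)) (algebraMap A E)
      Ideal.le_comap_map)) (x : E) : secOf E hb x = 0 ↔ x ∈ I.map (algebraMap A E) := by
  show (RingEquiv.ofBijective _ hb).symm (Ideal.Quotient.mk _ x) = 0 ↔ _
  rw [map_eq_zero_iff _ (RingEquiv.ofBijective _ hb).symm.injective, Ideal.Quotient.eq_zero_iff_mem]

/-- Any `A`-algebra map to `A/I` agrees with the canonical section. -/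
theorem algHom_eq_secOf (E : Type u) [CommRing E] [Algebra A E]
    (hb : Function.Bijective (Ideal.quotientMap (I.map (algebraMap A E)) (algebraMap A E)
      Ideal.le_comap_map)) (σ : E →ₐ[A] A ⧸ I) : σ = secOf E hb := by
  ext x
  obtain ⟨abar, ha⟩ := hb.2 (Ideal.Quotient.mk _ x)
  obtain ⟨a, rfl⟩ := Ideal.Quotient.mk_surjective abar
  rw [Ideal.quotientMap_mk, Ideal.Quotient.eq] at ha
  have h1 : σ (algebraMap A E a - x) = 0 := algHom_quot_eq_zero σ ha
  have h2 : secOf E hb (algebraMap A E a - x) = 0 := algHom_quot_eq_zero _ ha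
  rw [map_sub, AlgHom.commutes, sub_eq_zero] at h1 h2
  rw [← h1, ← h2]

theorem exists_tight_of (Z : Nbhd A I) :
    ∃ (A₃ : Type u) (_ : CommRing A₃) (_ : Algebra A A₃) (_ : Algebra.Etale A A₃),
      Function.Bijective (Ideal.quotientMap (I.map (algebraMap A A₃)) (algebraMap A A₃)
        Ideal.le_comap_map) ∧ Nonempty (Z.Ring →ₐ[A] A₃) := by
  obtain ⟨Y, f, hY⟩ := exists_tight Z
  exact ⟨Y.Ring, inferInstance, inferInstance, inferInstance, bijective_of_tight Y hY,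
    ⟨(f : Nbhd.Hom Z Y).toAlgHom⟩⟩

theorem S19567_main (A : Type u) [CommRing A] (I : Ideal A) :
    (∀ (A₁ A₂ : Type u) [CommRing A₁] [Algebra A A₁] [Algebra.Etale A A₁] [CommRing A₂]
        [Algebra A A₂] [Algebra.Etale A A₂],
        Function.Bijective (Ideal.quotientMap (I.map (algebraMap A A₁)) (algebraMap A A₁)
          Ideal.le_comap_map) →
        Function.Bijective (Ideal.quotientMap (I.map (algebraMap A A₂)) (algebraMap A A₂)
          Ideal.le_comap_map) →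
          ∃ (A₃ : Type u) (_ : CommRing A₃) (_ : Algebra A A₃) (_ : Algebra.Etale A A₃),
            Function.Bijective (Ideal.quotientMap (I.map (algebraMap A A₃)) (algebraMap A A₃)
              Ideal.le_comap_map) ∧
              Nonempty (A₁ →ₐ[A] A₃) ∧ Nonempty (A₂ →ₐ[A] A₃)) ∧
    (∀ (A₁ A₂ : Type u) [CommRing A₁] [Algebra A A₁] [Algebra.Etale A A₁] [CommRing A₂]
        [Algebra A A₂] [Algebra.Etale A A₂],
        Function.Bijective (Ideal.quotientMap (I.map (algebraMap A A₁)) (algebraMap A A₁)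
          Ideal.le_comap_map) →
        Function.Bijective (Ideal.quotientMap (I.map (algebraMap A A₂)) (algebraMap A A₂)
          Ideal.le_comap_map) →
          ∀ (f g : A₁ →ₐ[A] A₂),
            ∃ (A₃ : Type u) (_ : CommRing A₃) (_ : Algebra A A₃) (_ : Algebra.Etale A A₃),
              Function.Bijective (Ideal.quotientMap (I.map (algebraMap A A₃)) (algebraMap A A₃)
                Ideal.le_comap_map) ∧
                ∃ h : A₂ →ₐ[A] A₃, h.comp f = h.comp g) := by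
  constructor
  · intro A₁ A₂ _ _ _ _ _ _ hb₁ hb₂
    let s₁ := secOf A₁ hb₁
    let s₂ := secOf A₂ hb₂
    obtain ⟨Z, k₁, k₂, -⟩ := Nbhd.exists_cocone_objs (Nbhd.of A₁ s₁) (Nbhd.of A₂ s₂)
    obtain ⟨A₃, i₁, i₂, i₃, hb₃, ⟨φ⟩⟩ := exists_tight_of Z
    refine ⟨A₃, i₁, i₂, i₃, hb₃, ⟨?_⟩, ⟨?_⟩⟩
    · exact (φ.comp (k₁ : Nbhd.Hom _ Z).toAlgHom).comp (Nbhd.ofEquiv A₁ s₁).symm.toAlgHom
    · exact (φ.comp (k₂ : Nbhd.Hom _ Z).toAlgHom).comp (Nbhd.ofEquiv A₂ s₂).symm.toAlgHom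
  · intro A₁ A₂ _ _ _ _ _ _ hb₁ hb₂ f g
    let s₁ := secOf A₁ hb₁
    let s₂ := secOf A₂ hb₂
    have hf : s₂.comp f = s₁ := algHom_eq_secOf A₁ hb₁ _
    have hg : s₂.comp g = s₁ := algHom_eq_secOf A₁ hb₁ _
    let X₁ := Nbhd.of A₁ s₁
    let X₂ := Nbhd.of A₂ s₂
    have hcomm : ∀ φ : A₁ →ₐ[A] A₂, s₂.comp φ = s₁ →
        s₂.comp (φ.comp (Nbhd.ofEquiv A₁ s₁).toAlgHom) = X₁.sec := by
      intro φ hφ
      rw [← AlgHom.comp_assoc, hφ]
      exact Nbhd.of_sec A₁ s₁
    let f' : X₁ ⟶ X₂ := Nbhd.homOf A₂ s₂ (f.comp (Nbhd.ofEquiv A₁ s₁).toAlgHom) (hcomm f hf)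
    let g' : X₁ ⟶ X₂ := Nbhd.homOf A₂ s₂ (g.comp (Nbhd.ofEquiv A₁ s₁).toAlgHom) (hcomm g hg)
    obtain ⟨Z, h, hh⟩ := Nbhd.exists_cocone_maps X₁ X₂ f' g'
    obtain ⟨A₃, i₁, i₂, i₃, hb₃, ⟨φ⟩⟩ := exists_tight_of Z
    refine ⟨A₃, i₁, i₂, i₃, hb₃,
      (φ.comp (h : Nbhd.Hom X₂ Z).toAlgHom).comp (Nbhd.ofEquiv A₂ s₂).symm.toAlgHom, ?_⟩
    ext x
    simp only [AlgHom.comp_apply]
    congr 1
    have h1 := congrArg (fun k : X₁ ⟶ Z => (k : Nbhd.Hom X₁ Z).toAlgHom
      ((Nbhd.ofEquiv A₁ s₁).symm x)) hh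
    simp only [Nbhd.comp_toAlgHom, AlgHom.comp_apply] at h1
    have hf' : (f' : Nbhd.Hom X₁ X₂).toAlgHom ((Nbhd.ofEquiv A₁ s₁).symm x)
        = (Nbhd.ofEquiv A₂ s₂).symm (f x) := by
      apply (Nbhd.ofEquiv A₂ s₂).injective
      rw [Nbhd.ofEquiv_homOf]
      simp
    have hg' : (g' : Nbhd.Hom X₁ X₂).toAlgHom ((Nbhd.ofEquiv A₁ s₁).symm x)
        = (Nbhd.ofEquiv A₂ s₂).symm (g x) := by
      apply (Nbhd.ofEquiv A₂ s₂).injective
      rw [Nbhd.ofEquiv_homOf]
      simp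
    rw [hf', hg'] at h1
    exact h1

end Groth.Agent.Helper7.HensDirected
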