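import Mathlib
import Groth.Agent.Lib.Helper7.Hensel.QuasiFiniteSplit

set_option autoImplicit false
set_option linter.style.haveILetI false
set_option linter.unusedVariables false

open CategoryTheory CategoryTheory.Limits AlgebraicGeometry TopologicalSpace

/-! helper7: finite parts of quasi-finite separated schemes over a local ring: functoriality, uniqueness, products (S17461, S17462). -/

namespace Groth.Agent.Helper7.HensFinPart

universe u

variable {R : Type u} [CommRing R] [IsLocalRing R]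

/-- A closed subset of the source of a closed map to the spectrum of a local ring that misses
the closed fibre is empty. -/
theorem eq_empty_of_isClosedMap {P : Scheme.{u}} (p : P ⟶ Spec (CommRingCat.of R))
    (hp : IsClosedMap p.base) (Z : Set P) (hZ : IsClosed Z)
    (hmiss : ∀ z ∈ Z, p.base z ≠ IsLocalRing.closedPoint R) : Z = ∅ := by
  by_contra hne
  obtain ⟨z, hz⟩ := Set.nonempty_iff_ne_empty.mpr hne
  have hcl : IsClosed (p.base '' Z) := hp Z hZ
  have hmem : IsLocalRing.closedPoint R ∈ p.base '' Z :=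
    (IsLocalRing.specializes_closedPoint (p.base z)).mem_closed hcl ⟨z, hz, rfl⟩
  obtain ⟨w, hw, hw'⟩ := hmem
  exact hmiss w hw hw'

/-- Variant for an open subscheme finite over the base. -/
theorem eq_empty_of_subset_opens {X : Scheme.{u}} (f : X ⟶ Spec (CommRingCat.of R))
    (W : X.Opens) [IsFinite (W.ι ≫ f)] (Z : Set X) (hZ : IsClosed Z) (hZW : Z ⊆ W)
    (hmiss : ∀ z ∈ Z, f.base z ≠ IsLocalRing.closedPoint R) : Z = ∅ := by
  have h1 : W.ι.base ⁻¹' Z = ∅ := by
    apply eq_empty_of_isClosedMap (W.ι ≫ f) (W.ι ≫ f).isClosedMap _ (hZ.preimage W.ι.continuous)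
    intro z hz
    exact hmiss _ hz
  by_contra hne
  obtain ⟨z, hz⟩ := Set.nonempty_iff_ne_empty.mpr hne
  have : (⟨z, hZW hz⟩ : W) ∈ W.ι.base ⁻¹' Z := by
    show W.ι.base ⟨z, hZW hz⟩ ∈ Z
    simpa using hz
  rw [h1] at this
  exact this

theorem S17461_main
    {X Y : Scheme.{u}} (f : X ⟶ Spec (CommRingCat.of R)) (f' : Y ⟶ Spec (CommRingCat.of R))
    (WX : X.Opens) (hWX : (IsClosed (WX : Set ↥X) ∧ IsFinite (WX.ι ≫ f) ∧
      ∀ x : ↥X, f.base x = IsLocalRing.closedPoint R → x ∈ WX))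
    (WY : Y.Opens) (hWY : (IsClosed (WY : Set ↥Y) ∧ IsFinite (WY.ι ≫ f') ∧
      ∀ x : ↥Y, f'.base x = IsLocalRing.closedPoint R → x ∈ WY))
    (g : X ⟶ Y) (hg : g ≫ f' = f) (x : X) (hx : x ∈ WX) :
    g.base x ∈ WY := by
  haveI := hWX.2.1
  have hZ : ((WX : Set X) ∩ g.base ⁻¹' (WY : Set Y)ᶜ) = ∅ := by
    apply eq_empty_of_subset_opens f WX _
      (hWX.1.inter ((WY.2.isClosed_compl).preimage g.continuous)) Set.inter_subset_left
    intro z hz hzc
    apply hz.2
    apply hWY.2.2
    rw [← hzc, ← hg]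
    rfl
  by_contra hcon
  have : x ∈ ((WX : Set X) ∩ g.base ⁻¹' (WY : Set Y)ᶜ) := ⟨hx, hcon⟩
  rw [hZ] at this
  exact this

theorem finPart_unique {X : Scheme.{u}} (f : X ⟶ Spec (CommRingCat.of R))
    (W W' : X.Opens)
    (hW : IsClosed (W : Set X) ∧ IsFinite (W.ι ≫ f) ∧
      ∀ x : X, f.base x = IsLocalRing.closedPoint R → x ∈ W)
    (hW' : IsClosed (W' : Set X) ∧ IsFinite (W'.ι ≫ f) ∧
      ∀ x : X, f.base x = IsLocalRing.closedPoint R → x ∈ W') : W = W' := by
  apply le_antisymm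
  · intro x hx
    have := S17461_main f f W hW W' hW' (𝟙 X) (by simp) x hx
    simpa using this
  · intro x hx
    have := S17461_main f f W' hW' W hW (𝟙 X) (by simp) x hx
    simpa using this

set_option backward.isDefEq.respectTransparency false in
theorem S17462_main
    {X Y : Scheme.{u}} (f : X ⟶ Spec (CommRingCat.of R)) (f' : Y ⟶ Spec (CommRingCat.of R))
    (WX : X.Opens) (hWX : (IsClosed (WX : Set ↥X) ∧ IsFinite (WX.ι ≫ f) ∧
      ∀ x : ↥X, f.base x = IsLocalRing.closedPoint R → x ∈ WX))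
    (WY : Y.Opens) (hWY : (IsClosed (WY : Set ↥Y) ∧ IsFinite (WY.ι ≫ f') ∧
      ∀ x : ↥Y, f'.base x = IsLocalRing.closedPoint R → x ∈ WY))
    (W : (pullback f f').Opens)
    (hW : (IsClosed (W : Set ↥(pullback f f')) ∧ IsFinite (W.ι ≫ (pullback.fst f f' ≫ f)) ∧
      ∀ x : ↥(pullback f f'), (pullback.fst f f' ≫ f).base x = IsLocalRing.closedPoint R → x ∈ W))
    (z : ↥(pullback f f')) :
    z ∈ W ↔ ((pullback.fst f f').base z ∈ WX ∧ (pullback.snd f f').base z ∈ WY) := by
  constructor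
  · intro hz
    exact ⟨S17461_main (pullback.fst f f' ≫ f) f W hW WX hWX (pullback.fst f f') rfl z hz,
      S17461_main (pullback.fst f f' ≫ f) f' W hW WY hWY (pullback.snd f f')
        pullback.condition.symm z hz⟩
  · rintro ⟨h1, h2⟩
    haveI := hWX.2.1
    haveI := hWY.2.1
    let m := pullback.map (WX.ι ≫ f) (WY.ι ≫ f') f f' WX.ι WY.ι (𝟙 _) (by simp) (by simp)
    have hrange := Scheme.Pullback.range_map (f := WX.ι ≫ f) (g := WY.ι ≫ f') f f' WX.ι WY.ι (𝟙 _)
      (by simp) (by simp)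
    have hzm : z ∈ Set.range m := by
      rw [hrange]
      refine ⟨?_, ?_⟩
      · show (pullback.fst f f').base z ∈ Set.range WX.ι
        rw [Scheme.Opens.range_ι]; exact h1
      · show (pullback.snd f f').base z ∈ Set.range WY.ι
        rw [Scheme.Opens.range_ι]; exact h2
    obtain ⟨w, rfl⟩ := hzm
    let p := pullback.fst (WX.ι ≫ f) (WY.ι ≫ f') ≫ WX.ι ≫ f
    have hp : IsFinite p := by dsimp only [p]; infer_instance
    have hmp : m ≫ pullback.fst f f' ≫ f = p := by
      simp [m, p]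
    have hZ : m.base ⁻¹' (W : Set ↥(pullback f f'))ᶜ = ∅ := by
      apply eq_empty_of_isClosedMap p p.isClosedMap _ ((W.2.isClosed_compl).preimage m.continuous)
      intro w' hw' hw''
      apply hw'
      apply hW.2.2
      rw [← hw'', ← hmp]
      rfl
    by_contra hcon
    have : w ∈ m.base ⁻¹' (W : Set ↥(pullback f f'))ᶜ := hcon
    rw [hZ] at this
    exact this

end Groth.Agent.Helper7.HensFinPart
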