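import Mathlib
import Groth.Agent.Lib.Helper7.HensFinPart
import Groth.Agent.Lib.Helper7.Hensel.QuasiFiniteSplit

set_option autoImplicit false
set_option linter.style.haveILetI false
set_option linter.unusedVariables false

open CategoryTheory CategoryTheory.Limits AlgebraicGeometry TopologicalSpace

/-! helper7: existence of the finite part of a quasi-finite separated scheme over a henselian local ring (S17447). -/

namespace Groth.Agent.Helper7.HensFinPart

universe u

open Groth.Agent.Helper7.Hensel

variable {R : Type u} [CommRing R] [HenselianLocalRing R]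

set_option backward.isDefEq.respectTransparency false in
theorem exists_finite_open_nhd {X : Scheme.{u}} (f : X ⟶ Spec (CommRingCat.of R))
    [LocallyQuasiFinite f] [LocallyOfFiniteType f] (x : X)
    (hx : f.base x = IsLocalRing.closedPoint R) :
    ∃ (T : Scheme.{u}) (h : T ⟶ X), IsOpenImmersion h ∧ x ∈ Set.range h.base ∧
      IsFinite (h ≫ f) := by
  classical
  obtain ⟨_, ⟨V, hV, rfl⟩, hxV, -⟩ := X.isBasis_affineOpens.exists_subset_of_mem_open
    (Set.mem_univ x) isOpen_univ
  let g : Spec Γ(X, V) ⟶ Spec (CommRingCat.of R) := hV.fromSpec ≫ f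
  let ψ : CommRingCat.of R ⟶ Γ(X, V) := Spec.preimage g
  have hψ : Spec.map ψ = g := Spec.map_preimage g
  have hft : ψ.hom.FiniteType := by
    have : LocallyOfFiniteType (Spec.map ψ) := by rw [hψ]; infer_instance
    exact (HasRingHomProperty.Spec_iff (P := @LocallyOfFiniteType)).mp this
  have hqf : ψ.hom.QuasiFinite := by
    have : LocallyQuasiFinite (Spec.map ψ) := by rw [hψ]; infer_instance
    exact (HasRingHomProperty.Spec_iff (P := @LocallyQuasiFinite)).mp this
  letI : Algebra R Γ(X, V) := ψ.hom.toAlgebra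
  haveI : Algebra.FiniteType R Γ(X, V) := hft
  haveI : Algebra.QuasiFinite R Γ(X, V) := hqf
  let q : PrimeSpectrum Γ(X, V) := hV.primeIdealOf ⟨x, hxV⟩
  have hq : hV.fromSpec.base q = x := hV.fromSpec_primeIdealOf ⟨x, hxV⟩
  have hgq : (Spec.map ψ).base q = IsLocalRing.closedPoint R := by
    rw [hψ]
    show f.base (hV.fromSpec.base q) = _
    rw [hq, hx]
  have hle : (IsLocalRing.maximalIdeal R).map (algebraMap R Γ(X, V)) ≤ q.asIdeal := by
    rw [Ideal.map_le_iff_le_comap]
    have := congrArg PrimeSpectrum.asIdeal hgq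
    exact this.ge
  obtain ⟨e, he, hfin, hnot⟩ := exists_idempotent_split R Γ(X, V) {q}
    (fun q' _ => inferInstance)
  have heq : e ∉ q.asIdeal := hnot q (Finset.mem_singleton_self q) hle
  let J : Ideal Γ(X, V) := Ideal.span {1 - e}
  haveI : IsLocalization.Away e (Γ(X, V) ⧸ J) :=
    IsLocalization.away_of_isIdempotentElem he (by
      rw [Ideal.Quotient.algebraMap_eq, Ideal.mk_ker]) Ideal.Quotient.mk_surjective
  have hopen : IsOpenImmersion
      (Spec.map (CommRingCat.ofHom (algebraMap Γ(X, V) (Γ(X, V) ⧸ J)))) :=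
    IsOpenImmersion.of_isLocalization e
  let h : Spec (CommRingCat.of (Γ(X, V) ⧸ J)) ⟶ X :=
    Spec.map (CommRingCat.ofHom (algebraMap Γ(X, V) (Γ(X, V) ⧸ J))) ≫ hV.fromSpec
  refine ⟨_, h, inferInstance, ?_, ?_⟩
  · have h1e : 1 - e ∈ q.asIdeal := by
      have : e * (1 - e) ∈ q.asIdeal := by
        rw [mul_sub, mul_one, he.eq, sub_self]; exact zero_mem _
      exact (q.isPrime.mem_or_mem this).resolve_left heq
    have hqr : q ∈ Set.range (PrimeSpectrum.comap (algebraMap Γ(X, V) (Γ(X, V) ⧸ J))) := by
      rw [Ideal.Quotient.algebraMap_eq,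
        _root_.range_comap_of_surjective _ _ Ideal.Quotient.mk_surjective,
        Ideal.mk_ker, PrimeSpectrum.mem_zeroLocus]
      intro y hy
      exact (Ideal.span_le (I := q.asIdeal)).mpr (by simpa using h1e) hy
    obtain ⟨q', hq'⟩ := hqr
    refine ⟨q', ?_⟩
    show hV.fromSpec.base ((Spec.map (CommRingCat.ofHom
      (algebraMap Γ(X, V) (Γ(X, V) ⧸ J)))).base q') = x
    rw [← hq]
    congr 1
  · have hcomp : h ≫ f = Spec.map (CommRingCat.ofHom (algebraMap R (Γ(X, V) ⧸ J))) := by
      show (Spec.map _ ≫ hV.fromSpec) ≫ f = _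
      rw [Category.assoc]
      show Spec.map _ ≫ g = _
      rw [← hψ, ← Spec.map_comp]
      rfl
    rw [hcomp, IsFinite.SpecMap_iff]
    exact RingHom.finite_algebraMap.mpr hfin

set_option backward.isDefEq.respectTransparency false in
theorem exists_finPart {X : Scheme.{u}} (f : X ⟶ Spec (CommRingCat.of R))
    [LocallyQuasiFinite f] [LocallyOfFiniteType f] [QuasiCompact f] [IsSeparated f] :
    ∃ W : X.Opens, IsClosed (W : Set X) ∧ IsFinite (W.ι ≫ f) ∧
      ∀ x : X, f.base x = IsLocalRing.closedPoint R → x ∈ W := by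
  classical
  have hfinite : (f.base ⁻¹' {IsLocalRing.closedPoint R}).Finite :=
    f.finite_preimage_singleton _
  let ι := {x : X // f.base x = IsLocalRing.closedPoint R}
  haveI : Finite ι := hfinite.to_subtype
  choose T h hopen hmem hfin using fun x : ι => exists_finite_open_nhd f x.1 x.2
  haveI := hopen
  let W : X.Opens := ⨆ x : ι, (h x).opensRange
  let j := f.toNormalization
  let π := f.fromNormalization
  have hjπ : j ≫ π = f := f.toNormalization_fromNormalization
  haveI : IsOpenImmersion j := inferInstance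
  have hclosedN : IsClosed (j.base '' (W : Set X)) := by
    have hWU : j.base '' (W : Set X) = ⋃ x : ι, Set.range (h x ≫ j).base := by
      simp only [W, Opens.coe_iSup, Set.image_iUnion, Scheme.Hom.coe_opensRange]
      congr 1
      ext x
      rw [Scheme.Hom.comp_base, TopCat.coe_comp, Set.range_comp]
    rw [hWU]
    apply isClosed_iUnion_of_finite
    intro x
    haveI : IsFinite ((h x ≫ j) ≫ π) := by rw [Category.assoc, hjπ]; exact hfin x
    haveI : IsFinite (h x ≫ j) := IsFinite.of_comp (h x ≫ j) π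
    exact (h x ≫ j).isClosedMap.isClosed_range
  refine ⟨W, ?_, ?_, ?_⟩
  · have hW : (W : Set X) = j.base ⁻¹' (j.base '' (W : Set X)) :=
      (Set.preimage_image_eq _ j.isOpenEmbedding.injective).symm
    rw [hW]
    exact hclosedN.preimage j.continuous
  · haveI : IsClosedImmersion (W.ι ≫ j) := by
      apply IsClosedImmersion.of_isPreimmersion
      rw [Scheme.Hom.comp_base, TopCat.coe_comp, Set.range_comp, Scheme.Opens.range_ι]
      exact hclosedN
    haveI : IsIntegralHom (W.ι ≫ f) := by
      rw [← hjπ, ← Category.assoc]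
      infer_instance
    exact (IsFinite.iff_isIntegralHom_and_locallyOfFiniteType _).mpr ⟨inferInstance, inferInstance⟩
  · intro x hx
    exact (Opens.mem_iSup).mpr ⟨⟨x, hx⟩, hmem ⟨x, hx⟩⟩

theorem S17447_main (R : Type u) [CommRing R] [HenselianLocalRing R]
    {X : Scheme.{u}} (f : X ⟶ Spec (CommRingCat.of R))
    [LocallyQuasiFinite f] [LocallyOfFiniteType f] [QuasiCompact f] [IsSeparated f] :
    ∃! W : X.Opens, IsClosed (W : Set X) ∧ IsFinite (W.ι ≫ f) ∧
      ∀ x : X, f.base x = IsLocalRing.closedPoint R → x ∈ W := by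
  obtain ⟨W, hW⟩ := exists_finPart f
  exact ⟨W, hW, fun W' hW' => finPart_unique f W' W hW' hW⟩

end Groth.Agent.Helper7.HensFinPart
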