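import Mathlib
import Groth.Agent.Lib.Helper7.HensFinPart2
import Groth.Agent.Lib.Helper7.Hensel.EtaleLift
import Groth.Agent.Lib.Helper7.Hensel.Local

set_option autoImplicit false
set_option linter.style.haveILetI false
set_option linter.unusedVariables false

open CategoryTheory CategoryTheory.Limits AlgebraicGeometry TopologicalSpace

/-! helper7: etale morphisms are locally quasi-finite; sections of etale schemes over henselian local rings through residue points; finite etale covers inside etale covers (S18026, S17448). -/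

namespace Groth.Agent.Helper7.HensFinPart

universe u

theorem locallyQuasiFinite_of_etale {X Y : Scheme.{u}} (f : X ⟶ Y) [Etale f] :
    LocallyQuasiFinite f := by
  rw [HasRingHomProperty.iff_appLE (P := @LocallyQuasiFinite)]
  intro U V e
  have h : (f.appLE U.1 V.1 e).hom.Etale := HasRingHomProperty.appLE (P := @Etale) f inferInstance U V e
  algebraize [(f.appLE U.1 V.1 e).hom]
  exact inferInstanceAs (Algebra.QuasiFinite _ _)

set_option backward.isDefEq.respectTransparency false in
theorem S18026_main
    (A : Type u) [CommRing A] [HenselianLocalRing A]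
    (T : Scheme.{u}) (f : T ⟶ Spec (CommRingCat.of A)) [Etale f] [Surjective f] :
    ∃ U : T.Opens, IsFinite (U.ι ≫ f) ∧ Surjective (U.ι ≫ f) := by
  obtain ⟨t₀, ht₀⟩ := f.surjective (IsLocalRing.closedPoint A)
  haveI : LocallyQuasiFinite f := locallyQuasiFinite_of_etale f
  obtain ⟨T', h, hopen, hmem, hfin⟩ := exists_finite_open_nhd f t₀ ht₀
  have hiso : (Scheme.Hom.isoOpensRange h).hom ≫ h.opensRange.ι = h := by simp
  have hfin' : IsFinite (h.opensRange.ι ≫ f) := by
    rw [← MorphismProperty.cancel_left_of_respectsIso @IsFinite (Scheme.Hom.isoOpensRange h).hom,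
      ← Category.assoc, hiso]
    exact hfin
  refine ⟨h.opensRange, hfin', ?_⟩
  have hEt : Etale (h.opensRange.ι ≫ f) := inferInstance
  have hopenmap : IsOpenMap (h.opensRange.ι ≫ f).base := (h.opensRange.ι ≫ f).isOpenMap
  have hrange : IsOpen (Set.range (h.opensRange.ι ≫ f).base) := hopenmap.isOpen_range
  have hcl : IsLocalRing.closedPoint A ∈ Set.range (h.opensRange.ι ≫ f).base := by
    obtain ⟨t', rfl⟩ := hmem
    refine ⟨⟨h.base t', ⟨t', rfl⟩⟩, ?_⟩
    rw [← ht₀]
    rfl
  have htop : (⟨_, hrange⟩ : Opens (PrimeSpectrum A)) = ⊤ :=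
    (IsLocalRing.closedPoint_mem_iff _).mp hcl
  constructor
  intro y
  have : y ∈ ((⟨_, hrange⟩ : Opens (PrimeSpectrum A)) : Set (PrimeSpectrum A)) := by
    rw [htop]; trivial
  exact this

set_option backward.isDefEq.respectTransparency false in
theorem isOpenImmersion_equalizer_ι_left {S : Scheme.{u}} {X Y : Over S}
    [FormallyUnramified Y.hom] [LocallyOfFiniteType Y.hom]
    (f g : X ⟶ Y) : IsOpenImmersion (equalizer.ι f g).left := by
  refine MorphismProperty.of_isPullback
    ((Limits.isPullback_equalizer_prod f g).map (Over.forget _)).flip ?_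
  rw [← MorphismProperty.cancel_right_of_respectsIso @IsOpenImmersion _
    (Over.prodLeftIsoPullback Y Y).hom]
  convert! (inferInstance : IsOpenImmersion (pullback.diagonal Y.hom))
  ext1 <;> simp [← Over.comp_left]

set_option backward.isDefEq.respectTransparency false in
/-- Two sections of an unramified morphism to the spectrum of a local ring which agree on the
closed point (as morphisms from the spectrum of the residue field) are equal. -/
theorem section_ext {R : Type u} [CommRing R] [IsLocalRing R] {X : Scheme.{u}}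
    (f : X ⟶ Spec (CommRingCat.of R)) [FormallyUnramified f] [LocallyOfFiniteType f]
    (s₁ s₂ : Spec (CommRingCat.of R) ⟶ X) (h₁ : s₁ ≫ f = 𝟙 _) (h₂ : s₂ ≫ f = 𝟙 _)
    (hres : Spec.map (CommRingCat.ofHom (IsLocalRing.residue R)) ≫ s₁ =
      Spec.map (CommRingCat.ofHom (IsLocalRing.residue R)) ≫ s₂) : s₁ = s₂ := by
  let X' : Over (Spec (CommRingCat.of R)) := Over.mk (𝟙 (Spec (CommRingCat.of R)))
  let Y' : Over (Spec (CommRingCat.of R)) := Over.mk f
  let U' : Over (Spec (CommRingCat.of R)) :=
    Over.mk (Spec.map (CommRingCat.ofHom (IsLocalRing.residue R)))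
  let f' : X' ⟶ Y' := Over.homMk s₁ (by simpa [X', Y'] using h₁)
  let g' : X' ⟶ Y' := Over.homMk s₂ (by simpa [X', Y'] using h₂)
  let ι' : U' ⟶ X' := Over.homMk (Spec.map (CommRingCat.ofHom (IsLocalRing.residue R)))
    (by simp [X', U'])
  haveI : FormallyUnramified Y'.hom := ‹_›
  haveI : LocallyOfFiniteType Y'.hom := ‹_›
  haveI hoi : IsOpenImmersion (equalizer.ι f' g').left := isOpenImmersion_equalizer_ι_left f' g'
  let l : U' ⟶ equalizer f' g' := equalizer.lift ι' (by ext1; exact hres)
  have hl : l.left ≫ (equalizer.ι f' g').left =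
      Spec.map (CommRingCat.ofHom (IsLocalRing.residue R)) := by
    rw [← Over.comp_left, equalizer.lift_ι]
    rfl
  have hcl : IsLocalRing.closedPoint R ∈ Set.range (equalizer.ι f' g').left.base := by
    let pt : Spec (CommRingCat.of (IsLocalRing.ResidueField R)) := (⊥ : PrimeSpectrum _)
    refine ⟨l.left.base pt, ?_⟩
    have := congrArg (fun φ => φ.base pt) hl
    simp only [Scheme.Hom.comp_base, TopCat.comp_app] at this
    rw [this]
    exact IsLocalRing.PrimeSpectrum.comap_residue R pt
  have hsurj : Function.Surjective (equalizer.ι f' g').left.base := by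
    have htop : (equalizer.ι f' g').left.opensRange = ⊤ :=
      (IsLocalRing.closedPoint_mem_iff _).mp hcl
    intro y
    have : y ∈ (equalizer.ι f' g').left.opensRange := by rw [htop]; trivial
    exact this
  haveI : Epi (equalizer.ι f' g').left.base := (TopCat.epi_iff_surjective _).mpr hsurj
  haveI : IsIso (equalizer.ι f' g').left := IsOpenImmersion.isIso _
  rw [← cancel_epi (equalizer.ι f' g').left]
  exact congr($(equalizer.condition f' g').left)

open Groth.Agent.Helper7.Hensel in
set_option backward.isDefEq.respectTransparency false in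
theorem exists_section (R : Type u) [CommRing R]
    [HenselianLocalRing R] {X : Scheme.{u}} (f : X ⟶ Spec (CommRingCat.of R)) [Etale f]
    (t : Spec (CommRingCat.of (IsLocalRing.ResidueField R)) ⟶ X)
    (ht : t ≫ f = Spec.map (CommRingCat.ofHom (IsLocalRing.residue R))) :
    ∃ s : Spec (CommRingCat.of R) ⟶ X,
      s ≫ f = 𝟙 (Spec (CommRingCat.of R)) ∧
        Spec.map (CommRingCat.ofHom (IsLocalRing.residue R)) ≫ s = t := by
  haveI : LocallyQuasiFinite f := locallyQuasiFinite_of_etale f
  let pt : Spec (CommRingCat.of (IsLocalRing.ResidueField R)) := (⊥ : PrimeSpectrum _)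
  have hx : f.base (t.base pt) = IsLocalRing.closedPoint R := by
    have := congrArg (fun φ => φ.base pt) ht
    simp only [Scheme.Hom.comp_base, TopCat.comp_app] at this
    rw [this]
    exact IsLocalRing.PrimeSpectrum.comap_residue R pt
  obtain ⟨T', h, hopen, hmem, hfin⟩ := exists_finite_open_nhd f (t.base pt) hx
  have hrange : Set.range t.base ⊆ Set.range h.base := by
    rintro _ ⟨y, rfl⟩
    have : y = pt := Subsingleton.elim (α := PrimeSpectrum (IsLocalRing.ResidueField R)) y pt
    rw [this]; exact hmem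
  let t' := IsOpenImmersion.lift h t hrange
  have ht' : t' ≫ h = t := IsOpenImmersion.lift_fac h t hrange
  haveI : IsAffine T' := isAffine_of_isAffineHom (h ≫ f)
  let e := T'.isoSpec
  let g : Spec Γ(T', ⊤) ⟶ Spec (CommRingCat.of R) := e.inv ≫ h ≫ f
  let φ : CommRingCat.of R ⟶ Γ(T', ⊤) := Spec.preimage g
  have hφ : Spec.map φ = g := Spec.map_preimage g
  have het : φ.hom.Etale := by
    have : Etale (Spec.map φ) := by rw [hφ]; infer_instance
    exact (HasRingHomProperty.Spec_iff (P := @Etale)).mp this
  letI : Algebra R Γ(T', ⊤) := φ.hom.toAlgebra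
  haveI : Algebra.Etale R Γ(T', ⊤) := het
  let σc : Γ(T', ⊤) ⟶ CommRingCat.of (IsLocalRing.ResidueField R) := Spec.preimage (t' ≫ e.hom)
  have hσc : Spec.map σc = t' ≫ e.hom := Spec.map_preimage _
  have hcomp : φ ≫ σc = CommRingCat.ofHom (IsLocalRing.residue R) := by
    apply Spec.map_injective
    rw [Spec.map_comp, hσc, hφ]
    simp only [g, Category.assoc, Iso.hom_inv_id_assoc]
    rw [← Category.assoc, ht', ht]
  let σ : Γ(T', ⊤) →ₐ[R] R ⧸ IsLocalRing.maximalIdeal R :=
    { σc.hom with
      commutes' := fun r => by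
        have := congrArg (fun ψ => ψ.hom r) hcomp
        exact this }
  obtain ⟨τ, hτ⟩ := Gabber.exists_lift_of_etale (Gabber.of_henselianLocalRing R) Γ(T', ⊤) σ
  have hτφ : φ ≫ CommRingCat.ofHom τ.toRingHom = 𝟙 _ := by
    ext r
    exact τ.commutes r
  have hτσ : CommRingCat.ofHom τ.toRingHom ≫ CommRingCat.ofHom (IsLocalRing.residue R) = σc := by
    ext c
    have := AlgHom.congr_fun hτ c
    exact this
  refine ⟨Spec.map (CommRingCat.ofHom τ.toRingHom) ≫ e.inv ≫ h, ?_, ?_⟩
  · simp only [Category.assoc]
    show Spec.map _ ≫ g = _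
    rw [← hφ, ← Spec.map_comp, hτφ, Spec.map_id]
  · rw [← Category.assoc, ← Spec.map_comp, hτσ, hσc]
    simp only [Category.assoc, Iso.hom_inv_id_assoc]
    exact ht'

theorem S17448_main (R : Type u) [CommRing R]
    [HenselianLocalRing R] {X : Scheme.{u}} (f : X ⟶ Spec (CommRingCat.of R))
    [LocallyQuasiFinite f] [QuasiCompact f] [IsSeparated f] [Etale f]
    (t : Spec (CommRingCat.of (IsLocalRing.ResidueField R)) ⟶ X)
    (ht : t ≫ f = Spec.map (CommRingCat.ofHom (IsLocalRing.residue R))) :
    ∃! s : Spec (CommRingCat.of R) ⟶ X,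
      s ≫ f = 𝟙 (Spec (CommRingCat.of R)) ∧
        Spec.map (CommRingCat.ofHom (IsLocalRing.residue R)) ≫ s = t := by
  obtain ⟨s, hs₁, hs₂⟩ := exists_section R f t ht
  refine ⟨s, ⟨hs₁, hs₂⟩, fun s' hs' => ?_⟩
  exact section_ext f s' s hs'.1 hs₁ (hs'.2.trans hs₂.symm)

end Groth.Agent.Helper7.HensFinPart
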