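import Mathlib
import Groth.Agent.Lib.Helper7.Hensel.FiniteEtaleHom
import Groth.Agent.Lib.Helper7.Hensel.EtaleLiftConverse

set_option autoImplicit false
set_option linter.style.haveILetI false
set_option linter.unusedVariables false

open TensorProduct

/-! helper7: homs from etale algebras into finite algebras over a henselian pair lift uniquely from the reduction (S5066). -/

namespace Groth.Agent.Helper7.HensHom

universe u

open Groth.Agent.Helper7.Hensel

theorem bijective_comp_mk_of_gabber {A : Type u} [CommRing A] {I : Ideal A}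
    (hG : Gabber A I) (C : Type u) [CommRing C] [Algebra A C] [Module.Finite A C]
    (E : Type u) [CommRing E] [Algebra A E] [Algebra.Etale A E] :
    Function.Bijective (fun φ : E →ₐ[A] C =>
      (Ideal.Quotient.mkₐ A (Ideal.map (algebraMap A C) I)).comp φ) := by
  have hint : Algebra.IsIntegral A C := inferInstance
  have hG₂ : Gabber C (I.map (algebraMap A C)) := hG.of_isIntegral
  constructor
  · intro φ₁ φ₂ h
    apply algHom_eq_of_formallyUnramified (I.map (algebraMap A C)) hG₂.1
    intro x
    have h1 := AlgHom.congr_fun h x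
    simp only [AlgHom.comp_apply, Ideal.Quotient.mkₐ_eq_mk] at h1
    exact Ideal.Quotient.eq.mp h1
  · intro ψ
    let σ : C ⊗[A] E →ₐ[C] C ⧸ I.map (algebraMap A C) :=
      Algebra.TensorProduct.lift (Algebra.ofId C _) ψ (fun _ _ => Commute.all _ _)
    obtain ⟨τ, hτ⟩ := hG₂.exists_lift_of_etale (C ⊗[A] E) σ
    refine ⟨(τ.restrictScalars A).comp Algebra.TensorProduct.includeRight, ?_⟩
    ext x
    have h1 := AlgHom.congr_fun hτ ((1 : C) ⊗ₜ[A] x)
    simp only [AlgHom.comp_apply, Ideal.Quotient.mkₐ_eq_mk] at h1
    simp only [AlgHom.comp_apply, Ideal.Quotient.mkₐ_eq_mk, AlgHom.restrictScalars_apply,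
      Algebra.TensorProduct.includeRight_apply]
    rw [h1]
    simp [σ]

theorem S5066_main (A : Type u) [CommRing A] [IsLocalRing A] :
    HenselianLocalRing A ↔
      ∀ (C : Type u) [CommRing C] [Algebra A C] [Module.Finite A C] (E : Type u) [CommRing E]
        [Algebra A E] [Algebra.Etale A E],
        Function.Bijective (fun φ : E →ₐ[A] C =>
          (Ideal.Quotient.mkₐ A (Ideal.map (algebraMap A C) (IsLocalRing.maximalIdeal A))).comp φ) := by
  constructor
  · intro hA C _ _ _ E _ _ _
    exact bijective_comp_mk_of_gabber (Gabber.of_henselianLocalRing A) C E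
  · intro H
    apply henselianLocalRing_of_henselianRing
    apply henselianRing_of_etale_lift
    intro A' _ _ _ σ
    have hmap : Ideal.map (algebraMap A A) (IsLocalRing.maximalIdeal A) = IsLocalRing.maximalIdeal A := by
      rw [Algebra.algebraMap_self, Ideal.map_id]
    let e : (A ⧸ IsLocalRing.maximalIdeal A) ≃ₐ[A]
        (A ⧸ Ideal.map (algebraMap A A) (IsLocalRing.maximalIdeal A)) :=
      Ideal.quotientEquivAlgOfEq A hmap.symm
    obtain ⟨τ, hτ⟩ := (H A A').2 (e.toAlgHom.comp σ)
    refine ⟨τ, ?_⟩
    ext x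
    have h1 := AlgHom.congr_fun hτ x
    simp only [AlgHom.comp_apply, Ideal.Quotient.mkₐ_eq_mk] at h1
    simp only [AlgHom.comp_apply, Ideal.Quotient.mkₐ_eq_mk]
    apply e.injective
    refine Eq.trans ?_ h1
    simp [e]

end Groth.Agent.Helper7.HensHom
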