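import Mathlib
import Groth.Agent.Lib.Helper7.FGSub2
import Groth.Agent.Lib.Helper7.Hens.LocalCase
import Groth.Agent.Lib.Helper7.SHens.Noeth

set_option autoImplicit false
open CategoryTheory CategoryTheory.Limits AlgebraicGeometry Opposite
universe u

/-! helper7: schemes of finite presentation over a henselian local ring come from schemes of finite
type over Noetherian henselian local rings. -/

namespace Groth.Agent.Helper7.HensNoethModel

open Groth.Agent.Helper7.LimDesc Groth.Agent.Helper7.FGSub Groth.Agent.Helper7.Hens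

/-- a finitely generated subring of a henselian local ring factors through a Noetherian
henselian local ring mapping locally to it. -/
theorem exists_noetherian_henselian (A : Type u) [CommRing A] [HenselianLocalRing A]
    (A₁ : Subalgebra ℤ A) (hA₁ : A₁.FG) :
    ∃ (A₀ : Type u) (_ : CommRing A₀) (_ : HenselianLocalRing A₀) (_ : IsNoetherianRing A₀)
      (φ : A₀ →+* A) (_ : IsLocalHom φ) (ι₀ : A₁ →+* A₀), φ.comp ι₀ = algebraMap A₁ A := by
  have hft : Algebra.FiniteType ℤ A₁ := (Subalgebra.fg_iff_finiteType A₁).mp hA₁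
  have hN1 : IsNoetherianRing A₁ := Algebra.FiniteType.isNoetherianRing ℤ A₁
  let 𝔭 : Ideal A₁ := (IsLocalRing.maximalIdeal A).comap (algebraMap A₁ A)
  have h𝔭 : 𝔭.IsPrime := Ideal.comap_isPrime _ _
  let B := Localization.AtPrime 𝔭
  have hNB : IsNoetherianRing B := IsLocalization.isNoetherianRing 𝔭.primeCompl B hN1
  have hunit : ∀ y : 𝔭.primeCompl, IsUnit (algebraMap A₁ A y) := by
    intro y
    by_contra h
    exact y.2 ((IsLocalRing.mem_maximalIdeal _).mpr h)
  let ψ : B →+* A := IsLocalization.lift (M := 𝔭.primeCompl) hunit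
  have hψ : ψ.comp (algebraMap A₁ B) = algebraMap A₁ A := IsLocalization.lift_comp hunit
  have hψloc : IsLocalHom ψ := by
    constructor
    intro b hb
    obtain ⟨⟨a, s⟩, hs⟩ := IsLocalization.surj 𝔭.primeCompl b
    have h1 : ψ b * ψ (algebraMap A₁ B s) = ψ (algebraMap A₁ B a) := by
      rw [← map_mul, hs]
    have h2 : ∀ x : A₁, ψ (algebraMap A₁ B x) = algebraMap A₁ A x := fun x =>
      RingHom.congr_fun hψ x
    rw [h2, h2] at h1
    have h3 : IsUnit (algebraMap A₁ A a) := by
      rw [← h1]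
      exact hb.mul (hunit s)
    have h4 : a ∈ 𝔭.primeCompl := by
      intro ha
      exact ((IsLocalRing.mem_maximalIdeal _).mp ha) h3
    have h5 : IsUnit (algebraMap A₁ B a) := IsLocalization.map_units B ⟨a, h4⟩
    have h6 : IsUnit (b * algebraMap A₁ B s) := by rw [hs]; exact h5
    exact isUnit_of_mul_isUnit_left h6
  let A₀ := H B (IsLocalRing.maximalIdeal B)
  have hHz : Hensel.IsHenselization B A₀ := isHenselization_H B
  have hN0 : IsNoetherianRing A₀ :=
    (Groth.Agent.Helper7.SHens.isNoetherianRing_iff_of_isHenselization B A₀).mp hNB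
  obtain ⟨φ, hφ, -⟩ := hHz.universal A ψ hψloc
  have hφ' : φ.comp (algebraMap B A₀) = ψ := hφ
  have hφloc : IsLocalHom φ := by
    apply ((IsLocalRing.local_hom_TFAE φ).out 0 2 rfl rfl).mpr
    rw [← map_maximalIdeal_H B, Ideal.map_map, hφ']
    exact ((IsLocalRing.local_hom_TFAE ψ).out 0 2 rfl rfl).mp hψloc
  refine ⟨A₀, inferInstance, inferInstance, hN0, φ, hφloc,
    (algebraMap B A₀).comp (algebraMap A₁ B), ?_⟩
  rw [← RingHom.comp_assoc, hφ', hψ]

set_option backward.isDefEq.respectTransparency false in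
/-- a scheme of finite presentation over a henselian local ring comes from a scheme
of finite type over a Noetherian henselian local ring. -/
theorem exists_noetherian_henselian_descent (A : Type u) [CommRing A] [HenselianLocalRing A]
    {X : Scheme.{u}} (f : X ⟶ Spec (CommRingCat.of A)) [LocallyOfFinitePresentation f]
    [QuasiCompact f] [QuasiSeparated f] :
    ∃ (A₀ : Type u) (_ : CommRing A₀) (_ : HenselianLocalRing A₀) (_ : IsNoetherianRing A₀)
      (φ : A₀ →+* A) (_ : IsLocalHom φ)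
      (X₀ : Scheme.{u}) (f₀ : X₀ ⟶ Spec (CommRingCat.of A₀)) (g : X ⟶ X₀),
      LocallyOfFiniteType f₀ ∧ QuasiCompact f₀ ∧
        IsPullback g f f₀ (Spec.map (CommRingCat.ofHom φ)) := by
  obtain ⟨hc⟩ := isLimit_specCone A
  obtain ⟨A₁, hA₁, X₁, f₁, g₁, -, h2, h3, h4, h5⟩ :=
    exists_model A ⊤
      (fun h _ _ _ _ => by
        obtain ⟨j, ⟨M⟩⟩ := desc_of_finitePresentation hc h
        exact ⟨j, M, trivial⟩) f trivial
  obtain ⟨A₀, _, _, hN, φ, hφ, ι₀, hι₀⟩ := exists_noetherian_henselian A A₁ hA₁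
  have hcomp : Spec.map (CommRingCat.ofHom φ) ≫ Spec.map (CommRingCat.ofHom ι₀) =
      Spec.map (CommRingCat.ofHom (algebraMap (↥A₁) A)) := by
    rw [← Spec.map_comp, ← CommRingCat.ofHom_comp, hι₀]
  obtain ⟨g, hg1, hg2⟩ : ∃ g : X ⟶ pullback f₁ (Spec.map (CommRingCat.ofHom ι₀)),
      g ≫ pullback.fst _ _ = g₁ ∧ g ≫ pullback.snd _ _ = f ≫ Spec.map (CommRingCat.ofHom φ) :=
    ⟨pullback.lift g₁ (f ≫ Spec.map (CommRingCat.ofHom φ))
      (by rw [Category.assoc, hcomp]; exact h5.w), pullback.lift_fst _ _ _, pullback.lift_snd _ _ _⟩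
  refine ⟨A₀, inferInstance, inferInstance, hN, φ, hφ,
    pullback f₁ (Spec.map (CommRingCat.ofHom ι₀)), pullback.snd _ _, g, inferInstance,
    inferInstance, ?_⟩
  refine IsPullback.of_right (h₁₂ := pullback.fst f₁ (Spec.map (CommRingCat.ofHom ι₀)))
    (h₂₂ := Spec.map (CommRingCat.ofHom ι₀)) (v₁₃ := f₁) ?_ hg2
    (IsPullback.of_hasPullback _ _)
  rw [hg1, hcomp]
  exact h5

end Groth.Agent.Helper7.HensNoethModel
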