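import Mathlib
import Groth.Agent.Lib.Helper7.HensFinPart3
import Groth.Agent.Lib.Helper7.Hensel.IdemLift

set_option autoImplicit false
set_option linter.style.haveILetI false
set_option linter.unusedVariables false

open CategoryTheory CategoryTheory.Limits AlgebraicGeometry TopologicalSpace

/-! helper7: the finite part of a quasi-compact separated etale scheme over a henselian pair whose reduction is finite (S0784). -/

namespace Groth.Agent.Helper7.HensPairFinPart

universe u

open Groth.Agent.Helper7.Hensel Groth.Agent.Helper7.HensFinPart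

/-- Algebraic core: for an integral algebra `B` over a henselian pair `(A, I)`, a closed subset
`T'` of `Spec B` inside `V(IB)` which is the trace on `V(IB)` of an open subset `O` is the trace of
a clopen subset contained in `O`. -/
theorem exists_idempotent_of_clopen_trace {A B : Type u} [CommRing A] [CommRing B] [Algebra A B]
    [Algebra.IsIntegral A B] {I : Ideal A} (hG : Gabber A I)
    (T' O : Set (PrimeSpectrum B)) (hT' : IsClosed T') (hO : IsOpen O)
    (hTO : T' = O ∩ PrimeSpectrum.zeroLocus (I.map (algebraMap A B) : Set B)) :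
    ∃ e : B, IsIdempotentElem e ∧
      (PrimeSpectrum.basicOpen e : Set (PrimeSpectrum B)) ⊆ O ∧
      T' ⊆ (PrimeSpectrum.basicOpen e : Set (PrimeSpectrum B)) := by
  classical
  set J := I.map (algebraMap A B) with hJ
  let c := PrimeSpectrum.comap (Ideal.Quotient.mk J)
  have hc : Continuous c := PrimeSpectrum.continuous_comap _
  have hrange : Set.range c = PrimeSpectrum.zeroLocus (J : Set B) := by
    rw [_root_.range_comap_of_surjective _ _ Ideal.Quotient.mk_surjective, Ideal.mk_ker]
  have hpre : c ⁻¹' T' = c ⁻¹' O := by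
    ext p
    simp only [Set.mem_preimage, hTO, Set.mem_inter_iff, and_iff_left_iff_imp]
    intro _
    rw [← hrange]
    exact ⟨p, rfl⟩
  have hclopen : IsClopen (c ⁻¹' T') :=
    ⟨hT'.preimage hc, hpre ▸ hO.preimage hc⟩
  obtain ⟨ebar, hebar, hs⟩ := PrimeSpectrum.isClopen_iff.mp hclopen
  obtain ⟨e, he, hee⟩ := hG.exists_idempotent_lift (B := B) ebar hebar
  have hmem : ∀ p : PrimeSpectrum (B ⧸ J), c p ∈ (PrimeSpectrum.basicOpen e : Set _) ↔
      p ∈ (PrimeSpectrum.basicOpen ebar : Set _) := by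
    intro p
    simp only [SetLike.mem_coe, PrimeSpectrum.mem_basicOpen]
    rw [← hee]
    rfl
  have hsub2 : T' ⊆ (PrimeSpectrum.basicOpen e : Set (PrimeSpectrum B)) := by
    intro p hp
    have hpZ : p ∈ PrimeSpectrum.zeroLocus (J : Set B) := by rw [hTO] at hp; exact hp.2
    rw [← hrange] at hpZ
    obtain ⟨p', rfl⟩ := hpZ
    rw [hmem, ← hs]
    exact hp
  refine ⟨e, he, ?_, hsub2⟩
  -- `D(e) ⊆ O`
  have hDe_closed : IsClosed (PrimeSpectrum.basicOpen e : Set (PrimeSpectrum B)) :=
    (PrimeSpectrum.isClopen_iff.mpr ⟨e, he, rfl⟩).1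
  have hCclosed : IsClosed ((PrimeSpectrum.basicOpen e : Set (PrimeSpectrum B)) ∩ Oᶜ) :=
    hDe_closed.inter hO.isClosed_compl
  obtain ⟨a, ha⟩ := (PrimeSpectrum.isClosed_iff_zeroLocus_ideal _).mp hCclosed
  have hempty : PrimeSpectrum.zeroLocus ((a ⊔ J : Ideal B) : Set B) = ∅ := by
    rw [PrimeSpectrum.zeroLocus_sup, ← ha]
    ext p
    simp only [Set.mem_inter_iff, Set.mem_compl_iff, Set.mem_empty_iff_false, iff_false, not_and]
    rintro ⟨hpe, hpO⟩ hpZ
    apply hpO
    have hpT : p ∈ T' := by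
      rw [← hrange] at hpZ
      obtain ⟨p', rfl⟩ := hpZ
      show p' ∈ c ⁻¹' T'
      rw [hs, ← hmem]
      exact hpe
    rw [hTO] at hpT
    exact hpT.1
  rw [PrimeSpectrum.zeroLocus_empty_iff_eq_top] at hempty
  have hJjac : J ≤ Ideal.jacobson ⊥ := map_le_jacobson_of_isIntegral hG.1
  have hatop : a = ⊤ := by
    rw [Ideal.eq_top_iff_one]
    have h1 : (1 : B) ∈ a ⊔ J := by rw [hempty]; trivial
    obtain ⟨x, hx, y, hy, hxy⟩ := Submodule.mem_sup.mp h1
    have hyj := hJjac hy
    rw [Ideal.mem_jacobson_bot] at hyj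
    have hu : IsUnit (y * (-1) + 1) := hyj (-1)
    have hxe : x = y * (-1) + 1 := by linear_combination hxy
    rw [← hxe] at hu
    exact (Ideal.eq_top_of_isUnit_mem a hx hu) ▸ Submodule.mem_top
  intro p hp
  by_contra hpO
  have : p ∈ (PrimeSpectrum.basicOpen e : Set (PrimeSpectrum B)) ∩ Oᶜ := ⟨hp, hpO⟩
  rw [ha, hatop] at this
  simp at this

set_option backward.isDefEq.respectTransparency false in
theorem S0784_main (A : Type u) [CommRing A] (I : Ideal A) [HenselianRing A I]
    {U : Scheme.{u}} (g : U ⟶ Spec (CommRingCat.of A)) [QuasiCompact g] [IsSeparated g] [Etale g]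
    (hfin : IsFinite (pullback.snd g (Spec.map (CommRingCat.ofHom (Ideal.Quotient.mk I))))) :
    ∃ W : U.Opens, IsClosed (W : Set U) ∧ IsFinite (W.ι ≫ g) ∧
      ∀ u : U, u ∉ W → ¬ I ≤ (g.base u : PrimeSpectrum A).asIdeal := by
  classical
  haveI : LocallyQuasiFinite g := locallyQuasiFinite_of_etale g
  have hG : Gabber A I := Gabber.of_henselianRing inferInstance
  let j := g.toNormalization
  let π := g.fromNormalization
  have hjπ : j ≫ π = g := g.toNormalization_fromNormalization
  haveI : IsOpenImmersion j := inferInstance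
  haveI : IsAffine g.normalization := isAffine_of_isAffineHom π
  let eN := g.normalization.isoSpec
  let ψ : CommRingCat.of A ⟶ Γ(g.normalization, ⊤) := Spec.preimage (eN.inv ≫ π)
  have hψ : Spec.map ψ = eN.inv ≫ π := Spec.map_preimage _
  have hint : ψ.hom.IsIntegral := by
    have : IsIntegralHom (Spec.map ψ) := by rw [hψ]; infer_instance
    exact IsIntegralHom.SpecMap_iff.mp this
  letI : Algebra A Γ(g.normalization, ⊤) := ψ.hom.toAlgebra
  haveI : Algebra.IsIntegral A Γ(g.normalization, ⊤) := ⟨hint⟩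
  let i := Spec.map (CommRingCat.ofHom (Ideal.Quotient.mk I))
  let k := pullback.fst g i ≫ j
  have hkπ : k ≫ π = pullback.snd g i ≫ i := by
    simp only [k, Category.assoc, hjπ, pullback.condition]
  haveI : IsFinite (pullback.snd g i) := hfin
  haveI : IsClosedImmersion i :=
    IsClosedImmersion.spec_of_surjective _ Ideal.Quotient.mk_surjective
  haveI : IsFinite (k ≫ π) := by rw [hkπ]; infer_instance
  haveI : IsFinite k := IsFinite.of_comp k π
  have hT : IsClosed (Set.range k.base) := k.isClosedMap.isClosed_range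
  have hrange_i : Set.range i.base = PrimeSpectrum.zeroLocus (I : Set A) := by
    show Set.range (PrimeSpectrum.comap (Ideal.Quotient.mk I)) = _
    rw [_root_.range_comap_of_surjective _ _ Ideal.Quotient.mk_surjective, Ideal.mk_ker]
  have hrange_k : Set.range k.base =
      j.base '' (g.base ⁻¹' PrimeSpectrum.zeroLocus (I : Set A)) := by
    rw [Scheme.Hom.comp_base, TopCat.coe_comp, Set.range_comp, Scheme.Pullback.range_fst,
      hrange_i]
  let T' : Set (PrimeSpectrum Γ(g.normalization, ⊤)) := eN.hom.base '' Set.range k.base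
  let O : Set (PrimeSpectrum Γ(g.normalization, ⊤)) := eN.hom.base '' Set.range j.base
  have hT' : IsClosed T' := eN.hom.homeomorph.isClosedMap _ hT
  have hO : IsOpen O := eN.hom.homeomorph.isOpenMap _ j.isOpenEmbedding.isOpen_range
  have hkey : ∀ u : U, (eN.hom.base (j.base u) ∈
      PrimeSpectrum.zeroLocus ((I.map (algebraMap A Γ(g.normalization, ⊤)) : Ideal _) : Set _)) ↔
      g.base u ∈ PrimeSpectrum.zeroLocus (I : Set A) := by
    intro u
    have h1 : (Spec.map ψ).base (eN.hom.base (j.base u)) = g.base u := by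
      rw [hψ]
      have h2 := congrArg (fun φ => φ.base u) hjπ
      have h3 := congrArg (fun φ => φ.base (j.base u)) eN.hom_inv_id
      simp only [Scheme.Hom.comp_base, TopCat.comp_app, Scheme.Hom.id_base, TopCat.id_app] at h2 h3 ⊢
      rw [h3, h2]
    rw [← h1, PrimeSpectrum.mem_zeroLocus, PrimeSpectrum.mem_zeroLocus, SetLike.coe_subset_coe,
      SetLike.coe_subset_coe, Ideal.map_le_iff_le_comap]
    rfl
  have hTO : T' = O ∩ PrimeSpectrum.zeroLocus
      ((I.map (algebraMap A Γ(g.normalization, ⊤)) : Ideal _) : Set _) := by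
    ext p
    constructor
    · rintro ⟨_, hq, rfl⟩
      rw [hrange_k] at hq
      obtain ⟨u, hu, rfl⟩ := hq
      exact ⟨⟨_, ⟨u, rfl⟩, rfl⟩, (hkey u).mpr hu⟩
    · rintro ⟨⟨_, ⟨u, rfl⟩, rfl⟩, hp⟩
      refine ⟨_, ?_, rfl⟩
      rw [hrange_k]
      exact ⟨u, (hkey u).mp hp, rfl⟩
  obtain ⟨e, he, heO, hTe⟩ := exists_idempotent_of_clopen_trace hG T' O hT' hO hTO
  let D : (Spec Γ(g.normalization, ⊤)).Opens := PrimeSpectrum.basicOpen e
  have hDclosed : IsClosed (D : Set (Spec Γ(g.normalization, ⊤))) :=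
    (PrimeSpectrum.isClopen_iff.mpr ⟨e, he, rfl⟩).1
  let W : U.Opens := (j ≫ eN.hom) ⁻¹ᵁ D
  have hWmem : ∀ u : U, u ∈ W ↔ eN.hom.base (j.base u) ∈ (D : Set _) := fun u => Iff.rfl
  refine ⟨W, hDclosed.preimage (j ≫ eN.hom).continuous, ?_, ?_⟩
  · have hjW : j.base '' (W : Set U) = eN.hom.base ⁻¹' (D : Set _) := by
      ext q
      constructor
      · rintro ⟨u, hu, rfl⟩
        exact (hWmem u).mp hu
      · intro hq
        obtain ⟨_, ⟨u, rfl⟩, hqu⟩ := heO hq
        have : j.base u = q := eN.hom.homeomorph.injective hqu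
        exact ⟨u, (hWmem u).mpr (by rw [this]; exact hq), this⟩
    haveI : IsClosedImmersion (W.ι ≫ j) := by
      apply IsClosedImmersion.of_isPreimmersion
      rw [Scheme.Hom.comp_base, TopCat.coe_comp, Set.range_comp, Scheme.Opens.range_ι, hjW]
      exact hDclosed.preimage eN.hom.continuous
    haveI : IsIntegralHom (W.ι ≫ g) := by
      rw [← hjπ, ← Category.assoc]
      infer_instance
    exact (IsFinite.iff_isIntegralHom_and_locallyOfFiniteType _).mpr ⟨inferInstance, inferInstance⟩
  · intro u hu hI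
    apply hu
    rw [hWmem]
    apply hTe
    refine ⟨j.base u, ?_, rfl⟩
    rw [hrange_k]
    exact ⟨u, by rw [Set.mem_preimage, PrimeSpectrum.mem_zeroLocus]; exact hI, rfl⟩

end Groth.Agent.Helper7.HensPairFinPart
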