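import Mathlib
import Groth.Prelude.Def_Hensel
import Groth.Agent.Lib.Helper7.HensTensor
import Groth.Agent.Lib.Helper7.HensQFLoc
import Groth.Agent.Lib.Helper7.Hens.Abstract
import Groth.Agent.Lib.Helper7.Hensel.FiniteLocal

set_option autoImplicit false
set_option linter.style.haveILetI false
set_option linter.unusedVariables false
set_option linter.unusedSectionVars false

open IsLocalRing TensorProduct

/-! helper7: for R to S of finite type and quasi-finite at q, the henselization of S at q is
finite over the henselization of R at p. -/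

namespace Groth.Agent.Helper7.HensTensor

universe u

section main

variable (R : Type u) [CommRing R] (S : Type u)
    [CommRing S] [Algebra R S] (p : Ideal R) [p.IsPrime] (q : Ideal S) [q.IsPrime] [q.LiesOver p]
    (Rh : Type u) [CommRing Rh] [IsLocalRing Rh] [Algebra (Localization.AtPrime p) Rh]
    [IsLocalHom (algebraMap (Localization.AtPrime p) Rh)]
    [hRh : Hensel.IsHenselization (Localization.AtPrime p) Rh] [Algebra R Rh]
    [IsScalarTower R (Localization.AtPrime p) Rh]
    (Sh : Type u) [CommRing Sh] [IsLocalRing Sh] [Algebra (Localization.AtPrime q) Sh]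
    [IsLocalHom (algebraMap (Localization.AtPrime q) Sh)]
    [hSh : Hensel.IsHenselization (Localization.AtPrime q) Sh] [Algebra S Sh]
    [IsScalarTower S (Localization.AtPrime q) Sh] [Algebra R Sh] [IsScalarTower R S Sh]
    [Algebra Rh Sh] [IsScalarTower R Rh Sh]

include hRh hSh in
theorem comap_algebraMap_Rh :
    (maximalIdeal Sh).comap (algebraMap Rh Sh) = maximalIdeal Rh := by
  have hg : IsLocalHom ((algebraMap Rh Sh).comp (algebraMap (Localization.AtPrime p) Rh)) := by
    apply isLocalHom_of_comap
    have h1 : ((algebraMap Rh Sh).comp (algebraMap (Localization.AtPrime p) Rh)).comp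
        (algebraMap R (Localization.AtPrime p)) = (algebraMap S Sh).comp (algebraMap R S) := by
      ext r
      simp only [RingHom.comp_apply]
      rw [← IsScalarTower.algebraMap_apply R (Localization.AtPrime p) Rh,
        ← IsScalarTower.algebraMap_apply R Rh Sh, ← IsScalarTower.algebraMap_apply R S Sh]
    rw [h1, ← Ideal.comap_comap, comap_algebraMap_S R S p q Rh Sh]
    exact ((inferInstance : q.LiesOver p).over).symm
  have h2 := comap_maximalIdeal_of_isLocalHom
    ((algebraMap Rh Sh).comp (algebraMap (Localization.AtPrime p) Rh))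
  rw [← Ideal.comap_comap] at h2
  have h3 : maximalIdeal Rh ≤ (maximalIdeal Sh).comap (algebraMap Rh Sh) := by
    rw [← Hens.map_maximalIdeal_of_isHenselization (Localization.AtPrime p) Rh,
      Ideal.map_le_iff_le_comap, h2]
  have hne : (maximalIdeal Sh).comap (algebraMap Rh Sh) ≠ ⊤ :=
    (inferInstance : ((maximalIdeal Sh).comap (algebraMap Rh Sh)).IsPrime).ne_top
  exact ((IsLocalRing.maximalIdeal.isMaximal Rh).eq_of_le hne h3).symm

include hRh hSh in
theorem finite_of_quasiFiniteAt [Algebra.FiniteType R S] [Algebra.QuasiFiniteAt R q] :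
    Module.Finite Rh Sh := by
  haveI hhRh : HenselianLocalRing Rh := hRh.henselian
  set Q := Ideal.comap (phi R S Rh Sh) (maximalIdeal Sh) with hQ
  have hphiR : ∀ s : S, phi R S Rh Sh (1 ⊗ₜ s) = algebraMap S Sh s := by
    intro s
    simp [phi]
  have hphiL : ∀ a : Rh, phi R S Rh Sh (a ⊗ₜ 1) = algebraMap Rh Sh a := by
    intro a
    simp [phi]
  have hqQ : q = Q.comap (Algebra.TensorProduct.includeRight :
      S →ₐ[R] Rh ⊗[R] S).toRingHom := by
    rw [← comap_algebraMap_S R S p q Rh Sh]
    ext s
    simp only [Ideal.mem_comap, hQ]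
    show _ ↔ phi R S Rh Sh (1 ⊗ₜ s) ∈ _
    rw [hphiR]
  have hqf : Algebra.QuasiFiniteAt Rh Q := Algebra.QuasiFiniteAt.baseChange q Q hqQ
  have hlies : Q.LiesOver (maximalIdeal Rh) := by
    constructor
    rw [← comap_algebraMap_Rh R S p q Rh Sh]
    ext a
    simp only [Ideal.under_def, Ideal.mem_comap, hQ]
    show _ ↔ phi R S Rh Sh (a ⊗ₜ 1) ∈ _
    rw [hphiL]
  have hfin : Module.Finite Rh (Localization.AtPrime Q) :=
    HensQFLoc.finite_localization_of_henselian Rh (Rh ⊗[R] S) Q hlies hqf
  haveI hDQ : HenselianLocalRing (Localization.AtPrime Q) :=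
    Hensel.henselianLocalRing_of_finite Rh (Localization.AtPrime Q)
  let j : Localization.AtPrime Q →+* Sh := liftLocal (phi R S Rh Sh).toRingHom _ rfl
  have hj : ∀ d, j (algebraMap (Rh ⊗[R] S) _ d) = phi R S Rh Sh d :=
    fun d => liftLocal_apply (phi R S Rh Sh).toRingHom _ rfl d
  have hjloc : IsLocalHom j := isLocalHom_liftLocal (phi R S Rh Sh).toRingHom _ rfl
  obtain ⟨g, hg, -⟩ := universal_tensor R S p q Rh Sh (Localization.AtPrime Q) j hj
    (RingHom.id _) inferInstance
  haveI hhSh : HenselianLocalRing Sh := hSh.henselian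
  obtain ⟨k, -, hk⟩ := universal_tensor R S p q Rh Sh Sh j hj j hjloc
  have e1 : j.comp g = k := hk _ (by beta_reduce; rw [RingHom.comp_assoc, hg, RingHom.comp_id])
  have e2 : RingHom.id Sh = k := hk _ (RingHom.id_comp _)
  have hsurj : Function.Surjective j := by
    intro y
    refine ⟨g y, ?_⟩
    have := RingHom.congr_fun (e1.trans e2.symm) y
    exact this
  let jl : Localization.AtPrime Q →ₗ[Rh] Sh :=
    { toFun := j
      map_add' := map_add j
      map_smul' := fun a x => by
        simp only [RingHom.id_apply]
        rw [Algebra.smul_def, Algebra.smul_def, map_mul]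
        congr 1
        rw [IsScalarTower.algebraMap_apply Rh (Rh ⊗[R] S) (Localization.AtPrime Q), hj]
        show phi R S Rh Sh (a ⊗ₜ 1) = _
        rw [hphiL] }
  exact Module.Finite.of_surjective jl hsurj

end main

theorem S9458_main (R : Type u) [CommRing R] (S : Type u)
    [CommRing S] [Algebra R S] [Algebra.FiniteType R S] (p : Ideal R) [p.IsPrime] (q : Ideal S)
    [q.IsPrime] [q.LiesOver p] [Algebra.QuasiFiniteAt R q]
    (Rh : Type u) [CommRing Rh] [IsLocalRing Rh] [Algebra (Localization.AtPrime p) Rh]
    [IsLocalHom (algebraMap (Localization.AtPrime p) Rh)]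
    [Hensel.IsHenselization (Localization.AtPrime p) Rh]
    (Sh : Type u) [CommRing Sh] [IsLocalRing Sh] [Algebra (Localization.AtPrime q) Sh]
    [IsLocalHom (algebraMap (Localization.AtPrime q) Sh)]
    [Hensel.IsHenselization (Localization.AtPrime q) Sh]
    [Algebra (Localization.AtPrime p) (Localization.AtPrime q)]
    [IsScalarTower R (Localization.AtPrime p) (Localization.AtPrime q)]
    [Algebra Rh Sh] [Algebra (Localization.AtPrime p) Sh]
    [IsScalarTower (Localization.AtPrime p) Rh Sh]
    [IsScalarTower (Localization.AtPrime p) (Localization.AtPrime q) Sh] :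
    Module.Finite Rh Sh := by
  letI aRRh : Algebra R Rh := ((algebraMap (Localization.AtPrime p) Rh).comp
    (algebraMap R (Localization.AtPrime p))).toAlgebra
  haveI : IsScalarTower R (Localization.AtPrime p) Rh :=
    IsScalarTower.of_algebraMap_eq (fun _ => rfl)
  letI aSSh : Algebra S Sh := ((algebraMap (Localization.AtPrime q) Sh).comp
    (algebraMap S (Localization.AtPrime q))).toAlgebra
  haveI : IsScalarTower S (Localization.AtPrime q) Sh :=
    IsScalarTower.of_algebraMap_eq (fun _ => rfl)
  letI aRSh : Algebra R Sh := ((algebraMap S Sh).comp (algebraMap R S)).toAlgebra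
  haveI : IsScalarTower R S Sh := IsScalarTower.of_algebraMap_eq (fun _ => rfl)
  haveI : IsScalarTower R Rh Sh := IsScalarTower.of_algebraMap_eq (fun r => by
    show algebraMap (Localization.AtPrime q) Sh (algebraMap S (Localization.AtPrime q)
      (algebraMap R S r)) = algebraMap Rh Sh (algebraMap (Localization.AtPrime p) Rh
        (algebraMap R (Localization.AtPrime p) r))
    rw [← IsScalarTower.algebraMap_apply (Localization.AtPrime p) Rh Sh,
      IsScalarTower.algebraMap_apply (Localization.AtPrime p) (Localization.AtPrime q) Sh,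
      ← IsScalarTower.algebraMap_apply R (Localization.AtPrime p) (Localization.AtPrime q),
      IsScalarTower.algebraMap_apply R S (Localization.AtPrime q)])
  exact finite_of_quasiFiniteAt R S p q Rh Sh

end Groth.Agent.Helper7.HensTensor
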