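import Mathlib
import Groth.Prelude.Def_FGA

set_option autoImplicit false
universe u
open CategoryTheory CategoryTheory.Limits AlgebraicGeometry

/-! helper7: an immersion into a separated scheme induces a monomorphism of Hilbert functors (S17088). -/

namespace Groth.Agent.Helper7.HilbImm

set_option backward.isDefEq.respectTransparency false in
/-- pushing an ideal sheaf forward along a monomorphism and pulling back recovers it, if the
composite is a closed immersion. -/
theorem comap_map_of_mono {X Y : Scheme.{u}} (g : X ⟶ Y) [Mono g] (I : X.IdealSheafData)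
    [IsClosedImmersion (I.subschemeι ≫ g)] : (I.map g).comap g = I := by
  have h1 := Scheme.IdealSheafData.ker_fst_of_isClosedImmersion (I.subschemeι ≫ g) g
  change _ = (I.map g).comap g at h1
  rw [← h1]
  have e1 : pullback.fst g (I.subschemeι ≫ g) =
      pullback.snd g (I.subschemeι ≫ g) ≫ I.subschemeι := by
    rw [← cancel_mono g, Category.assoc, pullback.condition]
  have : IsIso (pullback.snd g (I.subschemeι ≫ g)) := by
    refine ⟨pullback.lift I.subschemeι (𝟙 _) (by simp), ?_, by simp⟩
    refine pullback.hom_ext ?_ ?_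
    · rw [Category.assoc, pullback.lift_fst, Category.id_comp, e1]
    · rw [Category.assoc, pullback.lift_snd, Category.id_comp, Category.comp_id]
  rw [e1, Scheme.Hom.ker_comp_of_isIso, Scheme.IdealSheafData.ker_subschemeι]

variable {W X S : Scheme.{u}} (f : X ⟶ S) (ι : W ⟶ X) (T : Over S)

/-- the base change of `ι`. -/
noncomputable abbrev ιT : pullback (ι ≫ f) T.hom ⟶ pullback f T.hom :=
  pullback.map (ι ≫ f) T.hom f T.hom ι (𝟙 T.left) (𝟙 S)
    (Category.comp_id _) ((Category.comp_id _).trans (Category.id_comp _).symm)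

set_option backward.isDefEq.respectTransparency false in
theorem isPullback_ιT :
    IsPullback (ιT f ι T) (pullback.fst (ι ≫ f) T.hom) (pullback.fst f T.hom) ι := by
  have t : IsPullback (pullback.snd f T.hom) (pullback.fst f T.hom) T.hom f :=
    (IsPullback.of_hasPullback f T.hom).flip
  have s : IsPullback (ιT f ι T ≫ pullback.snd f T.hom) (pullback.fst (ι ≫ f) T.hom) T.hom
      (ι ≫ f) := by
    have : ιT f ι T ≫ pullback.snd f T.hom = pullback.snd (ι ≫ f) T.hom := by simp [ιT]
    rw [this]
    exact (IsPullback.of_hasPullback (ι ≫ f) T.hom).flip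
  exact IsPullback.of_right s (by simp [ιT]) t

instance [IsImmersion ι] : IsImmersion (ιT f ι T) :=
  MorphismProperty.of_isPullback (isPullback_ιT f ι T).flip ‹_›

set_option backward.isDefEq.respectTransparency false in
theorem isClosedImmersion [IsSeparated f] [IsImmersion ι] (V : FGA.HilbSet (ι ≫ f) T) :
    IsClosedImmersion (V.1.subschemeι ≫ ιT f ι T) := by
  have hp : IsProper (V.1.subschemeι ≫ PicF.XTproj (ι ≫ f) T) := V.2.1
  have e : (V.1.subschemeι ≫ ιT f ι T) ≫ pullback.snd f T.hom =
      V.1.subschemeι ≫ PicF.XTproj (ι ≫ f) T := by simp [ιT]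
  have : IsProper ((V.1.subschemeι ≫ ιT f ι T) ≫ pullback.snd f T.hom) := by rw [e]; exact hp
  have : IsProper (V.1.subschemeι ≫ ιT f ι T) :=
    IsProper.of_comp _ (pullback.snd f T.hom)
  refine IsClosedImmersion.of_isPreimmersion _ ?_
  exact (V.1.subschemeι ≫ ιT f ι T).isClosedMap.isClosed_range

theorem injective [IsSeparated f] [IsImmersion ι] :
    Function.Injective (fun V : FGA.HilbSet (ι ≫ f) T => (V.1.subschemeι ≫ ιT f ι T).ker) := by
  intro V V' h
  have := isClosedImmersion f ι T V
  have := isClosedImmersion f ι T V'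
  have h1 := comap_map_of_mono (ιT f ι T) V.1
  have h2 := comap_map_of_mono (ιT f ι T) V'.1
  refine Subtype.ext ?_
  rw [← h1, ← h2]
  change ((V.1.subschemeι ≫ ιT f ι T).ker).comap _ = ((V'.1.subschemeι ≫ ιT f ι T).ker).comap _
  exact congrArg (fun K => Scheme.IdealSheafData.comap K (ιT f ι T)) h

end Groth.Agent.Helper7.HilbImm
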