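import Mathlib
import Groth.Prelude.Def_OmegaPn
import Groth.Agent.Lib.Helper7.FormalCompl

set_option autoImplicit false
set_option linter.style.haveILetI false
set_option linter.unusedVariables false
universe u

open AlgebraicGeometry CategoryTheory Limits

/-! helper7: infinitesimal neighbourhoods commute with base change (S5951). -/

namespace Groth.Agent.Helper7.InfNbhdBC

open Groth.Agent.Helper7.FormalCompl

set_option backward.isDefEq.respectTransparency false in
/-- the ideal of a base change of a closed immersion is the inverse image ideal. -/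
lemma ker_eq_comap_of_isPullback {Y X Y' X' : Scheme.{u}} (f : Y ⟶ X) [IsClosedImmersion f]
    (v : X' ⟶ X) (u : Y' ⟶ Y) (f' : Y' ⟶ X') (hsq : IsPullback u f' f v) :
    f'.ker = f.ker.comap v := by
  have e : f' = hsq.flip.isoPullback.hom ≫ pullback.fst v f := by simp
  rw [e, Scheme.Hom.ker_comp_of_isIso, Scheme.IdealSheafData.ker_fst_of_isClosedImmersion]

set_option backward.isDefEq.respectTransparency false in
theorem S5951_main {Y X Y' X' : Scheme.{u}} (f : Y ⟶ X) [IsClosedImmersion f]
    (v : X' ⟶ X) (u : Y' ⟶ Y) (f' : Y' ⟶ X') (hsq : IsPullback u f' f v) (n : ℕ)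
    (w : PrinPart.infNbhd f' n ⟶ PrinPart.infNbhd f n)
    (hw : w ≫ PrinPart.infNbhdι f n = PrinPart.infNbhdι f' n ≫ v) :
    IsPullback w (PrinPart.infNbhdι f' n) (PrinPart.infNbhdι f n) v := by
  haveI : IsClosedImmersion (PrinPart.infNbhdι f' n) :=
    (inferInstance : IsClosedImmersion (f'.ker ^ (n + 1)).subschemeι)
  haveI : IsClosedImmersion (PrinPart.infNbhdι f n) :=
    (inferInstance : IsClosedImmersion (f.ker ^ (n + 1)).subschemeι)
  refine (isPullback_of_isClosedImmersion (PrinPart.infNbhdι f' n) (PrinPart.infNbhdι f n) w v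
    hw.symm ?_).flip
  change ((f.ker ^ (n + 1)).subschemeι).ker.comap v = ((f'.ker ^ (n + 1)).subschemeι).ker
  rw [Scheme.IdealSheafData.ker_subschemeι, Scheme.IdealSheafData.ker_subschemeι, comap_pow,
    ker_eq_comap_of_isPullback f v u f' hsq]

end Groth.Agent.Helper7.InfNbhdBC
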