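import Mathlib
import Groth.Agent.Lib.Helper7.CohStalk.AssOpen

/-! helper7: complements of closed sets meeting every closed set are Jacobson -/

set_option autoImplicit false
open CategoryTheory AlgebraicGeometry
universe u

namespace Groth.Agent.Helper7.JacCompl

/-- In a Noetherian domain with a chain `⊥ < P₁ < P₂` of primes, no nonzero element lies in all
nonzero primes. -/
theorem exists_prime_ne_bot_notMem {B : Type*} [CommRing B] [IsDomain B] [IsNoetherianRing B]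
    (P₁ P₂ : Ideal B) [P₁.IsPrime] [P₂.IsPrime] (h1 : P₁ ≠ ⊥) (h12 : P₁ < P₂)
    (f : B) (hf : f ≠ 0) : ∃ Q : Ideal B, Q.IsPrime ∧ Q ≠ ⊥ ∧ f ∉ Q := by
  classical
  by_contra hcon
  have hall : ∀ Q : Ideal B, Q.IsPrime → Q ≠ ⊥ → f ∈ Q := by
    intro Q hQ hQ0
    by_contra hfQ
    exact hcon ⟨Q, hQ, hQ0, hfQ⟩
  have hbot : (⊥ : Ideal B).IsPrime := Ideal.isPrime_bot
  have hP1pos : (⊥ : Ideal B) < P₁ := bot_lt_iff_ne_bot.mpr h1
  have hP2ht : (2 : ℕ∞) ≤ P₂.height := by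
    have ha := Ideal.height_add_one_le_of_lt_of_isPrime hP1pos
    have hb := Ideal.height_add_one_le_of_lt_of_isPrime h12
    have h0 : (0 : ℕ∞) ≤ (⊥ : Ideal B).height := zero_le
    calc (2 : ℕ∞) = 0 + 1 + 1 := by norm_num
      _ ≤ (⊥ : Ideal B).height + 1 + 1 := by gcongr
      _ ≤ P₁.height + 1 := by gcongr
      _ ≤ P₂.height := hb
  have hfin : (Ideal.span {f}).minimalPrimes.Finite :=
    Ideal.finite_minimalPrimes_of_isNoetherianRing B _
  -- every prime of height ≤ 1 that is nonzero is a minimal prime over (f)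
  have hmin : ∀ q : Ideal B, q.IsPrime → q ≠ ⊥ → q.height ≤ 1 →
      q ∈ (Ideal.span {f}).minimalPrimes := by
    intro q hq hq0 hqht
    have hfq : f ∈ q := hall q hq hq0
    have hle : Ideal.span {f} ≤ q := (Ideal.span_singleton_le_iff_mem (I := q)).mpr hfq
    obtain ⟨q', hq'min, hq'le⟩ := Ideal.exists_minimalPrimes_le hle
    have hq'prime : q'.IsPrime := hq'min.1.1
    have hq'0 : q' ≠ ⊥ := by
      intro h0
      have : f ∈ q' := hq'min.1.2 (Ideal.mem_span_singleton_self f)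
      rw [h0] at this
      exact hf (by simpa using this)
    rcases eq_or_lt_of_le hq'le with heq | hlt
    · rw [← heq]; exact hq'min
    · exfalso
      have ha := Ideal.height_add_one_le_of_lt_of_isPrime (bot_lt_iff_ne_bot.mpr hq'0)
      have hb := Ideal.height_add_one_le_of_lt_of_isPrime hlt
      have : (2 : ℕ∞) ≤ q.height := by
        calc (2 : ℕ∞) = 0 + 1 + 1 := by norm_num
          _ ≤ (⊥ : Ideal B).height + 1 + 1 := by gcongr; exact zero_le
          _ ≤ q'.height + 1 := by gcongr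
          _ ≤ q.height := hb
      have h21 : (2 : ℕ∞) ≤ 1 := this.trans hqht
      norm_num at h21
  -- prime avoidance
  have hnot : ¬ ((P₂ : Set B) ⊆ ⋃ i ∈ (hfin.toFinset : Set (Ideal B)), (i : Set B)) := by
    intro hsub
    rw [Ideal.subset_union_prime (f := fun i : Ideal B => i) ⊥ ⊥ (by
      intro i hi _ _
      exact (hfin.mem_toFinset.mp hi).1.1)] at hsub
    obtain ⟨i, hi, hP2i⟩ := hsub
    have hi' := hfin.mem_toFinset.mp hi
    have : i.height ≤ 1 :=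
      Ideal.height_le_one_of_isPrincipal_of_mem_minimalPrimes (Ideal.span {f}) i hi'
    have h21 : (2 : ℕ∞) ≤ 1 := hP2ht.trans ((Ideal.height_mono hP2i).trans this)
    norm_num at h21
  rw [Set.not_subset] at hnot
  obtain ⟨g, hgP2, hgnot⟩ := hnot
  have hgle : Ideal.span {g} ≤ P₂ := (Ideal.span_singleton_le_iff_mem (I := P₂)).mpr hgP2
  obtain ⟨q, hqmin, hqle⟩ := Ideal.exists_minimalPrimes_le hgle
  have hqprime : q.IsPrime := hqmin.1.1
  have hgq : g ∈ q := hqmin.1.2 (Ideal.mem_span_singleton_self g)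
  have hqht : q.height ≤ 1 :=
    Ideal.height_le_one_of_isPrincipal_of_mem_minimalPrimes (Ideal.span {g}) q hqmin
  have hq0 : q ≠ ⊥ := by
    intro h0
    -- then g = 0, so g lies in P₁'s ... choose a minimal prime over f below P₁
    have hg0 : g = 0 := by
      rw [h0] at hgq; simpa using hgq
    have hfP1 : f ∈ P₁ := hall P₁ inferInstance h1
    have hle : Ideal.span {f} ≤ P₁ := (Ideal.span_singleton_le_iff_mem (I := P₁)).mpr hfP1
    obtain ⟨q', hq'min, -⟩ := Ideal.exists_minimalPrimes_le hle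
    apply hgnot
    simp only [Set.mem_iUnion]
    refine ⟨q', hfin.mem_toFinset.mpr hq'min, ?_⟩
    rw [hg0]
    exact q'.zero_mem
  have hqmem := hmin q hqprime hq0 hqht
  apply hgnot
  simp only [Set.mem_iUnion]
  exact ⟨q, hfin.mem_toFinset.mpr hqmem, hgq⟩

theorem exists_prime_gt_notMem {A : Type*} [CommRing A] [IsNoetherianRing A]
    (P₀ P₁ P₂ : Ideal A) [P₀.IsPrime] [P₁.IsPrime] [P₂.IsPrime] (h01 : P₀ < P₁) (h12 : P₁ < P₂)
    (f : A) (hf : f ∉ P₀) : ∃ Q : Ideal A, Q.IsPrime ∧ P₀ < Q ∧ f ∉ Q := by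
  let π := Ideal.Quotient.mk P₀
  have hπ : Function.Surjective π := Ideal.Quotient.mk_surjective
  have hker : RingHom.ker π = P₀ := Ideal.mk_ker
  have hcm : ∀ I : Ideal A, P₀ ≤ I → (I.map π).comap π = I := by
    intro I hI
    rw [Ideal.comap_map_of_surjective π hπ, ← RingHom.ker_eq_comap_bot, hker, sup_eq_left]
    exact hI
  have hp1 : (P₁.map π).IsPrime :=
    Ideal.map_isPrime_of_surjective hπ (by rw [hker]; exact h01.le)
  have hp2 : (P₂.map π).IsPrime :=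
    Ideal.map_isPrime_of_surjective hπ (by rw [hker]; exact (h01.trans h12).le)
  have h1 : P₁.map π ≠ ⊥ := by
    intro h0
    have := hcm P₁ h01.le
    rw [h0, ← RingHom.ker_eq_comap_bot, hker] at this
    exact h01.ne this
  have h12' : P₁.map π < P₂.map π := by
    refine lt_of_le_of_ne (Ideal.map_mono h12.le) ?_
    intro heq
    have e1 := hcm P₁ h01.le
    have e2 := hcm P₂ (h01.trans h12).le
    rw [heq, e2] at e1
    exact h12.ne e1.symm
  have hf' : π f ≠ 0 := by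
    intro h0
    exact hf (Ideal.Quotient.eq_zero_iff_mem.mp h0)
  obtain ⟨Q, hQ, hQ0, hfQ⟩ := exists_prime_ne_bot_notMem (P₁.map π) (P₂.map π) h1 h12' (π f) hf'
  refine ⟨Q.comap π, Ideal.comap_isPrime π Q, ?_, hfQ⟩
  have hle : P₀ ≤ Q.comap π := by
    intro a ha
    change π a ∈ Q
    rw [Ideal.Quotient.eq_zero_iff_mem.mpr ha]
    exact Q.zero_mem
  refine lt_of_le_of_ne hle ?_
  intro heq
  apply hQ0
  rw [eq_bot_iff]
  intro b hb
  obtain ⟨a, rfl⟩ := hπ b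
  have ha : a ∈ Q.comap π := hb
  rw [← heq] at ha
  rw [Ideal.mem_bot]
  exact Ideal.Quotient.eq_zero_iff_mem.mpr ha

open Groth.Agent.Helper7.FinType in
theorem jacobsonSpace_compl (X : Scheme.{u}) [IsLocallyNoetherian X] (Y : Set X)
    (hY : IsClosed Y) (hmeet : ∀ Z : Set X, IsClosed Z → Z.Nonempty → (Z ∩ Y).Nonempty) :
    JacobsonSpace ↥(Yᶜ) := by
  classical
  rw [jacobsonSpace_iff_locallyClosed]
  rintro Z ⟨z₀, hz₀⟩ ⟨O, C, hO, hC, rfl⟩
  obtain ⟨O', hO', rfl⟩ := isOpen_induced_iff.mp hO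
  obtain ⟨C', hC', rfl⟩ := isClosed_induced_iff.mp hC
  have hz₀O : (z₀ : X) ∈ O' := hz₀.1
  have hz₀C : (z₀ : X) ∈ C' := hz₀.2
  have hz₀Y : (z₀ : X) ∉ Y := z₀.2
  let O₁ : X.Opens := ⟨O' ∩ Yᶜ, hO'.inter hY.isOpen_compl⟩
  obtain ⟨W, hW, hz₀W, hWO⟩ := TopologicalSpace.Opens.isBasis_iff_nbhd.mp X.isBasis_affineOpens
    (show (z₀ : X) ∈ O₁ from ⟨hz₀O, hz₀Y⟩)
  have hW : IsAffineOpen W := hW
  have hWnoeth : IsNoetherianRing Γ(X, W) := IsLocallyNoetherian.component_noetherian ⟨W, hW⟩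
  let S : Set (Ideal Γ(X, W)) :=
    {I | ∃ (w : X) (hw : w ∈ W), w ∈ C' ∧ I = (hW.primeIdealOf ⟨w, hw⟩).asIdeal}
  have hSne : S.Nonempty := ⟨_, (z₀ : X), hz₀W, hz₀C, rfl⟩
  obtain ⟨I, ⟨z, hzW, hzC, rfl⟩, hmax⟩ := set_has_maximal_iff_noetherian.mpr hWnoeth S hSne
  have hkey : ∀ w : X, w ∈ W → w ∈ C' → z ⤳ w → w = z := by
    intro w hwW hwC hzw
    have hle := (primeIdealOf_le_iff_specializes hW z w hzW hwW).mpr hzw
    have hnlt := hmax _ ⟨w, hwW, hwC, rfl⟩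
    have heq : (hW.primeIdealOf ⟨z, hzW⟩).asIdeal = (hW.primeIdealOf ⟨w, hwW⟩).asIdeal :=
      eq_of_le_of_not_lt hle hnlt
    have heq' : hW.primeIdealOf ⟨z, hzW⟩ = hW.primeIdealOf ⟨w, hwW⟩ := PrimeSpectrum.ext heq
    have h1 := hW.fromSpec_primeIdealOf ⟨z, hzW⟩
    have h2 := hW.fromSpec_primeIdealOf ⟨w, hwW⟩
    rw [heq'] at h1
    exact h2.symm.trans h1
  have hzO₁ : z ∈ O₁ := hWO hzW
  have hzO : z ∈ O' := hzO₁.1
  have hzY : z ∈ Yᶜ := hzO₁.2
  refine ⟨⟨z, hzY⟩, ⟨hzO, hzC⟩, ?_⟩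
  rw [mem_closedPoints_iff, ← closure_subset_iff_isClosed]
  intro b hb
  have hzb : (⟨z, hzY⟩ : ↥(Yᶜ)) ⤳ b := specializes_iff_mem_closure.mpr hb
  have hzb' : z ⤳ (b : X) := Topology.IsInducing.subtypeVal.specializes_iff.mpr hzb
  rw [Set.mem_singleton_iff]
  apply Subtype.ext
  change (b : X) = z
  by_contra hne
  set w : X := (b : X) with hw
  have hwY : w ∉ Y := b.2
  obtain ⟨y, hyw, hyY⟩ := hmeet (closure {w}) isClosed_closure ⟨w, subset_closure rfl⟩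
  have hwy : w ⤳ y := specializes_iff_mem_closure.mpr hyw
  obtain ⟨V, hV, hyV, -⟩ := TopologicalSpace.Opens.isBasis_iff_nbhd.mp X.isBasis_affineOpens
    (show y ∈ (⊤ : X.Opens) from trivial)
  have hV : IsAffineOpen V := hV
  have hVnoeth : IsNoetherianRing Γ(X, V) := IsLocallyNoetherian.component_noetherian ⟨V, hV⟩
  have hwV : w ∈ V := hwy.mem_open V.isOpen hyV
  have hzV : z ∈ V := hzb'.mem_open V.isOpen hwV
  have h01 : (hV.primeIdealOf ⟨z, hzV⟩).asIdeal < (hV.primeIdealOf ⟨w, hwV⟩).asIdeal := by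
    refine lt_of_le_of_ne ((primeIdealOf_le_iff_specializes hV z w hzV hwV).mpr hzb') ?_
    intro heq
    have heq' : hV.primeIdealOf ⟨z, hzV⟩ = hV.primeIdealOf ⟨w, hwV⟩ := PrimeSpectrum.ext heq
    have h1 := hV.fromSpec_primeIdealOf ⟨z, hzV⟩
    have h2 := hV.fromSpec_primeIdealOf ⟨w, hwV⟩
    rw [heq'] at h1
    exact hne (h2.symm.trans h1)
  have h12 : (hV.primeIdealOf ⟨w, hwV⟩).asIdeal < (hV.primeIdealOf ⟨y, hyV⟩).asIdeal := by
    refine lt_of_le_of_ne ((primeIdealOf_le_iff_specializes hV w y hwV hyV).mpr hwy) ?_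
    intro heq
    have heq' : hV.primeIdealOf ⟨w, hwV⟩ = hV.primeIdealOf ⟨y, hyV⟩ := PrimeSpectrum.ext heq
    have h1 := hV.fromSpec_primeIdealOf ⟨w, hwV⟩
    have h2 := hV.fromSpec_primeIdealOf ⟨y, hyV⟩
    rw [heq'] at h1
    have : y = w := h2.symm.trans h1
    exact hwY (this ▸ hyY)
  obtain ⟨f, hfle, hzf⟩ := hV.exists_basicOpen_le (V := W ⊓ V) ⟨z, ⟨hzW, hzV⟩⟩ hzV
  have hfz : f ∉ (hV.primeIdealOf ⟨z, hzV⟩).asIdeal := by
    rw [notMem_primeIdealOf_iff hV z hzV f, ← X.mem_basicOpen f z hzV]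
    exact hzf
  obtain ⟨Q, hQ, hlt, hfQ⟩ := exists_prime_gt_notMem _ _ _ h01 h12 f hfz
  let Q' : PrimeSpectrum Γ(X, V) := ⟨Q, hQ⟩
  have hw'V : hV.fromSpec Q' ∈ V := fromSpec_mem hV Q'
  have hQ'eq := primeIdealOf_fromSpec hV Q' hw'V
  have hw'f : hV.fromSpec Q' ∈ X.basicOpen f := by
    rw [X.mem_basicOpen f _ hw'V, ← notMem_primeIdealOf_iff hV _ hw'V f, hQ'eq]
    exact hfQ
  have hw'W : hV.fromSpec Q' ∈ W := (hfle hw'f).1
  have hzw' : z ⤳ hV.fromSpec Q' := by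
    rw [← primeIdealOf_le_iff_specializes hV z _ hzV hw'V, hQ'eq]
    exact hlt.le
  have hw'C : hV.fromSpec Q' ∈ C' := hzw'.mem_closed hC' hzC
  have hw'z := hkey _ hw'W hw'C hzw'
  have : hV.primeIdealOf ⟨hV.fromSpec Q', hw'V⟩ = hV.primeIdealOf ⟨z, hzV⟩ := by
    congr 1
    exact Subtype.ext hw'z
  rw [hQ'eq] at this
  have h3 : Q = (hV.primeIdealOf ⟨z, hzV⟩).asIdeal := congrArg PrimeSpectrum.asIdeal this
  exact hlt.ne h3.symm

end Groth.Agent.Helper7.JacCompl
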