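import Mathlib

set_option autoImplicit false
set_option linter.style.haveILetI false
universe u

open AlgebraicGeometry CategoryTheory Limits IsLocalRing

/-! helper7: closed points of a scheme locally of finite type over a field versus points with
values in an algebraic closure (S10828). -/

namespace Groth.Agent.Helper7.KPts

section FieldTheory

variable {k L K : Type*} [Field k] [Field L] [Field K] [Algebra k L] [Algebra k K]

/-- type synonym carrying the `L`-algebra structure induced by an embedding. -/
def Via (_φ : L →ₐ[k] K) : Type _ := K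

noncomputable instance (φ : L →ₐ[k] K) : Field (Via φ) := inferInstanceAs (Field K)
noncomputable instance (φ : L →ₐ[k] K) : Algebra k (Via φ) := inferInstanceAs (Algebra k K)
noncomputable instance (φ : L →ₐ[k] K) : Algebra L (Via φ) := φ.toRingHom.toAlgebra
instance (φ : L →ₐ[k] K) : IsScalarTower k L (Via φ) :=
  IsScalarTower.of_algebraMap_eq (fun a => (φ.commutes a).symm)

lemma exists_aut [IsAlgClosure k K] (φ₁ φ₂ : L →ₐ[k] K) :
    ∃ σ : K ≃ₐ[k] K, ∀ a, σ (φ₁ a) = φ₂ a := by
  haveI : IsAlgClosed K := IsAlgClosure.isAlgClosed k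
  haveI : Algebra.IsAlgebraic k K := IsAlgClosure.isAlgebraic
  haveI : IsAlgClosed (Via φ₂) := inferInstanceAs (IsAlgClosed K)
  haveI : Algebra.IsAlgebraic k (Via φ₁) := inferInstanceAs (Algebra.IsAlgebraic k K)
  haveI : Algebra.IsAlgebraic L (Via φ₁) := Algebra.IsAlgebraic.tower_top (K := k) L
  let τ : Via φ₁ →ₐ[L] Via φ₂ := IsAlgClosed.lift
  let τ' : K →ₐ[k] K :=
    { toRingHom := τ.toRingHom
      commutes' := fun a => by
        have h1 : (algebraMap k K a : K) = (algebraMap L (Via φ₁) (algebraMap k L a) : Via φ₁) :=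
          (φ₁.commutes a).symm
        have h2 : (algebraMap k K a : K) = (algebraMap L (Via φ₂) (algebraMap k L a) : Via φ₂) :=
          (φ₂.commutes a).symm
        change τ (algebraMap k K a) = algebraMap k K a
        rw [h1, τ.commutes, ← h2]
        exact h1 }
  have hbij : Function.Bijective τ' := Algebra.IsAlgebraic.algHom_bijective τ'
  refine ⟨AlgEquiv.ofBijective τ' hbij, fun a => ?_⟩
  change τ (algebraMap L (Via φ₁) a) = algebraMap L (Via φ₂) a
  exact τ.commutes a

end FieldTheory

section Sch

variable (k K : Type u) [Field k] [Field K] [Algebra k K]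
  {X : Scheme.{u}} (f : X ⟶ Spec (CommRingCat.of k))

/-- structure map `k → κ(x)`. -/
noncomputable def ψ (x : X) : CommRingCat.of k ⟶ X.residueField x :=
  Spec.preimage (X.fromSpecResidueField x ≫ f)

lemma SpecMap_ψ (x : X) : Spec.map (ψ k f x) = X.fromSpecResidueField x ≫ f :=
  Spec.map_preimage _

/-- the embedding `κ(p pt) → K` attached to a `K`-point. -/
noncomputable def φ (p : Spec (CommRingCat.of K) ⟶ X) :
    X.residueField (p.base (closedPoint K)) ⟶ CommRingCat.of K :=
  X.descResidueField (Scheme.stalkClosedPointTo p)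

lemma SpecMap_φ (p : Spec (CommRingCat.of K) ⟶ X) :
    Spec.map (φ K p) ≫ X.fromSpecResidueField (p.base (closedPoint K)) = p :=
  Scheme.descResidueField_stalkClosedPointTo_fromSpecResidueField K X p

lemma ψ_φ (p : Spec (CommRingCat.of K) ⟶ X)
    (hp : p ≫ f = Spec.map (CommRingCat.ofHom (algebraMap k K))) :
    ψ k f (p.base (closedPoint K)) ≫ φ K p = CommRingCat.ofHom (algebraMap k K) := by
  apply Spec.map_injective
  rw [Spec.map_comp, SpecMap_ψ, ← Category.assoc, SpecMap_φ, hp]

set_option backward.isDefEq.respectTransparency false in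
lemma exists_point_of_isClosed [IsAlgClosure k K] [LocallyOfFiniteType f] (x : X)
    (hx : IsClosed ({x} : Set X)) :
    ∃ p : Spec (CommRingCat.of K) ⟶ X,
      p ≫ f = Spec.map (CommRingCat.ofHom (algebraMap k K)) ∧ p.base (closedPoint K) = x := by
  have hfin : IsFinite (X.fromSpecResidueField x ≫ f) := by
    rw [isClosed_singleton_iff_isClosedImmersion] at hx
    rw [isFinite_iff_locallyOfFiniteType_of_jacobsonSpace]
    infer_instance
  have hψ : (ψ k f x).hom.Finite := by
    rw [← IsFinite.SpecMap_iff, SpecMap_ψ]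
    exact hfin
  letI : Algebra k (X.residueField x) := (ψ k f x).hom.toAlgebra
  haveI : Module.Finite k (X.residueField x) := hψ
  haveI : IsAlgClosed K := IsAlgClosure.isAlgClosed k
  let φ₀ : X.residueField x →ₐ[k] K := IsAlgClosed.lift
  refine ⟨Spec.map (CommRingCat.ofHom φ₀.toRingHom) ≫ X.fromSpecResidueField x, ?_, ?_⟩
  · rw [Category.assoc, ← SpecMap_ψ, ← Spec.map_comp]
    congr 1
    ext a
    exact φ₀.commutes a
  · exact Scheme.fromSpecResidueField_apply x _

set_option backward.isDefEq.respectTransparency false in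
lemma isMaximal_primeIdealOf [Algebra.IsAlgebraic k K] (p : Spec (CommRingCat.of K) ⟶ X)
    (hp : p ≫ f = Spec.map (CommRingCat.ofHom (algebraMap k K)))
    (U : X.Opens) (hU : IsAffineOpen U) (hxU : p.base (closedPoint K) ∈ U) :
    (hU.primeIdealOf ⟨p.base (closedPoint K), hxU⟩).asIdeal.IsMaximal := by
  have htop : p ⁻¹ᵁ U = ⊤ := Scheme.preimage_eq_top_of_closedPoint_mem p hxU
  have hle : (⊤ : (Spec (CommRingCat.of K)).Opens) ≤ p ⁻¹ᵁ U := htop.ge
  have h1 := IsAffineOpen.comap_primeIdealOf_appLE (f := p) U hU ⊤ (isAffineOpen_top _) hle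
    (x := closedPoint K) trivial
  -- θ : Γ(X,U) → K
  let θ : Γ(X, U) ⟶ CommRingCat.of K := p.appLE U ⊤ hle ≫ (Scheme.ΓSpecIso (CommRingCat.of K)).hom
  let c : CommRingCat.of k ⟶ Γ(X, U) :=
    (Scheme.ΓSpecIso (CommRingCat.of k)).inv ≫ f.appTop ≫ X.presheaf.map (homOfLE le_top).op
  have hθc : c ≫ θ = CommRingCat.ofHom (algebraMap k K) := by
    simp only [c, θ, Category.assoc]
    rw [Scheme.Hom.map_appLE_assoc]
    have h2 : f.appTop ≫ p.appLE ⊤ ⊤ (le_top) = (p ≫ f).appTop := by
      rw [Scheme.Hom.comp_appTop]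
      congr 1
    rw [reassoc_of% h2, hp, Scheme.ΓSpecIso_naturality, Iso.inv_hom_id_assoc]
  -- the prime is the kernel of θ
  have hker : (hU.primeIdealOf ⟨p.base (closedPoint K), hxU⟩).asIdeal = RingHom.ker θ.hom := by
    rw [← h1]
    ext r
    simp only [PrimeSpectrum.comap_asIdeal, Ideal.mem_comap, RingHom.mem_ker, θ,
      CommRingCat.hom_comp, RingHom.coe_comp, Function.comp_apply]
    set Q := ((isAffineOpen_top (Spec (CommRingCat.of K))).primeIdealOf
      ⟨closedPoint K, trivial⟩) with hQ
    set e := (Scheme.ΓSpecIso (CommRingCat.of K)).commRingCatIsoToRingEquiv with he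
    have hQbot : Q.asIdeal = ⊥ := by
      have hfield : IsField Γ(Spec (CommRingCat.of K), ⊤) :=
        e.toMulEquiv.isField (Field.toIsField K)
      letI := hfield.toField
      exact (Ideal.eq_bot_or_top Q.asIdeal).resolve_right Q.isPrime.ne_top
    rw [hQbot, Ideal.mem_bot]
    constructor
    · intro h; rw [h, map_zero]
    · intro h
      exact e.injective (by rw [map_zero]; exact h)
  rw [hker]
  -- range of θ is a field
  letI : Algebra k Γ(X, U) := c.hom.toAlgebra
  let θa : Γ(X, U) →ₐ[k] K :=
    { toRingHom := θ.hom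
      commutes' := fun a => by
        have := congrArg (fun g => g.hom a) hθc
        simp only [CommRingCat.hom_comp, RingHom.coe_comp, Function.comp_apply,
          CommRingCat.hom_ofHom] at this
        exact this }
  have hfield : IsField θa.range := Subalgebra.isField_of_algebraic θa.range
  letI := hfield.toField
  have hsurj : Function.Surjective θa.rangeRestrict := θa.rangeRestrict_surjective
  have hmax := RingHom.ker_isMaximal_of_surjective θa.rangeRestrict.toRingHom hsurj
  have hk : RingHom.ker θa.rangeRestrict.toRingHom = RingHom.ker θ.hom := by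
    ext r
    simp only [RingHom.mem_ker]
    constructor
    · intro h
      have := congrArg Subtype.val h
      exact this
    · intro h
      apply Subtype.ext
      exact h
  rw [← hk]
  exact hmax

set_option backward.isDefEq.respectTransparency false in
lemma isClosed_singleton_of_isMaximal (x : X)
    (h : ∀ (U : X.Opens) (hU : IsAffineOpen U) (hxU : x ∈ U),
      (hU.primeIdealOf ⟨x, hxU⟩).asIdeal.IsMaximal) : IsClosed ({x} : Set X) := by
  rw [TopologicalSpace.IsOpenCover.isClosed_iff_coe_preimage (iSup_affineOpens_eq_top X)]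
  intro U
  by_cases hxU : x ∈ U.1
  · have h1 : ((fun y : U.1 => (y : X)) ⁻¹' ({x} : Set X) : Set U.1) = {⟨x, hxU⟩} := by
      ext y
      simp only [Set.mem_preimage, Set.mem_singleton_iff]
      exact ⟨fun hy => Subtype.ext hy, fun hy => congrArg Subtype.val hy⟩
    rw [h1]
    have hmax := h U.1 U.2 hxU
    have hcl := (U.2.primeIdealOf ⟨x, hxU⟩).isClosed_singleton_iff_isMaximal.mpr hmax
    rw [IsAffineOpen.primeIdealOf, ← Set.image_singleton] at hcl
    refine (Topology.IsClosedEmbedding.isClosed_iff_image_isClosed <|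
      IsHomeomorph.isClosedEmbedding ?_).mpr hcl
    apply (TopCat.isIso_iff_isHomeomorph _).mp
    infer_instance
  · have h1 : ((fun y : U.1 => (y : X)) ⁻¹' ({x} : Set X) : Set U.1) = ∅ := by
      ext y
      simp only [Set.mem_preimage, Set.mem_singleton_iff, Set.mem_empty_iff_false, iff_false]
      intro hy
      exact hxU (hy ▸ y.2)
    rw [h1]
    exact isClosed_empty

lemma isClosed_of_point [Algebra.IsAlgebraic k K] (p : Spec (CommRingCat.of K) ⟶ X)
    (hp : p ≫ f = Spec.map (CommRingCat.ofHom (algebraMap k K))) :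
    IsClosed ({p.base (closedPoint K)} : Set X) :=
  isClosed_singleton_of_isMaximal _ (fun U hU hxU => isMaximal_primeIdealOf k K f p hp U hU hxU)

lemma ψ_comp (x : X) (φ' : X.residueField x ⟶ CommRingCat.of K)
    (h : (Spec.map φ' ≫ X.fromSpecResidueField x) ≫ f =
      Spec.map (CommRingCat.ofHom (algebraMap k K))) :
    ψ k f x ≫ φ' = CommRingCat.ofHom (algebraMap k K) := by
  apply Spec.map_injective
  rw [Spec.map_comp, SpecMap_ψ, ← Category.assoc, h]

set_option backward.isDefEq.respectTransparency false in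
lemma exists_aut_of_apply_eq [IsAlgClosure k K] (p q : Spec (CommRingCat.of K) ⟶ X)
    (hp : p ≫ f = Spec.map (CommRingCat.ofHom (algebraMap k K)))
    (hq : q ≫ f = Spec.map (CommRingCat.ofHom (algebraMap k K)))
    (h : p.base (closedPoint K) = q.base (closedPoint K)) :
    ∃ σ : K ≃ₐ[k] K, q = Spec.map (CommRingCat.ofHom σ.toRingHom) ≫ p := by
  set x := p.base (closedPoint K) with hx
  let φq : X.residueField x ⟶ CommRingCat.of K := (X.residueFieldCongr h).hom ≫ φ K q
  have hφq : Spec.map φq ≫ X.fromSpecResidueField x = q := by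
    simp only [φq, Spec.map_comp, Category.assoc]
    rw [Scheme.residueFieldCongr_fromSpecResidueField, SpecMap_φ]
  have h1 : ψ k f x ≫ φ K p = CommRingCat.ofHom (algebraMap k K) := ψ_φ k K f p hp
  have h2 : ψ k f x ≫ φq = CommRingCat.ofHom (algebraMap k K) :=
    ψ_comp k K f x φq (by rw [hφq, hq])
  letI : Algebra k (X.residueField x) := (ψ k f x).hom.toAlgebra
  let a₁ : X.residueField x →ₐ[k] K :=
    { toRingHom := (φ K p).hom
      commutes' := fun a => by
        have := congrArg (fun g => g.hom a) h1
        simp only [CommRingCat.hom_comp, RingHom.coe_comp, Function.comp_apply,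
          CommRingCat.hom_ofHom] at this
        exact this }
  let a₂ : X.residueField x →ₐ[k] K :=
    { toRingHom := φq.hom
      commutes' := fun a => by
        have := congrArg (fun g => g.hom a) h2
        simp only [CommRingCat.hom_comp, RingHom.coe_comp, Function.comp_apply,
          CommRingCat.hom_ofHom] at this
        exact this }
  obtain ⟨σ, hσ⟩ := exists_aut a₁ a₂
  refine ⟨σ, ?_⟩
  have h3 : φq = φ K p ≫ CommRingCat.ofHom σ.toRingHom := by
    ext a
    exact (hσ a).symm
  rw [← hφq, h3, Spec.map_comp, Category.assoc, SpecMap_φ]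

theorem S10828_main [IsAlgClosure k K] [LocallyOfFiniteType f] :
    (∀ x : X, IsClosed ({x} : Set X) ↔
        ∃ p : Spec (CommRingCat.of K) ⟶ X,
          p ≫ f = Spec.map (CommRingCat.ofHom (algebraMap k K)) ∧
          p.base (IsLocalRing.closedPoint K) = x) ∧
      ∀ p q : Spec (CommRingCat.of K) ⟶ X,
        p ≫ f = Spec.map (CommRingCat.ofHom (algebraMap k K)) →
        q ≫ f = Spec.map (CommRingCat.ofHom (algebraMap k K)) →
          (p.base (IsLocalRing.closedPoint K) = q.base (IsLocalRing.closedPoint K) ↔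
            ∃ σ : K ≃ₐ[k] K, q = Spec.map (CommRingCat.ofHom σ.toRingHom) ≫ p) := by
  haveI : Algebra.IsAlgebraic k K := IsAlgClosure.isAlgebraic
  refine ⟨fun x => ⟨fun hx => exists_point_of_isClosed k K f x hx, ?_⟩, fun p q hp hq => ⟨?_, ?_⟩⟩
  · rintro ⟨p, hp, rfl⟩
    exact isClosed_of_point k K f p hp
  · exact exists_aut_of_apply_eq k K f p q hp hq
  · rintro ⟨σ, rfl⟩
    change _ = p.base ((Spec.map (CommRingCat.ofHom σ.toRingHom)).base (closedPoint K))
    congr 1
    exact Subsingleton.elim (α := PrimeSpectrum K) _ _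

end Sch

end Groth.Agent.Helper7.KPts
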