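import Mathlib

set_option autoImplicit false
universe u
open CategoryTheory CategoryTheory.Limits AlgebraicGeometry TopologicalSpace Opposite

/-! helper7: a locally ringed space which is the disjoint union of two affine opens is affine. -/

namespace Groth.Agent.Helper7.LRSAff

/-- a scheme covered by two disjoint affine opens is affine -/
lemma isAffine_of_isCompl {X : Scheme.{u}} (U V : X.Opens) (hUV : IsCompl U V)
    (hU : IsAffineOpen U) (hV : IsAffineOpen V) : IsAffine X := by
  let Z : Bool → Scheme.{u} := fun b => cond b U.toScheme V.toScheme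
  let f : ∀ b, Z b ⟶ X := fun b => match b with
    | true => U.ι
    | false => V.ι
  have hf : ∀ b, IsOpenImmersion (f b) := by
    intro b; cases b
    · exact inferInstanceAs (IsOpenImmersion V.ι)
    · exact inferInstanceAs (IsOpenImmersion U.ι)
  have hZ : ∀ b, IsAffine (Z b) := by
    intro b; cases b
    · exact hV
    · exact hU
  have hrT : (f true).opensRange = U := U.opensRange_ι
  have hrF : (f false).opensRange = V := V.opensRange_ι
  have hcov : ⨆ b, (f b).opensRange = ⊤ := by
    rw [iSup_bool_eq, hrT, hrF]
    exact hUV.sup_eq_top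
  have hdisj : Pairwise (Function.onFun Disjoint (fun b => (f b).opensRange)) := by
    intro a b hab
    rw [Function.onFun_apply]
    cases a <;> cases b
    · exact absurd rfl hab
    · rw [hrT, hrF]; exact hUV.disjoint.symm
    · rw [hrT, hrF]; exact hUV.disjoint
    · exact absurd rfl hab
  obtain ⟨hcol⟩ := nonempty_isColimit_cofanMk_of f hcov hdisj
  let e : ∐ Z ≅ X := (coproductIsCoproduct Z).coconePointUniqueUpToIso hcol
  exact .of_isIso e.inv

set_option backward.isDefEq.respectTransparency false in
theorem isIso_toΓSpec_of_isCompl (X : LocallyRingedSpace.{u}) (U V : Opens X.toTopCat)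
    (hUV : IsCompl U V) (A B : CommRingCat.{u})
    (eU : X.restrict U.isOpenEmbedding ≅ (Spec A).toLocallyRingedSpace)
    (eV : X.restrict V.isOpenEmbedding ≅ (Spec B).toLocallyRingedSpace) :
    IsIso X.toΓSpec := by
  let X' : Scheme.{u} :=
    { toLocallyRingedSpace := X
      local_affine := by
        intro x
        have hx : x ∈ U ⊔ V := by rw [hUV.sup_eq_top]; trivial
        rcases hx with hx | hx
        · exact ⟨⟨U, hx⟩, A, ⟨eU⟩⟩
        · exact ⟨⟨V, hx⟩, B, ⟨eV⟩⟩ }
  let U' : X'.Opens := U
  let V' : X'.Opens := V
  have hU : IsAffineOpen U' := by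
    let i : U'.toScheme ≅ Spec A :=
      Scheme.fullyFaithfulForgetToLocallyRingedSpace.preimageIso eU
    exact IsAffine.of_isIso i.hom
  have hV : IsAffineOpen V' := by
    let i : V'.toScheme ≅ Spec B :=
      Scheme.fullyFaithfulForgetToLocallyRingedSpace.preimageIso eV
    exact IsAffine.of_isIso i.hom
  have haff : IsAffine X' := isAffine_of_isCompl U' V' hUV hU hV
  have h1 : IsIso X'.toSpecΓ := haff.affine
  have h2 : IsIso (Scheme.forgetToLocallyRingedSpace.map X'.toSpecΓ) := inferInstance
  exact h2

end Groth.Agent.Helper7.LRSAff
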