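import Mathlib
import Groth.Prelude.Def_W4stkremschemesLRS

set_option autoImplicit false

/-! helper7: for a quasi-compact morphism of schemes the kernel of the structure map is locally generated by sections (stalkwise). -/

namespace Groth.Agent.Helper7.LRSClImm

open CategoryTheory AlgebraicGeometry TopologicalSpace Opposite

universe u

set_option backward.isDefEq.respectTransparency false in
theorem kerLocallyGenerated {X Y : Scheme.{u}} (f : X ⟶ Y) [QuasiCompact f] :
    LRSImm.KerLocallyGenerated f.toLRSHom := by
  intro x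
  obtain ⟨_, ⟨U, hU, rfl⟩, hxU, -⟩ :=
    Y.isBasis_affineOpens.exists_subset_of_mem_open (Set.mem_univ x) isOpen_univ
  refine ⟨U, hxU, RingHom.ker (f.app U).hom, fun s => (s : Γ(Y, U)), ?_, ?_⟩
  · intro j
    exact j.2
  · intro x' hx'
    apply le_antisymm
    · rw [Ideal.span_le]
      rintro _ ⟨j, rfl⟩
      change (TopCat.Presheaf.stalkFunctor CommRingCat x').map f.c
        (Y.presheaf.germ U x' hx' (j : Γ(Y, U))) = 0
      rw [TopCat.Presheaf.stalkFunctor_map_germ_apply]
      have : (f.c.app (op U)) (j : Γ(Y, U)) = 0 := j.2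
      rw [this, map_zero]
    · intro t ht
      have ht' : (TopCat.Presheaf.stalkFunctor CommRingCat x').map f.c t = 0 := ht
      obtain ⟨W, hxW, a, rfl⟩ := Y.presheaf.exists_germ_eq t
      rw [TopCat.Presheaf.stalkFunctor_map_germ_apply] at ht'
      rw [← map_zero ((f.base _* X.presheaf).germ W x' hxW).hom] at ht'
      obtain ⟨W', hxW', i1, i2, e⟩ := TopCat.Presheaf.germ_eq _ x' hxW hxW _ _ ht'
      rw [map_zero] at e
      obtain ⟨c, hcW', hxc⟩ := hU.exists_basicOpen_le (V := W') ⟨x', hxW'⟩ hx'
      have hcW : Y.basicOpen c ≤ W := hcW'.trans i1.le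
      have h0 : f.app (Y.basicOpen c) (Y.presheaf.map (homOfLE hcW).op a) = 0 := by
        have e1 : Y.presheaf.map (homOfLE hcW).op a =
            Y.presheaf.map (homOfLE hcW').op (Y.presheaf.map i1.op a) := by
          rw [← ConcreteCategory.comp_apply, ← Functor.map_comp]
          rfl
        rw [e1, ← ConcreteCategory.comp_apply, f.naturality, ConcreteCategory.comp_apply]
        have e2 : f.app W' (Y.presheaf.map i1.op a) = 0 := by
          rw [← ConcreteCategory.comp_apply, f.naturality, ConcreteCategory.comp_apply]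
          exact e
        rw [e2, map_zero]
      have hloc := hU.isLocalization_basicOpen c
      obtain ⟨⟨a₂, ⟨_, n, rfl⟩⟩, h2⟩ := IsLocalization.surj (Submonoid.powers c)
        (Y.presheaf.map (homOfLE hcW).op a)
      simp only [RingHom.algebraMap_toAlgebra] at h2
      have hle : Y.basicOpen c ≤ U := Y.basicOpen_le c
      have hpre : X.basicOpen (f.app U c) ≤ f ⁻¹ᵁ Y.basicOpen c :=
        (Scheme.preimage_basicOpen f c).ge
      have h4 : f.app (Y.basicOpen c) (Y.presheaf.map (homOfLE hle).op a₂) = 0 := by
        have h2' : Y.presheaf.map (homOfLE hle).op a₂ =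
            Y.presheaf.map (homOfLE hcW).op a * Y.presheaf.map (homOfLE hle).op (c ^ n) := h2.symm
        rw [h2', map_mul, h0, zero_mul]
      have h3 : X.presheaf.map (homOfLE (X.basicOpen_le (f.app U c))).op (f.app U a₂) = 0 := by
        have e3 : ∀ z : Γ(X, f ⁻¹ᵁ U),
            X.presheaf.map (homOfLE (X.basicOpen_le (f.app U c))).op z =
            X.presheaf.map (homOfLE hpre).op
              (X.presheaf.map ((Opens.map f.base).map (homOfLE hle)).op z) := by
          intro z
          rw [← ConcreteCategory.comp_apply, ← Functor.map_comp]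
          rfl
        have e4 : X.presheaf.map ((Opens.map f.base).map (homOfLE hle)).op (f.app U a₂) =
            f.app (Y.basicOpen c) (Y.presheaf.map (homOfLE hle).op a₂) := by
          rw [← ConcreteCategory.comp_apply, ← ConcreteCategory.comp_apply, f.naturality]
          rfl
        rw [e3, e4, h4, map_zero]
      have hcomp : IsCompact (f ⁻¹ᵁ U).1 :=
        QuasiCompact.isCompact_preimage (f := f) _ U.2 hU.isCompact
      obtain ⟨m, hm⟩ := exists_pow_mul_eq_zero_of_res_basicOpen_eq_zero_of_isCompact X hcomp
        (f.app U a₂) (f.app U c) h3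
      have hker : c ^ m * a₂ ∈ RingHom.ker (f.app U).hom := by
        rw [RingHom.mem_ker, map_mul, map_pow]
        exact hm
      have hunit : IsUnit (Y.presheaf.germ U x' hx' c) := (Y.mem_basicOpen c x' hx').mp hxc
      have g1 : Y.presheaf.germ U x' hx' a₂ =
          Y.presheaf.germ W x' hxW a * (Y.presheaf.germ U x' hx' c) ^ n := by
        have h2' : Y.presheaf.map (homOfLE hle).op a₂ =
            Y.presheaf.map (homOfLE hcW).op a * Y.presheaf.map (homOfLE hle).op (c ^ n) := h2.symm
        rw [← Y.presheaf.germ_res_apply (homOfLE hle) x' hxc a₂, h2', map_mul,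
          Y.presheaf.germ_res_apply, Y.presheaf.germ_res_apply, map_pow]
      have hgerm : Y.presheaf.germ U x' hx' (c ^ m * a₂) =
          (Y.presheaf.germ U x' hx' c) ^ (m + n) * Y.presheaf.germ W x' hxW a := by
        rw [map_mul, map_pow, g1]
        ring
      have hfin : Y.presheaf.germ W x' hxW a =
          ((hunit.unit ^ (m + n))⁻¹ : (Y.presheaf.stalk x')ˣ) *
            Y.presheaf.germ U x' hx' (c ^ m * a₂) := by
        rw [hgerm, ← mul_assoc]
        have : (((hunit.unit ^ (m + n))⁻¹ : (Y.presheaf.stalk x')ˣ) : Y.presheaf.stalk x') *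
            (Y.presheaf.germ U x' hx' c) ^ (m + n) = 1 := by
          have h5 : (Y.presheaf.germ U x' hx' c) ^ (m + n) =
              ((hunit.unit ^ (m + n) : (Y.presheaf.stalk x')ˣ) : Y.presheaf.stalk x') := by
            simp
          rw [h5, Units.inv_mul]
        rw [this, one_mul]
      rw [hfin]
      exact Ideal.mul_mem_left _ _ (Ideal.subset_span ⟨⟨_, hker⟩, rfl⟩)

theorem isClosedImmersion {X Y : Scheme.{u}} (f : X ⟶ Y) (h1 : Topology.IsClosedEmbedding f)
    (h2 : TopCat.Presheaf.IsLocallySurjective f.c) :
    LRSImm.IsClosedImmersion f.toLRSHom := by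
  have : QuasiCompact f := ⟨fun U hU hUc => h1.isCompact_preimage hUc⟩
  exact ⟨h1, h2, kerLocallyGenerated f⟩

end Groth.Agent.Helper7.LRSClImm
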