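import Mathlib
import Groth.Prelude.Def_LieS
import Groth.Agent.Lib.Helper7.EpiHomeo

universe u
open AlgebraicGeometry CategoryTheory TopologicalSpace Opposite

/-! helper7: the coordinate-multiplying map of iterated dual numbers is an epimorphism; uniqueness of brackets. -/

namespace Groth.Agent.Helper7.LieEpi

theorem isHomeomorph_of_comp {X Y Z : Type*} [TopologicalSpace X] [TopologicalSpace Y]
    [TopologicalSpace Z] (g : X → Y) (f : Y → Z) (hg : IsHomeomorph g)
    (hfg : IsHomeomorph (f ∘ g)) : IsHomeomorph f := by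
  have : f = (f ∘ g) ∘ (hg.homeomorph g).symm := by
    funext y
    simp only [Function.comp_apply]
    congr 1
    exact ((hg.homeomorph g).apply_symm_apply y).symm
  rw [this]
  exact hfg.comp (hg.homeomorph g).symm.isHomeomorph

theorem isHomeomorph_comap_of_comp {R R' A : Type*} [CommRing R] [CommRing R'] [CommRing A]
    (φ : R →+* R') (σ : R' →+* A) (hσ : Function.Surjective σ)
    (hσk : RingHom.ker σ ≤ nilradical R')
    (hτ : Function.Surjective (σ.comp φ)) (hτk : RingHom.ker (σ.comp φ) ≤ nilradical R) :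
    IsHomeomorph (PrimeSpectrum.comap φ) := by
  have h1 : IsHomeomorph (PrimeSpectrum.comap σ) :=
    PrimeSpectrum.isHomeomorph_comap σ
      (fun x => ⟨1, one_pos, by rw [pow_one]; exact hσ x⟩) hσk
  have h2 : IsHomeomorph (PrimeSpectrum.comap (σ.comp φ)) :=
    PrimeSpectrum.isHomeomorph_comap (σ.comp φ)
      (fun x => ⟨1, one_pos, by rw [pow_one]; exact hτ x⟩) hτk
  refine isHomeomorph_of_comp (PrimeSpectrum.comap σ) _ h1 ?_
  have : PrimeSpectrum.comap φ ∘ PrimeSpectrum.comap σ = PrimeSpectrum.comap (σ.comp φ) := by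
    funext x
    rfl
  rw [this]
  exact h2

set_option backward.isDefEq.respectTransparency false in
theorem ker_SpecMap_eq_bot {R R' : CommRingCat.{u}} (φ : R ⟶ R')
    (hφ : Function.Injective φ.hom) : (Spec.map φ).ker = ⊥ := by
  apply Scheme.IdealSheafData.ext_of_isAffine
  rw [Scheme.Hom.ker_apply]
  simp only [Scheme.IdealSheafData.ideal_bot, Pi.bot_apply]
  rw [eq_bot_iff]
  intro a ha
  rw [RingHom.mem_ker] at ha
  rw [Ideal.mem_bot]
  have h1 : (Scheme.ΓSpecIso R').hom ((Spec.map φ).appTop a) = φ ((Scheme.ΓSpecIso R).hom a) := by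
    have h0 : ((Spec.map φ).appTop ≫ (Scheme.ΓSpecIso R').hom) a =
        ((Scheme.ΓSpecIso R).hom ≫ φ) a := by
      rw [Scheme.ΓSpecIso_naturality φ]
    rw [CommRingCat.comp_apply, CommRingCat.comp_apply] at h0
    exact h0
  have h2 : φ ((Scheme.ΓSpecIso R).hom a) = 0 := by
    rw [← h1]
    have : (Spec.map φ).appTop a = 0 := ha
    rw [this, map_zero]
  have h3 := hφ (h2.trans (map_zero _).symm)
  exact (Scheme.ΓSpecIso R).commRingCatIsoToRingEquiv.injective (h3.trans (map_zero _).symm)

theorem epi_SpecMap {R R' : CommRingCat.{u}} (φ : R ⟶ R') (hφ : Function.Injective φ.hom)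
    (hh : IsHomeomorph (PrimeSpectrum.comap φ.hom)) : Epi (Spec.map φ) :=
  EpiHomeo.epi_of_isHomeomorph_of_ker_eq_bot (Spec.map φ) hh (ker_SpecMap_eq_bot φ hφ)

theorem mulHom_fst_fst (B : Type u) [CommRing B] (x : DualNumber B) :
    (LieS.mulHom B x).fst.fst = x.fst := by
  simp [LieS.mulHom, TrivSqZeroExt.algebraMap_eq_inl']

theorem mulHom_snd_snd (B : Type u) [CommRing B] (x : DualNumber B) :
    (LieS.mulHom B x).snd.snd = x.snd := by
  simp [LieS.mulHom, TrivSqZeroExt.algebraMap_eq_inl']

theorem mulHom_injective (B : Type u) [CommRing B] : Function.Injective (LieS.mulHom B) := by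
  intro x y h
  have h1 := mulHom_fst_fst B x
  have h2 := mulHom_snd_snd B x
  rw [h, mulHom_fst_fst] at h1
  rw [h, mulHom_snd_snd] at h2
  exact TrivSqZeroExt.ext h1.symm h2.symm

/-- The double reduction map `B[ε][ε'] → B`. -/
noncomputable def sig (B : Type u) [CommRing B] : LieS.D2 B →+* B :=
  (TrivSqZeroExt.fstHom B B B).toRingHom.comp
    (TrivSqZeroExt.fstHom (DualNumber B) (DualNumber B) (DualNumber B)).toRingHom

theorem sig_apply (B : Type u) [CommRing B] (x : LieS.D2 B) : sig B x = x.fst.fst := rfl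

set_option backward.isDefEq.respectTransparency false in
theorem isHomeomorph_comap_mulHom (B : Type u) [CommRing B] :
    IsHomeomorph (PrimeSpectrum.comap (R := DualNumber B) (S := LieS.D2 B) (LieS.mulHom B)) := by
  refine isHomeomorph_comap_of_comp (R := DualNumber B) (R' := LieS.D2 B) (A := B)
    (LieS.mulHom B) (sig B) ?_ ?_ ?_ ?_
  · intro b
    exact ⟨TrivSqZeroExt.inl (TrivSqZeroExt.inl b), by simp [sig_apply]⟩
  · intro x hx
    rw [RingHom.mem_ker, sig_apply] at hx
    rw [mem_nilradical, TrivSqZeroExt.isNilpotent_iff_isNilpotent_fst,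
      TrivSqZeroExt.isNilpotent_iff_isNilpotent_fst, hx]
    exact IsNilpotent.zero
  · intro b
    exact ⟨TrivSqZeroExt.inl b, by simp [sig_apply, mulHom_fst_fst]⟩
  · intro x hx
    rw [RingHom.mem_ker, RingHom.comp_apply, sig_apply, mulHom_fst_fst] at hx
    rw [mem_nilradical, TrivSqZeroExt.isNilpotent_iff_isNilpotent_fst, hx]
    exact IsNilpotent.zero

set_option backward.isDefEq.respectTransparency false in
theorem epi_mulMap {S : Scheme.{u}} (B : Type u) [CommRing B] (f : Spec (CommRingCat.of B) ⟶ S) :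
    Epi (LieS.mulMap B f) := by
  have : Epi (LieS.mulMap B f).left := by
    show Epi (Spec.map (CommRingCat.ofHom (R := DualNumber B) (S := LieS.D2 B) (LieS.mulHom B)))
    exact epi_SpecMap _ (mulHom_injective B) (isHomeomorph_comap_mulHom B)
  exact Over.epi_of_epi_left _

theorem S8361_main (S : Scheme.{u}) (G : Over S) [GrpObj G] (B : Type u) [CommRing B]
    (f : Spec (CommRingCat.of B) ⟶ S) (x y z z' : LieS.Lie G B f)
    (h : LieS.IsBracket G B f x y z) (h' : LieS.IsBracket G B f x y z') : z = z' := by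
  have := epi_mulMap B f
  apply Subtype.ext
  rw [← cancel_epi (LieS.mulMap B f)]
  exact h.trans h'.symm

end Groth.Agent.Helper7.LieEpi
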