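import Mathlib
import Groth.Agent.Lib.Helper7.LimFlat2
import Groth.Agent.Lib.Helper7.LimTop

set_option autoImplicit false
open CategoryTheory CategoryTheory.Limits AlgebraicGeometry Opposite TopologicalSpace
universe u v

set_option linter.unusedSectionVars false

/-! helper7: irreducibility and connectedness of a cofiltered limit of schemes with dominant affine
transition maps (EGA IV 8.4.3 and complements). -/

namespace Groth.Agent.Helper7.LimDom

/-- the target of a continuous map with dense range from an irreducible space is irreducible. -/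
theorem irreducibleSpace_of_denseRange {X Y : Type*} [TopologicalSpace X] [TopologicalSpace Y]
    [IrreducibleSpace X] {f : X → Y} (hf : Continuous f) (hd : DenseRange f) :
    IrreducibleSpace Y := by
  have hne : Nonempty Y := (inferInstance : Nonempty X).map f
  have h1 : IsPreirreducible (Set.range f) := by
    rw [← Set.image_univ]
    exact (IrreducibleSpace.isIrreducible_univ X).isPreirreducible.image f hf.continuousOn
  have h2 : IsPreirreducible (Set.univ : Set Y) := by
    rw [← hd.closure_range]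
    exact h1.closure
  exact { toPreirreducibleSpace := ⟨h2⟩, toNonempty := hne }

variable {I : Type u} [Category.{u} I] [IsCofiltered I] (D : I ⥤ Scheme.{u}) (c : Cone D)
  (hc : IsLimit c) [∀ {i j : I} (f : i ⟶ j), IsAffineHom (D.map f)]

include hc in
/-- if the projections to the late stages are dominant and the late stages are irreducible, so
is the limit. -/
theorem irreducibleSpace_of_isDominant (i : I)
    (hs : ∀ (j : I) (_ : j ⟶ i), IsDominant (c.π.app j))
    (hirr : ∀ (j : I) (_ : j ⟶ i), IrreducibleSpace (D.obj j)) : IrreducibleSpace c.pt := by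
  have hne : Nonempty c.pt := by
    have := hirr i (𝟙 i)
    exact (hs i (𝟙 i)).denseRange.nonempty
  have hpre : PreirreducibleSpace c.pt := by
    refine ⟨?_⟩
    rintro u v hu hv ⟨x, -, hxu⟩ ⟨y, -, hyv⟩
    obtain ⟨k, U, hxU, hUu⟩ := LimFlat2.exists_basic_nhd D c hc hu hxu
    obtain ⟨k', V, hyV, hVv⟩ := LimFlat2.exists_basic_nhd D c hc hv hyv
    obtain ⟨m, a, b, -⟩ := IsCofilteredOrEmpty.cone_objs k k'
    obtain ⟨j, e, φ, -⟩ := IsCofilteredOrEmpty.cone_objs m i
    have := hirr j φ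
    have hU' : ((D.map (e ≫ a) ⁻¹ᵁ U : (D.obj j).Opens) : Set (D.obj j)).Nonempty := by
      refine ⟨c.π.app j x, ?_⟩
      change (D.map (e ≫ a)) (c.π.app j x) ∈ U
      rw [← Scheme.Hom.comp_apply, c.w]
      exact hxU
    have hV' : ((D.map (e ≫ b) ⁻¹ᵁ V : (D.obj j).Opens) : Set (D.obj j)).Nonempty := by
      refine ⟨c.π.app j y, ?_⟩
      change (D.map (e ≫ b)) (c.π.app j y) ∈ V
      rw [← Scheme.Hom.comp_apply, c.w]
      exact hyV
    obtain ⟨z, hzU, hzV⟩ := nonempty_preirreducible_inter (D.map (e ≫ a) ⁻¹ᵁ U).2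
      (D.map (e ≫ b) ⁻¹ᵁ V).2 hU' hV'
    obtain ⟨w, hwU, hwV⟩ := (hs j φ).denseRange.exists_mem_open
      ((D.map (e ≫ a) ⁻¹ᵁ U).2.inter (D.map (e ≫ b) ⁻¹ᵁ V).2) ⟨z, hzU, hzV⟩
    refine ⟨w, Set.mem_univ _, hUu ?_, hVv ?_⟩
    · change c.π.app k w ∈ U
      rw [← c.w (e ≫ a), Scheme.Hom.comp_apply]
      exact hwU
    · change c.π.app k' w ∈ V
      rw [← c.w (e ≫ b), Scheme.Hom.comp_apply]
      exact hwV
  exact { toPreirreducibleSpace := hpre, toNonempty := hne }

include hc in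
theorem irreducibleSpace_iff_eventually_of_isDominant (i₀ : I)
    (hd : ∀ (i j : I) (φ : i ⟶ j), IsDominant (D.map φ)) :
    IrreducibleSpace c.pt ↔
      ∃ (i : I) (_ : i ⟶ i₀), ∀ (j : I) (_ : j ⟶ i), IrreducibleSpace (D.obj j) := by
  have hdom : ∀ j, IsDominant (c.π.app j) := fun j =>
    (LimTop.isDominant_π_iff D c hc j).mpr (fun k φ => hd k j φ)
  constructor
  · intro h
    refine ⟨i₀, 𝟙 i₀, fun j _ => ?_⟩
    obtain ⟨p, hp⟩ : ∃ p : c.pt ⟶ D.obj j, p = c.π.app j := ⟨_, rfl⟩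
    have : IsDominant p := hp ▸ hdom j
    exact irreducibleSpace_of_denseRange p.continuous this.denseRange
  · rintro ⟨i, -, h⟩
    exact irreducibleSpace_of_isDominant D c hc i (fun j _ => hdom j) h

set_option backward.isDefEq.respectTransparency false in
include hc in
/-- if all stages are quasi-compact, the projections are dominant and the late stages are
preconnected, then the limit is preconnected. -/
theorem preconnectedSpace_of_isDominant [∀ i, CompactSpace (D.obj i)] (i : I)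
    (hs : ∀ (j : I), IsDominant (c.π.app j))
    (hconn : ∀ (j : I) (_ : j ⟶ i), PreconnectedSpace (D.obj j)) : PreconnectedSpace c.pt := by
  rw [preconnectedSpace_iff_clopen]
  intro s hsclopen
  by_contra hne
  rw [not_or] at hne
  obtain ⟨hs1, hs2⟩ := hne
  have hcpt : CompactSpace c.pt := Scheme.compactSpace_of_isLimit D c hc
  obtain ⟨k, Vk, -, hVk⟩ := exists_preimage_eq D c hc ⟨s, hsclopen.isOpen⟩
    hsclopen.isClosed.isCompact
  obtain ⟨k', Wk, -, hWk⟩ := exists_preimage_eq D c hc ⟨sᶜ, hsclopen.compl.isOpen⟩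
    hsclopen.compl.isClosed.isCompact
  obtain ⟨m, a, b, -⟩ := IsCofilteredOrEmpty.cone_objs k k'
  have hU : c.π.app m ⁻¹ᵁ (D.map a ⁻¹ᵁ Vk) = ⟨s, hsclopen.isOpen⟩ := by
    rw [← Scheme.Hom.comp_preimage, c.w, hVk]
  have hW : c.π.app m ⁻¹ᵁ (D.map b ⁻¹ᵁ Wk) = ⟨sᶜ, hsclopen.compl.isOpen⟩ := by
    rw [← Scheme.Hom.comp_preimage, c.w, hWk]
  have htop : c.π.app m ⁻¹ᵁ (D.map a ⁻¹ᵁ Vk ⊔ D.map b ⁻¹ᵁ Wk) = ⊤ := by
    rw [Scheme.Hom.preimage_sup, hU, hW]
    ext x
    simp only [Opens.coe_sup, Opens.coe_mk, Set.union_compl_self, Opens.coe_top]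
  obtain ⟨j, f, hj⟩ := exists_map_eq_top D c hc _ htop
  obtain ⟨j', e, φ, -⟩ := IsCofilteredOrEmpty.cone_objs j i
  have := hconn j' φ
  obtain ⟨U', hU'def⟩ : ∃ U' : (D.obj j').Opens, U' = D.map (e ≫ f ≫ a) ⁻¹ᵁ Vk := ⟨_, rfl⟩
  obtain ⟨W', hW'def⟩ : ∃ W' : (D.obj j').Opens, W' = D.map (e ≫ f ≫ b) ⁻¹ᵁ Wk := ⟨_, rfl⟩
  have hU' : c.π.app j' ⁻¹ᵁ U' = ⟨s, hsclopen.isOpen⟩ := by
    rw [hU'def, ← Scheme.Hom.comp_preimage, c.w, hVk]
  have hW' : c.π.app j' ⁻¹ᵁ W' = ⟨sᶜ, hsclopen.compl.isOpen⟩ := by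
    rw [hW'def, ← Scheme.Hom.comp_preimage, c.w, hWk]
  have hcov : ∀ y : D.obj j', y ∈ U' ∨ y ∈ W' := by
    intro y
    have hy : (D.map e) y ∈ (D.map f ⁻¹ᵁ (D.map a ⁻¹ᵁ Vk ⊔ D.map b ⁻¹ᵁ Wk)) := by
      rw [hj]; trivial
    rcases hy with hy | hy
    · left
      rw [hU'def]
      change (D.map (e ≫ f ≫ a)) y ∈ Vk
      rw [D.map_comp, D.map_comp]
      exact hy
    · right
      rw [hW'def]
      change (D.map (e ≫ f ≫ b)) y ∈ Wk
      rw [D.map_comp, D.map_comp]
      exact hy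
  have hdisj : ∀ y : D.obj j', y ∈ U' → y ∈ W' → False := by
    intro y hyU hyW
    obtain ⟨w, hwU, hwW⟩ := (hs j').denseRange.exists_mem_open (U'.2.inter W'.2) ⟨y, hyU, hyW⟩
    have h1 : w ∈ (c.π.app j' ⁻¹ᵁ U' : c.pt.Opens) := hwU
    have h2 : w ∈ (c.π.app j' ⁻¹ᵁ W' : c.pt.Opens) := hwW
    rw [hU'] at h1
    rw [hW'] at h2
    exact h2 h1
  have hclopen : IsClopen (U' : Set (D.obj j')) := by
    refine ⟨?_, U'.2⟩
    have : (U' : Set (D.obj j')) = (W' : Set (D.obj j'))ᶜ := by
      ext y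
      constructor
      · intro hyU hyW
        exact hdisj y hyU hyW
      · intro hyW
        rcases hcov y with h | h
        · exact h
        · exact absurd h hyW
    rw [this]
    exact W'.2.isClosed_compl
  rcases isClopen_iff.mp hclopen with h | h
  · apply hs1
    have h3 : (c.π.app j' ⁻¹ᵁ U' : c.pt.Opens) = ⊥ := by
      ext x
      change (c.π.app j') x ∈ (U' : Set (D.obj j')) ↔ _
      rw [h]
      simp
    rw [hU'] at h3
    exact congrArg (fun O : c.pt.Opens => (O : Set c.pt)) h3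
  · apply hs2
    have h3 : (c.π.app j' ⁻¹ᵁ U' : c.pt.Opens) = ⊤ := by
      ext x
      change (c.π.app j') x ∈ (U' : Set (D.obj j')) ↔ _
      rw [h]
      simp
    rw [hU'] at h3
    exact congrArg (fun O : c.pt.Opens => (O : Set c.pt)) h3

set_option backward.isDefEq.respectTransparency false in
include hc in
theorem connectedSpace_iff_eventually_of_isDominant (i₀ : I) [CompactSpace (D.obj i₀)]
    (hd : ∀ (i j : I) (φ : i ⟶ j), IsDominant (D.map φ)) :
    ConnectedSpace c.pt ↔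
      ∃ (i : I) (_ : i ⟶ i₀), ∀ (j : I) (_ : j ⟶ i), ConnectedSpace (D.obj j) := by
  have hdom : ∀ j, IsDominant (c.π.app j) := fun j =>
    (LimTop.isDominant_π_iff D c hc j).mpr (fun k φ => hd k j φ)
  constructor
  · intro h
    refine ⟨i₀, 𝟙 i₀, fun j _ => ?_⟩
    obtain ⟨p, hp⟩ : ∃ p : c.pt ⟶ D.obj j, p = c.π.app j := ⟨_, rfl⟩
    have hpd : IsDominant p := hp ▸ hdom j
    have h1 : PreconnectedSpace (D.obj j) := hpd.denseRange.preconnectedSpace p.continuous
    have h2 : Nonempty (D.obj j) := (inferInstance : Nonempty c.pt).map p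
    exact { toPreconnectedSpace := h1, toNonempty := h2 }
  · rintro ⟨i, φ₀, h⟩
    have hne : Nonempty c.pt := by
      have := h i (𝟙 i)
      exact (hdom i).denseRange.nonempty
    obtain ⟨c', hc'def⟩ : ∃ c' : Cone (Over.forget i₀ ⋙ D), c' = c.whisker (Over.forget i₀) :=
      ⟨_, rfl⟩
    have hc' : IsLimit c' := by
      rw [hc'def]
      exact (Functor.Initial.isLimitWhiskerEquiv (Over.forget i₀) c).symm hc
    have h1 : ∀ {k k' : Over i₀} (f : k ⟶ k'), IsAffineHom ((Over.forget i₀ ⋙ D).map f) :=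
      fun f => inferInstanceAs (IsAffineHom (D.map f.left))
    have h2 : ∀ k : Over i₀, CompactSpace ((Over.forget i₀ ⋙ D).obj k) := fun k =>
      QuasiCompact.compactSpace_of_compactSpace (D.map k.hom)
    subst hc'def
    have h3 : PreconnectedSpace c.pt :=
      preconnectedSpace_of_isDominant (Over.forget i₀ ⋙ D) (c.whisker (Over.forget i₀)) hc'
        (Over.mk φ₀) (fun k => hdom k.left)
        (fun k f => by
          have := h k.left f.left
          exact inferInstanceAs (PreconnectedSpace (D.obj k.left)))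
    exact { toPreconnectedSpace := h3, toNonempty := hne }

end Groth.Agent.Helper7.LimDom
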