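import Mathlib
import Groth.Agent.Lib.Helper7.LimDom

set_option autoImplicit false
open CategoryTheory CategoryTheory.Limits AlgebraicGeometry Opposite TopologicalSpace
universe u v

set_option linter.unusedSectionVars false

/-! helper7: irreducible and connected components of a Noetherian cofiltered limit of schemes with
dominant affine transition maps correspond to those of the late stages (EGA IV 8.4.2). -/

namespace Groth.Agent.Helper7.LimComp

/-- an irreducible set contained in a finite union of closed sets is contained in one of them. -/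
theorem subset_of_subset_biUnion {X : Type*} [TopologicalSpace X] {ι : Type*} {A : Set ι}
    (hA : A.Finite) (Z : ι → Set X) (hZ : ∀ a, IsClosed (Z a)) {T : Set X}
    (hT : IsIrreducible T) (h : T ⊆ ⋃ a ∈ A, Z a) : ∃ a ∈ A, T ⊆ Z a := by
  induction A, hA using Set.Finite.induction_on with
  | empty =>
    obtain ⟨x, hx⟩ := hT.nonempty
    have := h hx
    simp at this
  | @insert a s has hs ih =>
    rw [Set.biUnion_insert] at h
    have hcl : IsClosed (⋃ b ∈ s, Z b) := hs.isClosed_biUnion (fun b _ => hZ b)
    rcases isPreirreducible_iff_isClosed_union_isClosed.mp hT.isPreirreducible _ _ (hZ a) hcl h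
      with h1 | h1
    · exact ⟨a, Set.mem_insert _ _, h1⟩
    · obtain ⟨b, hb, hTb⟩ := ih h1
      exact ⟨b, Set.mem_insert_of_mem _ hb, hTb⟩

/-- a continuous map with dense range separating the closures of the images of the finitely many
irreducible components induces a bijection on irreducible components. -/
theorem bijOn_irreducibleComponents {X Y : Type*} [TopologicalSpace X] [TopologicalSpace Y]
    {f : X → Y} (hf : Continuous f) (hd : DenseRange f)
    (hfin : (irreducibleComponents X).Finite)
    (hsep : ∀ Y₁ ∈ irreducibleComponents X, ∀ Y₂ ∈ irreducibleComponents X,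
      closure (f '' Y₁) ⊆ closure (f '' Y₂) → Y₁ = Y₂) :
    Set.BijOn (fun S : Set X => closure (f '' S)) (irreducibleComponents X)
      (irreducibleComponents Y) := by
  have hirr : ∀ S ∈ irreducibleComponents X, IsIrreducible (closure (f '' S)) := by
    intro S hS
    exact (hS.1.image f hf.continuousOn).closure
  have hcov : (Set.univ : Set Y) = ⋃ S ∈ irreducibleComponents X, closure (f '' S) := by
    rw [← hfin.closure_biUnion, ← Set.image_iUnion₂, ← Set.sUnion_eq_biUnion,
      sUnion_irreducibleComponents, Set.image_univ, hd.closure_range]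
  have hone : ∀ T : Set Y, IsIrreducible T → ∃ S ∈ irreducibleComponents X,
      T ⊆ closure (f '' S) := by
    intro T hT
    exact subset_of_subset_biUnion hfin (fun S => closure (f '' S)) (fun _ => isClosed_closure) hT
      (hcov ▸ Set.subset_univ T)
  refine ⟨?_, ?_, ?_⟩
  · intro S hS
    refine ⟨hirr S hS, fun T hT hST => ?_⟩
    obtain ⟨S', hS', hTS'⟩ := hone T hT
    have := hsep S hS S' hS' (hST.trans hTS')
    rw [this]
    exact hTS'
  · intro S hS S' hS' heq
    exact hsep S hS S' hS' (le_of_eq heq)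
  · intro W hW
    obtain ⟨S, hS, hWS⟩ := hone W hW.1
    exact ⟨S, hS, le_antisymm (hW.2 (hirr S hS) hWS) hWS⟩

/-- a Noetherian space has finitely many connected components. -/
theorem finite_range_connectedComponent (X : Type*) [TopologicalSpace X] [NoetherianSpace X] :
    (Set.range (connectedComponent : X → Set X)).Finite := by
  have hfin : (irreducibleComponents X).Finite := NoetherianSpace.finite_irreducibleComponents
  classical
  have hsub : Set.range (connectedComponent : X → Set X) ⊆
      (fun Z : Set X => ⋃ x ∈ Z, connectedComponent x) '' (irreducibleComponents X) := by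
    rintro _ ⟨x, rfl⟩
    refine ⟨irreducibleComponent x, irreducibleComponent_mem_irreducibleComponents x, ?_⟩
    have hconn : IsPreconnected (irreducibleComponent x) :=
      (isIrreducible_irreducibleComponent (x := x)).isPreirreducible.isPreconnected
    have hsubc : irreducibleComponent x ⊆ connectedComponent x :=
      hconn.subset_connectedComponent mem_irreducibleComponent
    apply Set.Subset.antisymm
    · intro y hy
      simp only [Set.mem_iUnion] at hy
      obtain ⟨z, hz, hyz⟩ := hy
      rw [connectedComponent_eq (hsubc hz)]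
      exact hyz
    · intro y hy
      simp only [Set.mem_iUnion]
      exact ⟨x, mem_irreducibleComponent, hy⟩
  exact (hfin.image _).subset hsub

/-- the connected components of a Noetherian space are open. -/
theorem isOpen_connectedComponent_of_noetherianSpace {X : Type*} [TopologicalSpace X]
    [NoetherianSpace X] (x : X) : IsOpen (connectedComponent x) := by
  have hfin := finite_range_connectedComponent X
  have hcompl : (connectedComponent x)ᶜ =
      ⋃ C ∈ (Set.range (connectedComponent : X → Set X)) \ {connectedComponent x}, C := by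
    ext y
    simp only [Set.mem_compl_iff, Set.mem_iUnion, Set.mem_sdiff, Set.mem_range,
      Set.mem_singleton_iff]
    constructor
    · intro hy
      refine ⟨connectedComponent y, ⟨⟨y, rfl⟩, fun heq => hy ?_⟩, mem_connectedComponent⟩
      rw [← heq]
      exact mem_connectedComponent
    · rintro ⟨_, ⟨⟨z, rfl⟩, hne⟩, hyz⟩ hyx
      apply hne
      rw [connectedComponent_eq hyz, connectedComponent_eq hyx]
  rw [← isClosed_compl_iff, hcompl]
  refine (hfin.subset Set.sdiff_subset).isClosed_biUnion ?_
  rintro _ ⟨⟨z, rfl⟩, -⟩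
  exact isClosed_connectedComponent

/-- a continuous map with dense range, together with a partition of the target into open subsets
whose preimages are the (open) connected components of the source, induces a bijection on connected
components. -/
theorem bijOn_connectedComponents {X Y : Type*} [TopologicalSpace X] [TopologicalSpace Y]
    {f : X → Y} (hf : Continuous f) (hd : DenseRange f)
    (W : Set X → Set Y) (hWo : ∀ x : X, IsOpen (W (connectedComponent x)))
    (hWpre : ∀ x : X, f ⁻¹' (W (connectedComponent x)) = connectedComponent x)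
    (hWcov : ∀ y : Y, ∃ x : X, y ∈ W (connectedComponent x))
    (hWdisj : ∀ x x' : X, connectedComponent x ≠ connectedComponent x' →
      Disjoint (W (connectedComponent x)) (W (connectedComponent x'))) :
    Set.BijOn (fun C : Set X => closure (f '' C)) (Set.range (connectedComponent : X → Set X))
      (Set.range (connectedComponent : Y → Set Y)) := by
  have hclosed : ∀ x : X, IsClosed (W (connectedComponent x)) := by
    intro x
    have hcompl : (W (connectedComponent x))ᶜ =
        ⋃ x' ∈ {x' : X | connectedComponent x' ≠ connectedComponent x},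
          W (connectedComponent x') := by
      ext y
      simp only [Set.mem_compl_iff, Set.mem_iUnion, Set.mem_ofPred_eq]
      constructor
      · intro hy
        obtain ⟨x', hx'⟩ := hWcov y
        refine ⟨x', fun heq => hy (heq ▸ hx'), hx'⟩
      · rintro ⟨x', hne, hy⟩ hyx
        exact Set.disjoint_left.mp (hWdisj x' x hne) hy hyx
    rw [← isOpen_compl_iff, hcompl]
    exact isOpen_biUnion (fun x' _ => hWo x')
  have hcl : ∀ x : X, closure (f '' connectedComponent x) = W (connectedComponent x) := by
    intro x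
    apply Set.Subset.antisymm
    · apply closure_minimal _ (hclosed x)
      rintro _ ⟨z, hz, rfl⟩
      have : z ∈ f ⁻¹' (W (connectedComponent x)) := by rw [hWpre]; exact hz
      exact this
    · intro y hy
      rw [mem_closure_iff]
      intro N hN hyN
      obtain ⟨z, hzN, hzW⟩ := hd.exists_mem_open (hN.inter (hWo x)) ⟨y, hyN, hy⟩
      have : z ∈ f ⁻¹' (W (connectedComponent x)) := hzW
      rw [hWpre] at this
      exact ⟨f z, hzN, z, this, rfl⟩
  have hcomp : ∀ (x : X) (y : Y), y ∈ W (connectedComponent x) →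
      connectedComponent y = W (connectedComponent x) := by
    intro x y hy
    apply Set.Subset.antisymm
    · exact IsClopen.connectedComponent_subset ⟨hclosed x, hWo x⟩ hy
    · have hconn : IsPreconnected (W (connectedComponent x)) := by
        rw [← hcl x]
        exact ((isPreconnected_connectedComponent).image f hf.continuousOn).closure
      exact hconn.subset_connectedComponent hy
  refine ⟨?_, ?_, ?_⟩
  · rintro _ ⟨x, rfl⟩
    have hx : f x ∈ W (connectedComponent x) := by
      have : x ∈ f ⁻¹' (W (connectedComponent x)) := by rw [hWpre]; exact mem_connectedComponent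
      exact this
    exact ⟨f x, by rw [hcomp x (f x) hx]; exact (hcl x).symm⟩
  · rintro _ ⟨x, rfl⟩ _ ⟨x', rfl⟩ heq
    change closure (f '' connectedComponent x) = closure (f '' connectedComponent x') at heq
    rw [hcl, hcl] at heq
    rw [← hWpre x, ← hWpre x', heq]
  · rintro _ ⟨y, rfl⟩
    obtain ⟨x, hx⟩ := hWcov y
    exact ⟨connectedComponent x, ⟨x, rfl⟩, by
      change closure (f '' connectedComponent x) = connectedComponent y
      rw [hcl, hcomp x y hx]⟩

variable {I : Type u} [Category.{u} I] [IsCofiltered I] (D : I ⥤ Scheme.{u}) (c : Cone D)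
  (hc : IsLimit c) [∀ {i j : I} (f : i ⟶ j), IsAffineHom (D.map f)]

omit [∀ {i j : I} (f : i ⟶ j), IsAffineHom (D.map f)] in
/-- finitely many eventual properties hold simultaneously eventually. -/
theorem eventually_forall_finite {α : Type*} {A : Set α} (hA : A.Finite) (P : α → I → Prop)
    (hmono : ∀ a (j k : I) (_ : j ⟶ k), P a k → P a j)
    (hP : ∀ a ∈ A, ∃ k : I, P a k) (i₀ : I) :
    ∃ (i : I) (_ : i ⟶ i₀), ∀ a ∈ A, P a i := by
  induction A, hA using Set.Finite.induction_on with
  | empty => exact ⟨i₀, 𝟙 i₀, fun a ha => absurd ha (Set.notMem_empty a)⟩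
  | @insert a s has hs ih =>
    obtain ⟨i, φ, hi⟩ := ih (fun b hb => hP b (Set.mem_insert_of_mem _ hb))
    obtain ⟨k, hk⟩ := hP a (Set.mem_insert _ _)
    obtain ⟨m, e, e', -⟩ := IsCofilteredOrEmpty.cone_objs i k
    refine ⟨m, e ≫ φ, fun b hb => ?_⟩
    rcases Set.mem_insert_iff.mp hb with rfl | hb
    · exact hmono _ _ _ e' hk
    · exact hmono _ _ _ e (hi b hb)

include hc in
/-- two subsets of the limit, one closed and not containing the other, have images with
non-nested closures at all late stages. -/
theorem exists_sep {Y₁ Y₂ : Set c.pt} (hY₂ : IsClosed Y₂) (h : ¬ Y₁ ⊆ Y₂) :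
    ∃ k : I, ∀ (j : I) (_ : j ⟶ k),
      ¬ closure (c.π.app j '' Y₁) ⊆ closure (c.π.app j '' Y₂) := by
  obtain ⟨y, hy1, hy2⟩ := Set.not_subset.mp h
  obtain ⟨k, V, hyV, hV⟩ := LimFlat2.exists_basic_nhd D c hc hY₂.isOpen_compl hy2
  refine ⟨k, fun j a hsub => ?_⟩
  have h1 : c.π.app j y ∈ closure (c.π.app j '' Y₂) :=
    hsub (subset_closure ⟨y, hy1, rfl⟩)
  have h2 : c.π.app j y ∈ ((D.map a ⁻¹ᵁ V : (D.obj j).Opens) : Set (D.obj j)) := by
    change (D.map a) (c.π.app j y) ∈ V
    rw [← Scheme.Hom.comp_apply, c.w]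
    exact hyV
  obtain ⟨z, hzV, w, hw, rfl⟩ := mem_closure_iff.mp h1 _ (D.map a ⁻¹ᵁ V).2 h2
  have h3 : w ∈ ((c.π.app k ⁻¹ᵁ V : c.pt.Opens) : Set c.pt) := by
    change c.π.app k w ∈ V
    rw [← c.w a, Scheme.Hom.comp_apply]
    exact hzV
  exact hV h3 hw

include hc in
theorem eventually_bijOn_irreducibleComponents [NoetherianSpace c.pt] (i₀ : I)
    (hd : ∀ (i j : I) (φ : i ⟶ j), IsDominant (D.map φ)) :
    ∃ (i : I) (_ : i ⟶ i₀), ∀ (j : I) (_ : j ⟶ i),
      Set.BijOn (fun Y : Set c.pt => closure (⇑(c.π.app j) '' (Y : Set c.pt) : Set (D.obj j)))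
        (irreducibleComponents c.pt) (irreducibleComponents (D.obj j)) := by
  have hdom : ∀ j, IsDominant (c.π.app j) := fun j =>
    (LimTop.isDominant_π_iff D c hc j).mpr (fun k φ => hd k j φ)
  have hfin : (irreducibleComponents c.pt).Finite := NoetherianSpace.finite_irreducibleComponents
  obtain ⟨i, φ, hi⟩ := eventually_forall_finite
    (A := {p : Set c.pt × Set c.pt | p.1 ∈ irreducibleComponents c.pt ∧
      p.2 ∈ irreducibleComponents c.pt ∧ p.1 ≠ p.2})
    ((hfin.prod hfin).subset (fun p hp => ⟨hp.1, hp.2.1⟩))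
    (fun p k => ∀ (j : I) (_ : j ⟶ k),
      ¬ closure (c.π.app j '' p.1) ⊆ closure (c.π.app j '' p.2))
    (fun p j k a hk j' b => hk j' (b ≫ a))
    (fun p hp => by
      apply exists_sep D c hc (isClosed_of_mem_irreducibleComponents _ hp.2.1)
      intro hsub
      exact hp.2.2 (le_antisymm hsub (hp.1.2 hp.2.1.1 hsub))) i₀
  refine ⟨i, φ, fun j a => ?_⟩
  obtain ⟨p, hp⟩ : ∃ p : c.pt ⟶ D.obj j, p = c.π.app j := ⟨_, rfl⟩
  have hpd : IsDominant p := hp ▸ hdom j
  have := bijOn_irreducibleComponents p.continuous hpd.denseRange hfin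
    (fun Y₁ h1 Y₂ h2 hsub => by
      by_contra hne
      exact hi (Y₁, Y₂) ⟨h1, h2, hne⟩ j a (hp ▸ hsub))
  rw [hp] at this
  exact this

set_option backward.isDefEq.respectTransparency false in
open Classical in
include hc in
/-- the case where all stages are quasi-compact. -/
theorem eventually_bijOn_connectedComponents' [∀ i, CompactSpace (D.obj i)]
    [NoetherianSpace c.pt] (hdom : ∀ j, IsDominant (c.π.app j)) (i₀ : I) :
    ∃ (i : I) (_ : i ⟶ i₀), ∀ (j : I) (_ : j ⟶ i),
      Set.BijOn (fun C : Set c.pt => closure (⇑(c.π.app j) '' C : Set (D.obj j)))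
        (Set.range (connectedComponent : c.pt → Set c.pt))
        (Set.range (connectedComponent : D.obj j → Set (D.obj j))) := by
  have hcpt : CompactSpace c.pt := Scheme.compactSpace_of_isLimit D c hc
  have hfin := finite_range_connectedComponent c.pt
  obtain ⟨k, φk, hk⟩ := eventually_forall_finite hfin
    (fun C k => ∃ V : (D.obj k).Opens, ((c.π.app k ⁻¹ᵁ V : c.pt.Opens) : Set c.pt) = C)
    (fun C j k a ⟨V, hV⟩ => ⟨D.map a ⁻¹ᵁ V, by
      rw [← hV, ← Scheme.Hom.comp_preimage, c.w]⟩)
    (fun C hC => by
      obtain ⟨x, rfl⟩ := hC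
      obtain ⟨k, V, -, hV⟩ := exists_preimage_eq D c hc
        ⟨connectedComponent x, isOpen_connectedComponent_of_noetherianSpace x⟩
        isClosed_connectedComponent.isCompact
      exact ⟨k, V, congrArg (fun O : c.pt.Opens => (O : Set c.pt)) hV⟩) i₀
  choose V hV using hk
  have htop : c.π.app k ⁻¹ᵁ (⨆ x : c.pt, V (connectedComponent x) ⟨x, rfl⟩) = ⊤ := by
    rw [eq_top_iff]
    intro y _
    rw [Scheme.Hom.preimage_iSup]
    apply Opens.mem_iSup.mpr
    refine ⟨y, ?_⟩
    have : y ∈ ((c.π.app k ⁻¹ᵁ V (connectedComponent y) ⟨y, rfl⟩ : c.pt.Opens) : Set c.pt) := by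
      rw [hV]; exact mem_connectedComponent
    exact this
  obtain ⟨i, f, hi⟩ := exists_map_eq_top D c hc _ htop
  refine ⟨i, f ≫ φk, fun j a => ?_⟩
  obtain ⟨p, hp⟩ : ∃ p : c.pt ⟶ D.obj j, p = c.π.app j := ⟨_, rfl⟩
  have hpd : IsDominant p := hp ▸ hdom j
  have hpw : p ≫ D.map (a ≫ f) = c.π.app k := by rw [hp, c.w]
  have key := bijOn_connectedComponents p.continuous hpd.denseRange
    (fun C => if h : C ∈ Set.range (connectedComponent : c.pt → Set c.pt) then
      ((D.map (a ≫ f) ⁻¹ᵁ V C h : (D.obj j).Opens) : Set (D.obj j)) else ∅)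
    (fun x => by
      rw [dif_pos ⟨x, rfl⟩]
      exact (D.map (a ≫ f) ⁻¹ᵁ V _ _).2)
    (fun x => by
      rw [dif_pos ⟨x, rfl⟩]
      refine Eq.trans ?_ (hV (connectedComponent x) ⟨x, rfl⟩)
      rw [← hpw]
      rfl)
    (fun y => by
      have hy : (D.map a) y ∈ (D.map f ⁻¹ᵁ (⨆ x : c.pt, V (connectedComponent x) ⟨x, rfl⟩)) := by
        rw [hi]; trivial
      rw [Scheme.Hom.preimage_iSup] at hy
      obtain ⟨x, hx⟩ := Opens.mem_iSup.mp hy
      refine ⟨x, ?_⟩
      rw [dif_pos ⟨x, rfl⟩]
      change (D.map (a ≫ f)) y ∈ V _ _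
      rw [D.map_comp]
      exact hx)
    (fun x x' hne => by
      rw [dif_pos ⟨x, rfl⟩, dif_pos ⟨x', rfl⟩, Set.disjoint_left]
      intro y hy hy'
      obtain ⟨z, hz, hz'⟩ := hpd.denseRange.exists_mem_open
        ((D.map (a ≫ f) ⁻¹ᵁ V _ ⟨x, rfl⟩).2.inter (D.map (a ≫ f) ⁻¹ᵁ V _ ⟨x', rfl⟩).2)
        ⟨y, hy, hy'⟩
      have h1 : z ∈ ((c.π.app k ⁻¹ᵁ V (connectedComponent x) ⟨x, rfl⟩ : c.pt.Opens) :
          Set c.pt) := by
        change c.π.app k z ∈ V _ _
        rw [← hpw]
        exact hz
      have h2 : z ∈ ((c.π.app k ⁻¹ᵁ V (connectedComponent x') ⟨x', rfl⟩ : c.pt.Opens) :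
          Set c.pt) := by
        change c.π.app k z ∈ V _ _
        rw [← hpw]
        exact hz'
      rw [hV] at h1 h2
      apply hne
      rw [connectedComponent_eq h1, connectedComponent_eq h2])
  rw [hp] at key
  exact key

set_option backward.isDefEq.respectTransparency false in
include hc in
theorem eventually_bijOn_connectedComponents (i₀ : I) [CompactSpace (D.obj i₀)]
    [NoetherianSpace c.pt] (hd : ∀ (i j : I) (φ : i ⟶ j), IsDominant (D.map φ)) :
    ∃ (i : I) (_ : i ⟶ i₀), ∀ (j : I) (_ : j ⟶ i),
      Set.BijOn (fun C : Set c.pt => closure (⇑(c.π.app j) '' (C : Set c.pt) : Set (D.obj j)))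
        (Set.range (connectedComponent : c.pt → Set c.pt))
        (Set.range (connectedComponent : D.obj j → Set (D.obj j))) := by
  have hdom : ∀ j, IsDominant (c.π.app j) := fun j =>
    (LimTop.isDominant_π_iff D c hc j).mpr (fun k φ => hd k j φ)
  obtain ⟨c', hc'def⟩ : ∃ c' : Cone (Over.forget i₀ ⋙ D), c' = c.whisker (Over.forget i₀) :=
    ⟨_, rfl⟩
  have hc' : IsLimit c' := by
    rw [hc'def]
    exact (Functor.Initial.isLimitWhiskerEquiv (Over.forget i₀) c).symm hc
  have h1 : ∀ {k k' : Over i₀} (f : k ⟶ k'), IsAffineHom ((Over.forget i₀ ⋙ D).map f) :=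
    fun f => inferInstanceAs (IsAffineHom (D.map f.left))
  have h2 : ∀ k : Over i₀, CompactSpace ((Over.forget i₀ ⋙ D).obj k) := fun k =>
    QuasiCompact.compactSpace_of_compactSpace (D.map k.hom)
  subst hc'def
  have h3 : NoetherianSpace (c.whisker (Over.forget i₀)).pt :=
    inferInstanceAs (NoetherianSpace c.pt)
  obtain ⟨i', -, hi'⟩ := eventually_bijOn_connectedComponents' (Over.forget i₀ ⋙ D)
    (c.whisker (Over.forget i₀)) hc' (fun k => hdom k.left) (Over.mk (𝟙 i₀))
  refine ⟨i'.left, i'.hom, fun j a => ?_⟩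
  exact hi' (Over.mk (a ≫ i'.hom)) (Over.homMk a)

end Groth.Agent.Helper7.LimComp
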