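import Mathlib
import Groth.Agent.Lib.Helper7.LimComp

set_option autoImplicit false
open CategoryTheory CategoryTheory.Limits AlgebraicGeometry Opposite TopologicalSpace
universe u v

set_option linter.unusedSectionVars false

/-! helper7: irreducible and connected components of a Noetherian cofiltered limit of schemes whose
affine transition maps are topological embeddings (EGA IV 8.4.2 (ii)). -/

namespace Groth.Agent.Helper7.LimComp2

open Groth.Agent.Helper7.LimComp

/-- the closure of the range of a continuous map from a Noetherian space is the union of the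
closures of the images of the irreducible components. -/
theorem closure_range_eq_biUnion {A X : Type*} [TopologicalSpace A] [TopologicalSpace X]
    [NoetherianSpace A] (g : A → X) :
    closure (Set.range g) = ⋃ W ∈ irreducibleComponents A, closure (g '' W) := by
  have hfin : (irreducibleComponents A).Finite := NoetherianSpace.finite_irreducibleComponents
  rw [← hfin.closure_biUnion, ← Set.image_iUnion₂, ← Set.sUnion_eq_biUnion,
    sUnion_irreducibleComponents, Set.image_univ]

/-- a maximal generic point of the closure of the range of `g₁` lies in the range of any map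
`g'` whose range has the same closure. -/
theorem generic_mem_range {A B X : Type*} [TopologicalSpace A] [TopologicalSpace B]
    [TopologicalSpace X] [NoetherianSpace A] [NoetherianSpace B] [QuasiSober B] [T0Space X]
    {g₁ : A → X} {g' : B → X} (h₁ : Continuous g₁) (h' : Continuous g')
    (hE : closure (Set.range g') = closure (Set.range g₁))
    {W : Set A} (hW : W ∈ irreducibleComponents A)
    (hmax : ∀ W₀ ∈ irreducibleComponents A, closure (g₁ '' W) ⊆ closure (g₁ '' W₀) →
      closure (g₁ '' W₀) ⊆ closure (g₁ '' W))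
    {w : A} (hw : IsGenericPoint w W) : g₁ w ∈ Set.range g' := by
  have hfinA : (irreducibleComponents A).Finite := NoetherianSpace.finite_irreducibleComponents
  have hfinB : (irreducibleComponents B).Finite := NoetherianSpace.finite_irreducibleComponents
  have hZirr : IsIrreducible (closure (g₁ '' W)) := (hW.1.image g₁ h₁.continuousOn).closure
  have hZsub : closure (g₁ '' W) ⊆ ⋃ W'' ∈ irreducibleComponents B, closure (g' '' W'') := by
    rw [← closure_range_eq_biUnion, hE]
    exact closure_mono (Set.image_subset_range _ _)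
  obtain ⟨W'', hW'', hZW''⟩ := subset_of_subset_biUnion hfinB (fun W'' => closure (g' '' W''))
    (fun _ => isClosed_closure) hZirr hZsub
  have hZ''irr : IsIrreducible (closure (g' '' W'')) :=
    (hW''.1.image g' h'.continuousOn).closure
  have hZ''sub : closure (g' '' W'') ⊆ ⋃ W₀ ∈ irreducibleComponents A, closure (g₁ '' W₀) := by
    rw [← closure_range_eq_biUnion, ← hE]
    exact closure_mono (Set.image_subset_range _ _)
  obtain ⟨W₂, hW₂, hZ''W₂⟩ := subset_of_subset_biUnion hfinA (fun W₀ => closure (g₁ '' W₀))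
    (fun _ => isClosed_closure) hZ''irr hZ''sub
  have heq : closure (g' '' W'') = closure (g₁ '' W) :=
    Set.Subset.antisymm (hZ''W₂.trans (hmax W₂ hW₂ (hZW''.trans hZ''W₂))) hZW''
  obtain ⟨w'', hw''⟩ := QuasiSober.sober hW''.1 (isClosed_of_mem_irreducibleComponents _ hW'')
  have hg1 : IsGenericPoint (g' w'') (closure (g₁ '' W)) := heq ▸ hw''.image h'
  have hg2 : IsGenericPoint (g₁ w) (closure (g₁ '' W)) := hw.image h₁
  exact ⟨w'', hg1.eq hg2⟩

/-- a set containing the images of the maximal generic points is dense in the closure of the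
range. -/
theorem closure_range_subset_closure {A X : Type*} [TopologicalSpace A] [TopologicalSpace X]
    [NoetherianSpace A] [QuasiSober A] {g₁ : A → X} (h₁ : Continuous g₁) (T : Set X)
    (hT : ∀ W ∈ irreducibleComponents A,
      (∀ W₀ ∈ irreducibleComponents A, closure (g₁ '' W) ⊆ closure (g₁ '' W₀) →
        closure (g₁ '' W₀) ⊆ closure (g₁ '' W)) →
      ∀ w : A, IsGenericPoint w W → g₁ w ∈ T) :
    closure (Set.range g₁) ⊆ closure T := by
  have hfinA : (irreducibleComponents A).Finite := NoetherianSpace.finite_irreducibleComponents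
  rw [closure_range_eq_biUnion]
  intro x hx
  simp only [Set.mem_iUnion] at hx
  obtain ⟨W, hW, hxW⟩ := hx
  obtain ⟨b, hWb, hb⟩ := (hfinA.image (fun W₀ => closure (g₁ '' W₀))).exists_le_maximal
    (Set.mem_image_of_mem _ hW)
  obtain ⟨W', hW', rfl⟩ := hb.1
  obtain ⟨w', hw'⟩ := QuasiSober.sober hW'.1 (isClosed_of_mem_irreducibleComponents _ hW')
  have hmem : g₁ w' ∈ T := hT W' hW'
    (fun W₀ hW₀ hsub => hb.2 (Set.mem_image_of_mem _ hW₀) hsub) w' hw'
  have hgen : IsGenericPoint (g₁ w') (closure (g₁ '' W')) := hw'.image h₁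
  have : closure (g₁ '' W') ⊆ closure T := by
    rw [← hgen.def]
    exact closure_mono (Set.singleton_subset_iff.mpr hmem)
  exact this (hWb hxW)

variable {I : Type u} [Category.{u} I] [IsCofiltered I] (D : I ⥤ Scheme.{u}) (c : Cone D)
  (hc : IsLimit c) [∀ {i j : I} (f : i ⟶ j), IsAffineHom (D.map f)]

set_option backward.isDefEq.respectTransparency false in
include hc in
/-- if the transition maps are topological embeddings and some stage is a Noetherian space, the
projections to the late stages are dominant. -/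
theorem eventually_isDominant_π_of_isEmbedding (i₀ : I) [NoetherianSpace (D.obj i₀)]
    (he : ∀ (i j : I) (φ : i ⟶ j), Topology.IsEmbedding ⇑(D.map φ)) :
    ∃ (i₁ : I) (_ : i₁ ⟶ i₀), ∀ (j : I) (_ : j ⟶ i₁), IsDominant (c.π.app j) := by
  have hN : ∀ (j : I) (_ : j ⟶ i₀), NoetherianSpace (D.obj j) := fun j φ =>
    (he _ _ φ).isInducing.noetherianSpace
  obtain ⟨E, hEdef⟩ : ∃ E : Over i₀ → Closeds (D.obj i₀),
      E = fun j => ⟨closure (Set.range (D.map j.hom)), isClosed_closure⟩ := ⟨_, rfl⟩
  have hEmono : ∀ {j' j : Over i₀} (_ : j' ⟶ j), E j' ≤ E j := by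
    intro j' j f
    rw [hEdef]
    change closure (Set.range (D.map j'.hom)) ⊆ closure (Set.range (D.map j.hom))
    apply closure_mono
    rintro _ ⟨x, rfl⟩
    refine ⟨D.map f.left x, ?_⟩
    rw [← Scheme.Hom.comp_apply, ← D.map_comp, Over.w f]
  obtain ⟨_, ⟨j₁, rfl⟩, hmin⟩ := wellFounded_lt.has_min (Set.range E) ⟨_, ⟨Over.mk (𝟙 i₀), rfl⟩⟩
  have hEeq : ∀ {j : Over i₀} (_ : j ⟶ j₁), E j = E j₁ := by
    intro j f
    exact eq_of_le_of_not_lt (hEmono f) (hmin _ ⟨j, rfl⟩)
  refine ⟨j₁.left, j₁.hom, fun j a => ?_⟩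
  have hNj₁ : NoetherianSpace (D.obj j₁.left) := hN _ j₁.hom
  -- the range of the projection to `i₀` is dense in the stable closure
  have hdense : closure (Set.range (D.map j₁.hom)) ⊆ closure (Set.range (c.π.app i₀)) := by
    apply closure_range_subset_closure (D.map j₁.hom).continuous
    intro W hW hmax w hw
    have hrange := LimTop.range_π_eq_iInter D c hc i₀
    have hmem : (D.map j₁.hom) w ∈ ⋂ (k : I) (φ : k ⟶ i₀), Set.range (D.map φ) := by
      simp only [Set.mem_iInter]
      intro k φ
      obtain ⟨m, e, e', -⟩ := IsCofilteredOrEmpty.cone_objs j₁.left k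
      obtain ⟨l, r, hr⟩ := IsCofilteredOrEmpty.cone_maps (e ≫ j₁.hom) (e' ≫ φ)
      have hNl : NoetherianSpace (D.obj l) := hN _ (r ≫ e ≫ j₁.hom)
      have hEl : closure (Set.range (D.map (r ≫ e ≫ j₁.hom))) =
          closure (Set.range (D.map j₁.hom)) := by
        have h1 := hEeq (j := Over.mk (r ≫ e ≫ j₁.hom)) (Over.homMk (r ≫ e) (by simp))
        rw [hEdef] at h1
        exact congrArg (fun C : Closeds (D.obj i₀) => (C : Set (D.obj i₀))) h1
      obtain ⟨y, hy⟩ := generic_mem_range (D.map j₁.hom).continuous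
        (D.map (r ≫ e ≫ j₁.hom)).continuous hEl hW hmax hw
      refine ⟨D.map (r ≫ e') y, ?_⟩
      rw [← hy, ← Scheme.Hom.comp_apply, ← D.map_comp, Category.assoc, ← hr]
    rw [hrange]
    exact hmem
  -- conclude
  obtain ⟨p, hp⟩ : ∃ p : c.pt ⟶ D.obj j, p = c.π.app j := ⟨_, rfl⟩
  suffices h : IsDominant p by rw [← hp]; exact h
  refine ⟨?_⟩
  have hg := he _ _ (a ≫ j₁.hom)
  change Dense (Set.range p)
  rw [hg.isInducing.dense_iff]
  intro x
  have h1 : (D.map (a ≫ j₁.hom)) x ∈ closure (Set.range (D.map j₁.hom)) := by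
    apply subset_closure
    refine ⟨D.map a x, ?_⟩
    rw [← Scheme.Hom.comp_apply, ← D.map_comp]
  have h2 : (D.map (a ≫ j₁.hom)) '' Set.range p = Set.range (c.π.app i₀) := by
    rw [← Set.range_comp]
    have : p ≫ D.map (a ≫ j₁.hom) = c.π.app i₀ := by rw [hp, c.w]
    rw [← this]
    rfl
  rw [h2]
  exact hdense h1

include hc in
/-- the irreducible components of a Noetherian limit with dominant projections. -/
theorem eventually_bijOn_irreducibleComponents' [NoetherianSpace c.pt] (i₀ : I)
    (hdom : ∀ j, IsDominant (c.π.app j)) :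
    ∃ (i : I) (_ : i ⟶ i₀), ∀ (j : I) (_ : j ⟶ i),
      Set.BijOn (fun Y : Set c.pt => closure (⇑(c.π.app j) '' (Y : Set c.pt) : Set (D.obj j)))
        (irreducibleComponents c.pt) (irreducibleComponents (D.obj j)) := by
  have hfin : (irreducibleComponents c.pt).Finite := NoetherianSpace.finite_irreducibleComponents
  obtain ⟨i, φ, hi⟩ := eventually_forall_finite
    (A := {p : Set c.pt × Set c.pt | p.1 ∈ irreducibleComponents c.pt ∧
      p.2 ∈ irreducibleComponents c.pt ∧ p.1 ≠ p.2})
    ((hfin.prod hfin).subset (fun p hp => ⟨hp.1, hp.2.1⟩))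
    (fun p k => ∀ (j : I) (_ : j ⟶ k),
      ¬ closure (c.π.app j '' p.1) ⊆ closure (c.π.app j '' p.2))
    (fun p j k a hk j' b => hk j' (b ≫ a))
    (fun p hp => by
      apply exists_sep D c hc (isClosed_of_mem_irreducibleComponents _ hp.2.1)
      intro hsub
      exact hp.2.2 (le_antisymm hsub (hp.1.2 hp.2.1.1 hsub))) i₀
  refine ⟨i, φ, fun j a => ?_⟩
  obtain ⟨p, hp⟩ : ∃ p : c.pt ⟶ D.obj j, p = c.π.app j := ⟨_, rfl⟩
  have hpd : IsDominant p := hp ▸ hdom j
  have := bijOn_irreducibleComponents p.continuous hpd.denseRange hfin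
    (fun Y₁ h1 Y₂ h2 hsub => by
      by_contra hne
      exact hi (Y₁, Y₂) ⟨h1, h2, hne⟩ j a (hp ▸ hsub))
  rw [hp] at this
  exact this

set_option backward.isDefEq.respectTransparency false in
include hc in
theorem eventually_bijOn_irreducibleComponents_of_isEmbedding (i₀ : I)
    [NoetherianSpace (D.obj i₀)] [NoetherianSpace c.pt]
    (he : ∀ (i j : I) (φ : i ⟶ j), Topology.IsEmbedding ⇑(D.map φ)) :
    ∃ (i : I) (_ : i ⟶ i₀), ∀ (j : I) (_ : j ⟶ i),
      Set.BijOn (fun Y : Set c.pt => closure (⇑(c.π.app j) '' (Y : Set c.pt) : Set (D.obj j)))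
        (irreducibleComponents c.pt) (irreducibleComponents (D.obj j)) := by
  obtain ⟨i₁, φ₁, h₁⟩ := eventually_isDominant_π_of_isEmbedding D c hc i₀ he
  obtain ⟨c', hc'def⟩ : ∃ c' : Cone (Over.forget i₁ ⋙ D), c' = c.whisker (Over.forget i₁) :=
    ⟨_, rfl⟩
  have hc' : IsLimit c' := by
    rw [hc'def]
    exact (Functor.Initial.isLimitWhiskerEquiv (Over.forget i₁) c).symm hc
  have h1 : ∀ {k k' : Over i₁} (f : k ⟶ k'), IsAffineHom ((Over.forget i₁ ⋙ D).map f) :=
    fun f => inferInstanceAs (IsAffineHom (D.map f.left))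
  subst hc'def
  have h3 : NoetherianSpace (c.whisker (Over.forget i₁)).pt :=
    inferInstanceAs (NoetherianSpace c.pt)
  obtain ⟨i', -, hi'⟩ := eventually_bijOn_irreducibleComponents' (Over.forget i₁ ⋙ D)
    (c.whisker (Over.forget i₁)) hc' (Over.mk (𝟙 i₁)) (fun k => h₁ k.left k.hom)
  refine ⟨i'.left, i'.hom ≫ φ₁, fun j a => ?_⟩
  exact hi' (Over.mk (a ≫ i'.hom)) (Over.homMk a)

set_option backward.isDefEq.respectTransparency false in
include hc in
theorem eventually_bijOn_connectedComponents_of_isEmbedding (i₀ : I)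
    [NoetherianSpace (D.obj i₀)] [NoetherianSpace c.pt]
    (he : ∀ (i j : I) (φ : i ⟶ j), Topology.IsEmbedding ⇑(D.map φ)) :
    ∃ (i : I) (_ : i ⟶ i₀), ∀ (j : I) (_ : j ⟶ i),
      Set.BijOn (fun C : Set c.pt => closure (⇑(c.π.app j) '' (C : Set c.pt) : Set (D.obj j)))
        (Set.range (connectedComponent : c.pt → Set c.pt))
        (Set.range (connectedComponent : D.obj j → Set (D.obj j))) := by
  obtain ⟨i₁, φ₁, h₁⟩ := eventually_isDominant_π_of_isEmbedding D c hc i₀ he
  obtain ⟨c', hc'def⟩ : ∃ c' : Cone (Over.forget i₁ ⋙ D), c' = c.whisker (Over.forget i₁) :=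
    ⟨_, rfl⟩
  have hc' : IsLimit c' := by
    rw [hc'def]
    exact (Functor.Initial.isLimitWhiskerEquiv (Over.forget i₁) c).symm hc
  have h1 : ∀ {k k' : Over i₁} (f : k ⟶ k'), IsAffineHom ((Over.forget i₁ ⋙ D).map f) :=
    fun f => inferInstanceAs (IsAffineHom (D.map f.left))
  have h2 : ∀ k : Over i₁, CompactSpace ((Over.forget i₁ ⋙ D).obj k) := fun k => by
    have : NoetherianSpace (D.obj k.left) := (he _ _ (k.hom ≫ φ₁)).isInducing.noetherianSpace
    exact inferInstanceAs (CompactSpace (D.obj k.left))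
  subst hc'def
  have h3 : NoetherianSpace (c.whisker (Over.forget i₁)).pt :=
    inferInstanceAs (NoetherianSpace c.pt)
  obtain ⟨i', -, hi'⟩ := eventually_bijOn_connectedComponents' (Over.forget i₁ ⋙ D)
    (c.whisker (Over.forget i₁)) hc' (fun k => h₁ k.left k.hom) (Over.mk (𝟙 i₁))
  refine ⟨i'.left, i'.hom ≫ φ₁, fun j a => ?_⟩
  exact hi' (Over.mk (a ≫ i'.hom)) (Over.homMk a)

end Groth.Agent.Helper7.LimComp2
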