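import Mathlib

set_option autoImplicit false
universe u

/-! helper7: two lemmas on generators of a finite type algebra, for the descent of closed immersions
and finite morphisms along limits of schemes over a base. -/

namespace Groth.Agent.Helper7.LimRing2

variable {R A B : Type u} [CommRing R] [CommRing A] [CommRing B]

/-- generators of `A` over `R` whose images in `B` come from `R`, with `A → B` surjective. -/
theorem surjective_comp_of_closure (ρ : R →+* A) (α : A →+* B) (hα : Function.Surjective α)
    (s : Set A) (hs : Subring.closure (Set.range ρ ∪ s) = ⊤)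
    (h : ∀ x ∈ s, α x ∈ Set.range (α.comp ρ)) : Function.Surjective (α.comp ρ) := by
  have h1 : (⊤ : Subring A) ≤ (α.comp ρ).range.comap α := by
    rw [← hs, Subring.closure_le]
    rintro x (⟨r, rfl⟩ | hx)
    · exact ⟨r, rfl⟩
    · exact h x hx
  intro b
  obtain ⟨a, rfl⟩ := hα b
  exact h1 (Subring.mem_top a)

/-- generators of `A` over `R` whose images in `B` are integral over `R`, with `A → B` integral. -/
theorem isIntegral_comp_of_closure (ρ : R →+* A) (α : A →+* B) (hα : α.IsIntegral)
    (s : Set A) (hs : Subring.closure (Set.range ρ ∪ s) = ⊤)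
    (h : ∀ x ∈ s, (α.comp ρ).IsIntegralElem (α x)) : (α.comp ρ).IsIntegral := by
  algebraize [α.comp ρ]
  have hC : ∀ a : A, IsIntegral R (α a) := by
    have h1 : (⊤ : Subring A) ≤ (integralClosure R B).toSubring.comap α := by
      rw [← hs, Subring.closure_le]
      rintro x (⟨r, rfl⟩ | hx)
      · exact (integralClosure R B).algebraMap_mem r
      · exact h x hx
    exact fun a => h1 (Subring.mem_top a)
  intro b
  obtain ⟨p, hp, hpb⟩ := hα b
  have hb : IsIntegral (integralClosure R B) b := by
    refine ⟨p.map (α.codRestrict (integralClosure R B).toSubring hC), hp.map _, ?_⟩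
    rw [Polynomial.eval₂_map]
    exact hpb
  have := isIntegral_trans (R := R) (A := integralClosure R B) b hb
  exact this

end Groth.Agent.Helper7.LimRing2
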