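import Mathlib
import Groth.Agent.Lib.Helper7.LimStruct
import Groth.Agent.Lib.Helper7.LimRing
import Groth.Agent.Lib.Helper7.LimRing2
import Groth.Agent.Lib.Helper7.LimProd

set_option autoImplicit false
open CategoryTheory CategoryTheory.Limits AlgebraicGeometry Opposite TopologicalSpace
universe u

/-! helper7: descent to a finite stage of "closed immersion" and "integral implies finite" for the
structure maps of a cofiltered system of schemes over a quasi-compact quasi-separated base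
(EGA IV 8.10.5 (iv), (x) for the structure maps of the system). -/

namespace Groth.Agent.Helper7.LimMor

open Groth.Agent.Helper7.LimRing Groth.Agent.Helper7.LimRing2 Groth.Agent.Helper7.LimProd

variable {I : Type u} [Category.{u} I] (D : I ⥤ Scheme.{u})

set_option backward.isDefEq.respectTransparency false in
theorem app_comp_eq {i j k : I} (φ : j ⟶ i) (ψ : k ⟶ j) (U : (D.obj i).Opens)
    (a b : Γ(D.obj i, U)) (h : (D.map φ).app U a = (D.map φ).app U b) :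
    (D.map (ψ ≫ φ)).app U a = (D.map (ψ ≫ φ)).app U b := by
  have e : (D.map (ψ ≫ φ)).app U = (D.map φ).app U ≫ ((D.map ψ).app (D.map φ ⁻¹ᵁ U) ≫
      (D.obj k).presheaf.map (eqToHom (by rw [D.map_comp]; rfl)).op) := by
    rw [Scheme.Hom.congr_app (D.map_comp ψ φ) U, Scheme.Hom.comp_app, Category.assoc]
  rw [e, CommRingCat.comp_apply, CommRingCat.comp_apply, CommRingCat.comp_apply,
    CommRingCat.comp_apply, h]

variable [IsCofiltered I] (c : Cone D) (hc : IsLimit c)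
  [∀ {i j : I} (f : i ⟶ j), IsAffineHom (D.map f)]

include hc in
/-- finitely many identities between sections which hold in the limit hold at a finite stage and
all later ones. -/
theorem exists_stage_app_eq (i₁ : I) (U : (D.obj i₁).Opens)
    (hU : IsCompact (U : Set (D.obj i₁))) {α : Type*} (s : Finset α)
    (a b : α → Γ(D.obj i₁, U))
    (h : ∀ x ∈ s, (c.π.app i₁).app U (a x) = (c.π.app i₁).app U (b x)) :
    ∃ (j : I) (φ : j ⟶ i₁), ∀ (k : I) (ψ : k ⟶ j), ∀ x ∈ s,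
      (D.map (ψ ≫ φ)).app U (a x) = (D.map (ψ ≫ φ)).app U (b x) := by
  classical
  induction s using Finset.induction_on with
  | empty => exact ⟨i₁, 𝟙 i₁, fun k ψ x hx => absurd hx (Finset.notMem_empty x)⟩
  | insert y s hy ih =>
    obtain ⟨j, φ, hj⟩ := ih fun x hx => h x (Finset.mem_insert_of_mem hx)
    obtain ⟨j', φ', hj'⟩ := exists_app_map_eq_map_of_isLimit D c hc hU (a y) (b y)
      (h y (Finset.mem_insert_self y s))
    obtain ⟨k, ψ, ψ', e⟩ := IsCofiltered.cospan φ φ'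
    refine ⟨k, ψ ≫ φ, fun l θ x hx => ?_⟩
    rcases Finset.mem_insert.mp hx with rfl | hx
    · rw [e, ← Category.assoc]
      exact app_comp_eq D φ' (θ ≫ ψ') U _ _ hj'
    · rw [← Category.assoc]
      exact hj l (θ ≫ ψ) x hx

variable {S : Scheme.{u}}


set_option backward.isDefEq.respectTransparency false in
include hc in
theorem exists_stage_surjective_app (i₁ : I) (h : D.obj i₁ ⟶ S) (W : S.Opens)
    (hW : IsAffineOpen W) (hU₁ : IsAffineOpen (h ⁻¹ᵁ W)) (hft : LocallyOfFiniteType h)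
    (hsurj : Function.Surjective ((c.π.app i₁ ≫ h).app W).hom)
    (htr : ∀ {j k : I} (f : j ⟶ k), IsClosedImmersion (D.map f)) :
    ∃ (j : I) (φ : j ⟶ i₁), ∀ (k : I) (ψ : k ⟶ j),
      Function.Surjective ((D.map (ψ ≫ φ) ≫ h).app W).hom := by
  have hfin : (h.app W).hom.FiniteType := by
    rw [Scheme.Hom.app_eq_appLE]
    exact h.finiteType_appLE hW hU₁ le_rfl
  obtain ⟨s, hs⟩ := exists_finset_closure_eq_top hfin
  have e0 : ((c.π.app i₁ ≫ h).app W).hom =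
      ((c.π.app i₁).app (h ⁻¹ᵁ W)).hom.comp (h.app W).hom := by
    rw [Scheme.Hom.comp_app, CommRingCat.hom_comp]
  have hr : ∀ x : Γ(D.obj i₁, h ⁻¹ᵁ W), ∃ r : Γ(S, W),
      ((c.π.app i₁).app (h ⁻¹ᵁ W)).hom ((h.app W).hom r) =
        ((c.π.app i₁).app (h ⁻¹ᵁ W)).hom x := by
    intro x
    obtain ⟨r, hr⟩ := hsurj (((c.π.app i₁).app (h ⁻¹ᵁ W)).hom x)
    rw [e0] at hr
    exact ⟨r, hr⟩
  choose r hr using hr
  obtain ⟨j, φ, hj⟩ := exists_stage_app_eq D c hc i₁ (h ⁻¹ᵁ W) hU₁.isCompact s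
    (fun x => (h.app W).hom (r x)) (fun x => x) (fun x _ => hr x)
  refine ⟨j, φ, fun k ψ => ?_⟩
  have := htr (ψ ≫ φ)
  have hα : Function.Surjective ((D.map (ψ ≫ φ)).app (h ⁻¹ᵁ W)).hom :=
    (D.map (ψ ≫ φ)).app_surjective _ hU₁
  have e1 : ((D.map (ψ ≫ φ) ≫ h).app W).hom =
      ((D.map (ψ ≫ φ)).app (h ⁻¹ᵁ W)).hom.comp (h.app W).hom := by
    rw [Scheme.Hom.comp_app, CommRingCat.hom_comp]
  rw [e1]
  have hx' : ∀ x ∈ (s : Set Γ(D.obj i₁, h ⁻¹ᵁ W)), ((D.map (ψ ≫ φ)).app (h ⁻¹ᵁ W)).hom x ∈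
      Set.range (((D.map (ψ ≫ φ)).app (h ⁻¹ᵁ W)).hom.comp (h.app W).hom) := by
    intro x hx
    refine ⟨r x, ?_⟩
    rw [RingHom.comp_apply]
    exact hj k ψ x hx
  have h1 := @surjective_comp_of_closure Γ(S, W) Γ(D.obj i₁, h ⁻¹ᵁ W)
    Γ(D.obj k, D.map (ψ ≫ φ) ⁻¹ᵁ h ⁻¹ᵁ W) _ _ _ (h.app W).hom
    ((D.map (ψ ≫ φ)).app (h ⁻¹ᵁ W)).hom hα (s : Set Γ(D.obj i₁, h ⁻¹ᵁ W)) hs hx'
  exact h1

set_option backward.isDefEq.respectTransparency false in
include hc in
/-- local step for integral morphisms. -/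
theorem exists_stage_isIntegral_app (i₁ : I) (h : D.obj i₁ ⟶ S) (W : S.Opens)
    (hW : IsAffineOpen W) (hU₁ : IsAffineOpen (h ⁻¹ᵁ W)) (hft : LocallyOfFiniteType h)
    (hint : ((c.π.app i₁ ≫ h).app W).hom.IsIntegral)
    (htr : ∀ {j k : I} (f : j ⟶ k), IsIntegralHom (D.map f)) :
    ∃ (j : I) (φ : j ⟶ i₁), ∀ (k : I) (ψ : k ⟶ j),
      ((D.map (ψ ≫ φ) ≫ h).app W).hom.IsIntegral := by
  have hfin : (h.app W).hom.FiniteType := by
    rw [Scheme.Hom.app_eq_appLE]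
    exact h.finiteType_appLE hW hU₁ le_rfl
  obtain ⟨s, hs⟩ := exists_finset_closure_eq_top hfin
  have e0 : ((c.π.app i₁ ≫ h).app W).hom =
      ((c.π.app i₁).app (h ⁻¹ᵁ W)).hom.comp (h.app W).hom := by
    rw [Scheme.Hom.comp_app, CommRingCat.hom_comp]
  have hr : ∀ x : Γ(D.obj i₁, h ⁻¹ᵁ W), ∃ p : Polynomial Γ(S, W), p.Monic ∧
      ((c.π.app i₁).app (h ⁻¹ᵁ W)).hom (Polynomial.eval₂ (h.app W).hom x p) =
        ((c.π.app i₁).app (h ⁻¹ᵁ W)).hom 0 := by
    intro x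
    obtain ⟨p, hp, hpx⟩ := hint (((c.π.app i₁).app (h ⁻¹ᵁ W)).hom x)
    rw [e0] at hpx
    refine ⟨p, hp, ?_⟩
    rw [Polynomial.hom_eval₂, map_zero]
    exact hpx
  choose p hp hr using hr
  obtain ⟨j, φ, hj⟩ := exists_stage_app_eq D c hc i₁ (h ⁻¹ᵁ W) hU₁.isCompact s
    (fun x => Polynomial.eval₂ (h.app W).hom x (p x)) (fun _ => 0) (fun x _ => hr x)
  refine ⟨j, φ, fun k ψ => ?_⟩
  have := htr (ψ ≫ φ)
  have hα : ((D.map (ψ ≫ φ)).app (h ⁻¹ᵁ W)).hom.IsIntegral :=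
    IsIntegralHom.isIntegral_app (D.map (ψ ≫ φ)) _ hU₁
  have e1 : ((D.map (ψ ≫ φ) ≫ h).app W).hom =
      ((D.map (ψ ≫ φ)).app (h ⁻¹ᵁ W)).hom.comp (h.app W).hom := by
    rw [Scheme.Hom.comp_app, CommRingCat.hom_comp]
  rw [e1]
  have hx' : ∀ x ∈ (s : Set Γ(D.obj i₁, h ⁻¹ᵁ W)),
      (((D.map (ψ ≫ φ)).app (h ⁻¹ᵁ W)).hom.comp (h.app W).hom).IsIntegralElem
        (((D.map (ψ ≫ φ)).app (h ⁻¹ᵁ W)).hom x) := by
    intro x hx
    refine ⟨p x, hp x, ?_⟩
    have h2 := hj k ψ x hx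
    have h3 : ((D.map (ψ ≫ φ)).app (h ⁻¹ᵁ W)).hom (Polynomial.eval₂ (h.app W).hom x (p x)) =
        ((D.map (ψ ≫ φ)).app (h ⁻¹ᵁ W)).hom 0 := h2
    rw [Polynomial.hom_eval₂, map_zero] at h3
    exact h3
  have h1 := @isIntegral_comp_of_closure Γ(S, W) Γ(D.obj i₁, h ⁻¹ᵁ W)
    Γ(D.obj k, D.map (ψ ≫ φ) ⁻¹ᵁ h ⁻¹ᵁ W) _ _ _ (h.app W).hom
    ((D.map (ψ ≫ φ)).app (h ⁻¹ᵁ W)).hom hα (s : Set Γ(D.obj i₁, h ⁻¹ᵁ W)) hs hx'
  exact h1

variable (S) (t : D ⟶ (Functor.const I).obj S)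

set_option backward.isDefEq.respectTransparency false in
omit [∀ {i j : I} (f : i ⟶ j), IsAffineHom (D.map f)] in
/-- assembling the local steps over a finite affine cover of the base. -/
theorem eventually_of_local (P : MorphismProperty Scheme.{u})
    (Qr : ∀ {R S : Type u} [CommRing R] [CommRing S], (R →+* S) → Prop)
    (hQr : RingHom.RespectsIso Qr)
    (hP : HasAffineProperty P (fun X _ f _ => IsAffine X ∧ Qr (f.app ⊤).hom))
    [CompactSpace S] (i₁ : I) (haff : ∀ (i : I) (_ : i ⟶ i₁), IsAffineHom (t.app i))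
    (H : ∀ (W : S.Opens), IsAffineOpen W → ∃ (j : I) (φ : j ⟶ i₁), ∀ (k : I) (ψ : k ⟶ j),
      Qr ((D.map (ψ ≫ φ) ≫ t.app i₁).app W).hom) :
    ∃ i₂ : I, ∀ (i : I) (_ : i ⟶ i₂), P (t.app i) := by
  classical
  let 𝒰 := S.affineCover.finiteSubcover
  have hU : ∀ a : 𝒰.I₀, IsAffineOpen (𝒰.f a).opensRange := fun a => isAffineOpen_opensRange _
  have hU' : ∀ a : 𝒰.I₀, IsAffineOpen ((𝒰.f a).opensRange.ι ''ᵁ ⊤) := by
    intro a
    rw [Scheme.Opens.ι_image_top]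
    exact hU a
  choose j φ hj using fun a : 𝒰.I₀ => H _ (hU' a)
  obtain ⟨i₂, hi₂⟩ := IsCofiltered.inf_objs_exists (Finset.univ.image j)
  have m : ∀ a, i₂ ⟶ j a := fun a => (hi₂ (Finset.mem_image_of_mem j (Finset.mem_univ a))).some
  refine ⟨i₂, fun k ψ => ?_⟩
  rw [HasAffineProperty.iff_of_iSup_eq_top (P := P) (fun a : 𝒰.I₀ => ⟨_, hU a⟩)
    𝒰.iSup_opensRange]
  intro a
  have haffk : IsAffineHom (t.app k) := haff k ((ψ ≫ m a) ≫ φ a)
  refine ⟨(hU a).preimage (t.app k), ?_⟩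
  have e : t.app k = D.map ((ψ ≫ m a) ≫ φ a) ≫ t.app i₁ :=
    (map_t S D t ((ψ ≫ m a) ≫ φ a)).symm
  have key := hj a k (ψ ≫ m a)
  rw [← e] at key
  change Qr ((t.app k ∣_ (𝒰.f a).opensRange).app ⊤).hom
  simp only [morphismRestrict_app, CommRingCat.hom_comp, hQr.cancel_right_isIso]
  exact key

set_option backward.isDefEq.respectTransparency false in
include hc in
/-- EGA IV 8.10.5 (iv): closed immersions, for a system with closed immersions as transition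
maps. -/
theorem eventually_isClosedImmersion [CompactSpace S] [QuasiSeparatedSpace S]
    [∀ i, CompactSpace (D.obj i)] [∀ i, QuasiSeparatedSpace (D.obj i)]
    (htr : ∀ {j k : I} (f : j ⟶ k), IsClosedImmersion (D.map f))
    [∀ i, LocallyOfFiniteType (t.app i)] (i₀ : I) [IsClosedImmersion (c.π.app i₀ ≫ t.app i₀)] :
    ∃ i₁ : I, ∀ (i : I) (_ : i ⟶ i₁), IsClosedImmersion (t.app i) := by
  obtain ⟨i₁, hi₁⟩ := Groth.Agent.Helper7.LimStruct.main9200 D c hc S t i₀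
  have hP : HasAffineProperty @IsClosedImmersion
      (fun X _ f _ => IsAffine X ∧ Function.Surjective (f.app ⊤).hom) :=
    IsClosedImmersion.hasAffineProperty
  refine eventually_of_local D S t @IsClosedImmersion (fun f => Function.Surjective f)
    RingHom.surjective_respectsIso hP i₁ hi₁ ?_
  intro W hW
  have := hi₁ i₁ (𝟙 _)
  have hU₁ : IsAffineOpen (t.app i₁ ⁻¹ᵁ W) := hW.preimage (t.app i₁)
  have hcl : IsClosedImmersion (c.π.app i₁ ≫ t.app i₁) := by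
    rw [π_t S D t c i₁ i₀]; infer_instance
  have hsurj : Function.Surjective ((c.π.app i₁ ≫ t.app i₁).app W).hom :=
    (c.π.app i₁ ≫ t.app i₁).app_surjective W hW
  exact exists_stage_surjective_app (S := S) D c hc i₁ (t.app i₁) W hW hU₁ inferInstance hsurj htr

set_option backward.isDefEq.respectTransparency false in
include hc in
/-- integral limit implies finite stages, for a system with integral transition maps. -/
theorem eventually_isFinite [CompactSpace S] [QuasiSeparatedSpace S]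
    [∀ i, CompactSpace (D.obj i)] [∀ i, QuasiSeparatedSpace (D.obj i)]
    (htr : ∀ {j k : I} (f : j ⟶ k), IsIntegralHom (D.map f))
    [∀ i, LocallyOfFiniteType (t.app i)] (i₀ : I) [IsIntegralHom (c.π.app i₀ ≫ t.app i₀)] :
    ∃ i₁ : I, ∀ (i : I) (_ : i ⟶ i₁), IsFinite (t.app i) := by
  obtain ⟨i₁, hi₁⟩ := Groth.Agent.Helper7.LimStruct.main9200 D c hc S t i₀
  have hP : HasAffineProperty @IsIntegralHom
      (fun X _ f _ => IsAffine X ∧ RingHom.IsIntegral (f.app ⊤).hom) :=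
    IsIntegralHom.hasAffineProperty
  obtain ⟨i₂, hi₂⟩ := eventually_of_local D S t @IsIntegralHom (fun f => RingHom.IsIntegral f)
    RingHom.isIntegral_respectsIso hP i₁ hi₁ (by
      intro W hW
      have := hi₁ i₁ (𝟙 _)
      have hU₁ : IsAffineOpen (t.app i₁ ⁻¹ᵁ W) := hW.preimage (t.app i₁)
      have hcl : IsIntegralHom (c.π.app i₁ ≫ t.app i₁) := by
        rw [π_t S D t c i₁ i₀]; infer_instance
      have hint : ((c.π.app i₁ ≫ t.app i₁).app W).hom.IsIntegral :=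
        IsIntegralHom.isIntegral_app (c.π.app i₁ ≫ t.app i₁) W hW
      exact exists_stage_isIntegral_app (S := S) D c hc i₁ (t.app i₁) W hW hU₁ inferInstance
        hint htr)
  refine ⟨i₂, fun i φ => ?_⟩
  rw [IsFinite.iff_isIntegralHom_and_locallyOfFiniteType]
  exact ⟨hi₂ i φ, inferInstance⟩

end Groth.Agent.Helper7.LimMor
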