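import Mathlib
import Groth.Agent.Lib.Helper7.LimMor

set_option autoImplicit false
open CategoryTheory CategoryTheory.Limits AlgebraicGeometry Opposite TopologicalSpace
universe u

/-! helper7: if the limit of a system of schemes locally of finite type over a quasi-separated
base, with closed immersions as transition maps, is immersed in the base, then so are all
sufficiently late stages. -/

namespace Groth.Agent.Helper7.LimImm

open Groth.Agent.Helper7.LimProd Groth.Agent.Helper7.LimMor

variable {I : Type u} [Category.{u} I] [IsCofiltered I] (D : I ⥤ Scheme.{u}) (c : Cone D)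
  (hc : IsLimit c) [∀ {i j : I} (f : i ⟶ j), IsAffineHom (D.map f)]
  (S : Scheme.{u}) (t : D ⟶ (Functor.const I).obj S)

set_option backward.isDefEq.respectTransparency false in
include hc in
/-- immersions: for a system with closed immersions as transition maps. -/
theorem eventually_isImmersion [QuasiSeparatedSpace S]
    [∀ i, CompactSpace (D.obj i)] [∀ i, QuasiSeparatedSpace (D.obj i)]
    (htr : ∀ {j k : I} (f : j ⟶ k), IsClosedImmersion (D.map f))
    [∀ i, LocallyOfFiniteType (t.app i)] (i₀ : I) [IsImmersion (c.π.app i₀ ≫ t.app i₀)] :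
    ∃ i₁ : I, ∀ (i : I) (_ : i ⟶ i₁), IsImmersion (t.app i) := by
  have hcX : CompactSpace c.pt := Scheme.compactSpace_of_isLimit D c hc
  obtain ⟨F, hFdef⟩ : ∃ F : c.pt ⟶ S, F = c.π.app i₀ ≫ t.app i₀ := ⟨_, rfl⟩
  have hFimm : IsImmersion F := by rw [hFdef]; infer_instance
  obtain ⟨W', hWc, hWo, hFW, hWcob⟩ := PrespectralSpace.exists_isCompact_and_isOpen_between
    (isCompact_range F.continuous) F.coborderRange.2
    (subset_coborder (s := Set.range F))
  let W : S.Opens := ⟨W', hWo⟩
  have hU : c.π.app i₀ ⁻¹ᵁ (t.app i₀ ⁻¹ᵁ W) = ⊤ := by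
    rw [eq_top_iff]
    intro x _
    have : F x ∈ W' := hFW ⟨x, rfl⟩
    rw [hFdef] at this
    exact this
  obtain ⟨j, fji, hj⟩ := exists_map_eq_top D c hc (t.app i₀ ⁻¹ᵁ W) hU
  have hrange : ∀ k : Over j, Set.range (t.app k.left) ⊆ Set.range W.ι := by
    intro k
    rintro _ ⟨x, rfl⟩
    rw [Scheme.Opens.range_ι]
    have e : t.app k.left = D.map k.hom ≫ D.map fji ≫ t.app i₀ := by
      rw [map_t S D t fji, map_t S D t k.hom]
    rw [e]
    have : D.map k.hom x ∈ D.map fji ⁻¹ᵁ (t.app i₀ ⁻¹ᵁ W) := by rw [hj]; trivial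
    exact this
  let D' : Over j ⥤ Scheme.{u} := Over.forget j ⋙ D
  let t' : D' ⟶ (Functor.const (Over j)).obj W.toScheme :=
    { app := fun k => IsOpenImmersion.lift W.ι (t.app k.left) (hrange k)
      naturality := fun k k' f => by
        rw [← cancel_mono W.ι]
        simp only [Functor.const_obj_obj, Functor.const_obj_map, Category.comp_id,
          Category.assoc, IsOpenImmersion.lift_fac]
        exact map_t S D t f.left }
  have ht' : ∀ k : Over j, t'.app k ≫ W.ι = t.app k.left := fun k =>
    IsOpenImmersion.lift_fac _ _ _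
  let c' : Cone D' := c.whisker (Over.forget j)
  have hc' : IsLimit c' := (Functor.Initial.isLimitWhiskerEquiv (Over.forget j) c).symm hc
  have h1 : ∀ {k k' : Over j} (f : k ⟶ k'), IsAffineHom (D'.map f) := fun f =>
    inferInstanceAs (IsAffineHom (D.map f.left))
  have h2 : ∀ k : Over j, CompactSpace (D'.obj k) := fun k =>
    inferInstanceAs (CompactSpace (D.obj k.left))
  have h3 : ∀ k : Over j, QuasiSeparatedSpace (D'.obj k) := fun k =>
    inferInstanceAs (QuasiSeparatedSpace (D.obj k.left))
  have h4 : CompactSpace W.toScheme := isCompact_iff_compactSpace.mp hWc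
  have h5 : QuasiSeparatedSpace W.toScheme :=
    (isQuasiSeparated_iff_quasiSeparatedSpace _ W.2).mp (.of_quasiSeparatedSpace _)
  have h6 : ∀ k : Over j, LocallyOfFiniteType (t'.app k) := fun k => by
    have : LocallyOfFiniteType (t'.app k ≫ W.ι) := by rw [ht']; infer_instance
    exact locallyOfFiniteType_of_comp (t'.app k) W.ι
  have hle : W ≤ F.coborderRange := hWcob
  have h7 : IsClosedImmersion (c'.π.app (Over.mk (𝟙 j)) ≫ t'.app (Over.mk (𝟙 j))) := by
    have e : (c'.π.app (Over.mk (𝟙 j)) ≫ t'.app (Over.mk (𝟙 j))) ≫ S.homOfLE hle =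
        F.liftCoborder := by
      rw [← cancel_mono F.coborderRange.ι, Category.assoc, Scheme.homOfLE_ι, Category.assoc,
        ht', F.liftCoborder_ι, hFdef]
      exact π_t S D t c j i₀
    have : IsClosedImmersion ((c'.π.app (Over.mk (𝟙 j)) ≫ t'.app (Over.mk (𝟙 j))) ≫
        S.homOfLE hle) := by rw [e]; infer_instance
    exact IsClosedImmersion.of_comp _ (S.homOfLE hle)
  obtain ⟨i₂, hi₂⟩ := eventually_isClosedImmersion D' c' hc' W.toScheme t'
    (fun f => htr f.left) (Over.mk (𝟙 j))
  refine ⟨i₂.left, fun i a => ?_⟩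
  have h8 := hi₂ (Over.mk (a ≫ i₂.hom)) (Over.homMk a)
  have e : t.app i = t'.app (Over.mk (a ≫ i₂.hom)) ≫ W.ι := (ht' (Over.mk (a ≫ i₂.hom))).symm
  rw [e]
  infer_instance

end Groth.Agent.Helper7.LimImm
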