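import Mathlib
import Groth.Agent.Lib.Helper7.LimFlat2

set_option autoImplicit false
open CategoryTheory CategoryTheory.Limits AlgebraicGeometry Opposite TopologicalSpace
universe u v

set_option linter.unusedSectionVars false

/-! helper7: points of a cofiltered limit of schemes with affine transition maps: a point is
determined by its images, compatible systems of points lift, and the underlying space of the limit
is the limit of the underlying spaces (Stacks 0CUF). -/

namespace Groth.Agent.Helper7.LimPts

variable {I : Type u} [Category.{u} I] [IsCofiltered I] (D : I ⥤ Scheme.{u}) (c : Cone D)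
  (hc : IsLimit c) [∀ {i j : I} (f : i ⟶ j), IsAffineHom (D.map f)]

include hc in
/-- specialization in the limit is detected on the stages. -/
theorem specializes_iff {s t : c.pt} : s ⤳ t ↔ ∀ i, c.π.app i s ⤳ c.π.app i t := by
  constructor
  · intro h i
    exact h.map (c.π.app i).continuous
  · intro h
    rw [specializes_iff_forall_open]
    intro u hu htu
    obtain ⟨k, V, htV, hVu⟩ := LimFlat2.exists_basic_nhd D c hc hu htu
    apply hVu
    exact (h k).mem_open V.2 htV

include hc in
/-- a point of the limit is determined by its images in the stages. -/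
theorem eq_of_forall_π_eq {s t : c.pt} (h : ∀ i, c.π.app i s = c.π.app i t) : s = t := by
  have h1 : s ⤳ t := (specializes_iff D c hc).mpr (fun i => by rw [h i])
  have h2 : t ⤳ s := (specializes_iff D c hc).mpr (fun i => by rw [h i])
  exact (h1.antisymm h2).eq

section Lift

variable (x : ∀ i, D.obj i) (hx : ∀ {i j : I} (φ : j ⟶ i), D.map φ (x j) = x i)

/-- the transition maps between the residue fields of a compatible system of points. -/
noncomputable def kMap {i j : I} (φ : j ⟶ i) :
    Spec ((D.obj j).residueField (x j)) ⟶ Spec ((D.obj i).residueField (x i)) :=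
  Spec.map (((D.obj i).residueFieldCongr (hx φ)).inv ≫ (D.map φ).residueFieldMap (x j))

theorem kMap_fromSpec {i j : I} (φ : j ⟶ i) :
    kMap D x hx φ ≫ (D.obj i).fromSpecResidueField (x i) =
      (D.obj j).fromSpecResidueField (x j) ≫ D.map φ := by
  rw [kMap, Spec.map_comp, Category.assoc,
    ← Scheme.Hom.SpecMap_residueFieldMap_fromSpecResidueField]
  congr 1
  rw [← Scheme.residueFieldCongr_fromSpecResidueField (hx φ), ← Category.assoc,
    ← Spec.map_comp, Iso.hom_inv_id, Spec.map_id, Category.id_comp]

/-- the diagram of spectra of residue fields. -/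
noncomputable def E : I ⥤ Scheme.{u} where
  obj i := Spec ((D.obj i).residueField (x i))
  map φ := kMap D x hx φ
  map_id i := by
    rw [← cancel_mono ((D.obj i).fromSpecResidueField (x i)), kMap_fromSpec, D.map_id,
      Category.comp_id, Category.id_comp]
  map_comp φ ψ := by
    rw [← cancel_mono ((D.obj _).fromSpecResidueField (x _)), kMap_fromSpec, Category.assoc,
      kMap_fromSpec, ← Category.assoc, kMap_fromSpec, Category.assoc, D.map_comp]

/-- the diagram of residue fields, in the opposite of the category of rings. -/
noncomputable def K : I ⥤ CommRingCatᵒᵖ where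
  obj i := op ((D.obj i).residueField (x i))
  map {j i} φ := (((D.obj i).residueFieldCongr (hx φ)).inv ≫ (D.map φ).residueFieldMap (x j)).op
  map_id i := by
    apply Quiver.Hom.unop_inj
    apply Spec.map_injective
    refine ((E D x hx).map_id i).trans ?_
    exact Spec.map_id _ |>.symm
  map_comp φ ψ := by
    apply Quiver.Hom.unop_inj
    apply Spec.map_injective
    rw [unop_comp, Spec.map_comp]
    exact (E D x hx).map_comp φ ψ

theorem K_comp_Spec : K D x hx ⋙ Scheme.Spec = E D x hx := rfl

instance (i : I) : Nonempty ((E D x hx).obj i) :=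
  inferInstanceAs (Nonempty (Spec ((D.obj i).residueField (x i))))

instance (i : I) : IsAffine ((E D x hx).obj i) :=
  inferInstanceAs (IsAffine (Spec ((D.obj i).residueField (x i))))

/-- the projection from the diagram of spectra of residue fields. -/
noncomputable def Eι : E D x hx ⟶ D where
  app i := (D.obj i).fromSpecResidueField (x i)
  naturality _ _ φ := kMap_fromSpec D x hx φ

include hc hx in
/-- a compatible system of points of the stages comes from a point of the limit. -/
theorem exists_point : ∃ s : c.pt, ∀ i, c.π.app i s = x i := by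
  have hlimK : HasLimit (K D x hx) := inferInstance
  let d : Cone (E D x hx) := Scheme.Spec.mapCone (limit.cone (K D x hx))
  have hd : IsLimit d := isLimitOfPreserves Scheme.Spec (limit.isLimit (K D x hx))
  have hne : Nonempty d.pt := Scheme.nonempty_of_isLimit (E D x hx) d hd
  obtain ⟨e⟩ := hne
  let t : Cone D := (Cone.postcompose (Eι D x hx)).obj d
  refine ⟨hc.lift t e, fun i => ?_⟩
  rw [← Scheme.Hom.comp_apply, hc.fac]
  change ((d.π.app i) ≫ (D.obj i).fromSpecResidueField (x i)) e = x i
  rw [Scheme.Hom.comp_apply]
  exact Scheme.fromSpecResidueField_apply (x i) _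

end Lift

include hc in
/-- the underlying set of the limit is the limit of the underlying sets. -/
theorem nonempty_isLimit_forget :
    Nonempty (IsLimit ((forget TopCat).mapCone (Scheme.forgetToTop.mapCone c))) := by
  rw [Types.isLimit_iff]
  intro s hs
  have hx : ∀ {i j : I} (φ : j ⟶ i), D.map φ (s j) = s i := fun φ => hs φ
  obtain ⟨p, hp⟩ := exists_point D c hc (fun i => s i) hx
  refine ⟨p, hp, fun q hq => ?_⟩
  exact eq_of_forall_π_eq D c hc (fun i => (hq i).trans (hp i).symm)

include hc in
/-- the underlying space of the limit is the limit of the underlying spaces. -/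
theorem nonempty_isLimit_forgetToTop :
    Nonempty (IsLimit (Scheme.forgetToTop.mapCone c)) := by
  obtain ⟨h⟩ := nonempty_isLimit_forget D c hc
  rw [TopCat.nonempty_isLimit_iff_eq_induced _ h]
  apply le_antisymm
  · rw [le_iInf_iff]
    intro i
    exact (c.π.app i).continuous.le_induced
  · have hB := isBasis_preimage_isAffineOpen D c hc
    have hB' : IsTopologicalBasis (SetLike.coe '' { (c.π.app k ⁻¹ᵁ V : c.pt.Opens) |
      (k : I) (V : (D.obj k).Opens) (_ : IsAffineOpen V) }) := hB
    have heq : (Scheme.forgetToTop.mapCone c).pt.str = generateFrom _ := hB'.eq_generateFrom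
    rw [heq, le_generateFrom_iff_subset_isOpen]
    rintro _ ⟨_, ⟨k, V, -, rfl⟩, rfl⟩
    have hk := iInf_le (fun j => TopologicalSpace.induced (X := ↑(Scheme.forgetToTop.mapCone c).pt)
      (⇑(ConcreteCategory.hom ((Scheme.forgetToTop.mapCone c).π.app j)))
      ((D ⋙ Scheme.forgetToTop).obj j).str) k
    exact hk _ (isOpen_induced V.2)

end Groth.Agent.Helper7.LimPts
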