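import Mathlib
import Groth.Agent.Lib.Helper7.LimPts

set_option autoImplicit false
open CategoryTheory CategoryTheory.Limits AlgebraicGeometry Opposite TopologicalSpace
universe u v

set_option linter.unusedSectionVars false

/-! helper7: maximal points of a cofiltered limit of schemes with affine transition maps and density
of preimages of open subsets (EGA IV 8 complements on maximal points). -/

namespace Groth.Agent.Helper7.LimMaxPts

/-- every point of a quasi-sober T0 space has a maximal generization. -/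
theorem exists_maxPt_specializes {X : Type*} [TopologicalSpace X] [QuasiSober X] [T0Space X]
    (x : X) : ∃ m : X, m ⤳ x ∧ ∀ z : X, z ⤳ m → z = m := by
  obtain ⟨m, hm⟩ := QuasiSober.sober (isIrreducible_irreducibleComponent (x := x))
    isClosed_irreducibleComponent
  have hcl : closure {m} = irreducibleComponent x := hm
  refine ⟨m, ?_, fun z hz => ?_⟩
  · rw [specializes_iff_mem_closure, hcl]
    exact mem_irreducibleComponent
  · have h1 : closure {m} ⊆ closure {z} := specializes_iff_closure_subset.mp hz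
    have h2 : closure {z} = irreducibleComponent x :=
      eq_irreducibleComponent (isIrreducible_singleton.closure).isPreirreducible (hcl ▸ h1)
    have h3 : Inseparable z m := by
      rw [inseparable_iff_closure_eq, h2, hcl]
    exact h3.eq

/-- an open subset containing all maximal points is dense. -/
theorem dense_of_maxPts_subset {X : Type*} [TopologicalSpace X] [QuasiSober X] [T0Space X]
    (V : Set X) (h : ∀ m : X, (∀ z : X, z ⤳ m → z = m) → m ∈ V) : Dense V := by
  rw [dense_iff_inter_open]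
  rintro U hU ⟨x, hxU⟩
  obtain ⟨m, hm1, hm2⟩ := exists_maxPt_specializes x
  exact ⟨m, hm1.mem_open hU hxU, h m hm2⟩

/-- with finitely many maximal points, a dense open subset contains all maximal points. -/
theorem maxPts_subset_of_dense {X : Type*} [TopologicalSpace X] [QuasiSober X] [T0Space X]
    (hfin : {s : X | ∀ z : X, z ⤳ s → z = s}.Finite) (V : Set X) (hV : IsOpen V) (hd : Dense V)
    (m : X) (hm : ∀ z : X, z ⤳ m → z = m) : m ∈ V := by
  by_contra hmV
  obtain ⟨T, hTdef⟩ : ∃ T : Set X,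
      T = ⋃ m' ∈ {s : X | (∀ z : X, z ⤳ s → z = s) ∧ s ≠ m}, closure {m'} := ⟨_, rfl⟩
  have hT : IsClosed T := by
    rw [hTdef]
    exact Set.Finite.isClosed_biUnion (hfin.subset (fun s hs => hs.1))
      (fun _ _ => isClosed_closure)
  have hmT : m ∉ T := by
    rw [hTdef]
    simp only [Set.mem_iUnion]
    rintro ⟨m', ⟨-, hm'2⟩, hmm'⟩
    exact hm'2 (hm m' (specializes_iff_mem_closure.mpr hmm'))
  obtain ⟨y, hyU, hyV⟩ := hd.inter_open_nonempty Tᶜ hT.isOpen_compl ⟨m, hmT⟩
  obtain ⟨m'', h1, h2⟩ := exists_maxPt_specializes y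
  by_cases hmm : m'' = m
  · subst hmm
    exact hmV (h1.mem_open hV hyV)
  · apply hyU
    rw [hTdef]
    simp only [Set.mem_iUnion]
    exact ⟨m'', ⟨h2, hmm⟩, specializes_iff_mem_closure.mp h1⟩

variable {I : Type u} [Category.{u} I] [IsCofiltered I] (D : I ⥤ Scheme.{u}) (c : Cone D)
  (hc : IsLimit c) [∀ {i j : I} (f : i ⟶ j), IsAffineHom (D.map f)]

include hc in
/-- a compatible system of finite nonempty sets of points of the stages contains the system of
images of a point of the limit. -/
theorem exists_point_of_finite_nonempty (P : ∀ i, Set (D.obj i)) (hfin : ∀ i, (P i).Finite)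
    (hne : ∀ i, (P i).Nonempty)
    (hmap : ∀ {i j : I} (φ : j ⟶ i) (m : D.obj j), m ∈ P j → D.map φ m ∈ P i) :
    ∃ s : c.pt, ∀ i, c.π.app i s ∈ P i := by
  let G : I ⥤ Type u :=
    { obj := fun i => ↥(P i)
      map := fun {j i} φ => TypeCat.ofHom (fun m => ⟨D.map φ m.1, hmap φ m.1 m.2⟩)
      map_id := fun i => by
        ext m
        change (D.map (𝟙 i)) m.1 = m.1
        rw [D.map_id]
        rfl
      map_comp := fun φ ψ => by
        ext m
        change (D.map (φ ≫ ψ)) m.1 = (D.map ψ) ((D.map φ) m.1)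
        rw [D.map_comp]
        rfl }
  have h1 : ∀ i, Finite (G.obj i) := fun i => (hfin i).to_subtype
  have h2 : ∀ i, Nonempty (G.obj i) := fun i => (hne i).to_subtype
  obtain ⟨σ, hσ⟩ := nonempty_sections_of_finite_cofiltered_system G
  obtain ⟨s, hs⟩ := LimPts.exists_point D c hc (fun i => (σ i).1)
    (fun {i j} φ => congrArg Subtype.val (hσ φ))
  exact ⟨s, fun i => by rw [hs i]; exact (σ i).2⟩

include hc in
/-- maximal points of the limit are the compatible systems of maximal points. -/
theorem isMaxPt_iff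
    (hfin : ∀ i : I, {s : ↥(D.obj i) | ∀ z : ↥(D.obj i), z ⤳ s → z = s}.Finite)
    (hsys : ∀ (i j : I) (g : i ⟶ j) (s : ↥(D.obj i)), (∀ z : ↥(D.obj i), z ⤳ s → z = s) →
      ∀ z : ↥(D.obj j), z ⤳ D.map g s → z = D.map g s)
    (s : ↥c.pt) :
    (∀ z : ↥c.pt, z ⤳ s → z = s) ↔
      ∀ (i : I) (z : ↥(D.obj i)), z ⤳ c.π.app i s → z = c.π.app i s := by
  constructor
  · intro hs
    obtain ⟨z, hz⟩ := exists_point_of_finite_nonempty D c hc
      (fun i => {m | (∀ z : ↥(D.obj i), z ⤳ m → z = m) ∧ m ⤳ c.π.app i s})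
      (fun i => (hfin i).subset (fun m hm => hm.1))
      (fun i => by
        obtain ⟨m, hm1, hm2⟩ := exists_maxPt_specializes (c.π.app i s)
        exact ⟨m, hm2, hm1⟩)
      (fun {i j} φ m hm => by
        refine ⟨hsys j i φ m hm.1, ?_⟩
        have := hm.2.map (D.map φ).continuous
        have h2 : (D.map φ) (c.π.app j s) = c.π.app i s := by
          rw [← Scheme.Hom.comp_apply, c.w]
        rw [← h2]
        exact this)
    have hzs : z ⤳ s := (LimPts.specializes_iff D c hc).mpr (fun i => (hz i).2)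
    have hzs' : z = s := hs z hzs
    intro i
    rw [← hzs']
    exact (hz i).1
  · intro h z hz
    apply LimPts.eq_of_forall_π_eq D c hc
    intro i
    exact h i _ (hz.map (c.π.app i).continuous)

set_option backward.isDefEq.respectTransparency false in
include hc in
/-- density of the preimages of an open subset of a stage. -/
theorem dense_preimage
    (hfin : ∀ i : I, {s : ↥(D.obj i) | ∀ z : ↥(D.obj i), z ⤳ s → z = s}.Finite)
    (hsys : ∀ (i j : I) (g : i ⟶ j) (s : ↥(D.obj i)), (∀ z : ↥(D.obj i), z ⤳ s → z = s) →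
      ∀ z : ↥(D.obj j), z ⤳ D.map g s → z = D.map g s)
    (i₀ : I) (V₀ : (D.obj i₀).Opens) :
    (Dense (V₀ : Set ↥(D.obj i₀)) →
        (∀ (i : I) (g : i ⟶ i₀), Dense (((D.map g) ⁻¹ᵁ V₀ : (D.obj i).Opens) : Set ↥(D.obj i))) ∧
          Dense (((c.π.app i₀) ⁻¹ᵁ V₀ : c.pt.Opens) : Set ↥c.pt)) ∧
      (Dense (((c.π.app i₀) ⁻¹ᵁ V₀ : c.pt.Opens) : Set ↥c.pt) →
        {s : ↥c.pt | ∀ z : ↥c.pt, z ⤳ s → z = s}.Finite →
          ∃ (i : I) (g : i ⟶ i₀),
            Dense (((D.map g) ⁻¹ᵁ V₀ : (D.obj i).Opens) : Set ↥(D.obj i))) := by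
  constructor
  · intro hd
    have hV₀ := maxPts_subset_of_dense (hfin i₀) (V₀ : Set ↥(D.obj i₀)) V₀.2 hd
    refine ⟨fun i g => ?_, ?_⟩
    · exact dense_of_maxPts_subset _ (fun m hm => hV₀ (D.map g m) (hsys i i₀ g m hm))
    · exact dense_of_maxPts_subset _ (fun s hs =>
        hV₀ (c.π.app i₀ s) ((isMaxPt_iff D c hc hfin hsys s).mp hs i₀))
  · intro hd hfinS
    by_contra! H
    obtain ⟨D', hD'⟩ : ∃ D' : Over i₀ ⥤ Scheme.{u}, D' = Over.forget i₀ ⋙ D := ⟨_, rfl⟩
    obtain ⟨c', hc'def⟩ : ∃ c' : Cone (Over.forget i₀ ⋙ D), c' = c.whisker (Over.forget i₀) :=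
      ⟨_, rfl⟩
    have hc' : IsLimit c' := by
      rw [hc'def]
      exact (Functor.Initial.isLimitWhiskerEquiv (Over.forget i₀) c).symm hc
    have h1 : ∀ {k k' : Over i₀} (f : k ⟶ k'), IsAffineHom ((Over.forget i₀ ⋙ D).map f) :=
      fun f => inferInstanceAs (IsAffineHom (D.map f.left))
    obtain ⟨z, hz⟩ := exists_point_of_finite_nonempty (Over.forget i₀ ⋙ D) c' hc'
      (fun j => {m : ↥(D.obj j.left) | (∀ w : ↥(D.obj j.left), w ⤳ m → w = m) ∧
        D.map j.hom m ∉ V₀})
      (fun j => (hfin j.left).subset (fun m hm => hm.1))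
      (fun j => by
        by_contra hempty
        rw [Set.not_nonempty_iff_eq_empty] at hempty
        apply H j.left j.hom
        apply dense_of_maxPts_subset
        intro m hm
        by_contra hmV
        have : m ∈ ({m : ↥(D.obj j.left) | (∀ w : ↥(D.obj j.left), w ⤳ m → w = m) ∧
            D.map j.hom m ∉ V₀} : Set _) := ⟨hm, hmV⟩
        rw [hempty] at this
        exact this)
      (fun {k j} f m hm => by
        refine ⟨hsys _ _ f.left m hm.1, ?_⟩
        have h2 : (D.map k.hom) ((D.map f.left) m) = (D.map j.hom) m := by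
          rw [← Scheme.Hom.comp_apply, ← D.map_comp, Over.w f]
        change (D.map k.hom) ((D.map f.left) m) ∉ V₀
        rw [h2]
        exact hm.2)
    subst hc'def
    have hzmax : ∀ w : ↥c.pt, w ⤳ z → w = z := by
      intro w hw
      apply LimPts.eq_of_forall_π_eq (Over.forget i₀ ⋙ D) (c.whisker (Over.forget i₀)) hc'
      intro j
      exact (hz j).1 _ (hw.map (c.π.app j.left).continuous)
    have hzV := maxPts_subset_of_dense hfinS _ (c.π.app i₀ ⁻¹ᵁ V₀).2 hd z hzmax
    have h3 := (hz (Over.mk (𝟙 i₀))).2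
    apply h3
    change (D.map (𝟙 i₀)) (c.π.app i₀ z) ∈ V₀
    rw [D.map_id]
    exact hzV

end Groth.Agent.Helper7.LimMaxPts
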