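import Mathlib
import Groth.Agent.Lib.Helper7.LimStage

set_option autoImplicit false
open CategoryTheory CategoryTheory.Limits AlgebraicGeometry Opposite TopologicalSpace
universe u

/-! helper7: neighbourhood version of the descent of properties of morphisms to a finite stage of
a cofiltered limit of schemes with affine transition maps (EGA IV 17.7.8 (ii)): a morphism has the
property near a point of the limit if and only if a stage has it near the image of the point. -/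

namespace Groth.Agent.Helper7.LimNhd

open Groth.Agent.Helper7.LimBC Groth.Agent.Helper7.LimStage

section Restrict

variable {X₀ Y₀ : Scheme.{u}} {f₀ : X₀ ⟶ Y₀}

/-- restricting a base change square to an open of the source. -/
theorem isPullback_restrict {A B : Scheme.{u}} {u : A ⟶ B} {b : B ⟶ Y₀} {pA : A ⟶ X₀}
    (h : IsPullback pA u f₀ b) (V : X₀.Opens) :
    IsPullback (pA ∣_ V) ((pA ⁻¹ᵁ V).ι ≫ u) (V.ι ≫ f₀) b :=
  (isPullback_morphismRestrict pA V).paste_vert h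

end Restrict

section Square

variable {X₀ Y₀ Z₀ : Scheme.{u}} (f₀ : X₀ ⟶ Y₀) (g₀ : Y₀ ⟶ Z₀)

set_option backward.isDefEq.respectTransparency false in
/-- compatible maps to the canonical base changes form a cartesian square with the canonical base
change of `f₀`. -/
theorem isPullback_of_bcHom {Z X Y : Scheme.{u}} (s : Z ⟶ Z₀) {f : X ⟶ Y} {qY : Y ⟶ Y₀}
    {qX : X ⟶ X₀} (hX : IsPullback qX f f₀ qY) (rX : X ⟶ pullback (f₀ ≫ g₀) s)
    (sY : Y ⟶ pullback g₀ s) (h1 : rX ≫ pullback.fst (f₀ ≫ g₀) s = qX)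
    (h2 : sY ≫ pullback.fst g₀ s = qY)
    (h3 : rX ≫ pullback.snd (f₀ ≫ g₀) s = f ≫ sY ≫ pullback.snd g₀ s) :
    IsPullback rX f (bcHom f₀ g₀ s) sY := by
  refine IsPullback.of_right (h₁₂ := pullback.fst (f₀ ≫ g₀) s)
    (h₂₂ := pullback.fst g₀ s) (v₁₃ := f₀) ?_ ?_ (isPullback_bcHom f₀ g₀ _)
  · rw [h1, h2]
    exact hX
  · apply pullback.hom_ext
    · rw [Category.assoc, bcHom_fst, ← Category.assoc, h1, Category.assoc, h2, hX.w]
    · rw [Category.assoc, bcHom_snd, h3, Category.assoc]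

end Square

variable {I : Type u} [Category.{u} I] [IsCofiltered I] (D : I ⥤ Scheme.{u}) (c : Cone D)
  (hc : IsLimit c) [∀ {i j : I} (f : i ⟶ j), IsAffineHom (D.map f)] {i₀ : I}
  {X₀ Y₀ : Scheme.{u}} (f₀ : X₀ ⟶ Y₀) (g₀ : Y₀ ⟶ D.obj i₀)

omit [IsCofiltered I] [∀ {i j : I} (f : i ⟶ j), IsAffineHom (D.map f)] in
/-- a neighbourhood of the image at a stage with the property gives one in the limit. -/
theorem nhd_of_stage (P : MorphismProperty Scheme.{u}) [P.IsStableUnderBaseChange]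
    {X Y : Scheme.{u}} {f : X ⟶ Y} {g : Y ⟶ c.pt} {qY : Y ⟶ Y₀} {qX : X ⟶ X₀}
    (hY : IsPullback qY g g₀ (c.π.app i₀)) (hX : IsPullback qX f f₀ qY) (x : X)
    {j : I} (φ : j ⟶ i₀) {Xj Yj : Scheme.{u}} {fj : Xj ⟶ Yj} {gj : Yj ⟶ D.obj j} {pY : Yj ⟶ Y₀}
    {pX : Xj ⟶ X₀} {rX : X ⟶ Xj} (hYj : IsPullback pY gj g₀ (D.map φ))
    (hXj : IsPullback pX fj f₀ pY) (h1 : rX ≫ pX = qX)
    (h2 : rX ≫ fj ≫ gj = f ≫ g ≫ c.π.app j) (V : Xj.Opens) (hxV : rX.base x ∈ V)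
    (hP : P (V.ι ≫ fj)) : ∃ U : X.Opens, x ∈ U ∧ P (U.ι ≫ f) := by
  have hw : qY ≫ g₀ = (g ≫ c.π.app j) ≫ D.map φ := by rw [hY.w, Category.assoc, c.w]
  have hsq : rX ≫ fj = f ≫ hYj.lift qY (g ≫ c.π.app j) hw := by
    apply hYj.hom_ext
    · rw [Category.assoc, ← hXj.w, ← Category.assoc, h1, Category.assoc, IsPullback.lift_fst,
        hX.w]
    · rw [Category.assoc, h2, Category.assoc, IsPullback.lift_snd]
  have hpb : IsPullback rX f fj (hYj.lift qY (g ≫ c.π.app j) hw) := by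
    refine IsPullback.of_right (h₁₂ := pX) (h₂₂ := pY) (v₁₃ := f₀) ?_ hsq hXj
    rw [h1, IsPullback.lift_fst]
    exact hX
  exact ⟨rX ⁻¹ᵁ V, hxV, MorphismProperty.of_isPullback (isPullback_restrict hpb V) hP⟩

set_option backward.isDefEq.respectTransparency false in
include hc in
/-- a neighbourhood in the limit with the property comes from a neighbourhood at a stage. -/
theorem exists_stage_nhd (P : MorphismProperty Scheme.{u}) [P.IsStableUnderBaseChange]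
    [IsZariskiLocalAtSource P]
    (Hdesc : ∀ {i₁ : I} {X₁ Y₁ : Scheme.{u}} (f₁ : X₁ ⟶ Y₁) (g₁ : Y₁ ⟶ D.obj i₁)
      [CompactSpace X₁] [LocallyOfFinitePresentation f₁], P (bcHom f₁ g₁ (c.π.app i₁)) →
      ∃ (j : I) (φ : j ⟶ i₁), P (bcHom f₁ g₁ (D.map φ)))
    [LocallyOfFinitePresentation f₀]
    {X Y : Scheme.{u}} {f : X ⟶ Y} {g : Y ⟶ c.pt} {qY : Y ⟶ Y₀} {qX : X ⟶ X₀}
    (hY : IsPullback qY g g₀ (c.π.app i₀)) (hX : IsPullback qX f f₀ qY) (x : X)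
    (U : X.Opens) (hxU : x ∈ U) (hP : P (U.ι ≫ f)) :
    ∃ (j : I) (φ : j ⟶ i₀) (rX : X ⟶ pullback (f₀ ≫ g₀) (D.map φ)),
      rX ≫ pullback.fst (f₀ ≫ g₀) (D.map φ) = qX ∧
      rX ≫ pullback.snd (f₀ ≫ g₀) (D.map φ) = f ≫ g ≫ c.π.app j ∧
      ∃ V : (pullback (f₀ ≫ g₀) (D.map φ)).Opens, rX.base x ∈ V ∧
        P (V.ι ≫ bcHom f₀ g₀ (D.map φ)) := by
  have hXbig : IsPullback qX (f ≫ g) (f₀ ≫ g₀) (c.π.app i₀) := hX.paste_vert hY
  have hcE : IsLimit (bcCone hXbig) := isLimitBcCone hc hXbig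
  have hB := isBasis_preimage_isAffineOpen (bcDiagram D i₀ (f₀ ≫ g₀)) (bcCone hXbig) hcE
  obtain ⟨_, ⟨k, V, hV, rfl⟩, hxV, hVU⟩ := Opens.isBasis_iff_nbhd.mp hB hxU
  obtain ⟨rk, hrk⟩ : ∃ rk : X ⟶ pullback (f₀ ≫ g₀) (D.map k.hom),
    rk = (bcCone hXbig).π.app k := ⟨_, rfl⟩
  rw [← hrk] at hxV hVU
  have hrk1 : rk ≫ pullback.fst (f₀ ≫ g₀) (D.map k.hom) = qX := by
    rw [hrk]; exact bcCone_π_fst hXbig k
  have hrk2 : rk ≫ pullback.snd (f₀ ≫ g₀) (D.map k.hom) = (f ≫ g) ≫ c.π.app k.left := by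
    rw [hrk]; exact bcCone_π_snd hXbig k
  obtain ⟨sY, hsY⟩ : ∃ sY : Y ⟶ pullback g₀ (D.map k.hom), sY = (bcCone hY).π.app k := ⟨_, rfl⟩
  have hsY1 : sY ≫ pullback.fst g₀ (D.map k.hom) = qY := by
    rw [hsY]; exact bcCone_π_fst hY k
  have hsY2 : sY ≫ pullback.snd g₀ (D.map k.hom) = g ≫ c.π.app k.left := by
    rw [hsY]; exact bcCone_π_snd hY k
  have hY' : IsPullback sY g (pullback.snd g₀ (D.map k.hom)) (c.π.app k.left) := by
    rw [hsY]; exact isPullback_bcCone_π hY k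
  have hXk : IsPullback rk f (bcHom f₀ g₀ (D.map k.hom)) sY :=
    isPullback_of_bcHom f₀ g₀ (D.map k.hom) hX rk sY hrk1 hsY1
      (by rw [hrk2, hsY2, Category.assoc])
  have hP' : P ((rk ⁻¹ᵁ V).ι ≫ f) := by
    have h1 : (rk ⁻¹ᵁ V).ι = X.homOfLE hVU ≫ U.ι := (Scheme.homOfLE_ι X hVU).symm
    rw [h1, Category.assoc]
    exact IsZariskiLocalAtSource.comp hP _
  have hXV := isPullback_restrict hXk V
  have h := bcHom_of_isPullback (V.ι ≫ bcHom f₀ g₀ (D.map k.hom)) (pullback.snd g₀ (D.map k.hom))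
    P (c.π.app k.left) hY' hXV hP'
  have : IsAffine V.toScheme := hV
  have hlfpk : LocallyOfFinitePresentation (bcHom f₀ g₀ (D.map k.hom)) :=
    MorphismProperty.of_isPullback (isPullback_bcHom f₀ g₀ (D.map k.hom)) inferInstance
  obtain ⟨m, ψ, hm⟩ := Hdesc (V.ι ≫ bcHom f₀ g₀ (D.map k.hom)) (pullback.snd g₀ (D.map k.hom)) h
  obtain ⟨rm, hrm⟩ : ∃ rm : X ⟶ pullback (f₀ ≫ g₀) (D.map (ψ ≫ k.hom)),
      rm = pullback.lift qX ((f ≫ g) ≫ c.π.app m) (by rw [hXbig.w, Category.assoc (f ≫ g), c.w]) := ⟨_, rfl⟩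
  have hrm1 : rm ≫ pullback.fst (f₀ ≫ g₀) (D.map (ψ ≫ k.hom)) = qX := by
    rw [hrm, pullback.lift_fst]
  have hrm2 : rm ≫ pullback.snd (f₀ ≫ g₀) (D.map (ψ ≫ k.hom)) = (f ≫ g) ≫ c.π.app m := by
    rw [hrm, pullback.lift_snd]
  have hrmk : rm ≫ stageMap D i₀ (f₀ ≫ g₀) k.hom ψ = rk := by
    apply pullback.hom_ext
    · rw [Category.assoc, stageMap_fst, hrm1, hrk1]
    · rw [Category.assoc, stageMap_snd, ← Category.assoc, hrm2, Category.assoc, c.w, hrk2]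
  refine ⟨m, ψ ≫ k.hom, rm, hrm1, by rw [hrm2, Category.assoc],
    (stageMap D i₀ (f₀ ≫ g₀) k.hom ψ) ⁻¹ᵁ V, ?_, ?_⟩
  · change (stageMap D i₀ (f₀ ≫ g₀) k.hom ψ).base (rm.base x) ∈ V
    rw [← Scheme.Hom.comp_apply, hrmk]
    exact hxV
  · have hst : IsPullback (stageMap D i₀ (f₀ ≫ g₀) k.hom ψ) (bcHom f₀ g₀ (D.map (ψ ≫ k.hom)))
        (bcHom f₀ g₀ (D.map k.hom)) (stageMap D i₀ g₀ k.hom ψ) :=
      isPullback_of_bcHom f₀ g₀ (D.map k.hom) (isPullback_bcHom f₀ g₀ (D.map (ψ ≫ k.hom))) _ _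
        (stageMap_fst D i₀ (f₀ ≫ g₀) k.hom ψ) (stageMap_fst D i₀ g₀ k.hom ψ)
        (by rw [stageMap_snd, stageMap_snd, bcHom_snd_assoc])
    exact IsBC.of_fac P (isBC_bcHom (V.ι ≫ bcHom f₀ g₀ (D.map k.hom))
      (pullback.snd g₀ (D.map k.hom)) (D.map ψ)) ⟨_, isPullback_restrict hst V⟩
      (pullback.lift (stageMap D i₀ g₀ k.hom ψ) (pullback.snd g₀ (D.map (ψ ≫ k.hom)))
        (stageMap_snd D i₀ g₀ k.hom ψ)) (pullback.lift_fst _ _ _) hm

end Groth.Agent.Helper7.LimNhd
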