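import Mathlib
import Groth.Agent.Lib.Helper7.LimGen2

set_option autoImplicit false
open CategoryTheory CategoryTheory.Limits AlgebraicGeometry Opposite TopologicalSpace
universe u

set_option linter.unusedSectionVars false

/-! helper7: a morphism over a cofiltered limit whose late stages are open maps is an open map
(EGA IV 8.10.1). -/

namespace Groth.Agent.Helper7.LimOpenMap

open Groth.Agent.Helper7.LimBC Groth.Agent.Helper7.LimStage Groth.Agent.Helper7.LimGen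

variable {I : Type u} [Category.{u} I] [IsCofiltered I] (D : I ⥤ Scheme.{u}) (c : Cone D)
  (hc : IsLimit c) [∀ {i j : I} (f : i ⟶ j), IsAffineHom (D.map f)] {i₀ : I}
  {X₀ Y₀ : Scheme.{u}} (f₀ : X₀ ⟶ Y₀) (g₀ : Y₀ ⟶ D.obj i₀)

set_option backward.isDefEq.respectTransparency false in
include hc in
/-- if all sufficiently late stages of a morphism are open maps, so is its base change to the
limit. -/
theorem isOpenMap_of_eventually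
    {X Y : Scheme.{u}} (f : X ⟶ Y) (g : Y ⟶ c.pt) (qY : Y ⟶ Y₀) (qX : X ⟶ X₀)
    (hY : IsPullback qY g g₀ (c.π.app i₀)) (hX : IsPullback qX f f₀ qY)
    {i : I} (φ : i ⟶ i₀)
    (h : ∀ (j : I) (ψ : j ⟶ i), IsOpenMap (bcHom f₀ g₀ (D.map (ψ ≫ φ)))) :
    IsOpenMap f := by
  have hXf : IsPullback qX (f ≫ g) (f₀ ≫ g₀) (c.π.app i₀) := hX.paste_vert hY
  have hB := isBasis_preimage_isAffineOpen (bcDiagram D i₀ (f₀ ≫ g₀)) (bcCone hXf)
    (isLimitBcCone hc hXf)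
  have hB' : IsTopologicalBasis (SetLike.coe '' { ((bcCone hXf).π.app k ⁻¹ᵁ V : X.Opens) |
      (k : Over i₀) (V : ((bcDiagram D i₀ (f₀ ≫ g₀)).obj k).Opens) (_ : IsAffineOpen V) }) := hB
  rw [hB'.isOpenMap_iff]
  rintro _ ⟨_, ⟨k, V, -, rfl⟩, rfl⟩
  -- pass to a stage over `i`
  obtain ⟨m, a, b, -⟩ := IsCofilteredOrEmpty.cone_objs k.left i
  obtain ⟨l, e, he⟩ := IsCofilteredOrEmpty.cone_maps (a ≫ k.hom) (b ≫ φ)
  obtain ⟨ψ, hψ⟩ : ∃ ψ : l ⟶ i, ψ = e ≫ b := ⟨_, rfl⟩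
  obtain ⟨k', hk'⟩ : ∃ k' : Over i₀, k' = Over.mk (ψ ≫ φ) := ⟨_, rfl⟩
  obtain ⟨α, -⟩ : ∃ α : k' ⟶ k, α.left = (eqToHom (by rw [hk']; rfl) : k'.left ⟶ l) ≫ e ≫ a := by
    subst hk'
    refine ⟨Over.homMk (e ≫ a) (by simp [hψ, he]), by simp⟩
  subst hk'
  have hV : (bcCone hXf).π.app k ⁻¹ᵁ V =
      (bcCone hXf).π.app (Over.mk (ψ ≫ φ)) ⁻¹ᵁ ((bcDiagram D i₀ (f₀ ≫ g₀)).map α ⁻¹ᵁ V) := by
    rw [← Scheme.Hom.comp_preimage, (bcCone hXf).w α]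
  rw [hV]
  obtain ⟨V', hV'⟩ : ∃ V' : (pullback (f₀ ≫ g₀) (D.map (ψ ≫ φ))).Opens,
      V' = (bcDiagram D i₀ (f₀ ≫ g₀)).map α ⁻¹ᵁ V := ⟨_, rfl⟩
  rw [← hV']
  obtain ⟨π, hπ1, hπ2⟩ : ∃ π : X ⟶ pullback (f₀ ≫ g₀) (D.map (ψ ≫ φ)),
      π = (bcCone hXf).π.app (Over.mk (ψ ≫ φ)) ∧ True := ⟨_, rfl, trivial⟩
  rw [← hπ1]
  obtain ⟨p, hp⟩ : ∃ p : Y ⟶ pullback g₀ (D.map (ψ ≫ φ)),
      p = (bcCone hY).π.app (Over.mk (ψ ≫ φ)) := ⟨_, rfl⟩
  have hπfst : π ≫ pullback.fst _ _ = qX := by rw [hπ1]; exact bcCone_π_fst hXf _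
  have hπsnd : π ≫ pullback.snd _ _ = (f ≫ g) ≫ c.π.app l := by
    rw [hπ1]; exact bcCone_π_snd hXf _
  have hpfst : p ≫ pullback.fst _ _ = qY := by rw [hp]; exact bcCone_π_fst hY _
  have hpsnd : p ≫ pullback.snd _ _ = g ≫ c.π.app l := by rw [hp]; exact bcCone_π_snd hY _
  have hsq : IsPullback π f (bcHom f₀ g₀ (D.map (ψ ≫ φ))) p := by
    refine IsPullback.of_right (h₁₂ := pullback.fst (f₀ ≫ g₀) (D.map (ψ ≫ φ)))
      (h₂₂ := pullback.fst g₀ (D.map (ψ ≫ φ))) (v₁₃ := f₀) ?_ ?_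
      (isPullback_bcHom f₀ g₀ (D.map (ψ ≫ φ)))
    · rw [hπfst, hpfst]
      exact hX
    · apply pullback.hom_ext
      · rw [Category.assoc, bcHom_fst, ← Category.assoc, hπfst, Category.assoc, hpfst, hX.w]
      · rw [Category.assoc, bcHom_snd, hπsnd, Category.assoc, Category.assoc, hpsnd]
  have himg : f '' ((π ⁻¹ᵁ V' : X.Opens) : Set X) =
      p ⁻¹' (bcHom f₀ g₀ (D.map (ψ ≫ φ)) '' (V' : Set _)) := by
    ext y
    constructor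
    · rintro ⟨x, hx, rfl⟩
      refine ⟨π x, hx, ?_⟩
      rw [← Scheme.Hom.comp_apply, hsq.w, Scheme.Hom.comp_apply]
    · rintro ⟨v, hv, hvy⟩
      obtain ⟨x, hx1, hx2⟩ := exists_of_isPullback hsq.flip y v hvy.symm
      refine ⟨x, ?_, hx1⟩
      change π x ∈ V'
      rw [hx2]
      exact hv
  rw [himg]
  exact (h l ψ _ V'.2).preimage p.continuous

end Groth.Agent.Helper7.LimOpenMap
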