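import Mathlib
import Groth.Agent.Lib.Helper7.LimGen2
import Groth.Agent.Lib.Helper7.LimFlat
import Groth.Agent.Lib.Helper7.QuasiFlat.Closure

set_option autoImplicit false
open CategoryTheory CategoryTheory.Limits AlgebraicGeometry Opposite TopologicalSpace Topology
universe u

set_option linter.unusedSectionVars false

/-! helper7: closures of preimages of pro-constructible sets in cofiltered limits of schemes with
flat affine transition maps (EGA IV 8.3.?), and descent of dominance. -/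

namespace Groth.Agent.Helper7.LimProCl

open Groth.Agent.Helper7.LimBC Groth.Agent.Helper7.LimStage Groth.Agent.Helper7.LimGen
open Groth.Agent.Helper7.ProConsLib Groth.Agent.Helper7.QuasiFlat

/-- the intersection of two pro-constructible subsets of a scheme is pro-constructible. -/
theorem isProConstructible_inter (X : Scheme.{u}) {E₁ E₂ : Set X}
    (h₁ : ProCons.IsProConstructible E₁) (h₂ : ProCons.IsProConstructible E₂) :
    ProCons.IsProConstructible (E₁ ∩ E₂) := by
  apply isProConstructible_of_forall_exists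
  intro x
  obtain ⟨U, hxU⟩ := exists_affineOpen_mem X x
  have hs := spectralSpace_affineOpen X U
  refine ⟨((U : X.Opens) : Set X), (U : X.Opens).2, hs, hxU, ?_⟩
  have e1 := isClosed_cons_of_isProConstructible
    (isProConstructible_preimage_val h₁ (U : X.Opens).2)
  have e2 := isClosed_cons_of_isProConstructible
    (isProConstructible_preimage_val h₂ (U : X.Opens).2)
  rw [Set.preimage_inter]
  exact @IsClosed.inter _ _ _ (constructibleTopology _) e1 e2

/-- the set-theoretic difference of a pro-constructible set and a constructible set. -/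
theorem isProConstructible_diff (X : Scheme.{u}) {E F : Set X}
    (hE : ProCons.IsProConstructible E) (hF : IsConstructible F) :
    ProCons.IsProConstructible (E ∩ Fᶜ) :=
  isProConstructible_inter X hE
    (isProConstructible_of_isLocallyConstructible hF.compl.isLocallyConstructible)

theorem preimage_closure_eq_of_flat {X Y : Scheme.{u}} (f : X ⟶ Y) [Flat f] {Z : Set Y}
    (hZ : ProCons.IsProConstructible Z) : f ⁻¹' closure Z = closure (f ⁻¹' Z) :=
  preimage_closure_eq_of_generalizingMap f (Flat.generalizingMap f) hZ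

variable {I : Type u} [Category.{u} I] [IsCofiltered I] (D : I ⥤ Scheme.{u}) (c : Cone D)
  (hc : IsLimit c) [∀ {i j : I} (f : i ⟶ j), IsAffineHom (D.map f)] {i₀ : I}
  {T : Scheme.{u}} (a : T ⟶ D.obj i₀)

set_option backward.isDefEq.respectTransparency false in
include hc in
/-- relative form, from the limit to a stage. -/
theorem exists_stage_preimage_subset_closure [CompactSpace T]
    (hfl : ∀ (i j : I) (φ : i ⟶ j), Flat (D.map φ))
    {Z' Z'' : Set T} (hZ' : ProCons.IsProConstructible Z') (hZ'' : ProCons.IsProConstructible Z'')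
    (hcl : IsConstructible (closure Z'))
    {Y : Scheme.{u}} {qY : Y ⟶ T} {g : Y ⟶ c.pt} (hY : IsPullback qY g a (c.π.app i₀))
    (h : qY ⁻¹' Z'' ⊆ closure (qY ⁻¹' Z')) :
    ∃ (j : I) (φ : j ⟶ i₀), (pullback.fst a (D.map φ)) ⁻¹' Z'' ⊆
      closure ((pullback.fst a (D.map φ)) ⁻¹' Z') := by
  have hπ : Flat (c.π.app i₀) := LimFlat.flat_π D c hc i₀ (fun j φ => hfl j i₀ φ)
  have hqY : Flat qY := MorphismProperty.of_isPullback (P := @Flat) hY.flip hπ
  rw [← preimage_closure_eq_of_flat qY hZ'] at h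
  have hE := isProConstructible_diff T hZ'' hcl
  obtain ⟨j, φ, hj⟩ := exists_preimage_eq_empty D c hc a hE (by
    rw [Set.eq_empty_iff_forall_notMem]
    rintro z ⟨hz1, hz2⟩
    apply hz2
    have h1 : qY (hY.isoPullback.inv z) = pullback.fst a (c.π.app i₀) z := by
      rw [← Scheme.Hom.comp_apply, IsPullback.isoPullback_inv_fst]
    have := h (show hY.isoPullback.inv z ∈ qY ⁻¹' Z'' from by
      rw [Set.mem_preimage, h1]; exact hz1)
    rw [Set.mem_preimage, h1] at this
    exact this)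
  refine ⟨j, φ, ?_⟩
  have := hfl j i₀ φ
  have hfst : Flat (pullback.fst a (D.map φ)) := inferInstance
  rw [← preimage_closure_eq_of_flat _ hZ']
  intro z hz
  by_contra hn
  have : z ∈ (pullback.fst a (D.map φ)) ⁻¹' (Z'' ∩ (closure Z')ᶜ) := ⟨hz, hn⟩
  rw [hj] at this
  exact this

set_option backward.isDefEq.respectTransparency false in
include hc in
/-- relative form, from a stage to the limit. -/
theorem preimage_subset_closure_of_stage
    (hfl : ∀ (i j : I) (φ : i ⟶ j), Flat (D.map φ))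
    {Z' Z'' : Set T} (hZ' : ProCons.IsProConstructible Z')
    {Y : Scheme.{u}} {qY : Y ⟶ T} {g : Y ⟶ c.pt} (hY : IsPullback qY g a (c.π.app i₀))
    {j : I} (φ : j ⟶ i₀) {Yj : Scheme.{u}} {pY : Yj ⟶ T} {gj : Yj ⟶ D.obj j}
    (hYj : IsPullback pY gj a (D.map φ))
    (h : pY ⁻¹' Z'' ⊆ closure (pY ⁻¹' Z')) :
    qY ⁻¹' Z'' ⊆ closure (qY ⁻¹' Z') := by
  have hπ : Flat (c.π.app i₀) := LimFlat.flat_π D c hc i₀ (fun j φ => hfl j i₀ φ)
  have hqY : Flat qY := MorphismProperty.of_isPullback (P := @Flat) hY.flip hπ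
  have := hfl j i₀ φ
  have hpY : Flat pY := MorphismProperty.of_isPullback (P := @Flat) hYj.flip inferInstance
  rw [← preimage_closure_eq_of_flat qY hZ']
  rw [← preimage_closure_eq_of_flat pY hZ'] at h
  intro y hy
  obtain ⟨l, hl⟩ : ∃ l : Y ⟶ Yj, l ≫ pY = qY :=
    ⟨hYj.lift qY (g ≫ c.π.app j) (by rw [hY.w, Category.assoc, c.w]), hYj.lift_fst _ _ _⟩
  have h1 : pY (l y) = qY y := by rw [← Scheme.Hom.comp_apply, hl]
  have := h (show l y ∈ pY ⁻¹' Z'' from by rw [Set.mem_preimage, h1]; exact hy)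
  rw [Set.mem_preimage, h1] at this
  exact this

/-- transfer of the closure condition along a morphism over the base. -/
theorem preimage_subset_closure_of_fac {T Y₁ Y₂ : Scheme.{u}} (p₁ : Y₁ ⟶ T) (p₂ : Y₂ ⟶ T)
    [Flat p₁] [Flat p₂] (l : Y₂ ⟶ Y₁) (hl : l ≫ p₁ = p₂)
    {Z' Z'' : Set T} (hZ' : ProCons.IsProConstructible Z')
    (h : p₁ ⁻¹' Z'' ⊆ closure (p₁ ⁻¹' Z')) : p₂ ⁻¹' Z'' ⊆ closure (p₂ ⁻¹' Z') := by
  rw [← preimage_closure_eq_of_flat p₂ hZ']
  rw [← preimage_closure_eq_of_flat p₁ hZ'] at h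
  intro y hy
  have h1 : p₁ (l y) = p₂ y := by rw [← Scheme.Hom.comp_apply, hl]
  have := h (show l y ∈ p₁ ⁻¹' Z'' from by rw [Set.mem_preimage, h1]; exact hy)
  rw [Set.mem_preimage, h1] at this
  exact this

set_option backward.isDefEq.respectTransparency false in
include hc in
/-- the absolute form. -/
theorem preimage_subset_closure_preimage_iff_of_flat (i₁ : I) [CompactSpace (D.obj i₁)]
    (hfl : ∀ (i j : I) (φ : i ⟶ j), Flat (D.map φ))
    (Z' Z'' : Set (D.obj i₁)) (hZ' : ProCons.IsProConstructible Z')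
    (hZ'' : ProCons.IsProConstructible Z'') (hcl : IsConstructible (closure Z')) :
    ((c.π.app i₁) ⁻¹' Z'' : Set c.pt) ⊆ closure ((c.π.app i₁) ⁻¹' Z' : Set c.pt) ↔
      ∃ (j : I) (φ : j ⟶ i₁), (D.map φ) ⁻¹' Z'' ⊆ closure ((D.map φ) ⁻¹' Z') := by
  have hπ : Flat (c.π.app i₁) := LimFlat.flat_π D c hc i₁ (fun j φ => hfl j i₁ φ)
  constructor
  · intro h
    obtain ⟨j, φ, hj⟩ := exists_stage_preimage_subset_closure D c hc (𝟙 (D.obj i₁)) hfl hZ' hZ''
      hcl (IsPullback.id_vert (c.π.app i₁)) h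
    refine ⟨j, φ, ?_⟩
    have := hfl j i₁ φ
    exact preimage_subset_closure_of_fac (pullback.fst (𝟙 (D.obj i₁)) (D.map φ)) (D.map φ)
      (pullback.lift (D.map φ) (𝟙 _) (by simp)) (pullback.lift_fst _ _ _) hZ' hj
  · rintro ⟨j, φ, hj⟩
    have := hfl j i₁ φ
    obtain ⟨p, hp⟩ : ∃ p : c.pt ⟶ D.obj i₁, p = c.π.app i₁ := ⟨_, rfl⟩
    have hp' : Flat p := hp ▸ hπ
    have := preimage_subset_closure_of_fac (D.map φ) p (c.π.app j) (by rw [hp]; exact c.w φ) hZ' hj
    rw [hp] at this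
    exact this

/-- the range of a base change is the preimage of the range. -/
theorem range_eq_preimage_of_isPullback {X X₀ Y Y₀ : Scheme.{u}} {qX : X ⟶ X₀} {f : X ⟶ Y}
    {f₀ : X₀ ⟶ Y₀} {qY : Y ⟶ Y₀} (hX : IsPullback qX f f₀ qY) :
    Set.range f = qY ⁻¹' Set.range f₀ := by
  apply subset_antisymm
  · rintro _ ⟨x, rfl⟩
    refine ⟨qX x, ?_⟩
    rw [← Scheme.Hom.comp_apply, hX.w, Scheme.Hom.comp_apply]
  · rintro y ⟨x₀, hx₀⟩
    obtain ⟨z, -, hz⟩ := exists_of_isPullback hX x₀ y hx₀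
    exact ⟨z, hz⟩

theorem isDominant_iff_of_isPullback {X X₀ Y Y₀ : Scheme.{u}} {qX : X ⟶ X₀} {f : X ⟶ Y}
    {f₀ : X₀ ⟶ Y₀} {qY : Y ⟶ Y₀} (hX : IsPullback qX f f₀ qY) :
    IsDominant f ↔ qY ⁻¹' Set.univ ⊆ closure (qY ⁻¹' Set.range f₀) := by
  rw [← range_eq_preimage_of_isPullback hX, Set.preimage_univ, Set.univ_subset_iff,
    ← dense_iff_closure_eq]
  exact ⟨fun h => h.denseRange, fun h => ⟨h⟩⟩

set_option backward.isDefEq.respectTransparency false in
include hc in
/-- dominance of a base change to the limit is attained at a stage, for flat transition maps. -/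
theorem isDominant_iff_eventually_of_flat (i₀ : I) [CompactSpace (D.obj i₀)]
    (hfl : ∀ (i j : I) (φ : i ⟶ j), Flat (D.map φ))
    {X₀ Y₀ : Scheme.{u}} (f₀ : X₀ ⟶ Y₀) (g₀ : Y₀ ⟶ D.obj i₀)
    [QuasiCompact (f₀ ≫ g₀)] [QuasiCompact g₀] [QuasiSeparated g₀]
    (hcl : IsConstructible (closure (Set.range f₀)))
    {X Y : Scheme.{u}} (f : X ⟶ Y) (g : Y ⟶ c.pt) (qY : Y ⟶ Y₀) (qX : X ⟶ X₀)
    (hY : IsPullback qY g g₀ (c.π.app i₀)) (hX : IsPullback qX f f₀ qY) :
    IsDominant f ↔ ∃ (j : I) (φ : j ⟶ i₀) (Xj Yj : Scheme.{u}) (fj : Xj ⟶ Yj) (gj : Yj ⟶ D.obj j)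
      (pY : Yj ⟶ Y₀) (pX : Xj ⟶ X₀), IsPullback pY gj g₀ (D.map φ) ∧ IsPullback pX fj f₀ pY ∧
      IsDominant fj := by
  have hqc : QuasiCompact f₀ := QuasiCompact.of_comp f₀ g₀
  have hZ' : ProCons.IsProConstructible (Set.range f₀) := isProConstructible_range f₀
  have hZ'' : ProCons.IsProConstructible (Set.univ : Set Y₀) :=
    isProConstructible_of_isLocallyConstructible IsLocallyConstructible.univ
  have : CompactSpace Y₀ := QuasiCompact.compactSpace_of_compactSpace g₀
  constructor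
  · intro h
    obtain ⟨j, φ, hj⟩ := exists_stage_preimage_subset_closure D c hc g₀ hfl hZ' hZ'' hcl hY
      ((isDominant_iff_of_isPullback hX).mp h)
    refine ⟨j, φ, pullback f₀ (pullback.fst g₀ (D.map φ)), pullback g₀ (D.map φ),
      pullback.snd _ _, pullback.snd _ _, pullback.fst _ _, pullback.fst _ _,
      IsPullback.of_hasPullback _ _, IsPullback.of_hasPullback _ _, ?_⟩
    exact (isDominant_iff_of_isPullback (IsPullback.of_hasPullback _ _)).mpr hj
  · rintro ⟨j, φ, Xj, Yj, fj, gj, pY, pX, hYj, hXj, hdom⟩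
    exact (isDominant_iff_of_isPullback hX).mpr
      (preimage_subset_closure_of_stage D c hc g₀ hfl hZ' hY φ hYj
        ((isDominant_iff_of_isPullback hXj).mp hdom))

end Groth.Agent.Helper7.LimProCl
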