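import Mathlib
import Groth.Agent.Lib.Helper7.LimRed2
import Groth.Agent.Lib.Helper7.LimComp

set_option autoImplicit false
open CategoryTheory CategoryTheory.Limits AlgebraicGeometry Opposite TopologicalSpace Topology
universe u v

set_option linter.unusedSectionVars false

/-! helper7: irreducibility and integrality of cofiltered limits of schemes whose transition maps
are open immersions, with a Noetherian stage. -/

namespace Groth.Agent.Helper7.LimRed3

variable {I : Type u} [Category.{u} I] [IsCofiltered I] (D : I ⥤ Scheme.{u}) (c : Cone D)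
  (hc : IsLimit c) [∀ {i j : I} (f : i ⟶ j), IsAffineHom (D.map f)]

set_option backward.isDefEq.respectTransparency false in
include hc in
/-- if the late stages are irreducible and the transition maps are open immersions, the limit is
irreducible. -/
theorem irreducibleSpace_of_isOpenImmersion (i : I)
    (hoi : ∀ (i j : I) (φ : i ⟶ j), IsOpenImmersion (D.map φ))
    (hirr : ∀ (j : I) (_ : j ⟶ i), IrreducibleSpace (D.obj j)) : IrreducibleSpace c.pt := by
  apply LimDom.irreducibleSpace_of_isDominant D c hc i _ hirr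
  intro j φ
  rw [LimTop.isDominant_π_iff D c hc j]
  intro k ψ
  have := hoi k j ψ
  have := hirr j φ
  have := hirr k (ψ ≫ φ)
  refine ⟨?_⟩
  apply IsOpen.dense (D.map ψ).isOpenEmbedding.isOpen_range
  exact Set.range_nonempty _

set_option backward.isDefEq.respectTransparency false in
include hc in
/-- if the limit is irreducible, the transition maps are open immersions and a stage is a
Noetherian space, then the late stages are irreducible. -/
theorem eventually_irreducibleSpace_of_isOpenImmersion (i₀ : I) [NoetherianSpace (D.obj i₀)]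
    (hoi : ∀ (i j : I) (φ : i ⟶ j), IsOpenImmersion (D.map φ)) [IrreducibleSpace c.pt] :
    ∃ (i : I) (_ : i ⟶ i₀), ∀ (j : I) (_ : j ⟶ i), IrreducibleSpace (D.obj j) := by
  obtain ⟨p, hp⟩ : ∃ p : c.pt ⟶ D.obj i₀, p = c.π.app i₀ := ⟨_, rfl⟩
  obtain ⟨ξ, hξ⟩ : ∃ ξ : D.obj i₀, ξ = p (genericPoint c.pt) := ⟨_, rfl⟩
  obtain ⟨W, hW⟩ : ∃ W : Set (D.obj i₀), W = closure {ξ} := ⟨_, rfl⟩
  have hWirr : IsIrreducible W := hW ▸ isIrreducible_singleton.closure
  have hWcl : IsClosed W := hW ▸ isClosed_closure
  have hA : ∀ Z ∈ irreducibleComponents (D.obj i₀),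
      (∀ (j : I) (φ : j ⟶ i₀), (Z ∩ Set.range (D.map φ)).Nonempty) → Z = W := by
    intro Z hZ hne
    obtain ⟨ζ, hζ⟩ := QuasiSober.sober hZ.1 (isClosed_of_mem_irreducibleComponents Z hZ)
    have hr : Set.range p = ⋂ (j : I) (φ : j ⟶ i₀), Set.range (D.map φ) := by
      rw [hp]
      exact LimTop.range_π_eq_iInter D c hc i₀
    have h1 : ζ ∈ Set.range p := by
      rw [hr]
      simp only [Set.mem_iInter]
      intro j φ
      have := hoi j i₀ φ
      exact (hζ.mem_open_set_iff (D.map φ).isOpenEmbedding.isOpen_range).mpr (hne j φ)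
    obtain ⟨y, hy⟩ := h1
    have h2 : ξ ⤳ ζ := by
      rw [hξ, ← hy]
      exact (genericPoint_specializes y).map p.continuous
    have h3 : Z ⊆ W := by
      rw [← hζ.def, hW]
      exact closure_minimal (Set.singleton_subset_iff.mpr h2.mem_closure) isClosed_closure
    exact le_antisymm h3 (hZ.2 hWirr h3)
  have hfin := NoetherianSpace.finite_irreducibleComponents (α := D.obj i₀)
  obtain ⟨i₁, φ₁, h₁⟩ := LimComp.eventually_forall_finite (I := Over i₀) hfin
    (fun Z j => Z ≠ W → Z ∩ Set.range (D.map j.hom) = ∅)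
    (by
      intro Z j k f hk hZW
      rw [Set.eq_empty_iff_forall_notMem] at hk ⊢
      specialize hk hZW
      rintro x ⟨hxZ, y, rfl⟩
      refine hk _ ⟨hxZ, D.map f.left y, ?_⟩
      rw [← Scheme.Hom.comp_apply, ← D.map_comp, Over.w])
    (by
      intro Z hZ
      by_cases hZW : Z = W
      · exact ⟨Over.mk (𝟙 i₀), fun h => absurd hZW h⟩
      · have := mt (hA Z hZ) hZW
        simp only [not_forall] at this
        obtain ⟨j, φ, hj⟩ := this
        exact ⟨Over.mk φ, fun _ => Set.not_nonempty_iff_eq_empty.mp hj⟩)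
    (Over.mk (𝟙 i₀))
  refine ⟨i₁.left, i₁.hom, fun k ψ => ?_⟩
  have := hoi k i₀ (ψ ≫ i₁.hom)
  have hsub : Set.range (D.map (ψ ≫ i₁.hom)) ⊆ W := by
    rintro _ ⟨y, rfl⟩
    by_contra hx
    have hZ := irreducibleComponent_mem_irreducibleComponents (D.map (ψ ≫ i₁.hom) y)
    have hne : irreducibleComponent (D.map (ψ ≫ i₁.hom) y) ≠ W := by
      intro h
      exact hx (h ▸ mem_irreducibleComponent)
    have := h₁ _ hZ hne
    rw [Set.eq_empty_iff_forall_notMem] at this
    refine this _ ⟨mem_irreducibleComponent, D.map ψ y, ?_⟩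
    rw [← Scheme.Hom.comp_apply, ← D.map_comp]
  have hpre : IsPreirreducible (Set.univ : Set (D.obj k)) := by
    have := hWirr.isPreirreducible.preimage (D.map (ψ ≫ i₁.hom)).isOpenEmbedding
    rwa [Set.preimage_eq_univ_iff.mpr hsub] at this
  have hne : Nonempty (D.obj k) := ⟨c.π.app k (genericPoint c.pt)⟩
  exact { toPreirreducibleSpace := ⟨hpre⟩, toNonempty := hne }

set_option backward.isDefEq.respectTransparency false in
include hc in
/-- integrality of the limit descends to a stage when the transition maps are open immersions and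
a stage is Noetherian. -/
theorem isIntegral_iff_eventually_of_isOpenImmersion (i₀ : I)
    [IsNoetherian (D.obj i₀)] (hoi : ∀ (i j : I) (φ : i ⟶ j), IsOpenImmersion (D.map φ)) :
    IsIntegral c.pt ↔ ∃ (i : I) (_ : i ⟶ i₀), ∀ (j : I) (_ : j ⟶ i), IsIntegral (D.obj j) := by
  constructor
  · intro h
    have hN : ∀ U : (D.obj i₀).affineOpens, (nilradical Γ(D.obj i₀, U)).FG := by
      intro U
      have := IsLocallyNoetherian.component_noetherian U
      exact IsNoetherian.noetherian _
    obtain ⟨i₁, φ₁, h₁⟩ :=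
      (LimRed2.isReduced_iff_eventually_of_isOpenImmersion D c hc i₀ hoi hN).mp inferInstance
    obtain ⟨i₂, φ₂, h₂⟩ := eventually_irreducibleSpace_of_isOpenImmersion D c hc i₀ hoi
    obtain ⟨m, a, b, -⟩ := IsCofilteredOrEmpty.cone_objs i₁ i₂
    refine ⟨m, a ≫ φ₁, fun j ψ => ?_⟩
    have := h₁ j (ψ ≫ a)
    have := h₂ j (ψ ≫ b)
    exact isIntegral_of_irreducibleSpace_of_isReduced (D.obj j)
  · rintro ⟨i, -, h⟩
    have h1 : IsReduced c.pt := by
      by_contra hn
      obtain ⟨i', hi'⟩ := LimRed.eventually_not_isReduced hc hn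
      obtain ⟨m, a, b, -⟩ := IsCofilteredOrEmpty.cone_objs i i'
      have := h m a
      exact hi' m b inferInstance
    have h2 : IrreducibleSpace c.pt :=
      irreducibleSpace_of_isOpenImmersion D c hc i hoi
        (fun j φ => by have := h j φ; infer_instance)
    exact isIntegral_of_irreducibleSpace_of_isReduced c.pt

end Groth.Agent.Helper7.LimRed3
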