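import Mathlib
import Groth.Agent.Lib.Helper7.LimPts

set_option autoImplicit false
open CategoryTheory CategoryTheory.Limits AlgebraicGeometry Opposite TopologicalSpace
universe u v

set_option linter.unusedSectionVars false

/-! helper7: sections, germs and residue fields of a cofiltered limit of schemes with affine
transition maps come from the stages (Stacks 0CUG). -/

namespace Groth.Agent.Helper7.LimStalk

variable {I : Type u} [Category.{u} I] [IsCofiltered I] (D : I ⥤ Scheme.{u}) (c : Cone D)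
  (hc : IsLimit c) [∀ {i j : I} (f : i ⟶ j), IsAffineHom (D.map f)]

omit [IsCofiltered I] [∀ {i j : I} (f : i ⟶ j), IsAffineHom (D.map f)] in
theorem preimage_le {k : I} (j : Over k) (V : (D.obj k).Opens) :
    c.π.app k ⁻¹ᵁ V ≤ c.π.app j.left ⁻¹ᵁ (D.map j.hom ⁻¹ᵁ V) := by
  rw [← Scheme.Hom.comp_preimage, c.w]

set_option backward.defeqAttrib.useBackward true in
set_option backward.isDefEq.respectTransparency false in
open Scheme.Opens in
include hc in
/-- a section of the limit over the preimage of an affine open subset of a stage comes from a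
later stage. -/
theorem exists_appLE_eq {k : I} (V : (D.obj k).Opens) (hV : IsAffineOpen V)
    (r : Γ(c.pt, c.π.app k ⁻¹ᵁ V)) :
    ∃ (j : Over k) (t : Γ(D.obj j.left, D.map j.hom ⁻¹ᵁ V)),
      (c.π.app j.left).appLE (D.map j.hom ⁻¹ᵁ V) (c.π.app k ⁻¹ᵁ V) (preimage_le D c j V) t = r := by
  have (j : _) : IsAffine ((opensDiagram D k V).op.obj j).unop := hV.preimage _
  have (j : _) : IsAffine ((opensDiagram D k V).obj j) := hV.preimage _
  obtain ⟨⟨j⟩, s, hs⟩ := (Types.jointly_surjective_of_isColimit (isColimitOfPreserves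
    (Scheme.Γ ⋙ forget _) (isLimitOpensCone D c hc k V).op) ((c.π.app k ⁻¹ᵁ V).topIso.inv r))
  obtain ⟨s, rfl⟩ := (D.map j.hom ⁻¹ᵁ V).topIso.symm.commRingCatIsoToRingEquiv.surjective s
  refine ⟨j, s, ?_⟩
  symm
  convert!
    show r = ((topIso _).inv ≫ ((opensCone D c k V).π.app j).appTop ≫ (topIso _).hom) s from
      (c.π.app k ⁻¹ᵁ V).topIso.commRingCatIsoToRingEquiv.symm_apply_eq.mp hs.symm using 3
  simp [Scheme.Hom.app_eq_appLE, Scheme.Hom.resLE_appLE]

set_option backward.isDefEq.respectTransparency false in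
include hc in
/-- every germ of the limit comes from a germ of a stage. -/
theorem exists_stalkMap_eq (s : c.pt) (g : c.pt.presheaf.stalk s) :
    ∃ (j : I) (gj : (D.obj j).presheaf.stalk (c.π.app j s)),
      ((c.π.app j).stalkMap s).hom gj = g := by
  obtain ⟨W, hsW, t, rfl⟩ := TopCat.Presheaf.exists_germ_eq c.pt.presheaf g
  have hB : ∀ {U : Opens c.pt} {x : c.pt}, x ∈ U → ∃ U' ∈ { (c.π.app i ⁻¹ᵁ V : c.pt.Opens) |
      (i : I) (V : (D.obj i).Opens) (_ : IsAffineOpen V) }, x ∈ U' ∧ U' ≤ U :=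
    TopologicalSpace.Opens.isBasis_iff_nbhd.mp (isBasis_preimage_isAffineOpen D c hc)
  obtain ⟨_, ⟨k, V, hV, rfl⟩, hsV, hVW⟩ := hB hsW
  obtain ⟨j, tj, htj⟩ := exists_appLE_eq D c hc V hV (c.pt.presheaf.map (homOfLE hVW).op t)
  have hsj : c.π.app j.left s ∈ D.map j.hom ⁻¹ᵁ V := preimage_le D c j V hsV
  refine ⟨j.left, (D.obj j.left).presheaf.germ (D.map j.hom ⁻¹ᵁ V) (c.π.app j.left s) hsj tj, ?_⟩
  change (c.π.app j.left).stalkMap s ((D.obj j.left).presheaf.germ _ _ hsj tj) = _
  rw [Scheme.Hom.germ_stalkMap_apply]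
  rw [← TopCat.Presheaf.germ_res_apply c.pt.presheaf (homOfLE hVW) s hsV t, ← htj]
  rw [Scheme.Hom.appLE, CommRingCat.comp_apply]
  exact (TopCat.Presheaf.germ_res_apply c.pt.presheaf (homOfLE (preimage_le D c j V)) s hsV _).symm

include hc in
/-- every element of the residue field at a point of the limit comes from a stage. -/
theorem exists_residueFieldMap_eq (s : c.pt) (a : c.pt.residueField s) :
    ∃ (i : I) (b : (D.obj i).residueField (c.π.app i s)),
      ((c.π.app i).residueFieldMap s).hom b = a := by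
  obtain ⟨g, rfl⟩ := c.pt.residue_surjective s a
  obtain ⟨j, gj, rfl⟩ := exists_stalkMap_eq D c hc s g
  refine ⟨j, (D.obj j).residue _ gj, ?_⟩
  have := congrArg (fun h => h.hom gj) (Scheme.residue_residueFieldMap (c.π.app j) s)
  exact this

end Groth.Agent.Helper7.LimStalk
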