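import Mathlib
import Groth.Agent.Lib.Helper7.LimStalk

set_option autoImplicit false
open CategoryTheory CategoryTheory.Limits AlgebraicGeometry Opposite TopologicalSpace Topology
universe u v

set_option linter.unusedSectionVars false

/-! helper7: germs vanishing in a cofiltered limit vanish at a stage; limits along open immersions are
subspaces with the induced structure sheaf (EGA IV 8.2.13 variant). -/

namespace Groth.Agent.Helper7.LimStalk2

open Groth.Agent.Helper7.LimStalk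

theorem appLE_of_eq {X Y : Scheme.{u}} {f g : X ⟶ Y} (e : f = g) (U : Y.Opens) (V : X.Opens)
    (h : V ≤ f ⁻¹ᵁ U) : f.appLE U V h = g.appLE U V (e ▸ h) := by
  subst e; rfl

variable {I : Type u} [Category.{u} I] [IsCofiltered I] (D : I ⥤ Scheme.{u}) (c : Cone D)
  (hc : IsLimit c) [∀ {i j : I} (f : i ⟶ j), IsAffineHom (D.map f)]

set_option backward.isDefEq.respectTransparency false in
include hc in
/-- a section of a stage whose pullback to the limit has zero germ at a point has zero germ at the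
image of the point in a later stage. -/
theorem exists_germ_app_eq_zero (s : c.pt) {i : I} (U : (D.obj i).Opens)
    (hsU : c.π.app i s ∈ U) (t : Γ(D.obj i, U))
    (h : c.pt.presheaf.germ (c.π.app i ⁻¹ᵁ U) s hsU ((c.π.app i).app U t) = 0) :
    ∃ (l : I) (φ : l ⟶ i) (hl : c.π.app l s ∈ D.map φ ⁻¹ᵁ U),
      (D.obj l).presheaf.germ (D.map φ ⁻¹ᵁ U) (c.π.app l s) hl ((D.map φ).app U t) = 0 := by
  have h0 : c.pt.presheaf.germ (c.π.app i ⁻¹ᵁ U) s hsU ((c.π.app i).app U t) =
      c.pt.presheaf.germ (c.π.app i ⁻¹ᵁ U) s hsU 0 := by rw [h, map_zero]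
  obtain ⟨W, hsW, iU, iV, hW⟩ := TopCat.Presheaf.germ_eq c.pt.presheaf s hsU hsU _ _ h0
  rw [map_zero] at hW
  have hB : ∀ {U : Opens c.pt} {x : c.pt}, x ∈ U → ∃ U' ∈ { (c.π.app i ⁻¹ᵁ V : c.pt.Opens) |
      (i : I) (V : (D.obj i).Opens) (_ : IsAffineOpen V) }, x ∈ U' ∧ U' ≤ U :=
    TopologicalSpace.Opens.isBasis_iff_nbhd.mp (isBasis_preimage_isAffineOpen D c hc)
  obtain ⟨_, ⟨k, V', -, rfl⟩, hsV', hV'W⟩ := hB hsW
  obtain ⟨l, a, φ, -⟩ := IsCofilteredOrEmpty.cone_objs k i
  have hsl : c.π.app l s ∈ (D.map a ⁻¹ᵁ V' ⊓ D.map φ ⁻¹ᵁ U : (D.obj l).Opens) := by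
    refine ⟨?_, ?_⟩
    · change (D.map a) (c.π.app l s) ∈ V'
      rw [← Scheme.Hom.comp_apply, c.w]; exact hsV'
    · change (D.map φ) (c.π.app l s) ∈ U
      rw [← Scheme.Hom.comp_apply, c.w]; exact hsU
  obtain ⟨_, ⟨U'', hU'', rfl⟩, hsU'', hU''le⟩ :=
    (D.obj l).isBasis_affineOpens.exists_subset_of_mem_open hsl
      (D.map a ⁻¹ᵁ V' ⊓ D.map φ ⁻¹ᵁ U : (D.obj l).Opens).2
  have hle1 : U'' ≤ D.map φ ⁻¹ᵁ U := fun x hx => (hU''le hx).2
  have hle2 : c.π.app l ⁻¹ᵁ U'' ≤ W := by
    intro x hx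
    apply hV'W
    change c.π.app k x ∈ V'
    rw [← c.w a, Scheme.Hom.comp_apply]
    exact (hU''le hx).1
  have hle3 : c.π.app l ⁻¹ᵁ U'' ≤ c.π.app i ⁻¹ᵁ U := hle2.trans iU.le
  have hzero : (c.π.app l).app U'' ((D.map φ).appLE U U'' hle1 t) = 0 := by
    have e1 : (D.map φ).appLE U U'' hle1 ≫ (c.π.app l).app U'' =
        (c.π.app i).appLE U (c.π.app l ⁻¹ᵁ U'') hle3 := by
      rw [Scheme.Hom.app_eq_appLE, Scheme.Hom.appLE_comp_appLE]
      exact appLE_of_eq (c.w φ) _ _ _
    have e2 : (c.π.app i).appLE U (c.π.app l ⁻¹ᵁ U'') hle3 =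
        (c.π.app i).app U ≫ c.pt.presheaf.map iU.op ≫ c.pt.presheaf.map (homOfLE hle2).op := by
      rw [← Functor.map_comp]
      rfl
    have e3 := congrArg (fun g => g.hom t) (e1.trans e2)
    simp only [CommRingCat.hom_comp, RingHom.coe_comp, Function.comp_apply] at e3
    have hW' : (c.pt.presheaf.map iU.op).hom (((c.π.app i).app U).hom t) = 0 := hW
    change ((c.π.app l).app U'').hom (((D.map φ).appLE U U'' hle1).hom t) = 0
    rw [e3]
    exact (congrArg (c.pt.presheaf.map (homOfLE hle2).op).hom hW').trans (map_zero _)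
  obtain ⟨m, f, hm⟩ := exists_app_map_eq_zero_of_isLimit D c hc hU''.isCompact _ hzero
  have hsm : c.π.app m s ∈ D.map (f ≫ φ) ⁻¹ᵁ U := by
    change (D.map (f ≫ φ)) (c.π.app m s) ∈ U
    rw [← Scheme.Hom.comp_apply, c.w]; exact hsU
  refine ⟨m, f ≫ φ, hsm, ?_⟩
  have hsm' : c.π.app m s ∈ D.map f ⁻¹ᵁ U'' := by
    change (D.map f) (c.π.app m s) ∈ U''
    rw [← Scheme.Hom.comp_apply, c.w]; exact hsU''
  have hle4 : D.map f ⁻¹ᵁ U'' ≤ D.map (f ≫ φ) ⁻¹ᵁ U := by
    intro x hx
    change (D.map (f ≫ φ)) x ∈ U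
    rw [D.map_comp, Scheme.Hom.comp_apply]
    exact hle1 hx
  rw [← TopCat.Presheaf.germ_res_apply (D.obj m).presheaf (homOfLE hle4) (c.π.app m s) hsm']
  have e4 : (D.map (f ≫ φ)).app U ≫ (D.obj m).presheaf.map (homOfLE hle4).op =
      (D.map φ).appLE U U'' hle1 ≫ (D.map f).app U'' := by
    rw [Scheme.Hom.app_eq_appLE (D.map f), Scheme.Hom.appLE_comp_appLE]
    change (D.map (f ≫ φ)).appLE U _ _ = _
    exact appLE_of_eq (D.map_comp f φ) _ _ _
  have e5 := congrArg (fun g => g.hom t) e4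
  simp only [CommRingCat.hom_comp, RingHom.coe_comp, Function.comp_apply] at e5
  change (D.obj m).presheaf.germ _ _ hsm' (((D.obj m).presheaf.map (homOfLE hle4).op).hom
    (((D.map (f ≫ φ)).app U).hom t)) = 0
  rw [e5]
  have hm' : ((D.map f).app U'').hom (((D.map φ).appLE U U'' hle1).hom t) = 0 := hm
  rw [hm', map_zero]

omit [IsCofiltered I] [∀ {i j : I} (f : i ⟶ j), IsAffineHom (D.map f)] in
/-- the stalk map of a projection factors through the stalk map of a later projection. -/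
theorem stalkMap_π_eq {l j : I} (a : l ⟶ j) (s : c.pt) :
    ∃ Θ : (D.obj j).presheaf.stalk (c.π.app j s) ⟶ (D.obj l).presheaf.stalk (c.π.app l s),
      (c.π.app j).stalkMap s = Θ ≫ (c.π.app l).stalkMap s ∧
      (IsOpenImmersion (D.map a) → IsIso Θ) := by
  refine ⟨((D.obj j).presheaf.stalkCongr (.of_eq (by rw [← c.w a]; rfl))).hom ≫
    (D.map a).stalkMap (c.π.app l s), ?_, ?_⟩
  · rw [Scheme.Hom.stalkMap_congr_hom (c.π.app j) (c.π.app l ≫ D.map a) (c.w a).symm s,
      Scheme.Hom.stalkMap_comp, Category.assoc]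
    rfl
  · intro h
    infer_instance

set_option backward.isDefEq.respectTransparency false in
include hc in
theorem isEmbedding_π_and_isIso_stalkMap
    (hoi : ∀ (i j : I) (φ : i ⟶ j), IsOpenImmersion (D.map φ)) (i : I) :
    Topology.IsEmbedding ⇑(c.π.app i) ∧ ∀ s : c.pt, IsIso ((c.π.app i).stalkMap s) := by
  have hinjD : ∀ {l j : I} (φ : l ⟶ j), Function.Injective (D.map φ) := fun φ =>
    have := hoi _ _ φ
    (D.map φ).isOpenEmbedding.injective
  have hinj : Function.Injective (c.π.app i) := by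
    intro x y hxy
    apply LimPts.eq_of_forall_π_eq D c hc
    intro k
    obtain ⟨l, a, φ, -⟩ := IsCofilteredOrEmpty.cone_objs k i
    have h1 : c.π.app l x = c.π.app l y := by
      apply hinjD φ
      rw [← Scheme.Hom.comp_apply, ← Scheme.Hom.comp_apply, c.w]
      exact hxy
    have h2 := congrArg (D.map a) h1
    rw [← Scheme.Hom.comp_apply, ← Scheme.Hom.comp_apply, c.w] at h2
    exact h2
  refine ⟨⟨⟨le_antisymm (c.π.app i).continuous.le_induced ?_⟩, hinj⟩, fun s => ?_⟩
  · have hB := isBasis_preimage_isAffineOpen D c hc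
    have hB' : IsTopologicalBasis (SetLike.coe '' { (c.π.app k ⁻¹ᵁ V : c.pt.Opens) |
      (k : I) (V : (D.obj k).Opens) (_ : IsAffineOpen V) }) := hB
    refine le_trans ?_ (le_of_eq hB'.eq_generateFrom.symm)
    rw [le_generateFrom_iff_subset_isOpen]
    rintro _ ⟨_, ⟨k, V, -, rfl⟩, rfl⟩
    obtain ⟨l, a, φ, -⟩ := IsCofilteredOrEmpty.cone_objs k i
    have := hoi _ _ φ
    have hset : ((c.π.app k ⁻¹ᵁ V : c.pt.Opens) : Set c.pt) =
        (c.π.app i) ⁻¹' ((D.map φ) '' ((D.map a ⁻¹ᵁ V : (D.obj l).Opens) : Set (D.obj l))) := by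
      ext x
      constructor
      · intro hx
        refine ⟨c.π.app l x, ?_, ?_⟩
        · change (D.map a) (c.π.app l x) ∈ V
          rw [← Scheme.Hom.comp_apply, c.w]
          exact hx
        · rw [← Scheme.Hom.comp_apply, c.w]
          rfl
      · rintro ⟨y, hy, hyx⟩
        have h1 : c.π.app l x = y := by
          apply hinjD φ
          rw [hyx, ← Scheme.Hom.comp_apply, c.w]
          rfl
        subst h1
        have h5 : (D.map a) (c.π.app l x) ∈ V := hy
        rw [← Scheme.Hom.comp_apply, c.w] at h5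
        exact h5
    change IsOpen[TopologicalSpace.induced _ _] ((c.π.app k ⁻¹ᵁ V : c.pt.Opens) : Set c.pt)
    rw [hset]
    exact isOpen_induced ((D.map φ).isOpenEmbedding.isOpenMap _ (D.map a ⁻¹ᵁ V).2)
  · rw [ConcreteCategory.isIso_iff_bijective]
    constructor
    · -- injectivity
      rw [injective_iff_map_eq_zero]
      intro gi hgi
      obtain ⟨U, hsU, t, rfl⟩ := TopCat.Presheaf.exists_germ_eq (D.obj i).presheaf gi
      have h1 : c.pt.presheaf.germ (c.π.app i ⁻¹ᵁ U) s hsU ((c.π.app i).app U t) = 0 :=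
        (Scheme.Hom.germ_stalkMap_apply (c.π.app i) U s hsU t).symm.trans hgi
      obtain ⟨l, φ, hl, h2⟩ := exists_germ_app_eq_zero D c hc s U hsU t h1
      have := hoi _ _ φ
      have h2' := (Scheme.Hom.germ_stalkMap_apply (D.map φ) U (c.π.app l s) hl t).trans h2
      have hiso : Function.Injective ((D.map φ).stalkMap (c.π.app l s)).hom :=
        ((ConcreteCategory.isIso_iff_bijective _).mp inferInstance).1
      have h3 : (D.obj i).presheaf.germ U ((D.map φ) (c.π.app l s)) hl t = 0 := by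
        apply hiso
        rw [map_zero]
        exact h2'
      have key : ∀ (y : D.obj i) (_ : y = c.π.app i s) (hy : y ∈ U),
          (D.obj i).presheaf.germ U y hy t = 0 →
          (D.obj i).presheaf.germ U (c.π.app i s) hsU t = 0 := by
        intro y e hy h
        subst e
        exact h
      exact key _ (by rw [← Scheme.Hom.comp_apply, c.w]; rfl) hl h3
    · -- surjectivity
      intro g
      obtain ⟨j, gj, rfl⟩ := exists_stalkMap_eq D c hc s g
      obtain ⟨l, a, φ, -⟩ := IsCofilteredOrEmpty.cone_objs j i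
      obtain ⟨Θj, hΘj, -⟩ := stalkMap_π_eq D c a s
      obtain ⟨Θi, hΘi, hΘiso⟩ := stalkMap_π_eq D c φ s
      have := hΘiso (hoi _ _ φ)
      refine ⟨(inv Θi).hom (Θj.hom gj), ?_⟩
      rw [hΘi, hΘj]
      change ((c.π.app l).stalkMap s).hom (Θi.hom ((inv Θi).hom (Θj.hom gj))) = _
      have h4 : Θi.hom ((inv Θi).hom (Θj.hom gj)) = Θj.hom gj := by
        have := congrArg (fun h => h.hom (Θj.hom gj)) (IsIso.inv_hom_id Θi)
        exact this
      rw [h4]
      rfl

end Groth.Agent.Helper7.LimStalk2
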