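import Mathlib
import Groth.Agent.Lib.Helper7.LimGen

set_option autoImplicit false
open CategoryTheory CategoryTheory.Limits AlgebraicGeometry Opposite TopologicalSpace
universe u

/-! helper7: inclusion of base changes of two subobjects as an isomorphism condition. -/

namespace Groth.Agent.Helper7.LimSub

open Groth.Agent.Helper7.LimStage

variable {Z₁ Z₂ S₀ : Scheme.{u}} (ι₁ : Z₁ ⟶ S₀) (ι₂ : Z₂ ⟶ S₀) [Mono ι₂]

set_option backward.isDefEq.respectTransparency false in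
/-- the base change of `Z₁` factors through that of the subobject `Z₂` if and only if the base
change of the intersection `Z₁ ×_{S₀} Z₂ ⟶ Z₁` is an isomorphism. -/
theorem exists_fac_iff_isIso {T : Scheme.{u}} (s : T ⟶ S₀) :
    (∃ k : pullback ι₁ s ⟶ pullback ι₂ s, k ≫ pullback.snd ι₂ s = pullback.snd ι₁ s) ↔
      IsIso (bcHom (pullback.fst ι₁ ι₂) ι₁ s) := by
  constructor
  · rintro ⟨k, hk⟩
    have hmono : Mono (bcHom (pullback.fst ι₁ ι₂) ι₁ s) := by
      have : Mono (pullback.fst ι₁ ι₂) := inferInstance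
      exact (MorphismProperty.monomorphisms Scheme.{u}).of_isPullback
        (isPullback_bcHom (pullback.fst ι₁ ι₂) ι₁ s) ‹Mono (pullback.fst ι₁ ι₂)›
    obtain ⟨a, ha1, ha2⟩ : ∃ a : pullback ι₁ s ⟶ pullback ι₁ ι₂,
        a ≫ pullback.fst ι₁ ι₂ = pullback.fst ι₁ s ∧
        a ≫ pullback.snd ι₁ ι₂ = k ≫ pullback.fst ι₂ s :=
      ⟨pullback.lift (pullback.fst ι₁ s) (k ≫ pullback.fst ι₂ s)
        (by rw [pullback.condition, ← hk, Category.assoc, Category.assoc, pullback.condition]),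
        pullback.lift_fst _ _ _, pullback.lift_snd _ _ _⟩
    obtain ⟨σ, -, hσ⟩ : ∃ σ : pullback ι₁ s ⟶ pullback (pullback.fst ι₁ ι₂ ≫ ι₁) s,
        σ ≫ pullback.fst _ _ = a ∧ σ ≫ bcHom (pullback.fst ι₁ ι₂) ι₁ s = 𝟙 _ :=
      ⟨(isPullback_bcHom (pullback.fst ι₁ ι₂) ι₁ s).lift a (𝟙 _) (by rw [ha1, Category.id_comp]),
        IsPullback.lift_fst _ _ _ _, IsPullback.lift_snd _ _ _ _⟩
    have : IsSplitEpi (bcHom (pullback.fst ι₁ ι₂) ι₁ s) := ⟨⟨σ, hσ⟩⟩
    exact isIso_of_mono_of_isSplitEpi _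
  · intro h
    refine ⟨inv (bcHom (pullback.fst ι₁ ι₂) ι₁ s) ≫
      pullback.map (pullback.fst ι₁ ι₂ ≫ ι₁) s ι₂ s (pullback.snd ι₁ ι₂) (𝟙 _) (𝟙 _)
        (by rw [Category.comp_id, pullback.condition]) (by simp), ?_⟩
    rw [Category.assoc, IsIso.inv_comp_eq, bcHom_snd]
    simp [pullback.map]

end Groth.Agent.Helper7.LimSub
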