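import Mathlib
import Groth.Agent.Lib.Helper7.LimBC

set_option autoImplicit false
open CategoryTheory CategoryTheory.Limits AlgebraicGeometry Opposite TopologicalSpace
universe u

set_option linter.unusedSectionVars false

/-! helper7: topological properties of cofiltered limits with affine transition maps (EGA IV 8.4):
disjoint quasi-compact opens descend; non-connectedness and non-irreducibility are attained at
finite stages. -/

namespace Groth.Agent.Helper7.LimTopo

open Groth.Agent.Helper7.LimBC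

section All

variable {I : Type u} [Category.{u} I] [IsCofiltered I] {D : I ⥤ Scheme.{u}} {c : Cone D}
  (hc : IsLimit c) [∀ {i j : I} (f : i ⟶ j), IsAffineHom (D.map f)]

set_option backward.isDefEq.respectTransparency false in
include hc in
/-- a quasi-compact open of a stage with empty preimage in the limit has empty preimage at a
later stage. -/
theorem exists_map_eq_bot {i : I} (W : (D.obj i).Opens) (hWc : IsCompact (W : Set (D.obj i)))
    (hW : c.π.app i ⁻¹ᵁ W = ⊥) : ∃ (j : I) (φ : j ⟶ i), D.map φ ⁻¹ᵁ W = ⊥ := by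
  have : CompactSpace ↥W.toScheme := isCompact_iff_compactSpace.mp hWc
  have hE : IsEmpty ↥(pullback W.ι (c.π.app i)) := by
    refine ⟨fun z => ?_⟩
    have h1 : (pullback.snd W.ι (c.π.app i)) z ∈ c.π.app i ⁻¹ᵁ W := by
      change (c.π.app i) ((pullback.snd W.ι (c.π.app i)) z) ∈ W
      rw [← Scheme.Hom.comp_apply, ← pullback.condition, Scheme.Hom.comp_apply]
      exact (pullback.fst W.ι (c.π.app i) z).2
    rw [hW] at h1
    exact h1
  obtain ⟨j, φ, hj⟩ := exists_isEmpty_pullback D c i W.ι hc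
    (IsPullback.of_hasPullback W.ι (c.π.app i))
  refine ⟨j, φ, ?_⟩
  rw [eq_bot_iff]
  intro x hx
  obtain ⟨z, -, -⟩ := Scheme.Pullback.exists_preimage_pullback (f := W.ι) (g := D.map φ)
    ⟨D.map φ x, hx⟩ x rfl
  exact (hj.false z).elim

variable [∀ i, CompactSpace (D.obj i)] [∀ i, QuasiSeparatedSpace (D.obj i)]

set_option backward.isDefEq.respectTransparency false in
include hc in
/-- two quasi-compact opens of the limit come from quasi-compact opens of a common stage. -/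
theorem exists_stage_opens (U₁ U₂ : c.pt.Opens) (h₁ : IsCompact (U₁ : Set c.pt))
    (h₂ : IsCompact (U₂ : Set c.pt)) :
    ∃ (i : I) (B₁ B₂ : (D.obj i).Opens), IsCompact (B₁ : Set (D.obj i)) ∧
      IsCompact (B₂ : Set (D.obj i)) ∧ c.π.app i ⁻¹ᵁ B₁ = U₁ ∧ c.π.app i ⁻¹ᵁ B₂ = U₂ := by
  obtain ⟨i₁, V₁, hV₁c, hV₁⟩ := exists_preimage_eq D c hc U₁ h₁
  obtain ⟨i₂, V₂, hV₂c, hV₂⟩ := exists_preimage_eq D c hc U₂ h₂
  obtain ⟨k, f₁, f₂, -⟩ := IsCofilteredOrEmpty.cone_objs i₁ i₂
  refine ⟨k, D.map f₁ ⁻¹ᵁ V₁, D.map f₂ ⁻¹ᵁ V₂,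
    QuasiCompact.isCompact_preimage (f := D.map f₁) _ V₁.2 hV₁c,
    QuasiCompact.isCompact_preimage (f := D.map f₂) _ V₂.2 hV₂c, ?_, ?_⟩
  · rw [← Scheme.Hom.comp_preimage, c.w, hV₁]
  · rw [← Scheme.Hom.comp_preimage, c.w, hV₂]

set_option backward.isDefEq.respectTransparency false in
include hc in
/-- two disjoint quasi-compact opens of the limit come from disjoint
quasi-compact opens of every sufficiently late stage; if they cover the limit, so do the opens of
the stages. -/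
theorem exists_disjoint_opens (U₁ U₂ : c.pt.Opens) (h₁ : IsCompact (U₁ : Set c.pt))
    (h₂ : IsCompact (U₂ : Set c.pt)) (hd : U₁ ⊓ U₂ = ⊥) :
    ∃ i : I, ∀ (j : I) (_ : j ⟶ i), ∃ A₁ A₂ : (D.obj j).Opens,
      c.π.app j ⁻¹ᵁ A₁ = U₁ ∧ c.π.app j ⁻¹ᵁ A₂ = U₂ ∧ A₁ ⊓ A₂ = ⊥ ∧
        (U₁ ⊔ U₂ = ⊤ → A₁ ⊔ A₂ = ⊤) := by
  obtain ⟨k, B₁, B₂, hc1, hc2, e1, e2⟩ := exists_stage_opens hc U₁ U₂ h₁ h₂
  have hW : IsCompact ((B₁ ⊓ B₂ : (D.obj k).Opens) : Set (D.obj k)) :=
    QuasiSeparatedSpace.inter_isCompact _ _ B₁.2 hc1 B₂.2 hc2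
  obtain ⟨m, φ, hm⟩ := exists_map_eq_bot hc _ hW (by
    rw [Scheme.Hom.preimage_inf, e1, e2, hd])
  obtain ⟨m', φ', hm'⟩ : ∃ (m' : I) (φ' : m' ⟶ m),
      U₁ ⊔ U₂ = ⊤ → D.map (φ' ≫ φ) ⁻¹ᵁ (B₁ ⊔ B₂) = ⊤ := by
    by_cases hcov : U₁ ⊔ U₂ = ⊤
    · obtain ⟨n, θ, hn⟩ := exists_map_eq_top D c hc (B₁ ⊔ B₂) (by
        rw [Scheme.Hom.preimage_sup, e1, e2, hcov])
      obtain ⟨l, a, b, hab⟩ := IsCofilteredOrEmpty.cone_objs m n
      obtain ⟨l', t, ht⟩ := IsCofilteredOrEmpty.cone_maps (a ≫ φ) (b ≫ θ)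
      refine ⟨l', t ≫ a, fun _ => ?_⟩
      rw [Category.assoc, ht, D.map_comp, D.map_comp, Scheme.Hom.comp_preimage,
        Scheme.Hom.comp_preimage, hn]
      rfl
    · exact ⟨m, 𝟙 m, fun h => (hcov h).elim⟩
  refine ⟨m', fun j ψ => ⟨D.map (ψ ≫ φ' ≫ φ) ⁻¹ᵁ B₁, D.map (ψ ≫ φ' ≫ φ) ⁻¹ᵁ B₂,
    ?_, ?_, ?_, ?_⟩⟩
  · rw [← Scheme.Hom.comp_preimage, c.w, e1]
  · rw [← Scheme.Hom.comp_preimage, c.w, e2]
  · rw [← Scheme.Hom.preimage_inf, ← Category.assoc, D.map_comp, Scheme.Hom.comp_preimage, hm]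
    rfl
  · intro hcov
    rw [← Scheme.Hom.preimage_sup, D.map_comp, Scheme.Hom.comp_preimage, hm' hcov]
    rfl

set_option backward.isDefEq.respectTransparency false in
include hc in
/-- if the limit is not preconnected then all sufficiently late stages are not preconnected. -/
theorem eventually_not_preconnectedSpace (h : ¬ PreconnectedSpace c.pt) :
    ∃ i : I, ∀ (j : I) (_ : j ⟶ i), ¬ PreconnectedSpace (D.obj j) := by
  have : CompactSpace c.pt := Scheme.compactSpace_of_isLimit D c hc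
  rw [preconnectedSpace_iff_clopen] at h
  simp only [not_forall] at h
  obtain ⟨s, hs, hne⟩ := h
  rw [not_or] at hne
  obtain ⟨hs0, hs1⟩ := hne
  obtain ⟨i, hi⟩ := exists_disjoint_opens hc ⟨s, hs.2⟩ ⟨sᶜ, hs.1.isOpen_compl⟩
    hs.1.isCompact hs.2.isClosed_compl.isCompact (by ext x; simp)
  refine ⟨i, fun j φ hpre => ?_⟩
  obtain ⟨A₁, A₂, e1, e2, hA, hcov⟩ := hi j φ
  have hcov' : A₁ ⊔ A₂ = ⊤ := hcov (by ext x; simp)
  have hcl : IsClopen (A₁ : Set (D.obj j)) := by
    refine ⟨?_, A₁.2⟩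
    have : (A₁ : Set (D.obj j)) = (A₂ : Set (D.obj j))ᶜ := by
      ext x
      constructor
      · intro h1 h2
        have : x ∈ A₁ ⊓ A₂ := ⟨h1, h2⟩
        rw [hA] at this
        exact this
      · intro h2
        have : x ∈ A₁ ⊔ A₂ := by rw [hcov']; trivial
        rcases this with h | h
        · exact h
        · exact (h2 h).elim
    rw [this]
    exact A₂.2.isClosed_compl
  rcases (preconnectedSpace_iff_clopen.mp hpre) _ hcl with h0 | h1
  · apply hs0
    have : (⟨s, hs.2⟩ : c.pt.Opens) = ⊥ := by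
      rw [← e1]
      ext x
      constructor
      · intro hx
        have : c.π.app j x ∈ (A₁ : Set (D.obj j)) := hx
        rw [h0] at this
        exact this.elim
      · intro hx
        exact hx.elim
    exact congrArg (fun U : c.pt.Opens => (U : Set c.pt)) this
  · apply hs1
    have : (⟨s, hs.2⟩ : c.pt.Opens) = ⊤ := by
      rw [← e1]
      ext x
      constructor
      · intro _; trivial
      · intro _
        have : c.π.app j x ∈ (A₁ : Set (D.obj j)) := by rw [h1]; trivial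
        exact this
    exact congrArg (fun U : c.pt.Opens => (U : Set c.pt)) this

set_option backward.isDefEq.respectTransparency false in
include hc in
/-- if the limit is empty then some stage is empty. -/
theorem exists_isEmpty_stage (h : IsEmpty c.pt) : ∃ i : I, IsEmpty (D.obj i) := by
  by_contra! H
  have hne : ∀ i, Nonempty (D.obj i) := fun i => H i
  have := Scheme.nonempty_of_isLimit D c hc
  exact (IsEmpty.false (α := c.pt)) this.some

set_option backward.isDefEq.respectTransparency false in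
include hc in
/-- if the limit has Noetherian underlying space and is not irreducible then all sufficiently
late stages are not irreducible. -/
theorem eventually_not_irreducibleSpace [NoetherianSpace c.pt] (h : ¬ IrreducibleSpace c.pt) :
    ∃ i : I, ∀ (j : I) (_ : j ⟶ i), ¬ IrreducibleSpace (D.obj j) := by
  by_cases hne : Nonempty c.pt
  · have h2 : ¬ PreirreducibleSpace c.pt := fun hp => h { toPreirreducibleSpace := hp, toNonempty := hne }
    have h3 : ∃ U V : Set c.pt, IsOpen U ∧ IsOpen V ∧ U.Nonempty ∧ V.Nonempty ∧ U ∩ V = ∅ := by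
      by_contra! H
      apply h2
      apply PreirreducibleSpace.of_forall_nonempty_inter
      intro U V hU hV hUn hVn
      exact H U V hU hV hUn hVn
    obtain ⟨U, V, hU, hV, ⟨x, hx⟩, ⟨y, hy⟩, hUV⟩ := h3
    obtain ⟨i, hi⟩ := exists_disjoint_opens hc ⟨U, hU⟩ ⟨V, hV⟩
      (NoetherianSpace.isCompact U) (NoetherianSpace.isCompact V)
      (by ext z; simp only [Opens.coe_inf, Opens.coe_mk, hUV]; rfl)
    refine ⟨i, fun j φ hirr => ?_⟩
    obtain ⟨A₁, A₂, e1, e2, hA, -⟩ := hi j φ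
    have hx1 : c.π.app j x ∈ A₁ := by
      have : x ∈ c.π.app j ⁻¹ᵁ A₁ := by rw [e1]; exact hx
      exact this
    have hy2 : c.π.app j y ∈ A₂ := by
      have : y ∈ c.π.app j ⁻¹ᵁ A₂ := by rw [e2]; exact hy
      exact this
    obtain ⟨z, hz1, hz2⟩ := nonempty_preirreducible_inter A₁.2 A₂.2 ⟨_, hx1⟩ ⟨_, hy2⟩
    have : z ∈ A₁ ⊓ A₂ := ⟨hz1, hz2⟩
    rw [hA] at this
    exact this
  · obtain ⟨i, hi⟩ := exists_isEmpty_stage hc (not_nonempty_iff.mp hne)
    refine ⟨i, fun j φ hirr => ?_⟩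
    obtain ⟨z⟩ := hirr.toNonempty
    exact hi.false (D.map φ z)

end All

section Over

variable {I : Type u} [Category.{u} I] [IsCofiltered I] {D : I ⥤ Scheme.{u}} {c : Cone D}
  (hc : IsLimit c) [∀ {i j : I} (f : i ⟶ j), IsAffineHom (D.map f)]
  (i₀ : I) [CompactSpace (D.obj i₀)] [QuasiSeparatedSpace (D.obj i₀)]

include hc in
/-- transfer of an eventual property of the stages from the system over a quasi-compact
quasi-separated stage. -/
theorem eventually_over (P : Scheme.{u} → Prop)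
    (H : ∀ {J : Type u} [Category.{u} J] [IsCofiltered J] {E : J ⥤ Scheme.{u}} {d : Cone E}
      (_ : IsLimit d) [∀ {i j : J} (f : i ⟶ j), IsAffineHom (E.map f)]
      [∀ i, CompactSpace (E.obj i)] [∀ i, QuasiSeparatedSpace (E.obj i)], d.pt = c.pt →
      ∃ i : J, ∀ (j : J) (_ : j ⟶ i), P (E.obj j)) :
    ∃ (i : I) (_ : i ⟶ i₀), ∀ (j : I) (_ : j ⟶ i), P (D.obj j) := by
  let D' : Over i₀ ⥤ Scheme.{u} := Over.forget i₀ ⋙ D
  let c' : Cone D' := c.whisker (Over.forget i₀)
  have hc' : IsLimit c' := (Functor.Initial.isLimitWhiskerEquiv (Over.forget i₀) c).symm hc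
  have h1 : ∀ {k k' : Over i₀} (f : k ⟶ k'), IsAffineHom (D'.map f) := fun f =>
    inferInstanceAs (IsAffineHom (D.map f.left))
  have h2 : ∀ k : Over i₀, CompactSpace (D'.obj k) := fun k =>
    QuasiCompact.compactSpace_of_compactSpace (D.map k.hom)
  have h3 : ∀ k : Over i₀, QuasiSeparatedSpace (D'.obj k) := fun k =>
    quasiSeparatedSpace_of_quasiSeparated (D.map k.hom)
  obtain ⟨k, hk⟩ := H (E := D') (d := c') hc' rfl
  exact ⟨k.left, k.hom, fun j ψ => hk (Over.mk (ψ ≫ k.hom)) (Over.homMk ψ)⟩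

end Over

end Groth.Agent.Helper7.LimTopo
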