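import Mathlib
import Groth.Prelude.Def_MeroDiv
import Groth.Agent.Lib.Helper7.MeroD

set_option autoImplicit false
open CategoryTheory CategoryTheory.Limits AlgebraicGeometry Opposite TopologicalSpace
universe u

/-! helper7: the support of a divisor on a locally Noetherian scheme has codimension at least one
(S10851). -/

namespace Groth.Agent.Helper7.MeroE

variable {X : Scheme.{u}}

/-- a ring whose Krull dimension is not at least one has all primes maximal. -/
theorem krullDimLE_zero_of_not_one_le {R : Type u} [CommRing R]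
    (h : ¬ (1 : WithBot ℕ∞) ≤ ringKrullDim R) : Ring.KrullDimLE 0 R := by
  refine Ring.KrullDimLE.mk₀ fun I hI => ?_
  by_contra hmax
  apply h
  obtain ⟨M, hM, hIM⟩ := Ideal.exists_le_maximal I hI.ne_top
  have hne : I ≠ M := fun e => hmax (e ▸ hM)
  rw [ringKrullDim, Order.one_le_krullDim_iff]
  exact ⟨⟨I, hI⟩, ⟨M, hM.isPrime⟩, lt_of_le_of_ne hIM
    (fun e => hne (congrArg PrimeSpectrum.asIdeal e))⟩

/-- if all regular germs are units of the local ring, every unit of the ring of fractions comes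
from a unit of the local ring. -/
theorem mem_stalkUnits_of_units (z : X)
    (hu : ∀ a : X.presheaf.stalk z, a ∈ nonZeroDivisors (X.presheaf.stalk z) → IsUnit a)
    (g : (Mero.KStalk X z)ˣ) : g ∈ Mero.stalkUnits X z := by
  obtain ⟨⟨a, s⟩, hg⟩ := IsLocalization.mk'_surjective (Mero.regStalk X z) (g : Mero.KStalk X z)
  obtain ⟨⟨a', s'⟩, hg'⟩ := IsLocalization.mk'_surjective (Mero.regStalk X z)
    ((g⁻¹ : (Mero.KStalk X z)ˣ) : Mero.KStalk X z)
  have hs : IsUnit (s : X.presheaf.stalk z) := hu _ (Mero.regStalk_le_nonZeroDivisors z s.2)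
  have hs' : IsUnit (s' : X.presheaf.stalk z) := hu _ (Mero.regStalk_le_nonZeroDivisors z s'.2)
  have h1 : algebraMap (X.presheaf.stalk z) (Mero.KStalk X z) a =
      (g : Mero.KStalk X z) * algebraMap _ _ (s : X.presheaf.stalk z) := by
    rw [← hg]; exact (IsLocalization.mk'_spec _ a s).symm
  have h2 : algebraMap (X.presheaf.stalk z) (Mero.KStalk X z) a' =
      ((g⁻¹ : (Mero.KStalk X z)ˣ) : Mero.KStalk X z) *
        algebraMap _ _ (s' : X.presheaf.stalk z) := by
    rw [← hg']; exact (IsLocalization.mk'_spec _ a' s').symm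
  have h3 : a * a' = (s : X.presheaf.stalk z) * s' := by
    apply Mero.algebraMap_KStalk_injective z
    rw [map_mul, map_mul, h1, h2]
    have : (g : Mero.KStalk X z) * ((g⁻¹ : (Mero.KStalk X z)ˣ) : Mero.KStalk X z) = 1 :=
      g.mul_inv
    calc (g : Mero.KStalk X z) * algebraMap _ _ (s : X.presheaf.stalk z) *
          (((g⁻¹ : (Mero.KStalk X z)ˣ) : Mero.KStalk X z) * algebraMap _ _ (s' : X.presheaf.stalk z))
        = ((g : Mero.KStalk X z) * ((g⁻¹ : (Mero.KStalk X z)ˣ) : Mero.KStalk X z)) *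
          (algebraMap _ _ (s : X.presheaf.stalk z) * algebraMap _ _ (s' : X.presheaf.stalk z)) := by
            ring
      _ = _ := by rw [this, one_mul]
  have ha : IsUnit a := isUnit_of_mul_isUnit_left (by rw [h3]; exact hs.mul hs')
  obtain ⟨ua, hua⟩ := ha
  obtain ⟨us, hus⟩ := hs
  refine ⟨ua * us⁻¹, ?_⟩
  apply Units.ext
  change algebraMap (X.presheaf.stalk z) (Mero.KStalk X z) ((ua * us⁻¹ : (X.presheaf.stalk z)ˣ) :
    X.presheaf.stalk z) = (g : Mero.KStalk X z)
  have h4 : (g : Mero.KStalk X z) = algebraMap _ _ a * algebraMap _ _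
      ((us⁻¹ : (X.presheaf.stalk z)ˣ) : X.presheaf.stalk z) := by
    rw [h1, mul_assoc, ← map_mul, ← hus, Units.mul_inv, map_one, mul_one]
  rw [h4, Units.val_mul, map_mul, hua]

theorem S10851_main {X : Scheme.{u}} [IsLocallyNoetherian X]
    (D : Mero.Divisor X) (z : X) (hz : z ∈ Mero.supp D) :
    (1 : WithBot ℕ∞) ≤ ringKrullDim (X.presheaf.stalk z) := by
  by_contra h
  have h0 := krullDimLE_zero_of_not_one_le h
  have hA : IsArtinianRing (X.presheaf.stalk z) := isArtinianRing_iff_krullDimLE_zero.mpr h0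
  apply hz
  obtain ⟨U, hzU, f, hf⟩ := D.2 z
  rw [hf ⟨z, hzU⟩]
  exact (QuotientGroup.eq_one_iff _).mpr
    (mem_stalkUnits_of_units z (fun a ha => IsArtinianRing.isUnit_of_mem_nonZeroDivisors ha) _)

end Groth.Agent.Helper7.MeroE
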