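import Mathlib

set_option autoImplicit false
universe u
open CategoryTheory CategoryTheory.Limits AlgebraicGeometry TensorProduct

/-! helper7: monomorphisms of schemes into the spectrum of a field, into a disjoint union of
spectra of fields, and into the spectrum of a finite product of fields. -/

namespace Groth.Agent.Helper7.MonoField

/-- an epimorphic nontrivial algebra over a field is the field itself -/
lemma surjective_algebraMap_of_isEpi (K B : Type*) [Field K] [CommRing B] [Algebra K B]
    [Nontrivial B] [Algebra.IsEpi K B] : Function.Surjective (algebraMap K B) := by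
  obtain ⟨l, hl⟩ := LinearMap.exists_leftInverse_of_injective (Algebra.linearMap K B) (by
    rw [LinearMap.ker_eq_bot]; exact (algebraMap K B).injective)
  intro b
  have h := (Algebra.isEpi_iff_forall_one_tmul_eq K B).mp inferInstance b
  have h2 := congr(TensorProduct.lid K B (LinearMap.rTensor B l $h))
  simp only [LinearMap.rTensor_tmul, TensorProduct.lid_tmul] at h2
  refine ⟨l b, ?_⟩
  have h1 : l 1 = 1 := by simpa using congr($hl 1)
  rw [h1, one_smul] at h2
  rw [Algebra.algebraMap_eq_smul_one]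
  exact h2.symm

set_option backward.isDefEq.respectTransparency false in
lemma isIso_of_mono_of_nonempty {K : Type u} [Field K] {Z : Scheme.{u}}
    (g : Z ⟶ Spec (CommRingCat.of K)) [Mono g] [Nonempty Z] : IsIso g := by
  have hinj : Function.Injective g := g.injective
  have : Subsingleton Z := hinj.subsingleton
  have hmono : Mono (Spec.map g.appTop) :=
    ((MorphismProperty.monomorphisms Scheme).arrow_mk_iso_iff (arrowIsoSpecΓOfIsAffine g)).mp
      (inferInstanceAs (Mono g))
  let φ : CommRingCat.of K ⟶ Γ(Z, ⊤) := (Scheme.ΓSpecIso (CommRingCat.of K)).inv ≫ g.appTop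
  have hepi0 : Epi g.appTop := by
    constructor
    intro T α β hαβ
    apply Spec.map_injective
    rw [← cancel_mono (Spec.map g.appTop), ← Spec.map_comp, ← Spec.map_comp, hαβ]
  have hepi : Epi φ := epi_comp _ _
  let _ : Algebra K Γ(Z, ⊤) := φ.hom.toAlgebra
  have hepi' : Algebra.IsEpi K Γ(Z, ⊤) := CommRingCat.epi_iff_epi.mp hepi
  have : Nonempty (⊤ : Z.Opens) := by
    obtain ⟨z⟩ := ‹Nonempty Z›
    exact ⟨⟨z, trivial⟩⟩
  have : Nontrivial Γ(Z, ⊤) := Scheme.component_nontrivial Z ⊤
  have hbij : Function.Bijective φ.hom :=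
    ⟨(algebraMap K Γ(Z, ⊤)).injective, surjective_algebraMap_of_isEpi K Γ(Z, ⊤)⟩
  have hφ : IsIso φ := (ConcreteCategory.isIso_iff_bijective φ).mpr hbij
  have happ : IsIso g.appTop := by
    have : g.appTop = (Scheme.ΓSpecIso (CommRingCat.of K)).hom ≫ φ := by simp [φ]
    rw [this]; infer_instance
  have : IsIso (Spec.map g.appTop) := inferInstance
  exact ((MorphismProperty.isomorphisms Scheme).arrow_mk_iso_iff (arrowIsoSpecΓOfIsAffine g)).mpr
    this

lemma isOpenImmersion_of_mono {K : Type u} [Field K] {Z : Scheme.{u}}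
    (g : Z ⟶ Spec (CommRingCat.of K)) [Mono g] : IsOpenImmersion g := by
  cases isEmpty_or_nonempty Z with
  | inl h => infer_instance
  | inr h =>
    have := isIso_of_mono_of_nonempty g
    infer_instance

set_option backward.isDefEq.respectTransparency false in
theorem isOpenImmersion_of_mono_sigma {ι : Type u} (k : ι → Type u) [∀ i, Field (k i)]
    {Y : Scheme.{u}} (f : Y ⟶ ∐ fun i => Spec (CommRingCat.of (k i))) [Mono f] :
    IsOpenImmersion f := by
  apply (IsZariskiLocalAtTarget.iff_of_openCover (P := @IsOpenImmersion)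
    (sigmaOpenCover fun i => Spec (CommRingCat.of (k i)))).mpr
  intro i
  change IsOpenImmersion (pullback.snd f (Sigma.ι (fun i => Spec (CommRingCat.of (k i))) i))
  exact isOpenImmersion_of_mono _

set_option backward.isDefEq.respectTransparency false in
theorem exists_iso_sigma {ι : Type u} (k : ι → Type u) [∀ i, Field (k i)]
    {Y : Scheme.{u}} (f : Y ⟶ ∐ fun i => Spec (CommRingCat.of (k i))) [Mono f] :
    ∃ (J : Set ι) (e : Y ≅ ∐ fun j : J => Spec (CommRingCat.of (k j.1))),
      e.hom ≫ Sigma.desc (fun j : J => Sigma.ι (fun i => Spec (CommRingCat.of (k i))) j.1) = f := by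
  have := isOpenImmersion_of_mono_sigma k f
  let g : ι → Scheme.{u} := fun i => Spec (CommRingCat.of (k i))
  let J : Set ι := {i | (Set.range (Sigma.ι g i) ∩ Set.range f).Nonempty}
  let d : (∐ fun j : J => g j.1) ⟶ ∐ g := Sigma.desc (fun j : J => Sigma.ι g j.1)
  have hd : IsOpenImmersion d := by
    apply isOpenImmersion_sigmaDesc
    intro j₁ j₂ h
    rw [Function.onFun_apply, Set.disjoint_left]
    rintro _ ⟨x₁, rfl⟩ ⟨x₂, hx₂⟩
    have := (sigmaι_eq_iff g _ _ _ _).mp hx₂
    exact h (Subtype.ext (congrArg Sigma.fst this).symm)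
  have hsub : ∀ i, Subsingleton (g i) := fun i =>
    inferInstanceAs (Subsingleton (PrimeSpectrum (k i)))
  have hrange : Set.range f = Set.range d := by
    apply Set.Subset.antisymm
    · rintro _ ⟨y, rfl⟩
      obtain ⟨i, x, hx⟩ := (sigmaOpenCover g).exists_eq (f y)
      have hx' : Sigma.ι g i x = f y := hx
      have hi : i ∈ J := ⟨f y, ⟨x, hx'⟩, ⟨y, rfl⟩⟩
      refine ⟨Sigma.ι (fun j : J => g j.1) ⟨i, hi⟩ x, ?_⟩
      rw [← Scheme.Hom.comp_apply, Sigma.ι_desc]
      exact hx'
    · rintro _ ⟨z, rfl⟩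
      obtain ⟨j, x, hx⟩ := (sigmaOpenCover fun j : J => g j.1).exists_eq z
      have hx' : Sigma.ι (fun j : J => g j.1) j x = z := hx
      obtain ⟨_, ⟨x', rfl⟩, ⟨y, hy⟩⟩ := j.2
      refine ⟨y, ?_⟩
      rw [hy, ← hx', ← Scheme.Hom.comp_apply, Sigma.ι_desc]
      exact congrArg _ (Subsingleton.elim _ _)
  exact ⟨J, IsOpenImmersion.isoOfRangeEq f d hrange, IsOpenImmersion.isoOfRangeEq_hom_fac _ _ _⟩

set_option backward.isDefEq.respectTransparency false in
theorem exists_iso_Spec_pi {ι : Type u} [Finite ι] (k : ι → Type u) [∀ i, Field (k i)]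
    {X : Scheme.{u}} (f : X ⟶ Spec (CommRingCat.of (Π i, k i))) [Mono f] :
    ∃ (I : Set ι) (e : X ≅ Spec (CommRingCat.of (Π i : I, k i))),
      e.hom ≫ Spec.map (CommRingCat.ofHom (RingHom.pi fun i : I => Pi.evalRingHom k i.1)) = f := by
  let R : ι → CommRingCat.{u} := fun i => CommRingCat.of (k i)
  have : Mono (f ≫ inv (sigmaSpec R)) := mono_comp _ _
  obtain ⟨J, e, he⟩ := exists_iso_sigma k (f ≫ inv (sigmaSpec R))
  let RJ : J → CommRingCat.{u} := fun j => CommRingCat.of (k j.1)
  refine ⟨J, e ≪≫ asIso (sigmaSpec RJ), ?_⟩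
  have key : sigmaSpec RJ ≫
      Spec.map (CommRingCat.ofHom (RingHom.pi fun i : J => Pi.evalRingHom k i.1)) =
      Sigma.desc (fun j : J => Sigma.ι (fun i => Spec (R i)) j.1) ≫ sigmaSpec R := by
    apply Sigma.hom_ext
    intro j
    rw [← Category.assoc, ι_sigmaSpec, ← Category.assoc, Sigma.ι_desc, ι_sigmaSpec,
      ← Spec.map_comp]
    rfl
  simp only [Iso.trans_hom, asIso_hom, Category.assoc]
  rw [key, ← Category.assoc, he, Category.assoc, IsIso.inv_hom_id, Category.comp_id]

end Groth.Agent.Helper7.MonoField
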