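import Mathlib
import Groth.Agent.Lib.Helper7.RelFGSub
import Groth.Agent.Lib.Helper7.LimBC
import Groth.Agent.Lib.Helper7.LimPts
import Groth.Agent.Lib.Helper7.LimGen2

set_option autoImplicit false
open CategoryTheory CategoryTheory.Limits AlgebraicGeometry Opposite TopologicalSpace
universe u

/-! helper7: base changes reflecting specializations; reduction from arbitrary base changes to those locally of finite type by a limit argument. -/

namespace Groth.Agent.Helper7.ReflSpec

open Groth.Agent.Helper7.LimBC Groth.Agent.Helper7.RelFGSub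

variable {X Y : Scheme.{u}} (f : Y ⟶ X)

/-- the projection from the base change of `f` along `g` reflects specializations. -/
def Refl {X' : Scheme.{u}} (g : X' ⟶ X) : Prop :=
  ∀ y₀ y₁ : ↥(pullback f g),
    (pullback.snd f g).base y₁ ⤳ (pullback.snd f g).base y₀ → y₁ ⤳ y₀

variable {f}

set_option backward.isDefEq.respectTransparency false in
theorem Refl.of_isPullback {X' P : Scheme.{u}} {g : X' ⟶ X} (h : Refl f g) {p₁ : P ⟶ Y}
    {p₂ : P ⟶ X'} (hP : IsPullback p₁ p₂ f g) (w₀ w₁ : P) (hw : p₂ w₁ ⤳ p₂ w₀) : w₁ ⤳ w₀ := by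
  have e := hP.isoPullback
  have h1 : ∀ w : P, (pullback.snd f g) (hP.isoPullback.hom w) = p₂ w := by
    intro w
    rw [← Scheme.Hom.comp_apply, IsPullback.isoPullback_hom_snd]
  have h2 := h (hP.isoPullback.hom w₀) (hP.isoPullback.hom w₁) (by
    rw [h1, h1]; exact hw)
  have h3 := h2.map hP.isoPullback.inv.continuous
  simpa using h3

set_option backward.isDefEq.respectTransparency false in
/-- reflecting specializations can be checked locally on the base of the base change. -/
theorem Refl.of_openCover {X' : Scheme.{u}} (g : X' ⟶ X)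
    (h : ∀ x' : X', ∃ (V : Scheme.{u}) (j : V ⟶ X') (_ : IsOpenImmersion j),
      x' ∈ Set.range j ∧ Refl f (j ≫ g)) : Refl f g := by
  intro y₀ y₁ hy
  obtain ⟨V, j, hj, ⟨v₀, hv₀⟩, hR⟩ := h ((pullback.snd f g) y₀)
  have hv₁ : (pullback.snd f g) y₁ ∈ Set.range j :=
    hy.mem_open j.isOpenEmbedding.isOpen_range ⟨v₀, hv₀⟩
  obtain ⟨v₁, hv₁⟩ := hv₁
  let θ : pullback f (j ≫ g) ⟶ pullback f g :=
    pullback.lift (pullback.fst f (j ≫ g)) (pullback.snd f (j ≫ g) ≫ j)
      (by rw [pullback.condition, Category.assoc])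
  have hθ : IsPullback θ (pullback.snd f (j ≫ g)) (pullback.snd f g) j := by
    refine IsPullback.of_right (h₁₂ := pullback.fst f g) (h₂₂ := g) (v₁₃ := f) ?_ ?_
      (IsPullback.of_hasPullback f g)
    · have : θ ≫ pullback.fst f g = pullback.fst f (j ≫ g) := pullback.lift_fst _ _ _
      rw [this]
      exact IsPullback.of_hasPullback f (j ≫ g)
    · exact pullback.lift_snd _ _ _
  obtain ⟨z₀, hz₀, hz₀'⟩ := LimGen.exists_of_isPullback hθ y₀ v₀ hv₀.symm
  obtain ⟨z₁, hz₁, hz₁'⟩ := LimGen.exists_of_isPullback hθ y₁ v₁ hv₁.symm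
  have hv : v₁ ⤳ v₀ := by
    rw [← j.isOpenEmbedding.isInducing.specializes_iff, hv₀, hv₁]
    exact hy
  have hz : z₁ ⤳ z₀ := hR z₀ z₁ (by
    rw [hz₀', hz₁']; exact hv)
  rw [← hz₀, ← hz₁]
  exact hz.map θ.continuous

set_option backward.isDefEq.respectTransparency false in
/-- the limit step: base changes along spectra of arbitrary algebras over a base of finite type. -/
theorem Refl.of_ringHom
    (h : ∀ (X' : Scheme.{u}) (g : X' ⟶ X) [LocallyOfFiniteType g], Refl f g)
    (A B : Type u) [CommRing A] [CommRing B] [Algebra A B] (u : Spec (CommRingCat.of A) ⟶ X)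
    [LocallyOfFiniteType u] :
    Refl f (Spec.map (CommRingCat.ofHom (algebraMap A B)) ≫ u) := by
  intro y₀ y₁ hy
  obtain ⟨hc⟩ := isLimit_specCone A B
  let D := specDiag A B
  let c := specCone A B
  let i₀ : (Idx A B)ᵒᵖ := op ⟨⊥, Subalgebra.fg_bot⟩
  let g₀ : D.obj i₀ ⟶ X := toBase A B i₀ ≫ u
  let a : pullback f g₀ ⟶ D.obj i₀ := pullback.snd f g₀
  let g := Spec.map (CommRingCat.ofHom (algebraMap A B)) ≫ u
  have hg : g = c.π.app i₀ ≫ g₀ := by
    change _ = c.π.app i₀ ≫ (toBase A B i₀ ≫ u)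
    rw [← Category.assoc, π_toBase]
  let qY : pullback f g ⟶ pullback f g₀ :=
    pullback.lift (pullback.fst f g) (pullback.snd f g ≫ c.π.app i₀)
      (by rw [pullback.condition, Category.assoc, ← hg])
  have hY : IsPullback qY (pullback.snd f g) a (c.π.app i₀) := by
    refine IsPullback.of_right (h₁₂ := pullback.fst f g₀) (h₂₂ := g₀) (v₁₃ := f) ?_ ?_
      (IsPullback.of_hasPullback f g₀)
    · have : qY ≫ pullback.fst f g₀ = pullback.fst f g := pullback.lift_fst _ _ _
      rw [this, ← hg]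
      exact IsPullback.of_hasPullback f g
    · exact pullback.lift_snd _ _ _
  have hlim := isLimitBcCone (D := D) (c := c) (i₀ := i₀) (a := a) hc hY
  change (y₁ : ↥(bcCone (D := D) (c := c) (i₀ := i₀) (a := a) hY).pt) ⤳ y₀
  rw [LimPts.specializes_iff (bcDiagram D i₀ a) (bcCone (D := D) (c := c) (i₀ := i₀) (a := a) hY)
    hlim]
  intro j
  have hj : IsPullback (pullback.fst a (D.map j.hom) ≫ pullback.fst f g₀)
      (pullback.snd a (D.map j.hom)) f (D.map j.hom ≫ g₀) :=
    (IsPullback.of_hasPullback a (D.map j.hom)).paste_horiz (IsPullback.of_hasPullback f g₀)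
  have hlft : LocallyOfFiniteType (D.map j.hom ≫ g₀) := by
    have : D.map j.hom ≫ g₀ = toBase A B j.left ≫ u := by
      change D.map j.hom ≫ (toBase A B i₀ ≫ u) = _
      rw [← Category.assoc, map_toBase]
    rw [this]
    infer_instance
  refine (h _ (D.map j.hom ≫ g₀)).of_isPullback hj _ _ ?_
  have key : ∀ y : ↥(pullback f g), (pullback.snd a (D.map j.hom))
      (((bcCone (D := D) (c := c) (i₀ := i₀) (a := a) hY).π.app j) y) =
      (c.π.app j.left) ((pullback.snd f g) y) := by
    intro y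
    have e := bcCone_π_snd (D := D) (c := c) (i₀ := i₀) (a := a) hY j
    exact (Scheme.Hom.comp_apply _ _ y).symm.trans
      ((congrArg (fun φ => φ.base y) e).trans (Scheme.Hom.comp_apply _ _ y))
  rw [key, key]
  exact hy.map (c.π.app j.left).continuous

set_option backward.isDefEq.respectTransparency false in
/-- if the base changes of `f` along all morphisms locally of finite type reflect specializations,
then so do all base changes. -/
theorem main (h : ∀ (X' : Scheme.{u}) (g : X' ⟶ X) [LocallyOfFiniteType g], Refl f g)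
    (X' : Scheme.{u}) (g : X' ⟶ X) : Refl f g := by
  apply Refl.of_openCover
  intro x'
  obtain ⟨_, ⟨U, hU, rfl⟩, hxU, -⟩ := X.isBasis_affineOpens.exists_subset_of_mem_open
    (Set.mem_univ (g x')) isOpen_univ
  obtain ⟨_, ⟨V, hV, rfl⟩, hxV, hVU⟩ := X'.isBasis_affineOpens.exists_subset_of_mem_open
    (show x' ∈ ((g ⁻¹ᵁ U : X'.Opens) : Set X') from hxU) (g ⁻¹ᵁ U).2
  refine ⟨Spec Γ(X', V), hV.fromSpec, inferInstance, ?_, ?_⟩
  · rw [hV.range_fromSpec]
    exact hxV
  · rw [← IsAffineOpen.SpecMap_appLE_fromSpec g hU hV hVU]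
    let _ : Algebra Γ(X, U) Γ(X', V) := (g.appLE U V hVU).hom.toAlgebra
    exact Refl.of_ringHom h Γ(X, U) Γ(X', V) hU.fromSpec

end Groth.Agent.Helper7.ReflSpec
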