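import Mathlib
import Groth.Agent.Lib.Helper7.ReflSpec
import Groth.Agent.Lib.Helper7.MonoField

set_option autoImplicit false
open CategoryTheory CategoryTheory.Limits AlgebraicGeometry Opposite TopologicalSpace
universe u

/-! helper7: a valuative lifting property (closed point already lifted) for a monomorphism forces the base change to reflect the specialization carried by the valuation ring. -/

namespace Groth.Agent.Helper7.ReflSpec

set_option backward.isDefEq.respectTransparency false in
/-- a field-valued point of the target of a monomorphism lifts as soon as its image point does. -/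
theorem exists_lift_of_mono {P Z : Scheme.{u}} (q : P ⟶ Z) [Mono q] {k : Type u} [Field k]
    (t : Spec (CommRingCat.of k) ⟶ Z) (y : P) (hy : ∃ z : Spec (CommRingCat.of k), t z = q y) :
    ∃ σ : Spec (CommRingCat.of k) ⟶ P, σ ≫ q = t := by
  obtain ⟨z, hz⟩ := hy
  obtain ⟨w, -, -⟩ := Scheme.Pullback.exists_preimage_pullback (f := q) (g := t) y z hz.symm
  have : Nonempty ↥(pullback q t) := ⟨w⟩
  have : IsIso (pullback.snd q t) := MonoField.isIso_of_mono_of_nonempty _
  refine ⟨inv (pullback.snd q t) ≫ pullback.fst q t, ?_⟩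
  rw [Category.assoc, pullback.condition, IsIso.inv_hom_id_assoc]

set_option backward.isDefEq.respectTransparency false in
/-- the key step: a valuative lifting property for a monomorphism `f`, with the closed point
already lifted, forces the base change to reflect the specialization carried by the valuation
ring. -/
theorem specializes_of_lifts {X Y : Scheme.{u}} (f : Y ⟶ X) [Mono f]
    (Q : ∀ (R : Type u) [CommRing R] [IsDomain R], Prop)
    (h : ∀ S : ValuativeCommSq f, Q S.R →
        (∃ l₀ : Spec (CommRingCat.of (IsLocalRing.ResidueField S.R)) ⟶ Y,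
            l₀ ≫ f = Spec.map (CommRingCat.ofHom (IsLocalRing.residue S.R)) ≫ S.i₂) →
          S.commSq.HasLift)
    {X' : Scheme.{u}} (g : X' ⟶ X) (y₀ y₁ : ↥(pullback f g))
    (R : Type u) [CommRing R] [IsDomain R] [ValuationRing R] (hQ : Q R)
    (K : Type u) [Field K] [Algebra R K] [IsFractionRing R K]
    (a : Spec (CommRingCat.of R) ⟶ X')
    (ha₀ : a (IsLocalRing.closedPoint R) = pullback.snd f g y₀)
    (ha₁ : ∃ z : Spec (CommRingCat.of K),
      a (Spec.map (CommRingCat.ofHom (algebraMap R K)) z) = pullback.snd f g y₁) :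
    y₁ ⤳ y₀ := by
  have hinj : Function.Injective (pullback.snd f g) := (pullback.snd f g).injective
  obtain ⟨z, hz⟩ := ha₁
  obtain ⟨σ₁, hσ₁⟩ := exists_lift_of_mono (pullback.snd f g)
    (Spec.map (CommRingCat.ofHom (algebraMap R K)) ≫ a) y₁ ⟨z, hz⟩
  obtain ⟨σ₀, hσ₀⟩ := exists_lift_of_mono (pullback.snd f g)
    (Spec.map (CommRingCat.ofHom (IsLocalRing.residue R)) ≫ a) y₀
    ⟨IsLocalRing.closedPoint (IsLocalRing.ResidueField R), by
      rw [Scheme.Hom.comp_apply]
      have : Spec.map (CommRingCat.ofHom (IsLocalRing.residue R))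
          (IsLocalRing.closedPoint (IsLocalRing.ResidueField R)) = IsLocalRing.closedPoint R :=
        IsLocalRing.PrimeSpectrum.comap_residue R _
      rw [this, ha₀]⟩
  let S : ValuativeCommSq f :=
    { R := R, K := K, i₁ := σ₁ ≫ pullback.fst f g, i₂ := a ≫ g,
      commSq := ⟨by rw [Category.assoc, pullback.condition, ← Category.assoc, hσ₁,
        Category.assoc]⟩ }
  have hl := h S hQ ⟨σ₀ ≫ pullback.fst f g, by
    rw [Category.assoc, pullback.condition, ← Category.assoc, hσ₀, Category.assoc]⟩
  obtain ⟨ℓ, hℓ₁, hℓ₂⟩ := hl.exists_lift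
  let m : Spec (CommRingCat.of R) ⟶ pullback f g := pullback.lift ℓ a hℓ₂
  have hm : m ≫ pullback.snd f g = a := pullback.lift_snd _ _ _
  have h0 : m (IsLocalRing.closedPoint R) = y₀ := by
    apply hinj
    rw [← Scheme.Hom.comp_apply, hm, ha₀]
  have h1 : m (Spec.map (CommRingCat.ofHom (algebraMap R K)) z) = y₁ := by
    apply hinj
    rw [← Scheme.Hom.comp_apply, hm, hz]
  rw [← h0, ← h1]
  exact (IsLocalRing.specializes_closedPoint _).map m.continuous

end Groth.Agent.Helper7.ReflSpec
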