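import Mathlib
import Groth.Agent.Lib.Helper7.ReflSpec2

set_option autoImplicit false
open CategoryTheory CategoryTheory.Limits AlgebraicGeometry Opposite TopologicalSpace
universe u

/-! helper7: a monomorphism to a locally Noetherian scheme satisfying the dense-lifting condition is quasi-compact (Noetherian induction). -/

namespace Groth.Agent.Helper7.MonoQC

open Groth.Agent.Helper7.ReflSpec IsLocalRing

/-- the dense-lifting condition: over the spectrum of a domain, if a dense set of points lifts,
then a nonempty open subscheme lifts. -/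
def DenseLift {X Y : Scheme.{u}} (f : Y ⟶ X) : Prop :=
  ∀ (A : Type u) [CommRing A] [IsDomain A] (s : Spec (CommRingCat.of A) ⟶ X)
    (D : Set ↥(Spec (CommRingCat.of A))),
    Dense D →
    (∀ p ∈ D, ∃ l : Spec ((Spec (CommRingCat.of A)).residueField p) ⟶ Y,
        l ≫ f = (Spec (CommRingCat.of A)).fromSpecResidueField p ≫ s) →
      ∃ U : (Spec (CommRingCat.of A)).Opens, (U : Set ↥(Spec (CommRingCat.of A))).Nonempty ∧
        ∃ l : (U : Scheme.{u}) ⟶ Y, l ≫ f = U.ι ≫ s

set_option backward.isDefEq.respectTransparency false in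
theorem exists_lift_residueField {X Y : Scheme.{u}} (f : Y ⟶ X) [Mono f] {T : Scheme.{u}}
    (s : T ⟶ X) (p : T) (y : Y) (hy : f y = s p) :
    ∃ l : Spec (T.residueField p) ⟶ Y, l ≫ f = T.fromSpecResidueField p ≫ s := by
  have hz : ∀ z : ↥(Spec (T.residueField p)), (T.fromSpecResidueField p ≫ s) z = f y := by
    intro z
    rw [Scheme.Hom.comp_apply, Scheme.fromSpecResidueField_apply, hy]
  exact exists_lift_of_mono f (k := T.residueField p) (T.fromSpecResidueField p ≫ s) y
    ⟨closedPoint _, hz _⟩

set_option backward.isDefEq.respectTransparency false in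
theorem isCompact_preimage {X Y : Scheme.{u}} (f : Y ⟶ X) [Mono f] (hc : DenseLift f)
    {U : X.Opens} (hU : IsAffineOpen U) [IsNoetherianRing Γ(X, U)] :
    IsCompact ((f ⁻¹ᵁ U : Y.Opens) : Set Y) := by
  have hP : ∀ Z : Closeds ↥(Spec Γ(X, U)),
      IsCompact (f.base ⁻¹' (hU.fromSpec.base '' (Z : Set ↥(Spec Γ(X, U))))) := by
    intro Z
    apply wellFounded_lt.induction Z
    clear Z
    intro Z IH
    rcases eq_or_ne Z ⊥ with rfl | h₀
    · simp
    by_cases h₁ : IsPreirreducible (Z : Set ↥(Spec Γ(X, U)))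
    · have hirr : IsIrreducible (Z : Set ↥(Spec Γ(X, U))) := ⟨Closeds.coe_nonempty.2 h₀, h₁⟩
      let Zs : Set (PrimeSpectrum Γ(X, U)) := (Z : Set ↥(Spec Γ(X, U)))
      let p : Ideal Γ(X, U) := PrimeSpectrum.vanishingIdeal Zs
      have hp : p.IsPrime := PrimeSpectrum.isIrreducible_iff_vanishingIdeal_isPrime.mp hirr
      have hZ : PrimeSpectrum.zeroLocus (p : Set Γ(X, U)) = Zs := by
        rw [PrimeSpectrum.zeroLocus_vanishingIdeal_eq_closure]
        exact Z.isClosed.closure_eq
      let s₀ : Spec (CommRingCat.of (Γ(X, U) ⧸ p)) ⟶ Spec Γ(X, U) :=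
        Spec.map (CommRingCat.ofHom (Ideal.Quotient.mk p))
      have hs₀ : Topology.IsClosedEmbedding s₀.base :=
        PrimeSpectrum.isClosedEmbedding_comap_of_surjective _ _ Ideal.Quotient.mk_surjective
      have hrange : Set.range s₀.base = (Z : Set ↥(Spec Γ(X, U))) := by
        have : Set.range s₀.base = PrimeSpectrum.zeroLocus (RingHom.ker (Ideal.Quotient.mk p)) :=
          range_comap_of_surjective _ _ Ideal.Quotient.mk_surjective
        rw [this, Ideal.mk_ker, hZ]
      let s : Spec (CommRingCat.of (Γ(X, U) ⧸ p)) ⟶ X := s₀ ≫ hU.fromSpec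
      let D : Set ↥(Spec (CommRingCat.of (Γ(X, U) ⧸ p))) := s.base ⁻¹' (Set.range f.base)
      have hsub : ∀ C : Set ↥(Spec (CommRingCat.of (Γ(X, U) ⧸ p))),
          s₀.base '' C ⊆ (Z : Set ↥(Spec Γ(X, U))) := by
        intro C
        rw [← hrange]
        exact Set.image_subset_range _ _
      by_cases hD : Dense D
      · obtain ⟨V, ⟨v, hv⟩, l, hl⟩ := hc (Γ(X, U) ⧸ p) s D hD (by
          rintro q ⟨y, hy⟩
          exact exists_lift_residueField f s q y hy)
        let Z'' : Closeds ↥(Spec Γ(X, U)) :=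
          ⟨s₀.base '' (V : Set ↥(Spec (CommRingCat.of (Γ(X, U) ⧸ p))))ᶜ,
            hs₀.isClosedMap _ V.2.isClosed_compl⟩
        have hlt : Z'' < Z := by
          refine lt_of_le_of_ne (hsub _) ?_
          intro heq
          have h1 : s₀.base v ∈ (Z : Set ↥(Spec Γ(X, U))) := by
            rw [← hrange]; exact ⟨v, rfl⟩
          rw [← heq] at h1
          obtain ⟨v', hv', hvv'⟩ := h1
          rw [hs₀.injective hvv'] at hv'
          exact hv' hv
        have hVc : CompactSpace ↥(V : Scheme.{u}) :=
          isCompact_iff_compactSpace.mp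
            (NoetherianSpace.isCompact (V : Set ↥(Spec (CommRingCat.of (Γ(X, U) ⧸ p)))))
        have e : f.base ⁻¹' (hU.fromSpec.base '' (Z : Set ↥(Spec Γ(X, U)))) =
            f.base ⁻¹' (hU.fromSpec.base '' (Z'' : Set ↥(Spec Γ(X, U)))) ∪ Set.range l.base := by
          ext y
          constructor
          · rintro ⟨z, hz, hzy⟩
            rw [← hrange] at hz
            obtain ⟨a, rfl⟩ := hz
            by_cases ha : a ∈ V
            · right
              refine ⟨⟨a, ha⟩, ?_⟩
              apply f.injective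
              rw [← Scheme.Hom.comp_apply, hl]
              exact hzy
            · left
              exact ⟨s₀.base a, ⟨a, ha, rfl⟩, hzy⟩
          · rintro (⟨z, hz, hzy⟩ | ⟨a, rfl⟩)
            · exact ⟨z, hsub _ hz, hzy⟩
            · refine ⟨s₀.base a.1, ?_, ?_⟩
              · rw [← hrange]; exact ⟨a.1, rfl⟩
              · have := congrArg (fun φ => φ.base a) hl
                exact this.symm
        rw [e]
        exact (IH Z'' hlt).union (isCompact_range l.continuous)
      · let Z' : Closeds ↥(Spec Γ(X, U)) :=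
          ⟨s₀.base '' closure D, hs₀.isClosedMap _ isClosed_closure⟩
        have hlt : Z' < Z := by
          refine lt_of_le_of_ne (hsub _) ?_
          intro heq
          apply hD
          rw [dense_iff_closure_eq, Set.eq_univ_iff_forall]
          intro a
          have h1 : s₀.base a ∈ (Z : Set ↥(Spec Γ(X, U))) := by
            rw [← hrange]; exact ⟨a, rfl⟩
          rw [← heq] at h1
          obtain ⟨a', ha', haa'⟩ := h1
          rw [hs₀.injective haa'] at ha'
          exact ha'
        have e : f.base ⁻¹' (hU.fromSpec.base '' (Z : Set ↥(Spec Γ(X, U)))) =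
            f.base ⁻¹' (hU.fromSpec.base '' (Z' : Set ↥(Spec Γ(X, U)))) := by
          ext y
          constructor
          · rintro ⟨z, hz, hzy⟩
            rw [← hrange] at hz
            obtain ⟨a, rfl⟩ := hz
            exact ⟨s₀.base a, ⟨a, subset_closure ⟨y, hzy.symm⟩, rfl⟩, hzy⟩
          · rintro ⟨z, hz, hzy⟩
            exact ⟨z, hsub _ hz, hzy⟩
        rw [e]
        exact IH Z' hlt
    · simp only [isPreirreducible_iff_isClosed_union_isClosed, not_forall, not_or] at h₁
      obtain ⟨z₁, z₂, hz₁, hz₂, h, hz₁', hz₂'⟩ := h₁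
      lift z₁ to Closeds ↥(Spec Γ(X, U)) using hz₁
      lift z₂ to Closeds ↥(Spec Γ(X, U)) using hz₂
      have e : (Z : Set ↥(Spec Γ(X, U))) =
          ((Z ⊓ z₁ : Closeds ↥(Spec Γ(X, U))) : Set ↥(Spec Γ(X, U))) ∪
            ((Z ⊓ z₂ : Closeds ↥(Spec Γ(X, U))) : Set ↥(Spec Γ(X, U))) := by
        rw [Closeds.coe_inf, Closeds.coe_inf, ← Set.inter_union_distrib_left]
        exact (Set.inter_eq_left.mpr h).symm
      rw [e, Set.image_union, Set.preimage_union]
      exact (IH _ (inf_lt_left.2 hz₁')).union (IH _ (inf_lt_left.2 hz₂'))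
  have := hP ⊤
  rw [Closeds.coe_top, Set.image_univ, hU.range_fromSpec] at this
  exact this

theorem quasiCompact {X Y : Scheme.{u}} [IsLocallyNoetherian X] (f : Y ⟶ X) [Mono f]
    (hc : DenseLift f) : QuasiCompact f := by
  rw [quasiCompact_iff_forall_isAffineOpen]
  intro U hU
  have : IsNoetherianRing Γ(X, U) := IsLocallyNoetherian.component_noetherian ⟨U, hU⟩
  exact isCompact_preimage f hc hU

end Groth.Agent.Helper7.MonoQC
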