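import Mathlib
import Groth.Agent.Lib.Helper7.ReflSpec2
import Groth.Agent.Lib.Helper4.DomDVR3

set_option autoImplicit false
open CategoryTheory CategoryTheory.Limits AlgebraicGeometry Opposite TopologicalSpace
universe u

/-! helper7: over a locally Noetherian base, lifting along discrete valuation rings suffices for base changes of a monomorphism to reflect specializations. -/

namespace Groth.Agent.Helper7.ReflSpec

set_option backward.isDefEq.respectTransparency false in
theorem refl_of_dvr_lifts {X Y : Scheme.{u}} [IsLocallyNoetherian X] (f : Y ⟶ X) [Mono f]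
    (h : ∀ S : ValuativeCommSq f, IsDiscreteValuationRing S.R →
        (∃ l₀ : Spec (CommRingCat.of (IsLocalRing.ResidueField S.R)) ⟶ Y,
            l₀ ≫ f = Spec.map (CommRingCat.ofHom (IsLocalRing.residue S.R)) ≫ S.i₂) →
          S.commSq.HasLift)
    (X' : Scheme.{u}) (g : X' ⟶ X) : Refl f g := by
  apply main
  intro X' g _
  have : IsLocallyNoetherian X' := LocallyOfFiniteType.isLocallyNoetherian g
  intro y₀ y₁ hy
  by_cases hne : (pullback.snd f g) y₀ = (pullback.snd f g) y₁
  · have : y₀ = y₁ := (pullback.snd f g).injective hne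
    rw [this]
  · obtain ⟨A, a, hA, ha₀, ha₁⟩ := Groth.Agent.Lib.Helper4.DomDVR.S4450_main (𝟙 X')
      ((pullback.snd f g) y₁) ((pullback.snd f g) y₀) hy hne
    refine specializes_of_lifts f (fun R _ _ => IsDiscreteValuationRing R) h g y₀ y₁ A hA
      (X'.residueField ((pullback.snd f g) y₁)) a ha₀
      ⟨IsLocalRing.closedPoint _, ?_⟩
    have e : a (Spec.map (CommRingCat.ofHom A.subtype) (IsLocalRing.closedPoint _)) =
        (pullback.snd f g) y₁ := by
      rw [← Scheme.Hom.comp_apply, ha₁, Category.comp_id]
      exact Scheme.fromSpecResidueField_apply _ _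
    exact e

end Groth.Agent.Helper7.ReflSpec
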