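import Mathlib

set_option autoImplicit false
universe u
open TensorProduct

/-! helper7: ring epimorphisms out of a valuation ring: existence of a retraction given a chain of primes over the generic and closed points. -/

namespace Groth.Agent.Helper7.ValEpi

/-- an epimorphism from a valuation ring to a ring having a chain of two primes over the generic
and the closed point admits a retraction. -/
theorem exists_retraction {R B : Type u} [CommRing R] [IsDomain R] [ValuationRing R] [CommRing B]
    (φ : R →+* B)
    (hepi : ∀ (C : Type u) [CommRing C] (α β : B →+* C), α.comp φ = β.comp φ → α = β)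
    (q₀ q₁ : Ideal B) [q₀.IsPrime] [q₁.IsPrime] (hle : q₁ ≤ q₀)
    (h₀ : q₀.comap φ = IsLocalRing.maximalIdeal R) (h₁ : q₁.comap φ = ⊥) :
    ∃ ψ : B →+* R, ψ.comp φ = RingHom.id R := by
  let T := B ⧸ q₁
  let L := FractionRing T
  let K := FractionRing R
  let ι : B →+* L := (algebraMap T L).comp (Ideal.Quotient.mk q₁)
  have hι : ∀ b, ι b = 0 ↔ b ∈ q₁ := by
    intro b
    change algebraMap T L (Ideal.Quotient.mk q₁ b) = 0 ↔ _
    rw [map_eq_zero_iff _ (IsFractionRing.injective T L), Ideal.Quotient.eq_zero_iff_mem]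
  have hθ : Function.Injective (ι.comp φ) := by
    rw [injective_iff_map_eq_zero]
    intro r hr
    have : r ∈ q₁.comap φ := (hι _).mp hr
    rw [h₁] at this
    exact this
  let j : K →+* L := IsFractionRing.lift hθ
  have hj : ∀ r, j (algebraMap R K r) = ι (φ r) := fun r => IsFractionRing.lift_algebraMap hθ r
  let _ : Algebra K L := j.toAlgebra
  have step1 : ∀ b, ∃ c : K, j c = ι b := by
    let α : B →+* L ⊗[K] L :=
      (Algebra.TensorProduct.includeLeft (R := K) (S := K) (A := L) (B := L)).toRingHom.comp ι
    let β : B →+* L ⊗[K] L :=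
      (Algebra.TensorProduct.includeRight (R := K) (A := L) (B := L)).toRingHom.comp ι
    have hαβ : α = β := by
      apply hepi
      ext r
      change (ι (φ r)) ⊗ₜ[K] (1 : L) = (1 : L) ⊗ₜ[K] (ι (φ r))
      rw [← hj]
      have : j (algebraMap R K r) = (algebraMap R K r) • (1 : L) :=
        Algebra.algebraMap_eq_smul_one (A := L) (algebraMap R K r)
      rw [this, TensorProduct.smul_tmul]
    obtain ⟨l, hl⟩ := LinearMap.exists_leftInverse_of_injective (Algebra.linearMap K L) (by
      rw [LinearMap.ker_eq_bot]; exact (algebraMap K L).injective)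
    intro b
    have h : (ι b) ⊗ₜ[K] (1 : L) = (1 : L) ⊗ₜ[K] (ι b) := DFunLike.congr_fun hαβ b
    have h2 := congr(TensorProduct.lid K L (LinearMap.rTensor L l $h))
    simp only [LinearMap.rTensor_tmul, TensorProduct.lid_tmul] at h2
    have h1 : l 1 = 1 := by simpa using congr($hl 1)
    rw [h1, one_smul] at h2
    refine ⟨l (ι b), ?_⟩
    change algebraMap K L _ = _
    rw [Algebra.algebraMap_eq_smul_one]
    exact h2
  have step2 : ∀ b, ∃ r : R, ι (φ r) = ι b := by
    intro b
    obtain ⟨c, hc⟩ := step1 b
    rcases ValuationRing.isInteger_or_isInteger R c with ⟨r, hr⟩ | ⟨r, hr⟩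
    · exact ⟨r, by rw [← hj, hr, hc]⟩
    · by_cases hc0 : c = 0
      · refine ⟨0, ?_⟩
        rw [← hc, hc0, map_zero, map_zero, map_zero]
      · have hrc : algebraMap R K r * c = 1 := by rw [hr, inv_mul_cancel₀ hc0]
        by_cases hru : IsUnit r
        · obtain ⟨u, rfl⟩ := hru
          refine ⟨((u⁻¹ : Rˣ) : R), ?_⟩
          rw [← hj, ← hc]
          congr 1
          have h3 : algebraMap R K ((u⁻¹ : Rˣ) : R) * algebraMap R K (u : R) = 1 := by
            rw [← map_mul, Units.inv_mul, map_one]
          calc algebraMap R K ((u⁻¹ : Rˣ) : R)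
              = algebraMap R K ((u⁻¹ : Rˣ) : R) * (algebraMap R K (u : R) * c) := by
                rw [hrc, mul_one]
            _ = c := by rw [← mul_assoc, h3, one_mul]
        · exfalso
          have hrm : r ∈ IsLocalRing.maximalIdeal R := (IsLocalRing.mem_maximalIdeal r).mpr hru
          have hrq : φ r ∈ q₀ := by
            rw [← h₀] at hrm
            exact hrm
          have h4 : ι (φ r * b - 1) = 0 := by
            rw [map_sub, map_mul, ← hj, ← hc, map_one, ← map_mul, hrc, map_one, sub_self]
          have h3 : φ r * b - 1 ∈ q₀ := hle ((hι _).mp h4)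
          have h5 : (1 : B) ∈ q₀ := by
            have := q₀.sub_mem (q₀.mul_mem_right b hrq) h3
            simpa using this
          exact (Ideal.IsPrime.ne_top ‹q₀.IsPrime›) ((Ideal.eq_top_iff_one _).mpr h5)
  choose ψ hψ using step2
  refine ⟨{ toFun := ψ, map_one' := ?_, map_mul' := ?_, map_zero' := ?_, map_add' := ?_ }, ?_⟩
  · apply hθ
    change ι (φ (ψ 1)) = ι (φ 1)
    simp only [hψ, map_one]
  · intro x y
    apply hθ
    change ι (φ (ψ (x * y))) = ι (φ (ψ x * ψ y))
    simp only [hψ, map_mul]
  · apply hθ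
    change ι (φ (ψ 0)) = ι (φ 0)
    simp only [hψ, map_zero]
  · intro x y
    apply hθ
    change ι (φ (ψ (x + y))) = ι (φ (ψ x + ψ y))
    simp only [hψ, map_add]
  · ext r
    apply hθ
    change ι (φ (ψ (φ r))) = ι (φ r)
    rw [hψ]

end Groth.Agent.Helper7.ValEpi
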