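import Mathlib
import Groth.Agent.Lib.Helper7.ReflSpec2
import Groth.Agent.Lib.Helper7.ValEpi

set_option autoImplicit false
open CategoryTheory CategoryTheory.Limits AlgebraicGeometry Opposite TopologicalSpace
universe u

/-! helper7: for a monomorphism, base changes reflect specializations iff valuative squares with lifted closed point admit lifts. -/

namespace Groth.Agent.Helper7.ReflSpec

open IsLocalRing

set_option backward.isDefEq.respectTransparency false in
/-- valuative lifting (closed point already lifted) implies that all base changes of a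
monomorphism reflect specializations. -/
theorem refl_of_lifts {X Y : Scheme.{u}} (f : Y ⟶ X) [Mono f]
    (h : ∀ S : ValuativeCommSq f,
        (∃ l₀ : Spec (CommRingCat.of (IsLocalRing.ResidueField S.R)) ⟶ Y,
            l₀ ≫ f = Spec.map (CommRingCat.ofHom (IsLocalRing.residue S.R)) ≫ S.i₂) →
          S.commSq.HasLift)
    (X' : Scheme.{u}) (g : X' ⟶ X) : Refl f g := by
  intro y₀ y₁ hy
  let ρ : X'.presheaf.stalk ((pullback.snd f g) y₀) ⟶ X'.residueField ((pullback.snd f g) y₁) :=
    X'.presheaf.stalkSpecializes hy ≫ X'.residue ((pullback.snd f g) y₁)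
  obtain ⟨A, hA, hA_local⟩ := exists_factor_valuationRing ρ.hom
  let ρA : X'.presheaf.stalk ((pullback.snd f g) y₀) ⟶ .of A :=
    CommRingCat.ofHom (ρ.hom.codRestrict _ hA)
  let a : Spec (.of A) ⟶ X' := Spec.map ρA ≫ X'.fromSpecStalk ((pullback.snd f g) y₀)
  have w : Spec.map (CommRingCat.ofHom (algebraMap A (X'.residueField ((pullback.snd f g) y₁)))) ≫
      a = X'.fromSpecResidueField ((pullback.snd f g) y₁) := by
    rw [Scheme.fromSpecResidueField, ← Scheme.SpecMap_stalkSpecializes_fromSpecStalk hy]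
    simp_rw [a, ← Spec.map_comp_assoc]
    rfl
  have ha₀ : a (closedPoint A) = (pullback.snd f g) y₀ := by
    simp only [a, Scheme.Hom.comp_base, TopCat.coe_comp, Function.comp_apply]
    have : Spec.map ρA (closedPoint A) = closedPoint (X'.presheaf.stalk ((pullback.snd f g) y₀)) :=
      comap_closedPoint (S := A) (ρ.hom.codRestrict A.toSubring hA)
    rw [this, X'.fromSpecStalk_closedPoint]
  exact specializes_of_lifts f (fun _ _ _ => True) (fun S _ hl => h S hl) g y₀ y₁ A trivial
    (X'.residueField ((pullback.snd f g) y₁)) a ha₀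
    ⟨closedPoint _, by
      rw [← Scheme.Hom.comp_apply, w]
      exact Scheme.fromSpecResidueField_apply _ _⟩

set_option backward.isDefEq.respectTransparency false in
/-- if all base changes of a monomorphism reflect specializations, valuative squares whose closed
point lifts admit a lift. -/
theorem hasLift_of_refl {X Y : Scheme.{u}} (f : Y ⟶ X) [Mono f]
    (h : ∀ (X' : Scheme.{u}) (g : X' ⟶ X), Refl f g) (S : ValuativeCommSq f)
    (hl : ∃ l₀ : Spec (CommRingCat.of (IsLocalRing.ResidueField S.R)) ⟶ Y,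
      l₀ ≫ f = Spec.map (CommRingCat.ofHom (IsLocalRing.residue S.R)) ≫ S.i₂) :
    S.commSq.HasLift := by
  obtain ⟨l₀, hl₀⟩ := hl
  let q := pullback.snd f S.i₂
  let τ₁ : Spec (.of S.K) ⟶ pullback f S.i₂ :=
    pullback.lift S.i₁ (Spec.map (CommRingCat.ofHom (algebraMap S.R S.K))) S.commSq.w
  let τ₀ : Spec (.of (ResidueField S.R)) ⟶ pullback f S.i₂ :=
    pullback.lift l₀ (Spec.map (CommRingCat.ofHom (residue S.R))) hl₀
  have hτ₁ : τ₁ ≫ q = Spec.map (CommRingCat.ofHom (algebraMap S.R S.K)) := pullback.lift_snd _ _ _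
  have hτ₀ : τ₀ ≫ q = Spec.map (CommRingCat.ofHom (residue S.R)) := pullback.lift_snd _ _ _
  let y₁ := τ₁ (closedPoint S.K)
  let y₀ := τ₀ (closedPoint (ResidueField S.R))
  have hy₀ : q y₀ = closedPoint S.R := by
    change q (τ₀ _) = _
    rw [← Scheme.Hom.comp_apply, hτ₀]
    exact IsLocalRing.PrimeSpectrum.comap_residue S.R _
  have hy₁ : q y₁ = Spec.map (CommRingCat.ofHom (algebraMap S.R S.K)) (closedPoint S.K) := by
    change q (τ₁ _) = _
    rw [← Scheme.Hom.comp_apply, hτ₁]
  have hy : y₁ ⤳ y₀ := h _ S.i₂ y₀ y₁ (by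
    change q y₁ ⤳ q y₀
    rw [hy₀]
    exact specializes_closedPoint _)
  obtain ⟨_, ⟨W, hW, rfl⟩, hy₀W, -⟩ := (pullback f S.i₂).isBasis_affineOpens.exists_subset_of_mem_open
    (Set.mem_univ y₀) isOpen_univ
  have hy₁W : y₁ ∈ W := hy.mem_open W.2 hy₀W
  let φ : CommRingCat.of S.R ⟶ Γ(pullback f S.i₂, W) := Spec.preimage (hW.fromSpec ≫ q)
  have hφ : Spec.map φ = hW.fromSpec ≫ q := Spec.map_preimage _
  have hmono : Mono (Spec.map φ) := by rw [hφ]; infer_instance
  have hepi : ∀ (C : Type u) [CommRing C] (α β : Γ(pullback f S.i₂, W) →+* C),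
      α.comp φ.hom = β.comp φ.hom → α = β := by
    intro C _ α β hαβ
    have h1 : φ ≫ CommRingCat.ofHom α = φ ≫ CommRingCat.ofHom β := by
      ext x
      exact DFunLike.congr_fun hαβ x
    have h2 : Spec.map (CommRingCat.ofHom α) = Spec.map (CommRingCat.ofHom β) := by
      rw [← cancel_mono (Spec.map φ), ← Spec.map_comp, ← Spec.map_comp, h1]
    have h3 := Spec.map_injective h2
    exact congrArg CommRingCat.Hom.hom h3
  obtain ⟨w₀, hw₀⟩ : ∃ w₀ : Spec Γ(pullback f S.i₂, W), hW.fromSpec w₀ = y₀ := by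
    have : y₀ ∈ Set.range hW.fromSpec := by rw [hW.range_fromSpec]; exact hy₀W
    exact this
  obtain ⟨w₁, hw₁⟩ : ∃ w₁ : Spec Γ(pullback f S.i₂, W), hW.fromSpec w₁ = y₁ := by
    have : y₁ ∈ Set.range hW.fromSpec := by rw [hW.range_fromSpec]; exact hy₁W
    exact this
  have hw : w₁ ⤳ w₀ := by
    rw [← hW.fromSpec.isOpenEmbedding.isInducing.specializes_iff, hw₀, hw₁]
    exact hy
  have hle : w₁.asIdeal ≤ w₀.asIdeal := (PrimeSpectrum.le_iff_specializes w₁ w₀).mpr hw
  have h₀ : w₀.asIdeal.comap φ.hom = maximalIdeal S.R := by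
    have : Spec.map φ w₀ = closedPoint S.R := by
      rw [hφ, Scheme.Hom.comp_apply, hw₀, hy₀]
    exact congrArg PrimeSpectrum.asIdeal this
  have h₁ : w₁.asIdeal.comap φ.hom = ⊥ := by
    have : Spec.map φ w₁ = Spec.map (CommRingCat.ofHom (algebraMap S.R S.K)) (closedPoint S.K) := by
      rw [hφ, Scheme.Hom.comp_apply, hw₁, hy₁]
    have h2 := congrArg PrimeSpectrum.asIdeal this
    change w₁.asIdeal.comap φ.hom = (maximalIdeal S.K).comap (algebraMap S.R S.K) at h2
    rw [h2, IsLocalRing.maximalIdeal_eq_bot, ← RingHom.ker_eq_comap_bot,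
      (RingHom.injective_iff_ker_eq_bot _).mp (IsFractionRing.injective S.R S.K)]
  obtain ⟨ψ, hψ⟩ := ValEpi.exists_retraction φ.hom hepi w₀.asIdeal w₁.asIdeal hle h₀ h₁
  let s : Spec (.of S.R) ⟶ pullback f S.i₂ := Spec.map (CommRingCat.ofHom ψ) ≫ hW.fromSpec
  have hs : s ≫ q = 𝟙 _ := by
    change (Spec.map (CommRingCat.ofHom ψ) ≫ hW.fromSpec) ≫ q = _
    rw [Category.assoc, ← hφ, ← Spec.map_comp]
    have : φ ≫ CommRingCat.ofHom ψ = 𝟙 _ := by
      ext x
      exact DFunLike.congr_fun hψ x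
    rw [this, Spec.map_id]
  have hs₁ : Spec.map (CommRingCat.ofHom (algebraMap S.R S.K)) ≫ s = τ₁ := by
    rw [← cancel_mono q, Category.assoc, hs, Category.comp_id, hτ₁]
  refine CommSq.HasLift.mk' ⟨s ≫ pullback.fst f S.i₂, ?_, ?_⟩
  · rw [← Category.assoc, hs₁]
    exact pullback.lift_fst _ _ _
  · rw [Category.assoc, pullback.condition, ← Category.assoc]
    change (s ≫ q) ≫ S.i₂ = _
    rw [hs, Category.id_comp]

end Groth.Agent.Helper7.ReflSpec
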