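import Mathlib
import Groth.Agent.Lib.Helper7.ReflSpec3
import Groth.Agent.Lib.Helper7.ReflSpec4
import Groth.Agent.Lib.Helper7.MonoQC

set_option autoImplicit false
open CategoryTheory CategoryTheory.Limits AlgebraicGeometry Opposite TopologicalSpace
universe u

/-! helper7: a monomorphism locally of finite presentation to a locally Noetherian scheme with the DVR-lifting and dense-lifting properties is an immersion (via the relative normalization). -/

namespace Groth.Agent.Helper7.MonoImm

open Groth.Agent.Helper7.ReflSpec Groth.Agent.Helper7.MonoQC IsLocalRing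

set_option backward.isDefEq.respectTransparency false in
/-- points of the closure of the image of a quasi-compact morphism are specializations of points
of the image. -/
theorem exists_specializes_of_mem_closure_range {Z X' : Scheme.{u}} (f : Z ⟶ X') [QuasiCompact f]
    (t : X') (ht : t ∈ closure (Set.range f.base)) : ∃ z : Z, f z ⤳ t := by
  obtain ⟨_, ⟨W, hW, rfl⟩, htW, -⟩ := X'.isBasis_affineOpens.exists_subset_of_mem_open
    (Set.mem_univ t) isOpen_univ
  have hc : CompactSpace ↥((f ⁻¹ᵁ W : Z.Opens) : Scheme.{u}) := isCompact_iff_compactSpace.mp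
    (QuasiCompact.isCompact_preimage (f := f) _ W.2 hW.isCompact)
  obtain ⟨R, g, hg⟩ := (compactSpace_iff_exists (X := ((f ⁻¹ᵁ W : Z.Opens) : Scheme.{u}))).mp hc
  let φ : Spec R ⟶ X' := g ≫ (f ⁻¹ᵁ W).ι ≫ f
  have hφ : ∀ r, φ r = f ((f ⁻¹ᵁ W).ι (g r)) := fun r => rfl
  have hφW : Set.range φ.base ⊆ Set.range hW.fromSpec.base := by
    rw [hW.range_fromSpec]
    rintro _ ⟨r, rfl⟩
    exact (g r).2
  let lift : Spec R ⟶ Spec Γ(X', W) := IsOpenImmersion.lift hW.fromSpec φ hφW
  have hlift : lift ≫ hW.fromSpec = φ := IsOpenImmersion.lift_fac _ _ _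
  let ψ := Spec.preimage lift
  have hψ : Spec.map ψ = lift := Spec.map_preimage _
  obtain ⟨t', ht'⟩ : ∃ t', hW.fromSpec t' = t := by
    have : t ∈ Set.range hW.fromSpec := by rw [hW.range_fromSpec]; exact htW
    exact this
  have h1 : t' ∈ closure (Set.range lift.base) := by
    rw [mem_closure_iff]
    intro o ho hto
    have ho' : IsOpen (hW.fromSpec.base '' o) := hW.fromSpec.isOpenEmbedding.isOpenMap o ho
    obtain ⟨x, ⟨o', ho'o, ho'z⟩, ⟨z, rfl⟩⟩ := mem_closure_iff.mp ht _ ho' ⟨t', hto, ht'⟩
    have hzW : z ∈ f ⁻¹ᵁ W := by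
      change f z ∈ (W : Set X')
      rw [← hW.range_fromSpec]
      exact ⟨o', ho'z⟩
    obtain ⟨r, hr⟩ := hg ⟨z, hzW⟩
    refine ⟨lift r, ?_, ⟨r, rfl⟩⟩
    have : lift r = o' := hW.fromSpec.isOpenEmbedding.injective (by
      rw [← Scheme.Hom.comp_apply, hlift, hφ, hr]
      exact ho'z.symm)
    rw [this]
    exact ho'o
  have h2 : RingHom.ker ψ.hom ≤ t'.asIdeal := by
    have : t' ∈ closure (Set.range (PrimeSpectrum.comap ψ.hom)) := by
      rw [← hψ] at h1
      exact h1
    rw [PrimeSpectrum.closure_range_comap] at this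
    exact this
  obtain ⟨Q, -, hQ, hQle⟩ := Ideal.exists_ideal_comap_le_prime (f := ψ.hom) t'.asIdeal
    (⊥ : Ideal R) (by rwa [← RingHom.ker_eq_comap_bot])
  let r : Spec R := ⟨Q, hQ⟩
  refine ⟨(f ⁻¹ᵁ W).ι (g r), ?_⟩
  have h3 : lift r ⤳ t' := by
    rw [← hψ]
    exact (PrimeSpectrum.le_iff_specializes _ _).mp hQle
  have h4 := h3.map hW.fromSpec.continuous
  rw [ht', ← Scheme.Hom.comp_apply, hlift] at h4
  exact h4

set_option backward.isDefEq.respectTransparency false in
/-- a point of the relative normalization lying over the image of `f` already lies in the image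
of the source, provided the base changes of the monomorphism `f` reflect specializations. -/
theorem mem_range_toNormalization {X Y : Scheme.{u}} (f : Y ⟶ X) [Mono f] [QuasiCompact f]
    (hrefl : ∀ (X' : Scheme.{u}) (g : X' ⟶ X), Refl f g)
    (t : f.normalization) (y : Y) (hy : f y = f.fromNormalization t) :
    t ∈ Set.range f.toNormalization.base := by
  have hjν : f.toNormalization ≫ f.fromNormalization = f := f.toNormalization_fromNormalization
  have hmonoj : Mono f.toNormalization := by
    have : Mono (f.toNormalization ≫ f.fromNormalization) := by rw [hjν]; infer_instance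
    exact mono_of_mono f.toNormalization f.fromNormalization
  obtain ⟨y₁, hy₁⟩ := exists_specializes_of_mem_closure_range f.toNormalization t (by
    rw [f.toNormalization.denseRange.closure_range]; trivial)
  let ρ : f.normalization.presheaf.stalk t ⟶ f.normalization.residueField (f.toNormalization y₁) :=
    f.normalization.presheaf.stalkSpecializes hy₁ ≫
      f.normalization.residue (f.toNormalization y₁)
  obtain ⟨A, hA, hA_local⟩ := exists_factor_valuationRing ρ.hom
  let ρA : f.normalization.presheaf.stalk t ⟶ .of A := CommRingCat.ofHom (ρ.hom.codRestrict _ hA)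
  let a : Spec (.of A) ⟶ f.normalization := Spec.map ρA ≫ f.normalization.fromSpecStalk t
  have w : Spec.map (CommRingCat.ofHom
      (algebraMap A (f.normalization.residueField (f.toNormalization y₁)))) ≫ a =
      f.normalization.fromSpecResidueField (f.toNormalization y₁) := by
    rw [Scheme.fromSpecResidueField, ← Scheme.SpecMap_stalkSpecializes_fromSpecStalk hy₁]
    simp_rw [a, ← Spec.map_comp_assoc]
    rfl
  have ha₀ : a (closedPoint A) = t := by
    simp only [a, Scheme.Hom.comp_base, TopCat.coe_comp, Function.comp_apply]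
    have : Spec.map ρA (closedPoint A) = closedPoint (f.normalization.presheaf.stalk t) :=
      comap_closedPoint (S := A) (ρ.hom.codRestrict A.toSubring hA)
    rw [this, f.normalization.fromSpecStalk_closedPoint]
  obtain ⟨σ, hσ⟩ := exists_lift_residueField f.toNormalization (𝟙 _) (f.toNormalization y₁) y₁ rfl
  rw [Category.comp_id] at hσ
  obtain ⟨l₀, hl₀⟩ := exists_lift_of_mono f
    (Spec.map (CommRingCat.ofHom (residue A)) ≫ a ≫ f.fromNormalization) y
    ⟨closedPoint (ResidueField A), by
      rw [Scheme.Hom.comp_apply, Scheme.Hom.comp_apply]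
      have : Spec.map (CommRingCat.ofHom (residue A)) (closedPoint (ResidueField A)) =
          closedPoint A := IsLocalRing.PrimeSpectrum.comap_residue A _
      rw [this, ha₀, hy]⟩
  let S : ValuativeCommSq f :=
    { R := A, K := f.normalization.residueField (f.toNormalization y₁), i₁ := σ,
      i₂ := a ≫ f.fromNormalization,
      commSq := ⟨by
        have e : σ ≫ f = σ ≫ (f.toNormalization ≫ f.fromNormalization) := by rw [hjν]
        rw [e, ← Category.assoc, hσ, ← w, Category.assoc]⟩ }
  obtain ⟨ℓ, hℓ₁, hℓ₂⟩ := (hasLift_of_refl f hrefl S ⟨l₀, hl₀⟩).exists_lift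
  let S' : ValuativeCommSq f.fromNormalization :=
    { R := A, K := f.normalization.residueField (f.toNormalization y₁),
      i₁ := σ ≫ f.toNormalization, i₂ := a ≫ f.fromNormalization,
      commSq := ⟨by rw [hσ, ← w, Category.assoc]⟩ }
  have huniq := IsSeparated.valuativeCriterion f.fromNormalization S'
  let L1 : S'.commSq.LiftStruct := ⟨a, w.trans hσ.symm, rfl⟩
  let L2 : S'.commSq.LiftStruct := ⟨ℓ ≫ f.toNormalization, by
      rw [← Category.assoc]
      exact congrArg (· ≫ f.toNormalization) hℓ₁,
    by
      rw [Category.assoc, hjν]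
      exact hℓ₂⟩
  have hal : a = ℓ ≫ f.toNormalization := congrArg CommSq.LiftStruct.l (Subsingleton.elim L1 L2)
  exact ⟨ℓ (closedPoint A), by rw [← Scheme.Hom.comp_apply, ← hal, ha₀]⟩

set_option backward.isDefEq.respectTransparency false in
theorem isImmersion {X Y : Scheme.{u}} [IsLocallyNoetherian X] (f : Y ⟶ X)
    [LocallyOfFinitePresentation f] [Mono f]
    (hb : ∀ S : ValuativeCommSq f, IsDiscreteValuationRing S.R →
        (∃ l₀ : Spec (CommRingCat.of (IsLocalRing.ResidueField S.R)) ⟶ Y,
            l₀ ≫ f = Spec.map (CommRingCat.ofHom (IsLocalRing.residue S.R)) ≫ S.i₂) →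
          S.commSq.HasLift)
    (hc : DenseLift f) : IsImmersion f := by
  have hqc : QuasiCompact f := MonoQC.quasiCompact f hc
  have hrefl : ∀ (X' : Scheme.{u}) (g : X' ⟶ X), Refl f g :=
    fun X' g => refl_of_dvr_lifts f hb X' g
  have hjν : f.toNormalization ≫ f.fromNormalization = f := f.toNormalization_fromNormalization
  have hjo : IsOpenImmersion f.toNormalization := inferInstance
  let T : Set f.normalization := (Set.range f.toNormalization.base)ᶜ
  have hT : IsClosed T := f.toNormalization.isOpenEmbedding.isOpen_range.isClosed_compl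
  have hνT : IsClosed (f.fromNormalization.base '' T) := f.fromNormalization.isClosedMap _ hT
  let V : X.Opens := ⟨(f.fromNormalization.base '' T)ᶜ, hνT.isOpen_compl⟩
  have hfV : Set.range f.base ⊆ (V : Set X) := by
    rintro _ ⟨y, rfl⟩ ⟨t, htT, hty⟩
    exact htT (mem_range_toNormalization f hrefl t y hty.symm)
  have hpre : ((f.fromNormalization ⁻¹ᵁ V : f.normalization.Opens) : Set f.normalization) =
      Set.range f.toNormalization.base := by
    ext t
    constructor
    · intro ht
      by_contra hn
      exact ht ⟨t, hn, rfl⟩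
    · rintro ⟨y, rfl⟩
      apply hfV
      refine ⟨y, ?_⟩
      rw [← Scheme.Hom.comp_apply, hjν]
  let f' : Y ⟶ V := IsOpenImmersion.lift V.ι f (by rw [Scheme.Opens.range_ι]; exact hfV)
  have hf' : f' ≫ V.ι = f := IsOpenImmersion.lift_fac _ _ _
  let e : Y ≅ ↑(f.fromNormalization ⁻¹ᵁ V) :=
    IsOpenImmersion.isoOfRangeEq f.toNormalization (f.fromNormalization ⁻¹ᵁ V).ι (by
      rw [Scheme.Opens.range_ι]; exact hpre.symm)
  have he : e.hom ≫ (f.fromNormalization ⁻¹ᵁ V).ι = f.toNormalization :=
    IsOpenImmersion.isoOfRangeEq_hom_fac _ _ _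
  have hf'e : f' = e.hom ≫ (f.fromNormalization ∣_ V) := by
    rw [← cancel_mono V.ι, hf', Category.assoc, morphismRestrict_ι, ← Category.assoc, he, hjν]
  have hint : IsIntegralHom f' := by
    rw [hf'e]
    infer_instance
  have hlft : LocallyOfFiniteType f' := by
    have : LocallyOfFiniteType (f' ≫ V.ι) := by rw [hf']; infer_instance
    exact locallyOfFiniteType_of_comp f' V.ι
  have hfin : IsFinite f' := (IsFinite.iff_isIntegralHom_and_locallyOfFiniteType _).mpr ⟨hint, hlft⟩
  have hmono : Mono f' := by
    have : Mono (f' ≫ V.ι) := by rw [hf']; infer_instance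
    exact mono_of_mono f' V.ι
  have hci : IsClosedImmersion f' := (IsClosedImmersion.iff_isFinite_and_mono _).mpr ⟨hfin, hmono⟩
  rw [← hf']
  infer_instance

end Groth.Agent.Helper7.MonoImm
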