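import Mathlib
import Groth.Agent.Lib.Helper7.MonoImm

set_option autoImplicit false
open CategoryTheory CategoryTheory.Limits AlgebraicGeometry Opposite TopologicalSpace
universe u

/-! helper7: miscellaneous facts on morphisms: closed immersions from injectivity on geometric points; generic points of the relative normalization. -/

namespace Groth.Agent.Helper7.MorMisc

set_option backward.isDefEq.respectTransparency false in
theorem isClosedImmersion_of_injective_on_algClosed_points {X Y : Scheme.{u}} (f : X ⟶ Y)
    [IsProper f] [FormallyUnramified f]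
    (hinj : ∀ (Ω : Type u) [Field Ω] [IsAlgClosed Ω],
      Function.Injective (fun g : Spec (CommRingCat.of Ω) ⟶ X => g ≫ f)) :
    IsClosedImmersion f := by
  have hsurj : Surjective (pullback.diagonal f) := by
    rw [surjective_iff]
    intro z
    let Ω := AlgebraicClosure ((pullback f f).residueField z)
    let φ : Spec (CommRingCat.of Ω) ⟶ pullback f f :=
      Spec.map (CommRingCat.ofHom (algebraMap ((pullback f f).residueField z) Ω)) ≫
        (pullback f f).fromSpecResidueField z
    have hφ₁ : φ ≫ pullback.fst f f = φ ≫ pullback.snd f f :=
      hinj Ω (by simp [pullback.condition])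
    have hφ₂ : φ = (φ ≫ pullback.fst f f) ≫ pullback.diagonal f := by
      apply pullback.hom_ext
      · simp
      · simp [hφ₁]
    refine ⟨(φ ≫ pullback.fst f f) (IsLocalRing.closedPoint Ω), ?_⟩
    rw [← Scheme.Hom.comp_apply, ← hφ₂, Scheme.Hom.comp_apply]
    exact Scheme.fromSpecResidueField_apply _ _
  have hopen : IsOpenImmersion (pullback.diagonal f) := inferInstance
  have hiso : IsIso (pullback.diagonal f) :=
    (isIso_iff_isOpenImmersion_and_surjective _).mpr ⟨hopen, hsurj⟩
  have hmono : Mono f := (pullback.isIso_diagonal_iff f).mp hiso
  exact (IsClosedImmersion.iff_isProper_and_mono f).mpr ⟨inferInstance, hmono⟩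

set_option backward.isDefEq.respectTransparency false in
theorem exists_generic_point_mapsTo {X Y : Scheme.{u}} (f : Y ⟶ X)
    [QuasiCompact f] [QuasiSeparated f] (x' : ↥f.normalization)
    (hx' : closure {x'} ∈ irreducibleComponents ↥f.normalization) :
    ∃ y : Y, closure {y} ∈ irreducibleComponents ↥Y ∧ f.toNormalization.base y = x' := by
  have hmax : ∀ t : ↥f.normalization, t ⤳ x' → t = x' := by
    intro t ht
    have h1 : closure {x'} ≤ closure {t} := specializes_iff_closure_subset.mp ht
    have h2 : closure {t} ≤ closure {x'} := hx'.2 isIrreducible_singleton.closure h1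
    have : t ⤳ x' ∧ x' ⤳ t := ⟨ht, specializes_iff_closure_subset.mpr h2⟩
    exact (this.1.antisymm this.2).eq
  obtain ⟨y₀, hy₀⟩ := MonoImm.exists_specializes_of_mem_closure_range f.toNormalization x' (by
    rw [f.toNormalization.denseRange.closure_range]; trivial)
  have hy₀' : f.toNormalization y₀ = x' := hmax _ hy₀
  -- generic point of the component of y₀
  have hcomp := irreducibleComponent_mem_irreducibleComponents y₀
  have hirr : IsIrreducible (irreducibleComponent y₀) := isIrreducible_irreducibleComponent
  have hcl : IsClosed (irreducibleComponent y₀) := isClosed_irreducibleComponent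
  obtain ⟨y, hy⟩ := QuasiSober.sober hirr hcl
  refine ⟨y, ?_, ?_⟩
  · rw [hy.def]; exact hcomp
  · apply hmax
    rw [← hy₀']
    have : y ⤳ y₀ := hy.specializes mem_irreducibleComponent
    exact this.map f.toNormalization.continuous

end Groth.Agent.Helper7.MorMisc
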