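import Mathlib

set_option autoImplicit false
universe u
open CategoryTheory CategoryTheory.Limits AlgebraicGeometry

/-! helper7: fibre products with finite coproducts of schemes; relative morphisms out of a coproduct (S17084). -/

namespace Groth.Agent.Helper7.MorSCoprod

/-- The comparison map on fibre products. -/
noncomputable abbrev cmp {S : Scheme.{u}} {ι : Type u} (X : ι → Scheme.{u}) (g : ∀ i, X i ⟶ S)
    {T : Scheme.{u}} (t : T ⟶ S) (i : ι) :
    pullback t (g i) ⟶ pullback t (Sigma.desc g) :=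
  pullback.map t (g i) t (Sigma.desc g) (𝟙 T) (Sigma.ι X i) (𝟙 S)
    ((Category.comp_id _).trans (Category.id_comp _).symm)
    ((Category.comp_id _).trans (Sigma.ι_desc g i).symm)

set_option backward.isDefEq.respectTransparency false in
theorem isPullback_cmp {S : Scheme.{u}} {ι : Type u} (X : ι → Scheme.{u}) (g : ∀ i, X i ⟶ S)
    {T : Scheme.{u}} (t : T ⟶ S) (i : ι) :
    IsPullback (cmp X g t i) (pullback.snd t (g i)) (pullback.snd t (Sigma.desc g))
      (Sigma.ι X i) := by
  have h1 : IsPullback (pullback.fst t (Sigma.desc g)) (pullback.snd t (Sigma.desc g)) t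
      (Sigma.desc g) := IsPullback.of_hasPullback _ _
  have h2 : IsPullback (pullback.fst t (g i)) (pullback.snd t (g i)) t (g i) :=
    IsPullback.of_hasPullback _ _
  have h3 : IsPullback (cmp X g t i ≫ pullback.fst t (Sigma.desc g)) (pullback.snd t (g i)) t
      (Sigma.ι X i ≫ Sigma.desc g) := by
    have e1 : cmp X g t i ≫ pullback.fst t (Sigma.desc g) = pullback.fst t (g i) := by
      simp [cmp]
    rw [e1, Sigma.ι_desc]
    exact h2
  exact IsPullback.of_right h3 (by simp [cmp]) h1

set_option backward.isDefEq.respectTransparency false in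
/-- The fibre product with a finite coproduct is the coproduct of fibre products. -/
theorem nonempty_isColimit {S : Scheme.{u}} {ι : Type u} [Finite ι] (X : ι → Scheme.{u})
    (g : ∀ i, X i ⟶ S) {T : Scheme.{u}} (t : T ⟶ S) :
    Nonempty (IsColimit (Cofan.mk (pullback t (Sigma.desc g)) (cmp X g t))) := by
  have hc : IsColimit (Cofan.mk (∐ X) (Sigma.ι X)) := coproductIsCoproduct X
  have hvk := (FinitaryExtensive.isVanKampen_finiteCoproducts hc).isUniversal
  refine hvk (Cofan.mk (pullback t (Sigma.desc g)) (cmp X g t))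
    (Discrete.natTrans fun i => pullback.snd t (g i.as)) (pullback.snd t (Sigma.desc g)) ?_
    (.of_discrete _) ?_
  · ext ⟨i⟩
    simp [cmp]
  · rintro ⟨i⟩
    exact isPullback_cmp X g t i

set_option backward.isDefEq.respectTransparency false in
theorem existsUnique {S Y : Scheme.{u}} {ι : Type u} [Finite ι] (X : ι → Scheme.{u})
    (g : ∀ i, X i ⟶ S) (gY : Y ⟶ S) {T : Scheme.{u}} (t : T ⟶ S)
    (a : ∀ i, pullback t (g i) ⟶ Y) (ha : ∀ i, a i ≫ gY = pullback.snd t (g i) ≫ g i) :
    ∃! b : pullback t (Sigma.desc g) ⟶ Y,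
      b ≫ gY = pullback.snd t (Sigma.desc g) ≫ Sigma.desc g ∧ ∀ i, cmp X g t i ≫ b = a i := by
  obtain ⟨hc⟩ := nonempty_isColimit X g t
  have hfac : ∀ i, cmp X g t i ≫ Cofan.IsColimit.desc hc a = a i :=
    fun i => Cofan.IsColimit.fac hc a i
  refine ⟨Cofan.IsColimit.desc hc a, ⟨?_, hfac⟩, ?_⟩
  · refine Cofan.IsColimit.hom_ext hc _ _ fun i => ?_
    change cmp X g t i ≫ _ = cmp X g t i ≫ _
    rw [← Category.assoc, hfac, ha]
    simp [cmp]
  · rintro b ⟨-, hb⟩
    refine Cofan.IsColimit.hom_ext hc _ _ fun i => ?_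
    change cmp X g t i ≫ _ = cmp X g t i ≫ _
    rw [hb, hfac]

end Groth.Agent.Helper7.MorSCoprod
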