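import Mathlib
import Groth.Prelude.Def_EGA43
import Groth.Agent.Lib.Helper7.CohStalk.AssOpen

/-! helper7: openness at a point versus lifting of generizations -/

set_option autoImplicit false
open CategoryTheory AlgebraicGeometry
universe u

namespace Groth.Agent.Helper7.OpenAt

theorem exists_prime_le_comap_eq {A B : Type*} [CommRing A] [CommRing B] (φ : A →+* B)
    (p : Ideal B) [p.IsPrime] (q : Ideal A) [q.IsPrime]
    (h : ∀ b ∉ p, ∃ Q : Ideal B, Q.IsPrime ∧ b ∉ Q ∧ Q.comap φ = q) :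
    ∃ Q : Ideal B, Q.IsPrime ∧ Q ≤ p ∧ Q.comap φ = q := by
  classical
  let S : Submonoid B := (q.primeCompl.map φ) ⊔ p.primeCompl
  have hdisj : Disjoint ((q.map φ : Ideal B) : Set B) (S : Set B) := by
    rw [Set.disjoint_left]
    intro z hz hzS
    obtain ⟨s1, hs1, b, hb, rfl⟩ := Submonoid.mem_sup.mp hzS
    obtain ⟨a, ha, rfl⟩ := hs1
    obtain ⟨Q, hQ, hbQ, hQq⟩ := h b hb
    have h1 : q.map φ ≤ Q := by
      rw [Ideal.map_le_iff_le_comap, hQq]
    have h2 : φ a * b ∈ Q := h1 hz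
    rcases hQ.mem_or_mem h2 with h3 | h3
    · have : a ∈ Q.comap φ := h3
      rw [hQq] at this
      exact ha this
    · exact hbQ h3
  obtain ⟨Q, hQ, hle, hQS⟩ := Ideal.exists_le_prime_disjoint (q.map φ) S hdisj
  refine ⟨Q, hQ, ?_, ?_⟩
  · intro b hb
    by_contra hbp
    have : b ∈ S := Submonoid.mem_sup_right hbp
    exact Set.disjoint_left.mp hQS hb this
  · apply le_antisymm
    · intro a ha
      by_contra haq
      have : φ a ∈ S := Submonoid.mem_sup_left ⟨a, haq, rfl⟩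
      exact Set.disjoint_left.mp hQS ha this
    · rw [← Ideal.map_le_iff_le_comap]
      exact hle

theorem mem_nhds_of_isConstructible {R : Type u} [CommRing R] {E : Set (PrimeSpectrum R)}
    (hE : Topology.IsConstructible E) (p : PrimeSpectrum R)
    (h : ∀ q : PrimeSpectrum R, q ⤳ p → q ∈ E) : E ∈ nhds p := by
  classical
  obtain ⟨S, _, f, hf⟩ := PrimeSpectrum.exists_range_eq_of_isConstructible hE.compl
  have key : ∃ s : R, s ∉ p.asIdeal ∧ f s = 0 := by
    by_contra hcon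
    let T : Submonoid S := p.asIdeal.primeCompl.map f
    have hdisj : Disjoint (((⊥ : Ideal S) : Ideal S) : Set S) (T : Set S) := by
      rw [Set.disjoint_left]
      intro z hz hzT
      obtain ⟨s, hs, rfl⟩ := hzT
      have hz' : f s = 0 := by simpa using hz
      exact hcon ⟨s, hs, hz'⟩
    obtain ⟨Q, hQ, -, hQT⟩ := Ideal.exists_le_prime_disjoint (⊥ : Ideal S) T hdisj
    let Q' : PrimeSpectrum S := ⟨Q, hQ⟩
    have hle : PrimeSpectrum.comap f Q' ≤ p := by
      intro a ha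
      by_contra hap
      have h1 : f a ∈ T := ⟨a, hap, rfl⟩
      exact Set.disjoint_left.mp hQT ha h1
    have h2 : PrimeSpectrum.comap f Q' ∈ E :=
      h _ ((PrimeSpectrum.le_iff_specializes _ _).mp hle)
    have h3 : PrimeSpectrum.comap f Q' ∈ Eᶜ := by
      rw [← hf]; exact ⟨Q', rfl⟩
    exact h3 h2
  obtain ⟨s, hsp, hs0⟩ := key
  have hopen : (PrimeSpectrum.basicOpen s : Set (PrimeSpectrum R)) ∈ nhds p :=
    (PrimeSpectrum.basicOpen s).isOpen.mem_nhds hsp
  refine Filter.mem_of_superset hopen ?_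
  intro q hq
  by_contra hqE
  have : q ∈ Eᶜ := hqE
  rw [← hf] at this
  obtain ⟨Q, rfl⟩ := this
  apply hq
  change f s ∈ Q.asIdeal
  rw [hs0]
  exact Q.asIdeal.zero_mem

open Groth.Agent.Helper7.FinType in
theorem generizations_lift_of_isOpenAt {X Y : Scheme.{u}} (f : X ⟶ Y) (x : X)
    (hopen : EGA43.IsOpenAt f.base x) (y' : Y) (hy' : y' ⤳ f.base x) :
    ∃ x' : X, x' ⤳ x ∧ f.base x' = y' := by
  obtain ⟨V, hV, hyV, -⟩ := TopologicalSpace.Opens.isBasis_iff_nbhd.mp Y.isBasis_affineOpens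
    (show f x ∈ (⊤ : Y.Opens) from trivial)
  have hV : IsAffineOpen V := hV
  have hxfV : x ∈ f ⁻¹ᵁ V := hyV
  obtain ⟨W, hW, hxW, e⟩ := TopologicalSpace.Opens.isBasis_iff_nbhd.mp X.isBasis_affineOpens
    hxfV
  have hW : IsAffineOpen W := hW
  have hy'V : y' ∈ V := hy'.mem_open V.isOpen hyV
  let φ := (f.appLE V W e).hom
  have hlift : ∀ (x'' : X) (hx'' : x'' ∈ W) (z : Y) (hz : z ∈ V), f x'' = z →
      (hW.primeIdealOf ⟨x'', hx''⟩).asIdeal.comap φ = (hV.primeIdealOf ⟨z, hz⟩).asIdeal := by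
    intro x'' hx'' z hz hfz
    have h1 := IsAffineOpen.comap_primeIdealOf_appLE (f := f) V hV W hW e hx''
    have h2 : hV.primeIdealOf ⟨f x'', e hx''⟩ = hV.primeIdealOf ⟨z, hz⟩ := by
      congr 1
      exact Subtype.ext hfz
    rw [h2] at h1
    exact congrArg PrimeSpectrum.asIdeal h1
  have key := exists_prime_le_comap_eq φ (hW.primeIdealOf ⟨x, hxW⟩).asIdeal
    (hV.primeIdealOf ⟨y', hy'V⟩).asIdeal (by
      intro b hb
      have hxb : x ∈ X.basicOpen b := by
        rw [X.mem_basicOpen b x hxW]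
        exact (notMem_primeIdealOf_iff hW x hxW b).mp hb
      have hN : f.base '' (X.basicOpen b : Set X) ∈ nhds (f.base x) :=
        hopen _ ((X.basicOpen b).isOpen.mem_nhds hxb)
      have hy'N : y' ∈ f.base '' (X.basicOpen b : Set X) := mem_of_mem_nhds (hy' hN)
      obtain ⟨x'', hx''b, hfx''⟩ := hy'N
      have hx''W : x'' ∈ W := X.basicOpen_le b hx''b
      refine ⟨(hW.primeIdealOf ⟨x'', hx''W⟩).asIdeal, inferInstance, ?_, ?_⟩
      · rw [notMem_primeIdealOf_iff hW x'' hx''W b, ← X.mem_basicOpen b x'' hx''W]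
        exact hx''b
      · exact hlift x'' hx''W y' hy'V hfx'')
  obtain ⟨Q, hQ, hQle, hQc⟩ := key
  let Q' : PrimeSpectrum Γ(X, W) := ⟨Q, hQ⟩
  have hx'W : hW.fromSpec Q' ∈ W := fromSpec_mem hW Q'
  refine ⟨hW.fromSpec Q', ?_, ?_⟩
  · rw [← primeIdealOf_le_iff_specializes hW _ _ hx'W hxW, primeIdealOf_fromSpec hW Q' hx'W]
    exact hQle
  · have h1 := map_fromSpec_eq' f hV hW e Q'
    change f (hW.fromSpec Q') = y'
    rw [h1]
    have h2 : PrimeSpectrum.comap (f.appLE V W e).hom Q' = hV.primeIdealOf ⟨y', hy'V⟩ := by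
      apply PrimeSpectrum.ext
      exact hQc
    rw [h2]
    exact hV.fromSpec_primeIdealOf ⟨y', hy'V⟩



open Groth.Agent.Helper7.FinType in
theorem isOpenAt_of_generizations_lift {X Y : Scheme.{u}} (f : X ⟶ Y)
    [LocallyOfFinitePresentation f] (x : X)
    (hgen : ∀ y' : Y, y' ⤳ f.base x → ∃ x' : X, x' ⤳ x ∧ f.base x' = y') :
    EGA43.IsOpenAt f.base x := by
  intro U hU
  obtain ⟨U₀, hU₀U, hU₀open, hxU₀⟩ := mem_nhds_iff.mp hU
  let U₁ : X.Opens := ⟨U₀, hU₀open⟩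
  obtain ⟨V, hV, hyV, -⟩ := TopologicalSpace.Opens.isBasis_iff_nbhd.mp Y.isBasis_affineOpens
    (show f x ∈ (⊤ : Y.Opens) from trivial)
  have hV : IsAffineOpen V := hV
  have hxfV : x ∈ (f ⁻¹ᵁ V) ⊓ U₁ := ⟨hyV, hxU₀⟩
  obtain ⟨W, hW, hxW, e'⟩ := TopologicalSpace.Opens.isBasis_iff_nbhd.mp X.isBasis_affineOpens
    hxfV
  have hW : IsAffineOpen W := hW
  have e : W ≤ f ⁻¹ᵁ V := e'.trans inf_le_left
  have hWU : (W : Set X) ⊆ U := fun z hz => hU₀U (e' hz).2
  have hφ : (f.appLE V W e).hom.FinitePresentation :=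
    HasRingHomProperty.appLE (P := @LocallyOfFinitePresentation) f inferInstance ⟨V, hV⟩ ⟨W, hW⟩ e
  let E : Set (PrimeSpectrum Γ(Y, V)) := Set.range (PrimeSpectrum.comap (f.appLE V W e).hom)
  have hE : Topology.IsConstructible E := PrimeSpectrum.isConstructible_range_comap hφ
  let py : PrimeSpectrum Γ(Y, V) := hV.primeIdealOf ⟨f x, hyV⟩
  have hpy : hV.fromSpec py = f x := hV.fromSpec_primeIdealOf ⟨f x, hyV⟩
  have hEn : E ∈ nhds py := by
    apply mem_nhds_of_isConstructible hE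
    intro q hq
    have h1 : hV.fromSpec q ⤳ f x := by
      rw [← hpy, hV.fromSpec.isOpenEmbedding.isInducing.specializes_iff]
      exact hq
    obtain ⟨x', hx'x, hfx'⟩ := hgen _ h1
    have hx'W : x' ∈ W := hx'x.mem_open W.isOpen hxW
    refine ⟨hW.primeIdealOf ⟨x', hx'W⟩, ?_⟩
    apply hV.fromSpec.isOpenEmbedding.injective
    have h2 := map_fromSpec_eq' f hV hW e (hW.primeIdealOf ⟨x', hx'W⟩)
    rw [← h2, hW.fromSpec_primeIdealOf ⟨x', hx'W⟩]
    exact hfx'
  have h3 : hV.fromSpec '' E ∈ nhds (hV.fromSpec py) :=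
    hV.fromSpec.isOpenEmbedding.image_mem_nhds.mpr hEn
  rw [hpy] at h3
  refine Filter.mem_of_superset h3 ?_
  rintro _ ⟨_, ⟨Q, rfl⟩, rfl⟩
  refine ⟨hW.fromSpec Q, hWU (fromSpec_mem hW Q), ?_⟩
  exact map_fromSpec_eq' f hV hW e Q

end Groth.Agent.Helper7.OpenAt
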