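import Mathlib

set_option autoImplicit false
universe u
open CategoryTheory CategoryTheory.Limits AlgebraicGeometry

/-! helper7: open subobjects of a scheme are determined by their range; fpqc descent of open
subschemes (`main5235`). -/

namespace Groth.Agent.Helper7.OpenSubDesc

/-- subobjects with open immersion arrows and the same range coincide -/
theorem subobject_eq_of_range_eq {X : Scheme.{u}} (A B : Subobject X)
    (hA : IsOpenImmersion A.arrow) (hB : IsOpenImmersion B.arrow)
    (h : Set.range A.arrow = Set.range B.arrow) : A = B :=
  Subobject.eq_of_comm (IsOpenImmersion.isoOfRangeEq A.arrow B.arrow h)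
    (IsOpenImmersion.isoOfRangeEq_hom_fac _ _ _)

theorem range_pullback_arrow {X X' : Scheme.{u}} (π : X ⟶ X') (Y' : Subobject X') :
    Set.range ((Subobject.pullback π).obj Y').arrow = π ⁻¹' Set.range Y'.arrow := by
  have h := Subobject.isPullback π Y'
  have := Scheme.image_preimage_eq_of_isPullback h Set.univ
  simpa [Set.image_univ] using this

theorem isOpenImmersion_pullback_arrow {X X' : Scheme.{u}} (π : X ⟶ X') (Y' : Subobject X')
    (h : IsOpenImmersion Y'.arrow) : IsOpenImmersion ((Subobject.pullback π).obj Y').arrow :=
  MorphismProperty.of_isPullback (P := @IsOpenImmersion) (Subobject.isPullback π Y') h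

theorem range_mk_arrow {X U : Scheme.{u}} (j : U ⟶ X) [Mono j] :
    Set.range (Subobject.mk j).arrow = Set.range j := by
  have h : (Subobject.underlyingIso j).hom ≫ j = (Subobject.mk j).arrow :=
    Subobject.underlyingIso_hom_comp_eq_mk j
  rw [← h, Scheme.Hom.comp_base, TopCat.coe_comp, Set.range_comp]
  have : Function.Surjective (Subobject.underlyingIso j).hom :=
    (Subobject.underlyingIso j).hom.homeomorph.surjective
  rw [Set.range_eq_univ.mpr this, Set.image_univ]

theorem main5235 {X X' : Scheme.{u}} (π : X ⟶ X')
    [Flat π] [Surjective π] [QuasiCompact π] :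
    Set.BijOn (Subobject.pullback π).obj
      {Y' : Subobject X' | IsOpenImmersion Y'.arrow}
      {Y : Subobject X | IsOpenImmersion Y.arrow ∧
        (Subobject.pullback (pullback.fst π π)).obj Y = (Subobject.pullback (pullback.snd π π)).obj Y} := by
  refine ⟨?_, ?_, ?_⟩
  · intro Y' hY'
    refine ⟨isOpenImmersion_pullback_arrow π Y' hY', ?_⟩
    rw [← Subobject.pullback_comp, ← Subobject.pullback_comp, pullback.condition]
  · intro A hA B hB hAB
    have hA' : IsOpenImmersion A.arrow := hA
    have hB' : IsOpenImmersion B.arrow := hB
    refine subobject_eq_of_range_eq A B hA' hB' ?_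
    have h1 := range_pullback_arrow π A
    have h2 := range_pullback_arrow π B
    rw [hAB, h2] at h1
    exact (Set.preimage_injective.mpr π.surjective) h1.symm
  · rintro Y ⟨hY, hst⟩
    have hY' : IsOpenImmersion Y.arrow := hY
    have hq : Topology.IsQuotientMap π := Flat.isQuotientMap_of_surjective π
    have hsat : π ⁻¹' (π '' Set.range Y.arrow) = Set.range Y.arrow := by
      apply Set.Subset.antisymm
      · rintro x₂ ⟨x₁, hx₁, hx⟩
        obtain ⟨w, hw1, hw2⟩ := Scheme.Pullback.exists_preimage_pullback x₁ x₂ hx
        have h1 := range_pullback_arrow (pullback.fst π π) Y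
        have h2 := range_pullback_arrow (pullback.snd π π) Y
        rw [hst, h2] at h1
        have : w ∈ (pullback.fst π π) ⁻¹' Set.range Y.arrow := by
          rw [Set.mem_preimage, hw1]; exact hx₁
        rw [← h1, Set.mem_preimage, hw2] at this
        exact this
      · exact Set.subset_preimage_image _ _
    have hVopen : IsOpen (π '' Set.range Y.arrow) := by
      rw [← hq.isOpen_preimage, hsat]
      exact Y.arrow.isOpenEmbedding.isOpen_range
    let V : X'.Opens := ⟨_, hVopen⟩
    refine ⟨Subobject.mk V.ι, ?_, ?_⟩
    · change IsOpenImmersion (Subobject.mk V.ι).arrow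
      rw [← Subobject.underlyingIso_hom_comp_eq_mk]
      infer_instance
    · have hV : IsOpenImmersion (Subobject.mk V.ι).arrow := by
        rw [← Subobject.underlyingIso_hom_comp_eq_mk]
        infer_instance
      refine subobject_eq_of_range_eq _ _ (isOpenImmersion_pullback_arrow π _ hV) hY' ?_
      rw [range_pullback_arrow, range_mk_arrow, Scheme.Opens.range_ι]
      exact hsat

end Groth.Agent.Helper7.OpenSubDesc
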