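import Mathlib
import Groth.Agent.Lib.Helper7.PerfAWN4

/-! helper7: flatness over perfect rings passes to universally homeomorphic perfect rings. -/

namespace Groth.Agent.Helper7.PerfAWN
open AlgebraicGeometry CategoryTheory Limits
open Groth.Agent.Helper7.FPColim
universe u

section iter
variable (p : ℕ) (hp : p.Prime) (R : Type u) [CommRing R] (h : (p : R) = 0)

include hp h in
lemma add_pow_pow (x y : R) (n : ℕ) : (x + y) ^ p ^ n = x ^ p ^ n + y ^ p ^ n := by
  rcases subsingleton_or_nontrivial R with hs | hn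
  · exact Subsingleton.elim _ _
  · have : CharP R p := (CharP.charP_iff_prime_eq_zero hp).2 h
    have : Fact p.Prime := ⟨hp⟩
    exact add_pow_char_pow x y p n

/-- the iterated Frobenius of a ring in which `p = 0` -/
def iterFrob (n : ℕ) : R →+* R :=
  { toFun := fun x => x ^ p ^ n
    map_one' := one_pow _
    map_mul' := fun x y => mul_pow x y _
    map_zero' := zero_pow (pow_ne_zero n hp.ne_zero)
    map_add' := fun x y => add_pow_pow p hp R h x y n }

@[simp] lemma iterFrob_apply (n : ℕ) (x : R) : iterFrob p hp R h n x = x ^ p ^ n := rfl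

end iter

section flat
variable (p : ℕ) (hp : p.Prime) {A T B : Type u} [CommRing A] [CommRing T] [CommRing B]
  [Algebra A T] [Algebra A B] [Algebra T B] [IsScalarTower A T B]

include hp in
/-- a perfect ring which is universally homeomorphic to a flat algebra over a perfect ring is flat -/
theorem flat_of_uh_of_perfect [Module.Flat A T]
    (hA0 : (p : A) = 0) (hB0 : (p : B) = 0)
    (hA : Function.Bijective fun s : A => s ^ p) (hB : Function.Bijective fun s : B => s ^ p)
    (hθ : FlatMor.IsUnivHomeo (Spec.map (CommRingCat.ofHom (algebraMap T B)))) :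
    Module.Flat A B := by
  have hT0 : (p : T) = 0 := by
    have := congrArg (algebraMap A T) hA0
    simpa using this
  rw [Module.Flat.iff_forall_isTrivialRelation]
  intro l f x hrel
  have hker := ((uh_iff_crit _).mp hθ).2
  -- step 1: common exponent
  have h1 : ∀ i, ∃ (n : ℕ) (t : T), x i ^ p ^ n = algebraMap T B t :=
    fun i => exists_pow_mem_of_uh p hp (algebraMap T B) hθ hB0 (x i)
  choose n₀ t₀ ht₀ using h1
  let n := ∑ i, n₀ i
  have hle : ∀ i, n₀ i ≤ n := fun i => Finset.single_le_sum (fun _ _ => Nat.zero_le _)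
    (Finset.mem_univ i)
  obtain ⟨t, ht⟩ : ∃ t : Fin l → T, ∀ i, x i ^ p ^ n = algebraMap T B (t i) := by
    refine ⟨fun i => t₀ i ^ p ^ (n - n₀ i), ?_⟩
    intro i
    have : p ^ n = p ^ n₀ i * p ^ (n - n₀ i) := by
      rw [← pow_add]; congr 1; have := hle i; omega
    rw [this, pow_mul, ht₀, map_pow]
  -- step 2: the relation in `T` up to nilpotents
  let s : T := ∑ i, algebraMap A T (f i ^ p ^ n) * t i
  have hs : algebraMap T B s = 0 := by
    have h2 := congrArg (iterFrob p hp B hB0 n) hrel
    rw [map_sum, map_zero] at h2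
    rw [map_sum, ← h2]
    apply Finset.sum_congr rfl
    intro i _
    rw [map_mul, ← ht, ← IsScalarTower.algebraMap_apply, Algebra.smul_def, map_mul,
      iterFrob_apply, iterFrob_apply, map_pow]
  obtain ⟨N, hN⟩ := hker hs
  have hsm : s ^ p ^ N = 0 := by
    have : N ≤ p ^ N := (Nat.lt_pow_self hp.one_lt).le
    obtain ⟨k, hk⟩ := Nat.exists_eq_add_of_le this
    rw [hk, pow_add, hN, zero_mul]
  have hrelT : ∑ i, (f i ^ p ^ (n + N)) • (t i ^ p ^ N) = 0 := by
    have h3 := congrArg (fun z => z) hsm
    have h4 : iterFrob p hp T hT0 N s = 0 := hsm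
    rw [map_sum] at h4
    rw [← h4]
    apply Finset.sum_congr rfl
    intro i _
    have e : f i ^ p ^ (n + N) = (f i ^ p ^ n) ^ p ^ N := by rw [pow_add, pow_mul]
    rw [map_mul, iterFrob_apply, iterFrob_apply, Algebra.smul_def, e, map_pow]
  -- step 3: flatness of `T`
  obtain ⟨k, a, y, hy1, hy2⟩ := Module.Flat.isTrivialRelation_of_sum_smul_eq_zero (R := A) (M := T) hrelT
  have hy1' : ∀ i, t i ^ p ^ N = ∑ j, a i j • y j := hy1
  have hy2' : ∀ j, ∑ i, f i ^ p ^ (n + N) * a i j = 0 := hy2
  -- step 4: take roots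
  have hAinj := pow_pow_injective p hA.1 (n + N)
  have hAsurj := pow_pow_surjective p hA.2 (n + N)
  have hBinj := pow_pow_injective p hB.1 (n + N)
  have hBsurj := pow_pow_surjective p hB.2 (n + N)
  choose a' ha' using fun i j => hAsurj (a i j)
  choose y' hy' using fun j => hBsurj (algebraMap T B (y j))
  have ha'' : ∀ i j, a' i j ^ p ^ (n + N) = a i j := ha'
  have hy'' : ∀ j, y' j ^ p ^ (n + N) = algebraMap T B (y j) := hy'
  refine ⟨k, a', y', ?_, ?_⟩
  · intro i
    apply hBinj
    show x i ^ p ^ (n + N) = (∑ j, a' i j • y' j) ^ p ^ (n + N)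
    have e1 : x i ^ p ^ (n + N) = algebraMap T B (t i ^ p ^ N) := by
      rw [pow_add, pow_mul, ht, map_pow]
    have e2 : (∑ j, a' i j • y' j) ^ p ^ (n + N) =
        iterFrob p hp B hB0 (n + N) (∑ j, a' i j • y' j) := rfl
    rw [e1, e2, map_sum, hy1', map_sum]
    apply Finset.sum_congr rfl
    intro j _
    rw [Algebra.smul_def, Algebra.smul_def, map_mul, map_mul, iterFrob_apply, iterFrob_apply,
      hy'', ← map_pow, ha'', ← IsScalarTower.algebraMap_apply]
  · intro j
    apply hAinj
    show (∑ i, f i * a' i j) ^ p ^ (n + N) = 0 ^ p ^ (n + N)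
    have e2 : (∑ i, f i * a' i j) ^ p ^ (n + N) =
        iterFrob p hp A hA0 (n + N) (∑ i, f i * a' i j) := rfl
    rw [e2, map_sum, zero_pow (pow_ne_zero _ hp.ne_zero), ← hy2' j]
    apply Finset.sum_congr rfl
    intro i _
    rw [map_mul, iterFrob_apply, iterFrob_apply, ha'']

end flat

end Groth.Agent.Helper7.PerfAWN
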