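import Mathlib
import Groth.Agent.Lib.Helper7.PerfFlat
import Groth.Agent.Lib.Helper7.AWN6

/-! helper7: perfection preserves flatness. -/

namespace Groth.Agent.Helper7.PerfAWN
open AlgebraicGeometry CategoryTheory Limits TensorProduct
open Groth.Agent.Helper7.FPColim Groth.Agent.Helper7.AWN Groth.Agent.Helper7.UHTower
universe u

section square
variable (p : ℕ) (hp : p.Prime) {A B A' B' : Type u} [CommRing A] [CommRing B] [CommRing A']
  [CommRing B']

/-- the other base change of a universal homeomorphism -/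
theorem uh_includeRight [Algebra A B] [Algebra A A']
    (h : FlatMor.IsUnivHomeo (Spec.map (CommRingCat.ofHom (algebraMap A A')))) :
    FlatMor.IsUnivHomeo (Spec.map (CommRingCat.ofHom
      (Algebra.TensorProduct.includeRight : B →ₐ[A] A' ⊗[A] B).toRingHom)) := by
  have h1 := uh_baseChange A B A' h
  let e : B ⊗[A] A' ≃ₐ[A] A' ⊗[A] B := Algebra.TensorProduct.comm A B A'
  have h2 : FlatMor.IsUnivHomeo (Spec.map (CommRingCat.ofHom e.toRingEquiv.toRingHom)) :=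
    uh_bijective _ e.injective e.surjective
  have h3 := uh_comp _ _ h1 h2
  have e3 : e.toRingEquiv.toRingHom.comp (algebraMap B (B ⊗[A] A')) =
      (Algebra.TensorProduct.includeRight : B →ₐ[A] A' ⊗[A] B).toRingHom := by
    ext b
    show e (b ⊗ₜ[A] (1 : A')) = (1 : A') ⊗ₜ[A] b
    exact Algebra.TensorProduct.comm_tmul (R := A) b (1 : A')
  rw [e3] at h3
  exact h3

include hp in
theorem flat_of_square (φ : A →+* B) (α : A →+* A') (β : B →+* B') (φ' : A' →+* B')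
    (hcomm : φ'.comp α = β.comp φ) (hφ : φ.Flat)
    (hα : FlatMor.IsUnivHomeo (Spec.map (CommRingCat.ofHom α)))
    (hβ : FlatMor.IsUnivHomeo (Spec.map (CommRingCat.ofHom β)))
    (hA0 : (p : A') = 0) (hB0 : (p : B') = 0)
    (hA : Function.Bijective fun s : A' => s ^ p) (hB : Function.Bijective fun s : B' => s ^ p) :
    φ'.Flat := by
  let _ : Algebra A B := φ.toAlgebra
  let _ : Algebra A A' := α.toAlgebra
  let _ : Algebra A' B' := φ'.toAlgebra
  let _ : Algebra B B' := β.toAlgebra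
  let _ : Algebra A B' := (β.comp φ).toAlgebra
  have : IsScalarTower A B B' := .of_algebraMap_eq' rfl
  have : IsScalarTower A A' B' := .of_algebraMap_eq' hcomm.symm
  have hflat : Module.Flat A B := hφ
  let θ : A' ⊗[A] B →ₐ[A'] B' :=
    Algebra.TensorProduct.lift (Algebra.ofId A' B') (IsScalarTower.toAlgHom A B B')
      (fun _ _ => Commute.all _ _)
  let _ : Algebra (A' ⊗[A] B) B' := θ.toRingHom.toAlgebra
  have : IsScalarTower A' (A' ⊗[A] B) B' := .of_algebraMap_eq' (by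
    ext a
    exact (θ.commutes a).symm)
  have hincl := uh_includeRight (A := A) (B := B) (A' := A') hα
  have hθβ : θ.toRingHom.comp
      (Algebra.TensorProduct.includeRight : B →ₐ[A] A' ⊗[A] B).toRingHom = β := by
    ext b
    show θ ((1 : A') ⊗ₜ[A] b) = β b
    simp [θ]
    rfl
  have hθ : FlatMor.IsUnivHomeo (Spec.map (CommRingCat.ofHom θ.toRingHom)) := by
    apply uh_of_comp_of_uh _ _ hincl
    rw [hθβ]
    exact hβ
  have hres : Module.Flat A' B' :=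
    flat_of_uh_of_perfect p hp (A := A') (T := A' ⊗[A] B) (B := B') hA0 hB0 hA hB hθ
  exact hres

end square

section scheme
variable (p : ℕ) [Fact p.Prime] {X Y XP YP : Scheme.{u}}
    [FrobSch.IsCharP X p] [FrobSch.IsCharP Y p] [FrobSch.IsCharP XP p] [FrobSch.IsCharP YP p]
    (πX : XP ⟶ X) (πY : YP ⟶ Y) (hX : FrobSch.IsPerfection πX p) (hY : FrobSch.IsPerfection πY p)
    (f : X ⟶ Y) (fP : XP ⟶ YP) (w : fP ≫ πY = πX ≫ f)

lemma appLE_congr_hom {X Y : Scheme.{u}} (g₁ g₂ : X ⟶ Y) (h : g₁ = g₂) (U : Y.Opens)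
    (V : X.Opens) (e₁ : V ≤ g₁ ⁻¹ᵁ U) (e₂ : V ≤ g₂ ⁻¹ᵁ U) :
    g₁.appLE U V e₁ = g₂.appLE U V e₂ := by
  subst h
  rfl

include hX hY w in
theorem main14923 [Flat f] : Flat fP := by
  have hp : p.Prime := Fact.out
  have h1 := isUnivHomeo_of_isPerfection p πX hX
  have h2 := isUnivHomeo_of_isPerfection p πY hY
  have a1 := UHSch.isAffineHom_of_isUnivHomeo _ h1
  have a2 := UHSch.isAffineHom_of_isUnivHomeo _ h2
  have hQ : RingHom.StableUnderCompositionWithLocalizationAwaySource RingHom.Flat := by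
    intro R S T _ _ _ _ r _ g hg
    exact RingHom.Flat.comp (RingHom.Flat.holdsForLocalizationAway S r) hg
  rw [HasRingHomProperty.iff_exists_appLE (P := @Flat) hQ]
  intro x'
  obtain ⟨_, ⟨U, hU, rfl⟩, hyU, -⟩ :=
    Y.isBasis_affineOpens.exists_subset_of_mem_open (Set.mem_univ (f (πX x'))) isOpen_univ
  obtain ⟨_, ⟨V, hV, rfl⟩, hxV, hVU⟩ :=
    X.isBasis_affineOpens.exists_subset_of_mem_open (show πX x' ∈ f ⁻¹ᵁ U from hyU)
      (f ⁻¹ᵁ U).2
  have hU' : IsAffineOpen (πY ⁻¹ᵁ U) := hU.preimage πY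
  have hV' : IsAffineOpen (πX ⁻¹ᵁ V) := hV.preimage πX
  have e : πX ⁻¹ᵁ V ≤ fP ⁻¹ᵁ (πY ⁻¹ᵁ U) := by
    intro z hz
    show (fP ≫ πY) z ∈ U
    rw [w]
    exact hVU hz
  refine ⟨⟨_, hU'⟩, ⟨_, hV'⟩, hxV, e, ?_⟩
  have hcomm : (fP.appLE (πY ⁻¹ᵁ U) (πX ⁻¹ᵁ V) e).hom.comp (πY.app U).hom =
      (πX.app V).hom.comp (f.appLE U V hVU).hom := by
    have e1 : πY.appLE U (πY ⁻¹ᵁ U) le_rfl ≫ fP.appLE (πY ⁻¹ᵁ U) (πX ⁻¹ᵁ V) e =
        (fP ≫ πY).appLE U (πX ⁻¹ᵁ V) _ := Scheme.Hom.appLE_comp_appLE _ _ _ _ _ _ _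
    have e2 : f.appLE U V hVU ≫ πX.appLE V (πX ⁻¹ᵁ V) le_rfl =
        (πX ≫ f).appLE U (πX ⁻¹ᵁ V) _ := Scheme.Hom.appLE_comp_appLE _ _ _ _ _ _ _
    have e3 := appLE_congr_hom _ _ w U (πX ⁻¹ᵁ V)
      (by rw [Scheme.Hom.comp_preimage]; exact e)
      (by rw [Scheme.Hom.comp_preimage]; exact πX.preimage_mono hVU)
    have e4 : πY.app U ≫ fP.appLE (πY ⁻¹ᵁ U) (πX ⁻¹ᵁ V) e =
        f.appLE U V hVU ≫ πX.app V := by
      rw [Scheme.Hom.app_eq_appLE, Scheme.Hom.app_eq_appLE, e1, e2]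
      exact e3
    exact congrArg CommRingCat.Hom.hom e4
  exact flat_of_square p hp (f.appLE U V hVU).hom (πY.app U).hom (πX.app V).hom
    (fP.appLE (πY ⁻¹ᵁ U) (πX ⁻¹ᵁ V) e).hom hcomm (f.flat_appLE hU hV hVU)
    (SchAWN.isUnivHomeo_specMap_app πY h2 hU hU') (SchAWN.isUnivHomeo_specMap_app πX h1 hV hV')
    (FrobSch.natCast_eq_zero_app YP p _) (FrobSch.natCast_eq_zero_app XP p _)
    (bijective_pow_of_isPerfect p YP hY.1 _) (bijective_pow_of_isPerfect p XP hX.1 _)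

include hX hY w in
theorem main14924 [Flat f] [Surjective f] : Flat fP ∧ Surjective fP := by
  refine ⟨main14923 p πX πY hX hY f fP w, ?_⟩
  have h1 := isUnivHomeo_of_isPerfection p πX hX
  have h2 := isUnivHomeo_of_isPerfection p πY hY
  have s1 := UHSch.surjective_of_isUnivHomeo _ h1
  have i2 := (Groth.Agent.Helper9.UH.isHomeomorph_of_isUnivHomeo _ h2).injective
  constructor
  intro y'
  obtain ⟨x, hx⟩ := f.surjective (πY y')
  obtain ⟨x', rfl⟩ := πX.surjective x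
  refine ⟨x', i2 ?_⟩
  show (fP ≫ πY) x' = πY y'
  rw [w]
  exact hx

end scheme

end Groth.Agent.Helper7.PerfAWN
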