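import Mathlib

/-!
# Flatness criterion along a non-zero-divisor `π`

`M` is flat over `A` iff `M` is `π`-torsion free, `M/πM` is flat over `A/π` and `M[1/π]` is flat
over `A[1/π]`.
-/

set_option linter.unusedSectionVars false

open TensorProduct Function

namespace Groth.Agent.Helper7.PiFlat

universe u v w

section Main

variable {A : Type u} [CommRing A] (π : A)
  {Ā : Type u} [CommRing Ā] [Algebra A Ā] (hs : Surjective (algebraMap A Ā))
  (hk : RingHom.ker (algebraMap A Ā) = Ideal.span {π})
  {M : Type v} [AddCommGroup M] [Module A M]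
  {K F : Type w} [AddCommGroup K] [Module A K] [AddCommGroup F] [Module A F] [Module.Flat A F]
  (j : K →ₗ[A] F) (e : F →ₗ[A] M) (hje : Exact j e) (he : Surjective e) (hj : Injective j)

include hs hk in
theorem exact_lsmul_linearMap : Exact (LinearMap.lsmul A A π) (Algebra.linearMap A Ā) := by
  intro x
  rw [Set.mem_range]
  change algebraMap A Ā x = 0 ↔ _
  rw [← RingHom.mem_ker, hk, Ideal.mem_span_singleton']
  constructor
  · rintro ⟨a, rfl⟩; exact ⟨a, by simp [mul_comm]⟩
  · rintro ⟨a, rfl⟩; exact ⟨a, by simp [mul_comm]⟩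

include hs hk hje he hj in
/-- Step A: if `M` has no `π`-torsion, the relations stay injective modulo `π`. -/
theorem lTensor_quot_injective (htf : ∀ x : M, π • x = 0 → x = 0) :
    Injective (j.lTensor Ā) := by
  refine lTensor_injective_of_exact_of_exact_of_rTensor_injective (f₂ := Algebra.linearMap A Ā)
    (exact_lsmul_linearMap π hs hk) hs hje he ?_ ?_
  · -- `π` is injective on `A ⊗ M ≅ M`
    intro x y hxy
    apply (TensorProduct.lid A M).injective
    have h1 : ∀ z : A ⊗[A] M, TensorProduct.lid A M ((LinearMap.lsmul A A π).rTensor M z) =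
        π • TensorProduct.lid A M z := by
      intro z
      induction z using TensorProduct.induction_on with
      | zero => simp
      | tmul a m => simp [smul_smul]
      | add a b ha hb => simp only [map_add, ha, hb, smul_add]
    have h2 := congrArg (TensorProduct.lid A M) hxy
    rw [h1, h1, ← sub_eq_zero, ← smul_sub] at h2
    exact sub_eq_zero.mp (htf _ h2)
  · exact Module.Flat.lTensor_preserves_injective_linearMap _ hj

/-- abstract free presentations exist -/
theorem exists_free_presentation (R : Type u) [CommRing R] (N : Type w) [AddCommGroup N]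
    [Module R N] :
    ∃ (K' : Type (max u w)) (_ : AddCommGroup K') (_ : Module R K') (L' : Type (max u w))
      (_ : AddCommGroup L')
      (_ : Module R L') (k : K' →ₗ[R] L') (g : L' →ₗ[R] N),
      Exact k g ∧ Surjective g ∧ Injective k ∧ Module.Flat R L' := by
  refine ⟨LinearMap.ker (Finsupp.linearCombination R (id : N → N)), inferInstance, inferInstance,
    N →₀ R, inferInstance, inferInstance,
    (LinearMap.ker (Finsupp.linearCombination R (id : N → N))).subtype,
    Finsupp.linearCombination R (id : N → N), LinearMap.exact_subtype_ker_map _, ?_,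
    Subtype.val_injective, inferInstance⟩
  intro n
  exact ⟨Finsupp.single n 1, by simp⟩

include hs hk hje he hj in
/-- Step B: the relations stay injective after tensoring with any `Ā`-module. -/
theorem lTensor_injective_of_quot_module [Module.Flat Ā (Ā ⊗[A] M)]
    (htf : ∀ x : M, π • x = 0 → x = 0)
    (N : Type u) [AddCommGroup N] [Module A N] [Module Ā N] [IsScalarTower A Ā N] :
    Injective (j.lTensor N) := by
  have hῑ : Injective (j.baseChange Ā) := by
    have := lTensor_quot_injective π hs hk j e hje he hj htf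
    intro x y hxy
    exact this hxy
  have hex : Exact (j.baseChange Ā) (e.baseChange Ā) := lTensor_exact Ā hje he
  have hsurj : Surjective (e.baseChange Ā) := LinearMap.lTensor_surjective Ā he
  obtain ⟨K', _, _, L', _, _, k, g, hkg, hg, hk', hL'⟩ := exists_free_presentation Ā N
  have key : Injective ((j.baseChange Ā).lTensor N) := by
    refine lTensor_injective_of_exact_of_exact_of_rTensor_injective hkg hg hex hsurj ?_ ?_
    · exact Module.Flat.rTensor_preserves_injective_linearMap _ hk'
    · exact Module.Flat.lTensor_preserves_injective_linearMap _ hῑ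
  have hnat : ∀ z : N ⊗[Ā] (Ā ⊗[A] K),
      TensorProduct.AlgebraTensorModule.cancelBaseChange A Ā Ā N F
        ((j.baseChange Ā).lTensor N z) =
      j.lTensor N (TensorProduct.AlgebraTensorModule.cancelBaseChange A Ā Ā N K z) := by
    intro z
    induction z using TensorProduct.induction_on with
    | zero => simp
    | tmul n w =>
      induction w using TensorProduct.induction_on with
      | zero => simp
      | tmul a x => simp
      | add w₁ w₂ h₁ h₂ => simp only [tmul_add, map_add, h₁, h₂]
    | add z₁ z₂ h₁ h₂ => simp only [map_add, h₁, h₂]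
  intro x y hxy
  obtain ⟨x', rfl⟩ := (TensorProduct.AlgebraTensorModule.cancelBaseChange A Ā Ā N K).surjective x
  obtain ⟨y', rfl⟩ := (TensorProduct.AlgebraTensorModule.cancelBaseChange A Ā Ā N K).surjective y
  rw [← hnat, ← hnat] at hxy
  rw [key ((TensorProduct.AlgebraTensorModule.cancelBaseChange A Ā Ā N F).injective hxy)]

theorem lsmul_lTensor_apply (X : Type u) [AddCommGroup X] [Module A X] (w : M ⊗[A] X) :
    (LinearMap.lsmul A X π).lTensor M w = π • w := by
  induction w using TensorProduct.induction_on with
  | zero => simp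
  | tmul m x => simp [tmul_smul]
  | add a b ha hb => simp only [map_add, ha, hb, smul_add]

include hs hk hje he hj in
/-- Step C: `π` is injective on `X ⊗ M` when it is injective on `X`. -/
theorem smul_injective_tensor [Module.Flat Ā (Ā ⊗[A] M)]
    (htf : ∀ x : M, π • x = 0 → x = 0)
    (X : Type u) [AddCommGroup X] [Module A X] (hX : ∀ x : X, π • x = 0 → x = 0)
    (N : Type u) [AddCommGroup N] [Module A N] [Module Ā N] [IsScalarTower A Ā N]
    (q : X →ₗ[A] N) (hq : Surjective q) (hexq : Exact (LinearMap.lsmul A X π) q)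
    (z : X ⊗[A] M) (hz : π • z = 0) : z = 0 := by
  have hB : Injective (j.rTensor N) :=
    (LinearMap.lTensor_inj_iff_rTensor_inj N j).1
      (lTensor_injective_of_quot_module π hs hk j e hje he hj htf N)
  have hπX : Injective (LinearMap.lsmul A X π) := by
    intro x y hxy
    have : π • (x - y) = 0 := by
      rw [smul_sub, sub_eq_zero]; exact hxy
    exact sub_eq_zero.mp (hX _ this)
  have key : Injective ((LinearMap.lsmul A X π).lTensor M) := by
    refine lTensor_injective_of_exact_of_exact_of_rTensor_injective hje he hexq hq hB ?_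
    exact Module.Flat.lTensor_preserves_injective_linearMap _ hπX
  have h1 : (LinearMap.lsmul A X π).lTensor M (TensorProduct.comm A X M z) = 0 := by
    rw [lsmul_lTensor_apply, ← map_smul, hz, map_zero]
  have h2 := key (h1.trans (map_zero _).symm)
  exact (TensorProduct.comm A X M).injective (h2.trans (map_zero _).symm)

/-- Step D: the kernel of `X ⊗ M → Y ⊗ M` is `π`-power torsion when `M[1/π]` is flat. -/
theorem exists_pow_smul_eq_zero (Aπ : Type u) [CommRing Aπ] [Algebra A Aπ]
    [IsLocalization.Away π Aπ] [Module.Flat Aπ (Aπ ⊗[A] M)]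
    {X Y : Type u} [AddCommGroup X] [Module A X] [AddCommGroup Y] [Module A Y]
    (f : X →ₗ[A] Y) (hf : Injective f) (z : X ⊗[A] M) (hz : f.rTensor M z = 0) :
    ∃ n : ℕ, π ^ n • z = 0 := by
  have hflatA : Module.Flat A Aπ := IsLocalization.flat Aπ (Submonoid.powers π)
  have hflat : Module.Flat A (Aπ ⊗[A] M) := Module.Flat.trans A Aπ _
  have h1 : Injective (f.rTensor (Aπ ⊗[A] M)) :=
    Module.Flat.rTensor_preserves_injective_linearMap _ hf
  have hnat : ∀ (a : Aπ) (z : X ⊗[A] M),
      f.rTensor (Aπ ⊗[A] M) ((TensorProduct.leftComm A X Aπ M).symm (a ⊗ₜ z)) =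
        (TensorProduct.leftComm A Y Aπ M).symm (a ⊗ₜ (f.rTensor M z)) := by
    intro a z
    induction z using TensorProduct.induction_on with
    | zero => simp
    | tmul x m => simp
    | add z₁ z₂ h₁ h₂ => simp only [tmul_add, map_add, h₁, h₂]
  have h2 : (TensorProduct.leftComm A X Aπ M).symm ((1 : Aπ) ⊗ₜ z) = 0 := by
    apply h1
    rw [hnat, hz, tmul_zero, map_zero, map_zero]
  have h3 : (1 : Aπ) ⊗ₜ[A] z = 0 := by
    have := congrArg (TensorProduct.leftComm A X Aπ M) h2
    rwa [LinearEquiv.apply_symm_apply, map_zero] at this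
  have h4 : TensorProduct.mk A Aπ (X ⊗[A] M) 1 z = 0 := h3
  rw [IsLocalizedModule.eq_zero_iff (Submonoid.powers π)] at h4
  obtain ⟨⟨s, n, rfl⟩, hs'⟩ := h4
  exact ⟨n, hs'⟩

end Main

section Final

variable {A : Type u} [CommRing A] (π : A) (hπ : π ∈ nonZeroDivisors A)
  (M : Type v) [AddCommGroup M] [Module A M]

include hπ in
theorem flat_of_pi (htf : ∀ (x : M) (n : ℕ), π ^ n • x = 0 → x = 0)
    [Module.Flat (A ⧸ Ideal.span {π}) ((A ⧸ Ideal.span {π}) ⊗[A] M)]
    (Aπ : Type u) [CommRing Aπ] [Algebra A Aπ] [IsLocalization.Away π Aπ]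
    [Module.Flat Aπ (Aπ ⊗[A] M)] : Module.Flat A M := by
  rw [Module.Flat.iff_rTensor_injective']
  intro I
  rw [injective_iff_map_eq_zero]
  intro z hz
  obtain ⟨n, hn⟩ := exists_pow_smul_eq_zero π Aπ I.subtype Subtype.val_injective z hz
  obtain ⟨K, _, _, F, _, _, j, e, hje, he, hj, hF⟩ := exists_free_presentation A M
  have htf1 : ∀ x : M, π • x = 0 → x = 0 := fun x hx => htf x 1 (by rwa [pow_one])
  have hI : ∀ x : I, π • x = 0 → x = 0 := by
    intro x hx
    have h1 : π * (x : A) = 0 := congrArg Subtype.val hx
    exact Subtype.ext ((mul_right_mem_nonZeroDivisors_eq_zero_iff hπ).mp (by rwa [mul_comm]))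
  have hexq : Exact (LinearMap.lsmul A I π)
      (Submodule.mkQ ((Ideal.span {π}) • (⊤ : Submodule A I))) := by
    intro x
    rw [Set.mem_range]
    change Submodule.Quotient.mk x = 0 ↔ _
    rw [Submodule.Quotient.mk_eq_zero, Submodule.ideal_span_singleton_smul,
      Submodule.mem_smul_pointwise_iff_exists]
    constructor
    · rintro ⟨y, -, rfl⟩; exact ⟨y, rfl⟩
    · rintro ⟨y, rfl⟩; exact ⟨y, trivial, rfl⟩
  have step : ∀ z : I ⊗[A] M, π • z = 0 → z = 0 :=
    smul_injective_tensor (Ā := A ⧸ Ideal.span {π}) π Ideal.Quotient.mk_surjective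
      Ideal.mk_ker j e hje he hj htf1 I hI
      (I ⧸ ((Ideal.span {π}) • (⊤ : Submodule A I)))
      (Submodule.mkQ _) (Submodule.mkQ_surjective _) hexq
  clear hz
  induction n with
  | zero => simpa using hn
  | succ n ih =>
    apply ih
    apply step
    rw [smul_smul, ← pow_succ']
    exact hn

end Final

end Groth.Agent.Helper7.PiFlat
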