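import Mathlib
import Groth.Agent.Lib.Helper7.ProConsLib8
import Groth.Agent.Lib.Helper7.ConsTop

set_option autoImplicit false

/-! helper7: pro-constructible subsets of affine and quasi-compact quasi-separated schemes are
exactly the images of (quasi-compact morphisms from) schemes. -/

namespace Groth.Agent.Helper7.ProConsLib

open Topology TopologicalSpace CategoryTheory AlgebraicGeometry Limits

universe u

theorem isClosed_cons_sInter {X : Type u} [TopologicalSpace X] [SpectralSpace X]
    {S : Set (Set X)} (hS : ∀ s ∈ S, IsConstructible s) :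
    IsClosed[constructibleTopology X] (⋂₀ S) :=
  @isClosed_sInter X (constructibleTopology X) S fun s hs =>
    (isClopen_cons_of_isConstructible (hS s hs)).1

theorem spectralSpace_of_qcqs (X : Scheme.{u}) [CompactSpace X] [QuasiSeparatedSpace X] :
    SpectralSpace X := { }

set_option backward.isDefEq.respectTransparency false in
theorem isClosed_cons_range_comap {A B : Type u} [CommRing A] [CommRing B] (f : A →+* B) :
    IsClosed[constructibleTopology (PrimeSpectrum A)] (Set.range (PrimeSpectrum.comap f)) := by
  have hp := (ConsTop.quasiCompact_iff_isProperMap (Spec.map (CommRingCat.ofHom f))).mp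
    inferInstance
  have := @IsProperMap.isClosed_range _ _ (constructibleTopology _) (constructibleTopology _) _ hp
  exact this

theorem range_comap_iff {A : Type u} [CommRing A] (E : Set (PrimeSpectrum A)) :
    (∃ (B : Type u) (_ : CommRing B) (f : A →+* B), Set.range (PrimeSpectrum.comap f) = E) ↔
      ∃ S : Set (Set (PrimeSpectrum A)), (∀ s ∈ S, IsConstructible s) ∧ E = ⋂₀ S := by
  constructor
  · rintro ⟨B, _, f, rfl⟩
    have h := isClosed_cons_range_comap f
    exact ⟨_, fun s hs => hs.1, eq_sInter_of_isClosed_cons h⟩
  · rintro ⟨S, hS, rfl⟩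
    exact ⟨_, inferInstance, piResidue (⋂₀ S), range_comap_piResidue _ (isClosed_cons_sInter hS)⟩

theorem isProConstructible_of_isClosed_cons {X : Type u} [TopologicalSpace X] [SpectralSpace X]
    {E : Set X} (hE : IsClosed[constructibleTopology X] E) : ProCons.IsProConstructible E := by
  intro x
  have h1 := eq_sInter_of_isClosed_cons hE
  refine ⟨Set.univ, isOpen_univ, Set.mem_univ x,
    (fun B : Set X => (Subtype.val ⁻¹' B : Set (Set.univ : Set X))) ''
      {B : Set X | IsConstructible B ∧ E ⊆ B}, ?_, ?_⟩
  · rintro _ ⟨B, hB, rfl⟩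
    exact (hB.1.preimage_of_isOpenEmbedding isOpen_univ.isOpenEmbedding_subtypeVal).isLocallyConstructible
  · ext y
    simp only [Set.mem_preimage, Set.sInter_image, Set.mem_iInter]
    constructor
    · intro hy B hB
      exact hB.2 hy
    · intro hy
      rw [h1]
      exact fun B hB => hy B hB

theorem range_quasiCompact_iff {X : Scheme.{u}} [CompactSpace X] [QuasiSeparatedSpace X]
    (E : Set X) :
    (∃ (X' : Scheme.{u}) (f : X' ⟶ X), QuasiCompact f ∧ Set.range f.base = E) ↔
      ∃ S : Set (Set X), (∀ s ∈ S, IsConstructible s) ∧ E = ⋂₀ S := by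
  have hs : SpectralSpace X := spectralSpace_of_qcqs X
  constructor
  · rintro ⟨X', f, hf, rfl⟩
    have h0 : ProCons.IsProConstructible (Set.univ : Set X') := by
      intro x
      exact ⟨Set.univ, isOpen_univ, Set.mem_univ x, ∅, by simp, by simp⟩
    have h1 := isProConstructible_image f h0
    rw [Set.image_univ] at h1
    have h := isClosed_cons_of_isProConstructible h1
    exact ⟨_, fun s hs => hs.1, eq_sInter_of_isClosed_cons h⟩
  · rintro ⟨S, hS, rfl⟩
    have h1 := isProConstructible_of_isClosed_cons (isClosed_cons_sInter hS)
    obtain ⟨X', f, hX', hf⟩ := exists_affine_of_isProConstructible X h1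
    exact ⟨X', f, inferInstance, hf⟩

end Groth.Agent.Helper7.ProConsLib
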