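import Mathlib.AlgebraicGeometry.ProjectiveSpectrum.Basic
import Mathlib.RingTheory.GradedAlgebra.Homogeneous.Ideal
import Mathlib.RingTheory.GradedAlgebra.Radical
import Mathlib.RingTheory.Nilpotent.Lemmas

/-! Basic facts about `Proj`: emptiness of basic opens and nilpotent elements. -/

namespace Groth.Agent.Helper7

open AlgebraicGeometry HomogeneousLocalization

universe u

variable {σ : Type*} {A : Type u}
variable [CommRing A] [SetLike σ A] [AddSubgroupClass σ A]
variable (𝒜 : ℕ → σ)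
variable [GradedRing 𝒜]

theorem away_nontrivial_of_not_isNilpotent {f : A} (hf : ¬ IsNilpotent f) :
    Nontrivial (Away 𝒜 f) := by
  by_contra hnt
  rw [not_nontrivial_iff_subsingleton] at hnt
  have h10 : (1 : Away 𝒜 f) = 0 := Subsingleton.elim _ _
  have h2 := congrArg HomogeneousLocalization.val h10
  rw [HomogeneousLocalization.val_one, HomogeneousLocalization.val_zero] at h2
  have hs : Subsingleton (Localization (Submonoid.powers f)) :=
    subsingleton_of_zero_eq_one h2.symm
  obtain ⟨n, hn⟩ := (IsLocalization.subsingleton_iff (M := Submonoid.powers f)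
    (S := Localization (Submonoid.powers f))).mp hs
  exact hf ⟨n, hn⟩

theorem exists_mem_basicOpen_of_not_isNilpotent {f : A} {d : ℕ} (hd : 0 < d) (hfd : f ∈ 𝒜 d)
    (hf : ¬ IsNilpotent f) : ∃ x : Proj 𝒜, x ∈ Proj.basicOpen 𝒜 f := by
  have hnt := away_nontrivial_of_not_isNilpotent 𝒜 hf
  obtain ⟨z⟩ : Nonempty (Spec (.of (Away 𝒜 f))) :=
    inferInstanceAs (Nonempty (PrimeSpectrum (Away 𝒜 f)))
  refine ⟨Proj.awayι 𝒜 f hfd hd z, ?_⟩
  have hr := Proj.opensRange_awayι 𝒜 f hfd hd
  rw [← hr]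
  exact ⟨z, rfl⟩

theorem not_isNilpotent_of_mem_basicOpen {f : A} {x : Proj 𝒜} (hx : x ∈ Proj.basicOpen 𝒜 f) :
    ¬ IsNilpotent f := by
  rintro ⟨n, hn⟩
  have h0 : f ^ (n + 1) = 0 := by rw [pow_succ, hn, zero_mul]
  have h1 : Proj.basicOpen 𝒜 (f ^ (n + 1)) = Proj.basicOpen 𝒜 f :=
    Proj.basicOpen_pow 𝒜 f (n + 1) (Nat.succ_pos n)
  rw [h0, Proj.basicOpen_zero] at h1
  rw [← h1] at hx
  exact hx

/-- `Proj` is empty iff every element of the irrelevant ideal is nilpotent. -/
theorem proj_isEmpty_iff :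
    IsEmpty (Proj 𝒜) ↔ ∀ f ∈ (HomogeneousIdeal.irrelevant 𝒜).toIdeal, IsNilpotent f := by
  classical
  constructor
  · intro hE f hf
    rw [← DirectSum.sum_support_decompose 𝒜 f]
    rw [← mem_nilradical]
    refine Ideal.sum_mem _ fun i _ => ?_
    rw [mem_nilradical]
    by_cases hi : i = 0
    · subst hi
      have : ((DirectSum.decompose 𝒜 f 0 : 𝒜 0) : A) = 0 := hf
      rw [this]
      exact IsNilpotent.zero
    · by_contra hn
      obtain ⟨x, _⟩ := exists_mem_basicOpen_of_not_isNilpotent 𝒜 (Nat.pos_of_ne_zero hi)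
        (SetLike.coe_mem (DirectSum.decompose 𝒜 f i)) hn
      exact hE.false x
  · intro h
    refine ⟨fun x => x.not_irrelevant_le ?_⟩
    intro f hf
    have hfn : f ∈ nilradical A := mem_nilradical.mpr (h f hf)
    exact nilradical_le_prime x.asHomogeneousIdeal.toIdeal hfn

/-- If the irrelevant ideal contains no nonzero nilpotents, the degree-zero localizations at
homogeneous elements of positive degree are reduced. -/
theorem away_isReduced_of_essentially_reduced
    (hred : ∀ f ∈ (HomogeneousIdeal.irrelevant 𝒜).toIdeal, IsNilpotent f → f = 0)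
    {s : A} {d : ℕ} (hd : 0 < d) (hs : s ∈ 𝒜 d) : IsReduced (Away 𝒜 s) := by
  constructor
  intro z hz
  obtain ⟨n, a, ha, rfl⟩ := Away.mk_surjective 𝒜 hs z
  obtain ⟨m, hm⟩ := hz
  apply HomogeneousLocalization.val_injective
  rw [HomogeneousLocalization.val_zero, Away.val_mk]
  have h1 := congrArg HomogeneousLocalization.val hm
  rw [HomogeneousLocalization.val_pow, Away.val_mk, HomogeneousLocalization.val_zero,
    Localization.mk_pow, Localization.mk_eq_mk'_apply, IsLocalization.mk'_eq_zero_iff] at h1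
  obtain ⟨⟨_, k, rfl⟩, hk⟩ := h1
  have hk' : s ^ k * a ^ m = 0 := hk
  have hnil : IsNilpotent (s * a) := by
    refine ⟨k + m, ?_⟩
    have : (s * a) ^ (k + m) = s ^ m * a ^ k * (s ^ k * a ^ m) := by
      rw [mul_pow, pow_add, pow_add]; ring
    rw [this, hk', mul_zero]
  have hmem : s * a ∈ (HomogeneousIdeal.irrelevant 𝒜).toIdeal :=
    HomogeneousIdeal.mem_irrelevant_of_mem 𝒜 (i := d + n • d) (by omega)
      (SetLike.mul_mem_graded hs ha)
  have h0 : s * a = 0 := hred _ hmem hnil
  rw [Localization.mk_eq_mk'_apply, IsLocalization.mk'_eq_zero_iff]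
  exact ⟨⟨s, 1, pow_one s⟩, h0⟩

end Groth.Agent.Helper7
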