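import Mathlib
import Groth.Agent.Lib.Helper7.QAffDesc2
import Groth.Prelude.Def_MoreMor

set_option autoImplicit false
open CategoryTheory CategoryTheory.Limits AlgebraicGeometry Opposite TopologicalSpace
universe u

/-! helper7: ind-quasi-affine morphisms descend along a flat surjective quasi-compact base
change. -/

namespace Groth.Agent.Helper7.QAffDesc3

open Groth.Agent.Helper7.QAffDesc Groth.Agent.Helper7.QAffDesc2

theorem isQuasiAffine_piece_ind {X S X' S' Vi : Scheme.{u}} {f : X ⟶ S} {f' : X' ⟶ S'}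
    {g' : X' ⟶ X} {g : S' ⟶ S} (hc : IsPullback g' f' f g) (V : S.Opens)
    (hV : IsAffineOpen V)
    (U : (f ⁻¹ᵁ V).toScheme.Opens) (hU : IsCompact (U : Set (f ⁻¹ᵁ V).toScheme)) [IsAffine Vi]
    (j : Vi ⟶ (g ⁻¹ᵁ V).toScheme) [IsOpenImmersion j]
    (hf' : ∀ V' : S'.Opens, IsAffineOpen V' →
      MoreMor.IsIndQuasiAffine (f' ⁻¹ᵁ V' : Scheme.{u})) :
    (pullback (U.ι ≫ f ∣_ V) (j ≫ g ∣_ V)).IsQuasiAffine := by
  have : IsAffine V.toScheme := hV
  set T := pullback (U.ι ≫ f ∣_ V) (j ≫ g ∣_ V) with hT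
  let V' : S'.Opens := (j ≫ (g ⁻¹ᵁ V).ι).opensRange
  have hV' : IsAffineOpen V' := isAffineOpen_opensRange _
  have hind := hf' V' hV'
  let m : T ⟶ pullback f g := pullback.map (U.ι ≫ f ∣_ V) (j ≫ g ∣_ V) f g
    (U.ι ≫ (f ⁻¹ᵁ V).ι) (j ≫ (g ⁻¹ᵁ V).ι) V.ι (by simp) (by simp)
  have hm : IsOpenImmersion m := inferInstance
  let a : T ⟶ X' := m ≫ hc.isoPullback.inv
  have ha : IsOpenImmersion a := inferInstance
  have ha1 : a ≫ f' = pullback.snd (U.ι ≫ f ∣_ V) (j ≫ g ∣_ V) ≫ j ≫ (g ⁻¹ᵁ V).ι := by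
    change (m ≫ hc.isoPullback.inv) ≫ f' = _
    rw [Category.assoc, IsPullback.isoPullback_inv_snd]
    exact pullback.lift_snd _ _ _
  have hr : Set.range a ⊆ Set.range (f' ⁻¹ᵁ V').ι := by
    rintro _ ⟨t, rfl⟩
    rw [Scheme.Opens.range_ι]
    change f'.base (a.base t) ∈ V'
    rw [← Scheme.Hom.comp_apply, ha1, Scheme.Hom.comp_apply]
    exact ⟨_, rfl⟩
  let l : T ⟶ (f' ⁻¹ᵁ V').toScheme := IsOpenImmersion.lift (f' ⁻¹ᵁ V').ι a hr
  have hl : l ≫ (f' ⁻¹ᵁ V').ι = a := IsOpenImmersion.lift_fac _ _ _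
  have hlo : IsOpenImmersion l := by
    have : IsOpenImmersion (l ≫ (f' ⁻¹ᵁ V').ι) := by rw [hl]; exact ha
    exact IsOpenImmersion.of_comp l (f' ⁻¹ᵁ V').ι
  have hUc : CompactSpace U.toScheme := isCompact_iff_compactSpace.mp hU
  have hqc : QuasiCompact (U.ι ≫ f ∣_ V) := (quasiCompact_iff_compactSpace _).mpr hUc
  have hcT : CompactSpace T :=
    QuasiCompact.compactSpace_of_compactSpace (pullback.snd (U.ι ≫ f ∣_ V) (j ≫ g ∣_ V))
  have hrange : IsCompact (l.opensRange : Set (f' ⁻¹ᵁ V').toScheme) := by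
    change IsCompact (Set.range l.base)
    exact isCompact_range l.continuous
  have hqa := hind l.opensRange hrange
  exact Scheme.IsQuasiAffine.of_isImmersion l.isoOpensRange.hom

theorem main1401 {X S X' S' : Scheme.{u}} (f : X ⟶ S) (f' : X' ⟶ S') (g' : X' ⟶ X) (g : S' ⟶ S)
    [Flat g] [Surjective g] [QuasiCompact g] (hc : IsPullback g' f' f g)
    (hf' : MoreMor.IsIndQuasiAffineHom f') : MoreMor.IsIndQuasiAffineHom f := by
  intro V hV U hU
  have : IsAffine V.toScheme := hV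
  have : Surjective (g ∣_ V) := surjective_restrict g V
  have hUc : CompactSpace U.toScheme := isCompact_iff_compactSpace.mp hU
  exact isQuasiAffine_of_affine_base (U.ι ≫ f ∣_ V) (g ∣_ V) (g ⁻¹ᵁ V).toScheme.affineCover
    (fun i => isQuasiAffine_piece_ind hc V hV U hU _ hf')

end Groth.Agent.Helper7.QAffDesc3
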