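import Mathlib
import Groth.Prelude.Def_SGA1
import Groth.Agent.Lib.Helper7.QuotAff

set_option autoImplicit false
open CategoryTheory CategoryTheory.Limits AlgebraicGeometry Opposite TopologicalSpace
universe u

/-! helper7: quotients by finite groups in towers: for a normal subgroup `H` of `G`, the
quotient `X/H` with its induced `G/H`-action has quotient `X/G`. -/

namespace Groth.Agent.Helper7.QuotTower

open Groth.Agent.Helper7.QuotGrp Groth.Agent.Helper7.QuotBasis Groth.Agent.Helper7.QuotAff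

theorem appLE_congr_hom {X Y : Scheme.{u}} {a b : X ⟶ Y} (h : a = b) (U : Y.Opens) (V : X.Opens)
    (e : V ≤ a ⁻¹ᵁ U) : a.appLE U V e = b.appLE U V (h ▸ e) := by
  subst h; rfl

theorem main13081 {G : Type u} [Group G] [Finite G] {X XG XH : Scheme.{u}}
    (ρ : G →* Aut X) (p : X ⟶ XG)
    (hP : SGA1.IsQuot ρ p) (H : Subgroup G) [H.Normal] (pH : X ⟶ XH)
    (hPH : SGA1.IsQuot (ρ.comp H.subtype) pH) (ρbar : G ⧸ H →* Aut XH)
    (hρbar : ∀ g : G, pH ≫ (ρbar (QuotientGroup.mk g)).hom = (ρ g).hom ≫ pH)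
    (r : XH ⟶ XG) (hr : pH ≫ r = p) :
    SGA1.IsQuot ρbar r := by
  subst hr
  have hpinvH : ∀ h : H, ((ρ.comp H.subtype) h).hom ≫ pH ≫ r = pH ≫ r := fun h => hP.inv h
  have hinv : ∀ g : G ⧸ H, (ρbar g).hom ≫ r = r := by
    intro g
    obtain ⟨g, rfl⟩ := QuotientGroup.mk_surjective g
    apply (main2925 hPH XG (pH ≫ r) hpinvH).unique
    · rw [← Category.assoc, hρbar, Category.assoc, hP.inv]
    · rfl
  have haff : IsAffineHom r := by
    have := hP.affine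
    exact (isAffineHom_iff hPH (pH ≫ r) r rfl).mp inferInstance
  have happ : ∀ U : XG.Opens, (pH ≫ r).app U = r.app U ≫ pH.app (r ⁻¹ᵁ U) :=
    fun U => Scheme.Hom.comp_app _ _ _
  have hinj : ∀ U : XG.Opens, Function.Injective (r.app U).hom := by
    intro U a b hab
    apply hP.injective U
    rw [happ]
    exact congrArg (pH.app (r ⁻¹ᵁ U)).hom hab
  refine ⟨haff, hinv, hinj, fun U s => ⟨?_, ?_⟩⟩
  · rintro ⟨a, rfl⟩ g
    exact sig_app' ρbar r hinv U g a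
  · intro hs
    have hcomm : ∀ g : G,
        (ρbar (QuotientGroup.mk g)).hom.appLE (r ⁻¹ᵁ U) (r ⁻¹ᵁ U)
          (SGA1.preimage_le_of_inv ρbar r hinv _ U) ≫ pH.app (r ⁻¹ᵁ U) =
        pH.app (r ⁻¹ᵁ U) ≫ (ρ g).hom.appLE ((pH ≫ r) ⁻¹ᵁ U) ((pH ≫ r) ⁻¹ᵁ U)
          (SGA1.preimage_le_of_inv ρ (pH ≫ r) hP.inv g U) := by
      intro g
      have e1 := Scheme.Hom.appLE_comp_appLE pH (ρbar (QuotientGroup.mk g)).hom (r ⁻¹ᵁ U)
        (r ⁻¹ᵁ U) (pH ⁻¹ᵁ (r ⁻¹ᵁ U)) (SGA1.preimage_le_of_inv ρbar r hinv _ U) le_rfl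
      have e2 := Scheme.Hom.appLE_comp_appLE (ρ g).hom pH (r ⁻¹ᵁ U) (pH ⁻¹ᵁ (r ⁻¹ᵁ U))
        (pH ⁻¹ᵁ (r ⁻¹ᵁ U)) le_rfl (SGA1.preimage_le_of_inv ρ (pH ≫ r) hP.inv g U)
      rw [Scheme.Hom.app_eq_appLE]
      exact e1.trans ((appLE_congr_hom (hρbar g) _ _ _).trans e2.symm)
    have ht : ∀ g : G, sig ρ (pH ≫ r) hP.inv U g ((pH.app (r ⁻¹ᵁ U)).hom s) =
        (pH.app (r ⁻¹ᵁ U)).hom s := by
      intro g
      have h1 := congr($(hcomm g).hom s)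
      have h2 := hs (QuotientGroup.mk g)
      change (pH.app (r ⁻¹ᵁ U)).hom (((ρbar (QuotientGroup.mk g)).hom.appLE (r ⁻¹ᵁ U) (r ⁻¹ᵁ U)
          (SGA1.preimage_le_of_inv ρbar r hinv _ U)).hom s) = _ at h1
      rw [h2] at h1
      exact h1.symm
    obtain ⟨a, ha⟩ := (hP.range_iff U _).mpr ht
    refine ⟨a, ?_⟩
    apply hPH.injective (r ⁻¹ᵁ U)
    rw [← ha, happ]
    rfl

end Groth.Agent.Helper7.QuotTower
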