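import Mathlib
import Groth.Prelude.Def_EGA4Misc

set_option autoImplicit false
universe u
open CategoryTheory CategoryTheory.Limits AlgebraicGeometry

/-! helper7: radicial-at-a-point via field-valued points: `FieldInj f y`, `isRadicialAt_iff_fieldInj`,
`epi_of_field`, base change `fieldInj_of_isPullback(')`, `main5863`. -/

namespace Groth.Agent.Helper7.RadPt

/-- field-valued points over `y` are determined by their image -/
def FieldInj {X Y : Scheme.{u}} (f : X ⟶ Y) (y : Y) : Prop :=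
  ∀ (K : Type u) [Field K] (g₁ g₂ : Spec (.of K) ⟶ X), g₁ ≫ f = g₂ ≫ f →
    f (g₁ (IsLocalRing.closedPoint K)) = y → g₁ = g₂

set_option backward.isDefEq.respectTransparency.types false in
set_option backward.defeqAttrib.useBackward true in
theorem fieldInj_of_isRadicialAt {X Y : Scheme.{u}} (f : X ⟶ Y) (y : Y)
    (h : _root_.RadPt.IsRadicialAt f y) : FieldInj f y := by
  obtain ⟨h_inj, hf⟩ := h
  intro K _ g₁ g₂ hg hy
  obtain ⟨e, h⟩ := Scheme.SpecToEquivOfField_eq_iff.mp congr((Y.SpecToEquivOfField K) $(hg))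
  apply (X.SpecToEquivOfField K).injective
  dsimp at e h
  simp only [Scheme.descResidueField_stalkClosedPointTo_comp] at e h
  have hx : g₁ (IsLocalRing.closedPoint K) = g₂ (IsLocalRing.closedPoint K) :=
    h_inj _ _ hy (e ▸ hy)
  rw [← f.residueFieldMap_congr'_assoc hx, CommRingCat.hom_ext_iff] at h
  rw [Scheme.SpecToEquivOfField_eq_iff]
  have hfx := hf (g₁ (IsLocalRing.closedPoint K)) hy
  algebraize [(f.residueFieldMap (g₁ (IsLocalRing.closedPoint K))).hom]
  refine ⟨hx, CommRingCat.hom_ext ?_⟩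
  exact IsPurelyInseparable.injective_comp_algebraMap
    (Y.residueField (f (g₁ (IsLocalRing.closedPoint K))))
    (X.residueField (g₁ (IsLocalRing.closedPoint K))) _ h

set_option backward.isDefEq.respectTransparency.types false in
set_option backward.defeqAttrib.useBackward true in
theorem isRadicialAt_of_fieldInj {X Y : Scheme.{u}} (f : X ⟶ Y) (y : Y)
    (h : FieldInj f y) : _root_.RadPt.IsRadicialAt f y := by
  refine ⟨fun x₁ x₂ h₁ h₂ => ?_, fun x hx => ?_⟩
  · obtain ⟨z, hz₁, hz₂⟩ := Scheme.Pullback.exists_preimage_pullback (f := f) (g := f) x₁ x₂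
      (h₁.trans h₂.symm)
    obtain ⟨φ, hφdef⟩ : ∃ φ : Spec ((pullback f f).residueField z) ⟶ pullback f f,
      φ = (pullback f f).fromSpecResidueField z := ⟨_, rfl⟩
    have hφpt : ∀ s, φ s = z := fun s => by rw [hφdef, Scheme.fromSpecResidueField_apply]
    have hφ : φ ≫ pullback.fst f f = φ ≫ pullback.snd f f :=
      h ((pullback f f).residueField z) _ _ (by simp [pullback.condition]) (by
        change f ((pullback.fst f f) (φ _)) = y
        rw [hφpt, hz₁, h₁])
    have := congr($(hφ) (IsLocalRing.closedPoint _))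
    rw [Scheme.Hom.comp_apply, Scheme.Hom.comp_apply, hφpt, hz₁, hz₂] at this
    exact this
  · algebraize [(f.residueFieldMap x).hom]
    rw [RingHom.IsPurelyInseparable, isPurelyInseparable_iff_subsingleton_emb, subsingleton_iff]
    intro σ₁ σ₂
    apply AlgHom.coe_ringHom_injective
    let g₁ := (X.SpecToEquivOfField _).symm ⟨_, CommRingCat.ofHom σ₁.toRingHom⟩
    let g₂ := (X.SpecToEquivOfField _).symm ⟨_, CommRingCat.ofHom σ₂.toRingHom⟩
    suffices X.SpecToEquivOfField _ g₁ = X.SpecToEquivOfField _ g₂ by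
      rw [Equiv.apply_symm_apply, Equiv.apply_symm_apply] at this
      exact congr($(this).2.hom)
    have hcomp : g₁ ≫ f = g₂ ≫ f := by
      simp only [g₁, g₂, Scheme.SpecToEquivOfField_symm_apply, AlgHom.toRingHom_eq_coe,
        Category.assoc, ← f.SpecMap_residueFieldMap_fromSpecResidueField x, ← Spec.map_comp_assoc]
      congr 2
      ext a
      simp only [CommRingCat.hom_comp, RingHom.comp_apply]
      exact (AlgHom.commutes σ₁ a).trans (AlgHom.commutes σ₂ a).symm
    have hpt : f (g₁ (IsLocalRing.closedPoint _)) = y := by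
      simp only [g₁, Scheme.SpecToEquivOfField_symm_apply, Scheme.Hom.comp_apply,
        Scheme.fromSpecResidueField_apply]
      exact hx
    rw [h _ g₁ g₂ hcomp hpt]

theorem isRadicialAt_iff_fieldInj {X Y : Scheme.{u}} (f : X ⟶ Y) (y : Y) :
    _root_.RadPt.IsRadicialAt f y ↔ FieldInj f y :=
  ⟨fieldInj_of_isRadicialAt f y, isRadicialAt_of_fieldInj f y⟩

/-- a morphism between spectra of fields is an epimorphism -/
theorem epi_of_field {K L : Type u} [Field K] [Field L] (a : Spec (.of L) ⟶ Spec (.of K)) :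
    Epi a := by
  have hs : Surjective a := by
    refine ⟨fun x => ⟨IsLocalRing.closedPoint L, ?_⟩⟩
    exact Subsingleton.elim (α := PrimeSpectrum K) _ _
  have hfl : Flat a := by
    obtain ⟨ψ, rfl⟩ := Spec.map_surjective a
    rw [HasRingHomProperty.Spec_iff (P := @Flat)]
    algebraize [ψ.hom]
    exact (RingHom.flat_algebraMap_iff (R := K) (S := L)).mpr inferInstance
  exact Flat.epi_of_flat_of_surjective a

theorem fieldInj_of_isPullback {X Y X' Y' : Scheme.{u}} {f : X ⟶ Y} {h : Y' ⟶ Y} {f' : X' ⟶ Y'}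
    {h' : X' ⟶ X} (sq : IsPullback h' f' f h) (y' : Y') (hf : FieldInj f (h y')) :
    FieldInj f' y' := by
  intro K _ g₁ g₂ hg hy
  have h1 : (g₁ ≫ h') ≫ f = (g₂ ≫ h') ≫ f := by
    rw [Category.assoc, Category.assoc, sq.w, ← Category.assoc, ← Category.assoc, hg]
  have h2 : f ((g₁ ≫ h') (IsLocalRing.closedPoint K)) = h y' := by
    have := congr($(sq.w) (g₁ (IsLocalRing.closedPoint K)))
    rw [Scheme.Hom.comp_apply, Scheme.Hom.comp_apply, hy] at this
    rw [Scheme.Hom.comp_apply]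
    exact this
  exact sq.hom_ext (hf K _ _ h1 h2) hg

theorem fieldInj_of_isPullback' {X Y X' Y' : Scheme.{u}} {f : X ⟶ Y} {h : Y' ⟶ Y} {f' : X' ⟶ Y'}
    {h' : X' ⟶ X} (sq : IsPullback h' f' f h) (y' : Y') (hf' : FieldInj f' y') :
    FieldInj f (h y') := by
  intro K _ g₁ g₂ hg hy
  obtain ⟨w, hw₁, hw₂⟩ := Scheme.Pullback.exists_preimage_pullback (f := g₁ ≫ f) (g := h)
    (IsLocalRing.closedPoint K) y' (by rw [Scheme.Hom.comp_apply]; exact hy)
  obtain ⟨φ, hφdef⟩ : ∃ φ : Spec ((pullback (g₁ ≫ f) h).residueField w) ⟶ pullback (g₁ ≫ f) h,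
    φ = (pullback (g₁ ≫ f) h).fromSpecResidueField w := ⟨_, rfl⟩
  have hφpt : ∀ s, φ s = w := fun s => by rw [hφdef, Scheme.fromSpecResidueField_apply]
  obtain ⟨a, ha⟩ : ∃ a : Spec (.of ((pullback (g₁ ≫ f) h).residueField w)) ⟶ Spec (.of K),
    a = φ ≫ pullback.fst (g₁ ≫ f) h := ⟨_, rfl⟩
  obtain ⟨b, hb⟩ : ∃ b : Spec (.of ((pullback (g₁ ≫ f) h).residueField w)) ⟶ Y',
    b = φ ≫ pullback.snd (g₁ ≫ f) h := ⟨_, rfl⟩
  have hab : a ≫ g₁ ≫ f = b ≫ h := by
    rw [ha, hb, Category.assoc, Category.assoc, pullback.condition]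
  have hab₂ : a ≫ g₂ ≫ f = b ≫ h := by rw [← hg, hab]
  have hl₁ : (sq.lift (a ≫ g₁) b (by rw [Category.assoc, hab])) ≫ f' =
      (sq.lift (a ≫ g₂) b (by rw [Category.assoc, hab₂])) ≫ f' := by
    rw [sq.lift_snd, sq.lift_snd]
  have hl₂ : f' ((sq.lift (a ≫ g₁) b (by rw [Category.assoc, hab]))
      (IsLocalRing.closedPoint _)) = y' := by
    rw [← Scheme.Hom.comp_apply, sq.lift_snd, hb, Scheme.Hom.comp_apply, hφpt, hw₂]
  have hl := hf' _ _ _ hl₁ hl₂
  have := congr($(hl) ≫ h')
  rw [sq.lift_fst, sq.lift_fst] at this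
  have hepi := epi_of_field a
  exact (cancel_epi a).mp this

theorem main5863 {X Y X' Y' : Scheme.{u}} {f : X ⟶ Y} {h : Y' ⟶ Y} {f' : X' ⟶ Y'} {h' : X' ⟶ X}
    (sq : IsPullback h' f' f h) (y' : Y') :
    _root_.RadPt.IsRadicialAt f (h y') ↔ _root_.RadPt.IsRadicialAt f' y' := by
  rw [isRadicialAt_iff_fieldInj, isRadicialAt_iff_fieldInj]
  exact ⟨fieldInj_of_isPullback sq y', fieldInj_of_isPullback' sq y'⟩

end Groth.Agent.Helper7.RadPt
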