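import Mathlib
import Groth.Prelude.Def_HTop2
import Groth.Prelude.Def_Pi1
import Groth.Agent.Lib.Helper7.PerfAWN
import Groth.Agent.Lib.Helper6.SubInt

/-! helper7: seminormal schemes: field-valued points and residue fields, sections of universal
homeomorphisms with trivial residue field extensions over seminormal schemes, normal schemes are
seminormal. -/

namespace Groth.Agent.Helper7.SNSch
open AlgebraicGeometry CategoryTheory Limits
open Groth.Agent.Helper9.UH
open Groth.Agent.Helper7.UHLib Groth.Agent.Helper7.UHLib2 Groth.Agent.Helper7.UHTower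
open Groth.Agent.Helper7.FPColim Groth.Agent.Helper7.AWN Groth.Agent.Helper7.SN
open Groth.Agent.Helper7.SchAWN Groth.Agent.Helper7.PerfAWN
open TopologicalSpace Opposite
universe u

section kpoints
variable {Y X : Scheme.{u}} (π : Y ⟶ X)

theorem exists_lift_of_residueFieldsIso (hs : Function.Surjective π)
    (hπ : HTop.ResidueFieldsIso π)
    (K : Type u) [Field K] (g : Spec (.of K) ⟶ X) : ∃ g' : Spec (.of K) ⟶ Y, g' ≫ π = g := by
  obtain ⟨y, hy⟩ := hs (g (IsLocalRing.closedPoint K))
  have := hπ y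
  refine ⟨Spec.map (inv (π.residueFieldMap y) ≫ (X.residueFieldCongr hy).hom ≫
    X.descResidueField (Scheme.stalkClosedPointTo g)) ≫ Y.fromSpecResidueField y, ?_⟩
  rw [Category.assoc, ← Scheme.Hom.SpecMap_residueFieldMap_fromSpecResidueField,
    ← Spec.map_comp_assoc, IsIso.hom_inv_id_assoc, Spec.map_comp_assoc,
    Scheme.residueFieldCongr_fromSpecResidueField,
    Scheme.descResidueField_stalkClosedPointTo_fromSpecResidueField]


lemma isIso_desc_fromSpecResidueField (x : X) (h : Spec (X.residueField x) ⟶ X)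
    (hh : h = X.fromSpecResidueField x) :
    IsIso (X.descResidueField (K := X.residueField x) (Scheme.stalkClosedPointTo h)) := by
  subst hh
  have e0 : (Scheme.SpecToEquivOfField (X.residueField x) X).symm ⟨x, 𝟙 _⟩ =
      X.fromSpecResidueField x := by
    show Spec.map (𝟙 _) ≫ X.fromSpecResidueField x = _
    rw [Spec.map_id, Category.id_comp]
  have e1 : (Scheme.SpecToEquivOfField (X.residueField x) X) (X.fromSpecResidueField x) =
      ⟨x, 𝟙 _⟩ := by
    rw [← e0, Equiv.apply_symm_apply]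
  rw [Scheme.SpecToEquivOfField_eq_iff] at e1
  obtain ⟨e, he⟩ := e1
  have h3 : IsIso ((Scheme.SpecToEquivOfField (X.residueField x) X)
      (X.fromSpecResidueField x)).snd := by
    rw [he]; infer_instance
  exact h3

theorem residueFieldsIso_of_lift (hinj : Function.Injective π)
    (hlift : ∀ (K : Type u) [Field K] (g : Spec (.of K) ⟶ X),
      ∃ g' : Spec (.of K) ⟶ Y, g' ≫ π = g) :
    HTop.ResidueFieldsIso π := by
  intro y
  obtain ⟨g', hg'⟩ := hlift (X.residueField (π y)) (X.fromSpecResidueField (π y))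
  have h1 := isIso_desc_fromSpecResidueField (π y) (g' ≫ π) hg'
  have h2 := Scheme.descResidueField_stalkClosedPointTo_comp (f := π) g'
  have hy : g' (IsLocalRing.closedPoint (X.residueField (π y))) = y := by
    apply hinj
    rw [← Scheme.Hom.comp_apply, hg', Scheme.fromSpecResidueField_apply]
  have key : ∀ y₁ y₂ : Y, y₁ = y₂ → IsIso (π.residueFieldMap y₁) → IsIso (π.residueFieldMap y₂) := by
    rintro _ _ rfl h; exact h
  apply key _ _ hy
  have h1' : IsIso (π.residueFieldMap (g' (IsLocalRing.closedPoint (X.residueField (π y)))) ≫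
      Y.descResidueField (K := X.residueField (π y)) (Scheme.stalkClosedPointTo g')) := by
    rw [← h2]; exact h1
  have hb : IsIso (Y.descResidueField (K := X.residueField (π y))
      (Scheme.stalkClosedPointTo g')) := by
    rw [ConcreteCategory.isIso_iff_bijective]
    constructor
    · exact RingHom.injective _
    · have hs := (ConcreteCategory.bijective_of_isIso (π.residueFieldMap
          (g' (IsLocalRing.closedPoint (X.residueField (π y)))) ≫ Y.descResidueField
          (K := X.residueField (π y)) (Scheme.stalkClosedPointTo g'))).2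
      intro k
      obtain ⟨z, hz⟩ := hs k
      exact ⟨_, hz⟩
  exact IsIso.of_isIso_comp_right _ (Y.descResidueField (K := X.residueField (π y))
      (Scheme.stalkClosedPointTo g'))


theorem residueFieldsIso_of_isPullback {P X' : Scheme.{u}} {fst : P ⟶ Y} {snd : P ⟶ X'}
    {f : X' ⟶ X} (sq : IsPullback fst snd π f)
    (hπ : FlatMor.IsUnivHomeo π) (hres : HTop.ResidueFieldsIso π) :
    HTop.ResidueFieldsIso snd := by
  have hsnd : FlatMor.IsUnivHomeo snd := MorphismProperty.of_isPullback sq hπ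
  apply residueFieldsIso_of_lift snd (isHomeomorph_of_isUnivHomeo snd hsnd).injective
  intro K _ g
  obtain ⟨g'', hg''⟩ := exists_lift_of_residueFieldsIso π
    (isHomeomorph_of_isUnivHomeo π hπ).surjective hres K (g ≫ f)
  exact ⟨sq.lift g'' g hg'', sq.lift_snd _ _ _⟩

theorem residueFieldsIso_pullback_snd {X' : Scheme.{u}} (f : X' ⟶ X)
    (hπ : FlatMor.IsUnivHomeo π) (hres : HTop.ResidueFieldsIso π) :
    HTop.ResidueFieldsIso (pullback.snd π f) :=
  residueFieldsIso_of_isPullback π (IsPullback.of_hasPullback π f) hπ hres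

theorem residueFieldsIso_pullback_fst {X' : Scheme.{u}} (f : X' ⟶ X)
    (hπ : FlatMor.IsUnivHomeo π) (hres : HTop.ResidueFieldsIso π) :
    HTop.ResidueFieldsIso (pullback.fst f π) :=
  residueFieldsIso_of_isPullback π (IsPullback.of_hasPullback f π).flip hπ hres

/-- cancelling open immersions -/
theorem residueFieldsIso_of_comm {V U : Scheme.{u}} (i : V ⟶ Y) (j : U ⟶ X) [IsOpenImmersion i]
    [IsOpenImmersion j] (g : V ⟶ U) (hg : g ≫ j = i ≫ π) (hres : HTop.ResidueFieldsIso π) :
    HTop.ResidueFieldsIso g := by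
  intro v
  have h1 : IsIso ((i ≫ π).residueFieldMap v) := by
    rw [Scheme.residueFieldMap_comp]
    have := hres (i v)
    exact IsIso.comp_isIso' this inferInstance
  have h2 : IsIso ((g ≫ j).residueFieldMap v) := by
    rw [Scheme.Hom.residueFieldMap_congr hg]
    exact IsIso.comp_isIso' inferInstance h1
  rw [Scheme.residueFieldMap_comp] at h2
  have h3 : IsIso (j.residueFieldMap (g v)) := inferInstance
  exact @IsIso.of_isIso_comp_left _ _ _ _ _ _ _ h3 h2

theorem residueFieldsIso_morphismRestrict (hres : HTop.ResidueFieldsIso π) (U : X.Opens) :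
    HTop.ResidueFieldsIso (π ∣_ U) :=
  residueFieldsIso_of_comm π (π ⁻¹ᵁ U).ι U.ι (π ∣_ U) (morphismRestrict_ι π U) hres

end kpoints

section ring
variable {A C : Type u} [CommRing A] [CommRing C] (ψ : A →+* C)

lemma res_of_residueFieldsIso (h : HTop.ResidueFieldsIso (Spec.map (CommRingCat.ofHom ψ))) :
    ∀ x : Spec (CommRingCat.of C),
      Function.Surjective ((Spec.map (CommRingCat.ofHom ψ)).residueFieldMap x) := by
  intro x
  have := h x
  exact (ConcreteCategory.bijective_of_isIso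
    ((Spec.map (CommRingCat.ofHom ψ)).residueFieldMap x)).2

theorem bijective_of_uh_res_of_isSeminormalRing (hA : HTop.IsSeminormalRing A) [IsReduced C]
    (hU : FlatMor.IsUnivHomeo (Spec.map (CommRingCat.ofHom ψ)))
    (hres : ∀ x : Spec (CommRingCat.of C),
      Function.Surjective ((Spec.map (CommRingCat.ofHom ψ)).residueFieldMap x)) :
    Function.Bijective ψ := by
  have hredA : IsReduced A := isReduced_of_isSeminormalRing hA
  have hinj : Function.Injective ψ := by
    rw [RingHom.injective_iff_ker_eq_bot, eq_bot_iff]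
    have := ((uh_iff_crit ψ).mp hU).2
    rwa [nilradical_eq_zero] at this
  refine ⟨hinj, ?_⟩
  by_contra hns
  obtain ⟨b, hb, ⟨x, hx⟩, ⟨y, hy⟩⟩ :=
    Groth.Agent.Lib.Helper6.SubInt.main7398 ψ hinj hns hU hres
  have hxy : x ^ 3 = y ^ 2 := by
    apply hinj
    rw [map_pow, map_pow, hx, hy]; ring
  obtain ⟨a, ⟨ha1, ha2⟩, -⟩ := hA x y hxy
  apply hb
  refine ⟨a, ?_⟩
  apply eq_of_sq_cube
  · rw [← map_pow, ← ha1, hx]
  · rw [← map_pow, ← ha2, hy]

theorem exists_retraction (hA : HTop.IsSeminormalRing A)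
    (hU : FlatMor.IsUnivHomeo (Spec.map (CommRingCat.ofHom ψ)))
    (hres : ∀ x : Spec (CommRingCat.of C),
      Function.Surjective ((Spec.map (CommRingCat.ofHom ψ)).residueFieldMap x)) :
    ∃ r : C →+* A, r.comp ψ = RingHom.id A := by
  let m : C →+* C ⧸ nilradical C := Ideal.Quotient.mk (nilradical C)
  have hm : Function.Surjective m := Ideal.Quotient.mk_surjective
  have hUm : FlatMor.IsUnivHomeo (Spec.map (CommRingCat.ofHom m)) := by
    rw [uh_iff_crit]
    refine ⟨⟨RingHom.isIntegral_of_surjective m hm, ?_⟩, ?_⟩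
    · intro K _ ψ₁ ψ₂ h
      ext s
      exact congrArg (fun k => k s) h
    · rw [Ideal.mk_ker]
  have hred : IsReduced (C ⧸ nilradical C) := by
    rw [← Ideal.isRadical_iff_quotient_reduced]
    exact Ideal.radical_isRadical _
  have hb := bijective_of_uh_res_of_isSeminormalRing (m.comp ψ) hA (uh_comp ψ m hU hUm)
    (res_comp ψ m hres (res_surjective m hm))
  let e : A ≃+* C ⧸ nilradical C := RingEquiv.ofBijective (m.comp ψ) hb
  refine ⟨e.symm.toRingHom.comp m, ?_⟩
  ext a
  show e.symm (m (ψ a)) = a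
  exact e.symm_apply_apply a

end ring

section sch
variable {Z X : Scheme.{u}} (q : Z ⟶ X)

theorem exists_local_section (hq : FlatMor.IsUnivHomeo q) (hres : HTop.ResidueFieldsIso q)
    (hX : HTop.IsSeminormal X) (U : X.affineOpens) :
    ∃ s : U.1.toScheme ⟶ Z, s ≫ q = U.1.ι := by
  have haff := UHSch.isAffineHom_of_isUnivHomeo q hq
  have hV : IsAffineOpen (q ⁻¹ᵁ U.1) := U.2.preimage q
  have hA : HTop.IsSeminormalRing Γ(X, U.1) := ((SN.main7420 X).1.mp hX) U
  have huh := isUnivHomeo_specMap_app q hq U.2 hV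
  have hsq : Spec.map (q.app U.1) ≫ U.2.fromSpec = hV.fromSpec ≫ q := by
    rw [Scheme.Hom.app_eq_appLE, IsAffineOpen.SpecMap_appLE_fromSpec]
  have hr := residueFieldsIso_of_comm q hV.fromSpec U.2.fromSpec (Spec.map (q.app U.1)) hsq hres
  obtain ⟨r, hr⟩ := exists_retraction (q.app U.1).hom hA huh (res_of_residueFieldsIso _ hr)
  refine ⟨U.2.isoSpec.hom ≫ Spec.map (CommRingCat.ofHom r) ≫ hV.fromSpec, ?_⟩
  rw [Category.assoc, Category.assoc, ← hsq, ← Spec.map_comp_assoc]
  have e : q.app U.1 ≫ CommRingCat.ofHom r = 𝟙 _ := by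
    ext a
    exact congrArg (fun f => f a) hr
  rw [e, Spec.map_id, Category.id_comp]
  show U.2.isoSpec.hom ≫ U.2.isoSpec.inv ≫ U.1.ι = _
  rw [Iso.hom_inv_id_assoc]

theorem exists_section_of_isSeminormal (hq : FlatMor.IsUnivHomeo q)
    (hres : HTop.ResidueFieldsIso q) (hX : HTop.IsSeminormal X) :
    ∃ s : X ⟶ Z, s ≫ q = 𝟙 X := by
  have hred : IsReduced X := (Groth.Agent.S7421.result).2 X hX
  choose s hs using exists_local_section q hq hres hX
  have hcov : TopologicalSpace.IsOpenCover (fun U : X.affineOpens => U.1) :=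
    iSup_affineOpens_eq_top X
  let 𝒰 : X.OpenCover := X.openCoverOfIsOpenCover (fun U : X.affineOpens => U.1) hcov
  have compat : ∀ i j : X.affineOpens,
      pullback.fst (i.1.ι) (j.1.ι) ≫ s i = pullback.snd (i.1.ι) (j.1.ι) ≫ s j := by
    intro i j
    have hred : IsReduced (pullback (i.1.ι) (j.1.ι)) :=
      isReduced_of_isOpenImmersion (pullback.fst (i.1.ι) (j.1.ι) ≫ i.1.ι)
    apply hom_ext_of_isUnivHomeo q hq
    rw [Category.assoc, Category.assoc, hs, hs]
    exact pullback.condition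
  refine ⟨𝒰.glueMorphisms s compat, ?_⟩
  apply Scheme.Cover.hom_ext 𝒰
  intro (i : X.affineOpens)
  have e1 : i.1.ι ≫ 𝒰.glueMorphisms s compat = s i := 𝒰.ι_glueMorphisms s compat i
  show i.1.ι ≫ 𝒰.glueMorphisms s compat ≫ q = i.1.ι ≫ 𝟙 X
  rw [← Category.assoc, e1, hs, Category.comp_id]

end sch

section opens

theorem isSeminormal_of_isOpenImmersion {V X : Scheme.{u}} (j : V ⟶ X) [IsOpenImmersion j]
    (hX : HTop.IsSeminormal X) : HTop.IsSeminormal V := by
  have hall := (SN.main7420 X).1.mp hX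
  intro y
  obtain ⟨_, ⟨U, hU, rfl⟩, hyU, -⟩ :=
    V.isBasis_affineOpens.exists_subset_of_mem_open (Set.mem_univ y) isOpen_univ
  refine ⟨⟨U, hU⟩, hyU, ?_⟩
  have hV : IsAffineOpen (j ''ᵁ U) := hU.image_of_isOpenImmersion j
  have h1 : HTop.IsSeminormalRing Γ(X, j ''ᵁ U) := hall ⟨_, hV⟩
  have hb : Function.Bijective (j.appIso U).inv.hom :=
    ConcreteCategory.bijective_of_isIso (j.appIso U).inv
  exact isSeminormalRing_of_bijective _ hb h1

end opens

section normal

lemma exists_of_normal_domain (R : Type*) [CommRing R] [IsDomain R] [IsIntegrallyClosed R]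
    (x y : R) (h : x ^ 3 = y ^ 2) : ∃ a : R, x = a ^ 2 ∧ y = a ^ 3 := by
  by_cases hx : x = 0
  · subst hx
    have h2 : y ^ 2 = 0 := by rw [← h]; simp
    have : y = 0 := (pow_eq_zero_iff two_ne_zero).mp h2
    exact ⟨0, by simp, by simp [this]⟩
  · have hxK : algebraMap R (FractionRing R) x ≠ 0 :=
      (map_ne_zero_iff _ (IsFractionRing.injective R (FractionRing R))).mpr hx
    have hα2 : (algebraMap R (FractionRing R) y / algebraMap R (FractionRing R) x) ^ 2 =
        algebraMap R (FractionRing R) x := by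
      rw [div_pow, ← map_pow, ← h, map_pow, div_eq_iff (pow_ne_zero 2 hxK)]
      ring
    obtain ⟨a, ha⟩ := IsIntegrallyClosed.exists_algebraMap_eq_of_isIntegral_pow (R := R)
      (K := FractionRing R) (n := 2) two_pos
      (x := algebraMap R (FractionRing R) y / algebraMap R (FractionRing R) x)
      (by rw [hα2]; exact isIntegral_algebraMap)
    refine ⟨a, ?_, ?_⟩
    · apply IsFractionRing.injective R (FractionRing R)
      rw [map_pow, ha, hα2]
    · apply IsFractionRing.injective R (FractionRing R)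
      rw [map_pow, ha, pow_succ, hα2]
      exact (mul_div_cancel₀ _ hxK).symm


lemma map_map_eq {X : Scheme.{u}} {U V W : X.Opens} (i : V ⟶ U) (j : W ⟶ V) (k : W ⟶ U)
    (s : Γ(X, U)) : X.presheaf.map j.op (X.presheaf.map i.op s) = X.presheaf.map k.op s := by
  rw [← CommRingCat.comp_apply, ← X.presheaf.map_comp, ← op_comp]
  rfl

lemma glue_sections {X : Scheme.{u}} (U : X.Opens) {ι : Type*} (W : ι → X.Opens)
    (iW : ∀ i, W i ⟶ U) (hcov : U ≤ iSup W) (t : ∀ i, Γ(X, W i))
    (hc : ∀ i j, X.presheaf.map (Opens.infLELeft (W i) (W j)).op (t i) =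
      X.presheaf.map (Opens.infLERight (W i) (W j)).op (t j)) :
    ∃ a : Γ(X, U), ∀ i, X.presheaf.map (iW i).op a = t i := by
  obtain ⟨a, ha, -⟩ := X.sheaf.existsUnique_gluing' W U iW hcov t hc
  exact ⟨a, ha⟩

lemma eq_of_locally {X : Scheme.{u}} (U : X.Opens) {ι : Type*} (W : ι → X.Opens)
    (iW : ∀ i, W i ⟶ U) (hcov : U ≤ iSup W) (s t : Γ(X, U))
    (h : ∀ i, X.presheaf.map (iW i).op s = X.presheaf.map (iW i).op t) : s = t :=
  X.sheaf.eq_of_locally_eq' W U iW hcov s t h

theorem isSeminormalRing_of_isNormalScheme {X : Scheme.{u}} (hn : Pi1.IsNormalScheme X)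
    (U : X.Opens) : HTop.IsSeminormalRing Γ(X, U) := by
  have hst : ∀ x : X, _root_.IsReduced (X.presheaf.stalk x) := fun x => by
    have := (hn x).1
    infer_instance
  have hred : IsReduced X := isReduced_of_isReduced_stalk X
  rw [sn_iff]
  refine ⟨inferInstance, ?_⟩
  intro x y hxy
  have hloc : ∀ p : U, ∃ (W : X.Opens) (_ : p.1 ∈ W) (i : W ⟶ U) (t : Γ(X, W)),
      X.presheaf.map i.op x = t ^ 2 ∧ X.presheaf.map i.op y = t ^ 3 := by
    intro p
    have hd := (hn p.1).1
    have hic := (hn p.1).2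
    obtain ⟨a, ha1, ha2⟩ := exists_of_normal_domain (X.presheaf.stalk p.1)
      (X.presheaf.germ U p.1 p.2 x) (X.presheaf.germ U p.1 p.2 y)
      (by rw [← map_pow, ← map_pow, hxy])
    obtain ⟨V, hpV, t, ht⟩ := X.presheaf.exists_germ_eq a
    obtain ⟨W1, hpW1, iU1, iV1, e1⟩ := X.presheaf.germ_eq p.1 p.2 hpV x (t ^ 2)
      (by rw [map_pow, ht, ha1])
    obtain ⟨W2, hpW2, iU2, iV2, e2⟩ := X.presheaf.germ_eq p.1 p.2 hpV y (t ^ 3)
      (by rw [map_pow, ht, ha2])
    refine ⟨W1 ⊓ W2, ⟨hpW1, hpW2⟩, (Opens.infLELeft W1 W2) ≫ iU1,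
      X.presheaf.map ((Opens.infLELeft W1 W2) ≫ iV1).op t, ?_, ?_⟩
    · rw [← map_map_eq iU1 (Opens.infLELeft W1 W2) _ x, e1, map_map_eq, map_pow]
    · rw [← map_map_eq iU2 (Opens.infLERight W1 W2) _ y, e2, map_map_eq, map_pow]
  choose W hpW iW t ht1 ht2 using hloc
  have hcompat : ∀ p q, X.presheaf.map (Opens.infLELeft (W p) (W q)).op (t p) =
      X.presheaf.map (Opens.infLERight (W p) (W q)).op (t q) := by
    intro p q
    apply eq_of_sq_cube
    · rw [← map_pow, ← map_pow, ← ht1, ← ht1,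
        map_map_eq (iW p) (Opens.infLELeft _ _) (Opens.infLELeft _ _ ≫ iW p) x,
        map_map_eq (iW q) (Opens.infLERight _ _) (Opens.infLELeft _ _ ≫ iW p) x]
    · rw [← map_pow, ← map_pow, ← ht2, ← ht2,
        map_map_eq (iW p) (Opens.infLELeft _ _) (Opens.infLELeft _ _ ≫ iW p) y,
        map_map_eq (iW q) (Opens.infLERight _ _) (Opens.infLELeft _ _ ≫ iW p) y]
  have hcov : U ≤ iSup W := by
    intro p hp
    exact Opens.mem_iSup.mpr ⟨⟨p, hp⟩, hpW ⟨p, hp⟩⟩
  obtain ⟨a, ha'⟩ := glue_sections U W iW hcov t hcompat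
  refine ⟨a, ?_, ?_⟩
  · apply eq_of_locally U W iW hcov
    intro p
    rw [map_pow, ha' p]
    exact ht1 p
  · apply eq_of_locally U W iW hcov
    intro p
    rw [map_pow, ha' p]
    exact ht2 p

theorem isSeminormal_of_isNormalScheme {X : Scheme.{u}} (hn : Pi1.IsNormalScheme X) :
    HTop.IsSeminormal X := by
  rw [(SN.main7420 X).1]
  intro U
  exact isSeminormalRing_of_isNormalScheme hn U.1

end normal

section mains

theorem main15940 {X' X : Scheme.{u}} (ν : X' ⟶ X)
    (hν : HTop.IsSeminormalization ν) (hX : HTop.IsSeminormal X) : IsIso ν := by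
  obtain ⟨s, hs⟩ := exists_section_of_isSeminormal ν hν.1.1 hν.1.2 hX
  obtain ⟨c, -, hc⟩ := hν.2 X' ν hν.1.1 hν.1.2
  have e : ν ≫ s = 𝟙 X' := by
    rw [hc (ν ≫ s) (by beta_reduce; rw [Category.assoc, hs, Category.comp_id]),
      hc (𝟙 X') (Category.id_comp _)]
  exact ⟨s, e, hs⟩

theorem main15961 {X' X : Scheme.{u}} (ν : X' ⟶ X)
    (hν : HTop.IsSeminormalization ν) (hX' : HTop.IsSeminormal X') (U : X.Opens) :
    HTop.IsSeminormalization (ν ∣_ U) := by
  have huh := UHSch.isUnivHomeo_morphismRestrict ν hν.1.1 U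
  have hres := residueFieldsIso_morphismRestrict ν hν.1.2 U
  refine ⟨⟨huh, hres⟩, ?_⟩
  intro Y π hπ hπres
  have hsn : HTop.IsSeminormal (ν ⁻¹ᵁ U).toScheme :=
    isSeminormal_of_isOpenImmersion (ν ⁻¹ᵁ U).ι hX'
  have hred : IsReduced (ν ⁻¹ᵁ U).toScheme := (Groth.Agent.S7421.result).2 _ hsn
  have hq : FlatMor.IsUnivHomeo (pullback.snd π (ν ∣_ U)) :=
    MorphismProperty.pullback_snd _ _ hπ
  obtain ⟨s, hs⟩ := exists_section_of_isSeminormal (pullback.snd π (ν ∣_ U)) hq
    (residueFieldsIso_pullback_snd π (ν ∣_ U) hπ hπres) hsn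
  refine ⟨s ≫ pullback.fst π (ν ∣_ U), ?_, ?_⟩
  · beta_reduce
    rw [Category.assoc, pullback.condition, ← Category.assoc, hs, Category.id_comp]
  · intro h hh
    apply hom_ext_of_isUnivHomeo π hπ
    rw [hh, Category.assoc, pullback.condition, ← Category.assoc, hs, Category.id_comp]

theorem main15962 {S Sn X' : Scheme.{u}} (π : Sn ⟶ S) (hn : Pi1.IsNormalScheme Sn)
    (ν : X' ⟶ S) (hν : HTop.IsSeminormalization ν) :
    ∃ g : Sn ⟶ X', g ≫ ν = π := by
  have hsn : HTop.IsSeminormal Sn := isSeminormal_of_isNormalScheme hn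
  have hq : FlatMor.IsUnivHomeo (pullback.snd ν π) :=
    MorphismProperty.pullback_snd _ _ hν.1.1
  obtain ⟨s, hs⟩ := exists_section_of_isSeminormal (pullback.snd ν π) hq
    (residueFieldsIso_pullback_snd ν π hν.1.1 hν.1.2) hsn
  exact ⟨s ≫ pullback.fst ν π, by
    rw [Category.assoc, pullback.condition, ← Category.assoc, hs, Category.id_comp]⟩

end mains

end Groth.Agent.Helper7.SNSch
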