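import Mathlib
import Groth.Agent.Lib.Helper7.SNSch

/-! helper7: factoring morphisms out of an absolute weak normalization (or seminormalization)
through finite universal homeomorphisms, using scheme-theoretic images. -/

namespace Groth.Agent.Helper7.SNImg
open AlgebraicGeometry CategoryTheory Limits
open Groth.Agent.Helper9.UH Groth.Agent.Helper7.SNSch
universe u

theorem universallyInjective_of_comp {X Y Z : Scheme.{u}} (f : X ⟶ Y) (g : Y ⟶ Z)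
    [UniversallyInjective (f ≫ g)] : UniversallyInjective f := by
  have h : ∀ (K : Type u) [Field K],
      Function.Injective (fun g' : Spec (.of K) ⟶ X ↦ g' ≫ (f ≫ g)) :=
    ((tfae_universallyInjective (f ≫ g)).out 0 1).mp ‹_›
  have h' : (∀ (K : Type u) [Field K],
      Function.Injective (fun g' : Spec (.of K) ⟶ X ↦ g' ≫ f)) → UniversallyInjective f :=
    ((tfae_universallyInjective f).out 0 1).mpr
  apply h'
  intro K _ a b hab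
  apply h K
  show a ≫ f ≫ g = b ≫ f ≫ g
  rw [← Category.assoc, ← Category.assoc]
  exact congrArg (· ≫ g) hab

/-- the scheme-theoretic image of a morphism whose composite with a separated morphism is a
universal homeomorphism -/
theorem image_props {T' P T : Scheme.{u}} (φ : T' ⟶ P) (p : P ⟶ T) [IsSeparated p]
    (hν : FlatMor.IsUnivHomeo (φ ≫ p)) :
    FlatMor.IsUnivHomeo φ.toImage ∧ FlatMor.IsUnivHomeo (φ.imageι ≫ p) := by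
  have haff : IsAffineHom (φ ≫ p) := UHSch.isAffineHom_of_isUnivHomeo _ hν
  have hqc : QuasiCompact (φ ≫ p) := inferInstance
  have hqcφ : QuasiCompact φ := QuasiCompact.of_comp φ p
  have huc : UniversallyClosed (φ ≫ p) := universallyClosed_of_isUnivHomeo _ hν
  have hucφ : UniversallyClosed φ := UniversallyClosed.of_comp_of_isSeparated φ p
  have hui : UniversallyInjective (φ ≫ p) := universallyInjective_of_isUnivHomeo _ hν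
  have e : φ.toImage ≫ (φ.imageι ≫ p) = φ ≫ p := by
    rw [← Category.assoc, Scheme.Hom.toImage_imageι]
  have h1 : UniversallyClosed φ.toImage := inferInstance
  have h2 : UniversallyInjective φ.toImage := by
    have : UniversallyInjective (φ.toImage ≫ (φ.imageι ≫ p)) := by rw [e]; exact hui
    exact universallyInjective_of_comp φ.toImage (φ.imageι ≫ p)
  have h3 : Surjective φ.toImage :=
    surjective_of_isDominant_of_isClosed_range _ (φ.toImage.isClosedMap.isClosed_range)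
  have hUH : FlatMor.IsUnivHomeo φ.toImage := isUnivHomeo_of _
  exact ⟨hUH, UHSch.isUnivHomeo_of_comp_left φ.toImage (φ.imageι ≫ p) (by rw [e]; exact hν) hUH⟩

/-- residue field isomorphisms pass to the second factor along a surjective first factor -/
theorem residueFieldsIso_of_comp {X Y Z : Scheme.{u}} (h : X ⟶ Y) (π : Y ⟶ Z)
    (hs : Function.Surjective h) (hν : HTop.ResidueFieldsIso (h ≫ π)) :
    HTop.ResidueFieldsIso π := by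
  intro y
  obtain ⟨x, rfl⟩ := hs y
  have h1 := hν x
  rw [Scheme.residueFieldMap_comp] at h1
  have hb : IsIso (h.residueFieldMap x) := by
    rw [ConcreteCategory.isIso_iff_bijective]
    constructor
    · exact RingHom.injective _
    · have hs := ((ConcreteCategory.isIso_iff_bijective _).mp h1).2
      intro k
      obtain ⟨z, hz⟩ := hs k
      exact ⟨_, hz⟩
  exact @IsIso.of_isIso_comp_right _ _ _ _ _ _ _ hb h1

section parts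
variable {S X T T' : Scheme.{u}} [X.IsSeparated] (fX : X ⟶ S) [LocallyOfFiniteType fX]
  (fT : T ⟶ S) (ν : T' ⟶ T)

theorem part1 (hν : FlatMor.IsUnivHomeo ν) (g : T' ⟶ X) (hg : g ≫ fX = ν ≫ fT) :
    ∃ (T₁ : Scheme.{u}) (π : T₁ ⟶ T) (_ : IsFinite π) (_ : FlatMor.IsUnivHomeo π) (g₁ : T₁ ⟶ X)
      (h : T' ⟶ T₁), FlatMor.IsUnivHomeo h ∧ h ≫ π = ν ∧ g₁ ≫ fX = π ≫ fT ∧ h ≫ g₁ = g := by
  let φ : T' ⟶ pullback fT fX := pullback.lift ν g hg.symm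
  have e : φ ≫ pullback.fst fT fX = ν := pullback.lift_fst _ _ _
  obtain ⟨h1, h2⟩ := image_props φ (pullback.fst fT fX) (by rw [e]; exact hν)
  have hfin : IsFinite (φ.imageι ≫ pullback.fst fT fX) := by
    rw [IsFinite.iff_isIntegralHom_and_locallyOfFiniteType]
    exact ⟨UHSch.isIntegralHom_of_isUnivHomeo _ h2, inferInstance⟩
  refine ⟨φ.image, φ.imageι ≫ pullback.fst fT fX, hfin, h2, φ.imageι ≫ pullback.snd fT fX,
    φ.toImage, h1, ?_, ?_, ?_⟩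
  · rw [← Category.assoc, Scheme.Hom.toImage_imageι, e]
  · rw [Category.assoc, Category.assoc, pullback.condition]
  · rw [← Category.assoc, Scheme.Hom.toImage_imageι]
    exact pullback.lift_snd _ _ _

omit [LocallyOfFiniteType fX] in
theorem part2 (hν : FlatMor.IsUnivHomeo ν) (T₁ T₂ : Scheme.{u}) (π₁ : T₁ ⟶ T) (π₂ : T₂ ⟶ T)
    [IsFinite π₁] [IsFinite π₂] (g₁ : T₁ ⟶ X) (g₂ : T₂ ⟶ X) (h₁ : T' ⟶ T₁) (h₂ : T' ⟶ T₂)
    (e₁ : h₁ ≫ π₁ = ν) (e₂ : h₂ ≫ π₂ = ν) (e : h₁ ≫ g₁ = h₂ ≫ g₂) :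
    ∃ (T₃ : Scheme.{u}) (π₃ : T₃ ⟶ T) (_ : IsFinite π₃) (_ : FlatMor.IsUnivHomeo π₃)
      (a₁ : T₃ ⟶ T₁) (a₂ : T₃ ⟶ T₂) (h₃ : T' ⟶ T₃), FlatMor.IsUnivHomeo h₃ ∧ h₃ ≫ π₃ = ν ∧
        a₁ ≫ π₁ = π₃ ∧ a₂ ≫ π₂ = π₃ ∧ a₁ ≫ g₁ = a₂ ≫ g₂ := by
  let u : pullback π₁ π₂ ⟶ X := pullback.fst π₁ π₂ ≫ g₁
  let v : pullback π₁ π₂ ⟶ X := pullback.snd π₁ π₂ ≫ g₂
  let ψ : T' ⟶ pullback π₁ π₂ := pullback.lift h₁ h₂ (e₁.trans e₂.symm)
  have hψ : ψ ≫ u = ψ ≫ v := by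
    show ψ ≫ pullback.fst π₁ π₂ ≫ g₁ = ψ ≫ pullback.snd π₁ π₂ ≫ g₂
    rw [← Category.assoc, ← Category.assoc, pullback.lift_fst, pullback.lift_snd, e]
  let ψ' : T' ⟶ equalizer u v := equalizer.lift ψ hψ
  let p : equalizer u v ⟶ T := equalizer.ι u v ≫ pullback.fst π₁ π₂ ≫ π₁
  have hp : ψ' ≫ p = ν := by
    show equalizer.lift ψ hψ ≫ equalizer.ι u v ≫ pullback.fst π₁ π₂ ≫ π₁ = ν
    rw [← Category.assoc, equalizer.lift_ι, ← Category.assoc, pullback.lift_fst, e₁]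
  have hfinp : IsFinite p := inferInstance
  obtain ⟨h1, h2⟩ := image_props ψ' p (by rw [hp]; exact hν)
  refine ⟨ψ'.image, ψ'.imageι ≫ p, inferInstance, h2,
    ψ'.imageι ≫ equalizer.ι u v ≫ pullback.fst π₁ π₂,
    ψ'.imageι ≫ equalizer.ι u v ≫ pullback.snd π₁ π₂, ψ'.toImage, h1, ?_, ?_, ?_, ?_⟩
  · rw [← Category.assoc, Scheme.Hom.toImage_imageι, hp]
  · simp only [p, Category.assoc]
  · simp only [p, Category.assoc]
    rw [pullback.condition]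
  · simp only [Category.assoc]
    have := equalizer.condition u v
    show ψ'.imageι ≫ equalizer.ι u v ≫ u = ψ'.imageι ≫ equalizer.ι u v ≫ v
    rw [this]

end parts


section mains
variable {S X T T' : Scheme.{u}} [X.IsSeparated] (fX : X ⟶ S) [LocallyOfFiniteType fX]
  (fT : T ⟶ S) (ν : T' ⟶ T)

theorem main13832 (hν : HTop.IsAWNormalization ν) :
    (∀ g : T' ⟶ X, g ≫ fX = ν ≫ fT →
      ∃ (T₁ : Scheme.{u}) (π : T₁ ⟶ T) (_ : IsFinite π) (_ : FlatMor.IsUnivHomeo π) (g₁ : T₁ ⟶ X)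
        (h : T' ⟶ T₁), h ≫ π = ν ∧ g₁ ≫ fX = π ≫ fT ∧ h ≫ g₁ = g) ∧
    (∀ (T₁ T₂ : Scheme.{u}) (π₁ : T₁ ⟶ T) (π₂ : T₂ ⟶ T) [IsFinite π₁] [IsFinite π₂],
      FlatMor.IsUnivHomeo π₁ → FlatMor.IsUnivHomeo π₂ →
      ∀ (g₁ : T₁ ⟶ X) (g₂ : T₂ ⟶ X) (h₁ : T' ⟶ T₁) (h₂ : T' ⟶ T₂),
        g₁ ≫ fX = π₁ ≫ fT → g₂ ≫ fX = π₂ ≫ fT → h₁ ≫ π₁ = ν → h₂ ≫ π₂ = ν → h₁ ≫ g₁ = h₂ ≫ g₂ →
        ∃ (T₃ : Scheme.{u}) (π₃ : T₃ ⟶ T) (_ : IsFinite π₃) (_ : FlatMor.IsUnivHomeo π₃)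
          (a₁ : T₃ ⟶ T₁) (a₂ : T₃ ⟶ T₂), a₁ ≫ π₁ = π₃ ∧ a₂ ≫ π₂ = π₃ ∧ a₁ ≫ g₁ = a₂ ≫ g₂) := by
  constructor
  · intro g hg
    obtain ⟨T₁, π, hfin, huh, g₁, h, -, e1, e2, e3⟩ := part1 fX fT ν hν.1 g hg
    exact ⟨T₁, π, hfin, huh, g₁, h, e1, e2, e3⟩
  · intro T₁ T₂ π₁ π₂ _ _ _ _ g₁ g₂ h₁ h₂ _ _ e₁ e₂ e
    obtain ⟨T₃, π₃, hfin, huh, a₁, a₂, h₃, -, -, e1, e2, e3⟩ :=
      part2 ν hν.1 T₁ T₂ π₁ π₂ g₁ g₂ h₁ h₂ e₁ e₂ e
    exact ⟨T₃, π₃, hfin, huh, a₁, a₂, e1, e2, e3⟩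

theorem main13833 (hν : HTop.IsSeminormalization ν) :
    (∀ g : T' ⟶ X, g ≫ fX = ν ≫ fT →
      ∃ (T₁ : Scheme.{u}) (π : T₁ ⟶ T) (_ : IsFinite π) (_ : FlatMor.IsUnivHomeo π)
        (_ : HTop.ResidueFieldsIso π) (g₁ : T₁ ⟶ X) (h : T' ⟶ T₁),
        h ≫ π = ν ∧ g₁ ≫ fX = π ≫ fT ∧ h ≫ g₁ = g) ∧
    (∀ (T₁ T₂ : Scheme.{u}) (π₁ : T₁ ⟶ T) (π₂ : T₂ ⟶ T) [IsFinite π₁] [IsFinite π₂],
      FlatMor.IsUnivHomeo π₁ → FlatMor.IsUnivHomeo π₂ →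
      HTop.ResidueFieldsIso π₁ → HTop.ResidueFieldsIso π₂ →
      ∀ (g₁ : T₁ ⟶ X) (g₂ : T₂ ⟶ X) (h₁ : T' ⟶ T₁) (h₂ : T' ⟶ T₂),
        g₁ ≫ fX = π₁ ≫ fT → g₂ ≫ fX = π₂ ≫ fT → h₁ ≫ π₁ = ν → h₂ ≫ π₂ = ν → h₁ ≫ g₁ = h₂ ≫ g₂ →
        ∃ (T₃ : Scheme.{u}) (π₃ : T₃ ⟶ T) (_ : IsFinite π₃) (_ : FlatMor.IsUnivHomeo π₃)
          (_ : HTop.ResidueFieldsIso π₃) (a₁ : T₃ ⟶ T₁) (a₂ : T₃ ⟶ T₂),
          a₁ ≫ π₁ = π₃ ∧ a₂ ≫ π₂ = π₃ ∧ a₁ ≫ g₁ = a₂ ≫ g₂) := by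
  constructor
  · intro g hg
    obtain ⟨T₁, π, hfin, huh, g₁, h, hh, e1, e2, e3⟩ := part1 fX fT ν hν.1.1 g hg
    have hres : HTop.ResidueFieldsIso π :=
      residueFieldsIso_of_comp h π (isHomeomorph_of_isUnivHomeo h hh).surjective
        (by rw [e1]; exact hν.1.2)
    exact ⟨T₁, π, hfin, huh, hres, g₁, h, e1, e2, e3⟩
  · intro T₁ T₂ π₁ π₂ _ _ _ _ _ _ g₁ g₂ h₁ h₂ _ _ e₁ e₂ e
    obtain ⟨T₃, π₃, hfin, huh, a₁, a₂, h₃, hh, e0, e1, e2, e3⟩ :=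
      part2 ν hν.1.1 T₁ T₂ π₁ π₂ g₁ g₂ h₁ h₂ e₁ e₂ e
    have hres : HTop.ResidueFieldsIso π₃ :=
      residueFieldsIso_of_comp h₃ π₃ (isHomeomorph_of_isUnivHomeo h₃ hh).surjective
        (by rw [e0]; exact hν.1.2)
    exact ⟨T₃, π₃, hfin, huh, hres, a₁, a₂, e1, e2, e3⟩

end mains

end Groth.Agent.Helper7.SNImg
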