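import Mathlib
import Groth.Agent.Lib.Helper7.SNImg

/-! helper7: descent of sections along proper surjective morphisms onto seminormal schemes, via the
scheme-theoretic image in the affine line. -/

namespace Groth.Agent.Helper7.SNDesc
open AlgebraicGeometry CategoryTheory Limits TensorProduct
open Groth.Agent.Helper9.UH Groth.Agent.Helper7.SNSch Groth.Agent.Helper7.SNImg
open Groth.Agent.Helper7.PerfAWN
universe u

/-- Lemma E: descent for elements along a nontrivial algebra over a field -/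
lemma exists_algebraMap_eq_of_tmul_eq {K R : Type*} [Field K] [CommRing R] [Algebra K R]
    [Nontrivial R] (r : R) (h : r ⊗ₜ[K] (1 : R) = (1 : R) ⊗ₜ[K] r) :
    ∃ c : K, algebraMap K R c = r := by
  have hinj : LinearMap.ker (Algebra.linearMap K R) = ⊥ := by
    rw [LinearMap.ker_eq_bot]
    exact (algebraMap K R).injective
  obtain ⟨l, hl⟩ := LinearMap.exists_leftInverse_of_injective (Algebra.linearMap K R) hinj
  have hl1 : l 1 = 1 := by
    have := LinearMap.congr_fun hl 1
    simpa using this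
  let m : R ⊗[K] R →ₗ[K] R := TensorProduct.lift
    ((LinearMap.lsmul K R).comp l)
  have h1 : m (r ⊗ₜ[K] (1 : R)) = l r • (1 : R) := by
    simp [m]
  have h2 : m ((1 : R) ⊗ₜ[K] r) = r := by
    simp [m, hl1]
  refine ⟨l r, ?_⟩
  rw [Algebra.algebraMap_eq_smul_one, ← h1, h, h2]

/-- Step A -/
lemma appTop_eq_of_comp_eq {X Y W : Scheme.{u}} (π : Y ⟶ X) (s : Γ(Y, ⊤))
    (hs : (pullback.fst π π).appTop s = (pullback.snd π π).appTop s) (a b : W ⟶ Y)
    (hab : a ≫ π = b ≫ π) : a.appTop s = b.appTop s := by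
  have ha : a = pullback.lift a b hab ≫ pullback.fst π π := (pullback.lift_fst _ _ _).symm
  have hb : b = pullback.lift a b hab ≫ pullback.snd π π := (pullback.lift_snd _ _ _).symm
  rw [ha, Scheme.Hom.comp_appTop, CommRingCat.comp_apply, hs]
  nth_rw 2 [hb]
  rw [Scheme.Hom.comp_appTop, CommRingCat.comp_apply]


/-- Step B -/
theorem image_props' {Y P X : Scheme.{u}} (φ : Y ⟶ P) (p : P ⟶ X) [IsSeparated p]
    [IsProper (φ ≫ p)] [Surjective (φ ≫ p)] :
    Surjective φ.toImage ∧ UniversallyClosed (φ.imageι ≫ p) ∧ Surjective (φ.imageι ≫ p) := by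
  have hqcφ : QuasiCompact φ := QuasiCompact.of_comp φ p
  have hucφ : UniversallyClosed φ := UniversallyClosed.of_comp_of_isSeparated φ p
  have e : φ.toImage ≫ (φ.imageι ≫ p) = φ ≫ p := by
    rw [← Category.assoc, Scheme.Hom.toImage_imageι]
  have h3 : Surjective φ.toImage :=
    surjective_of_isDominant_of_isClosed_range _ (φ.toImage.isClosedMap.isClosed_range)
  have h4 : UniversallyClosed (φ.toImage ≫ (φ.imageι ≫ p)) := by rw [e]; infer_instance
  have h5 : Surjective (φ.toImage ≫ (φ.imageι ≫ p)) := by rw [e]; infer_instance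
  exact ⟨h3, UniversallyClosed.of_comp_surjective φ.toImage (φ.imageι ≫ p),
    Surjective.of_comp φ.toImage (φ.imageι ≫ p)⟩

/-- global sections of the spectrum of a field inject into those of a nonempty scheme -/
lemma appTop_injective_of_field {K : Type u} [Field K] {W : Scheme.{u}} [Nonempty W]
    (w : W ⟶ Spec (.of K)) : Function.Injective w.appTop := by
  have hnt : Nontrivial Γ(W, ⊤) := by
    have : Nonempty (⊤ : W.Opens) := by
      obtain ⟨x⟩ := ‹Nonempty W›
      exact ⟨⟨x, trivial⟩⟩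
    infer_instance
  let ρ : K →+* Γ(W, ⊤) := ((Scheme.ΓSpecIso (.of K)).inv ≫ w.appTop).hom
  have hρ : Function.Injective ρ := ρ.injective
  intro x y hxy
  have e : ∀ x, x = (Scheme.ΓSpecIso (.of K)).inv ((Scheme.ΓSpecIso (.of K)).hom x) := by
    intro x
    rw [← CommRingCat.comp_apply, Iso.hom_inv_id]
    rfl
  rw [e x, e y]
  congr 1
  apply hρ
  show w.appTop ((Scheme.ΓSpecIso (.of K)).inv _) = w.appTop ((Scheme.ΓSpecIso (.of K)).inv _)
  rw [← e x, ← e y, hxy]


section main
variable {X Y : Scheme.{u}} (π : Y ⟶ X) (s : Γ(Y, ⊤))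

noncomputable abbrev φ : Y ⟶ 𝔸(PUnit.{u+1}; X) := AffineSpace.homOfVector π (fun _ => s)

noncomputable abbrev q : (φ π s).image ⟶ X := (φ π s).imageι ≫ (𝔸(PUnit.{u+1}; X) ↘ X)

lemma φ_over : φ π s ≫ (𝔸(PUnit.{u+1}; X) ↘ X) = π := AffineSpace.homOfVector_over _ _

lemma toImage_q : (φ π s).toImage ≫ q π s = π := by
  rw [← Category.assoc, Scheme.Hom.toImage_imageι, φ_over]

lemma φ_coord : (φ π s).appTop (AffineSpace.coord X PUnit.unit) = s :=
  AffineSpace.homOfVector_appTop_coord _ _ _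

lemma image_props'' [IsProper π] [Surjective π] :
    Surjective (φ π s).toImage ∧ UniversallyClosed (q π s) ∧ Surjective (q π s) := by
  have hp : IsProper (φ π s ≫ (𝔸(PUnit.{u+1}; X) ↘ X)) := by rw [φ_over]; infer_instance
  have hsj : Surjective (φ π s ≫ (𝔸(PUnit.{u+1}; X) ↘ X)) := by rw [φ_over]; infer_instance
  exact image_props' (φ π s) (𝔸(PUnit.{u+1}; X) ↘ X)

omit s in
lemma exists_common_lift {Z : Scheme.{u}} (h : Y ⟶ Z) [Surjective h] {K : Type u} [Field K]
    (a b : Spec (.of K) ⟶ Z) :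
    ∃ (W : Scheme.{u}) (_ : Nonempty W) (w : W ⟶ Spec (.of K)) (y₁ y₂ : W ⟶ Y),
      y₁ ≫ h = w ≫ a ∧ y₂ ≫ h = w ≫ b := by
  have hne1 : Nonempty (pullback h a : Scheme.{u}) :=
    ⟨((pullback.snd h a).surjective (IsLocalRing.closedPoint K)).choose⟩
  have hne : Nonempty (pullback (pullback.snd h a) (pullback.snd h b) : Scheme.{u}) := by
    obtain ⟨x⟩ := hne1
    exact ⟨((pullback.fst (pullback.snd h a) (pullback.snd h b)).surjective x).choose⟩
  refine ⟨pullback (pullback.snd h a) (pullback.snd h b), hne,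
    pullback.fst (pullback.snd h a) (pullback.snd h b) ≫ pullback.snd h a,
    pullback.fst (pullback.snd h a) (pullback.snd h b) ≫ pullback.fst h a,
    pullback.snd (pullback.snd h a) (pullback.snd h b) ≫ pullback.fst h b, ?_, ?_⟩
  · rw [Category.assoc, Category.assoc, pullback.condition]
  · rw [Category.assoc, pullback.condition, ← Category.assoc, ← pullback.condition,
      Category.assoc]

theorem univInj_q [IsProper π] [Surjective π]
    (hs : (pullback.fst π π).appTop s = (pullback.snd π π).appTop s) :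
    UniversallyInjective (q π s) := by
  obtain ⟨hsurj, -, -⟩ := image_props'' π s
  have h' : (∀ (K : Type u) [Field K], Function.Injective
      (fun g' : Spec (.of K) ⟶ (φ π s).image ↦ g' ≫ q π s)) → UniversallyInjective (q π s) :=
    ((tfae_universallyInjective (q π s)).out 0 1).mpr
  apply h'
  intro K _ a b hab
  change a ≫ q π s = b ≫ q π s at hab
  obtain ⟨W, hne, w, y₁, y₂, e1, e2⟩ := exists_common_lift (φ π s).toImage a b
  have e3 : y₁ ≫ π = y₂ ≫ π := by
    calc y₁ ≫ π = y₁ ≫ (φ π s).toImage ≫ q π s := by rw [toImage_q]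
      _ = (w ≫ a) ≫ q π s := by rw [← Category.assoc, e1]
      _ = (w ≫ b) ≫ q π s := by rw [Category.assoc, hab, Category.assoc]
      _ = y₂ ≫ (φ π s).toImage ≫ q π s := by rw [← e2, Category.assoc]
      _ = y₂ ≫ π := by rw [toImage_q]
  have e4 := appTop_eq_of_comp_eq π s hs y₁ y₂ e3
  rw [← cancel_mono (φ π s).imageι]
  apply AffineSpace.hom_ext
  · simpa only [Category.assoc] using hab
  · intro i
    apply appTop_injective_of_field w
    have k0 : ∀ (c : Spec (.of K) ⟶ (φ π s).image) (y : W ⟶ Y),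
        y ≫ (φ π s).toImage = w ≫ c →
        w.appTop ((c ≫ (φ π s).imageι).appTop (AffineSpace.coord X i)) = y.appTop s := by
      intro c y hy
      have e5 : y ≫ φ π s = w ≫ c ≫ (φ π s).imageι := by
        rw [← Category.assoc, ← hy, Category.assoc, Scheme.Hom.toImage_imageι]
      have e6 : y.appTop s = (y ≫ φ π s).appTop (AffineSpace.coord X i) := by
        rw [Scheme.Hom.comp_appTop, CommRingCat.comp_apply]
        exact congrArg _ (φ_coord π s).symm
      rw [e6, e5]
      simp only [Scheme.Hom.comp_appTop, CommRingCat.comp_apply]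
    rw [k0 a y₁ e1, k0 b y₂ e2, e4]


/-- a nonempty scheme over a field receives a map from the spectrum of a nontrivial algebra -/
lemma exists_affine_point {K : Type u} [Field K] (W : Scheme.{u}) [Nonempty W] :
    ∃ (R₀ : CommRingCat.{u}) (_ : Nontrivial R₀) (j₀ : Spec R₀ ⟶ W), True := by
  obtain ⟨w₁⟩ := ‹Nonempty W›
  obtain ⟨_, ⟨V, hV, rfl⟩, hwV, -⟩ :=
    W.isBasis_affineOpens.exists_subset_of_mem_open (Set.mem_univ w₁) isOpen_univ
  have : Nonempty V := ⟨⟨w₁, hwV⟩⟩
  exact ⟨Γ(W, V), inferInstance, hV.fromSpec, trivial⟩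

theorem exists_lift_q [Surjective π]
    (hs : (pullback.fst π π).appTop s = (pullback.snd π π).appTop s)
    {K : Type u} [Field K] (x : Spec (.of K) ⟶ X) :
    ∃ z' : Spec (.of K) ⟶ (φ π s).image, z' ≫ q π s = x := by
  have hne1 : Nonempty (pullback π x : Scheme.{u}) :=
    ⟨((pullback.snd π x).surjective (IsLocalRing.closedPoint K)).choose⟩
  obtain ⟨R₀, hnt, j₀, -⟩ := exists_affine_point (K := K) (pullback π x)
  obtain ⟨j, hj⟩ : ∃ j : Spec R₀ ⟶ Y, j = j₀ ≫ pullback.fst π x := ⟨_, rfl⟩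
  obtain ⟨ρ, hρ⟩ : ∃ ρ : CommRingCat.of K ⟶ R₀, Spec.map ρ = j₀ ≫ pullback.snd π x :=
    ⟨Spec.preimage _, Spec.map_preimage _⟩
  have hjπ : j ≫ π = Spec.map ρ ≫ x := by
    rw [hj, hρ, Category.assoc, Category.assoc, pullback.condition]
  let _ : Algebra K R₀ := ρ.hom.toAlgebra
  let fL : R₀ ⟶ CommRingCat.of (R₀ ⊗[K] R₀) :=
    CommRingCat.ofHom (Algebra.TensorProduct.includeLeft (R := K) (S := K) (A := R₀)
      (B := R₀)).toRingHom
  let fR : R₀ ⟶ CommRingCat.of (R₀ ⊗[K] R₀) :=
    CommRingCat.ofHom (Algebra.TensorProduct.includeRight (R := K) (A := R₀) (B := R₀)).toRingHom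
  have hLR : ρ ≫ fL = ρ ≫ fR := by
    ext k
    show Algebra.TensorProduct.includeLeft (R := K) (S := K) (A := R₀) (B := R₀)
      (algebraMap K R₀ k) = Algebra.TensorProduct.includeRight (R := K) (A := R₀) (B := R₀)
      (algebraMap K R₀ k)
    rw [AlgHom.commutes, AlgHom.commutes]
  have e3 : (Spec.map fL ≫ j) ≫ π = (Spec.map fR ≫ j) ≫ π := by
    rw [Category.assoc, Category.assoc, hjπ, ← Category.assoc, ← Category.assoc,
      ← Spec.map_comp, ← Spec.map_comp, hLR]
  have e4 := appTop_eq_of_comp_eq π s hs _ _ e3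
  obtain ⟨s₀, hs₀⟩ : ∃ s₀ : R₀, s₀ = (Scheme.ΓSpecIso R₀).hom (j.appTop s) := ⟨_, rfl⟩
  have e5 : fL s₀ = fR s₀ := by
    have n1 : ∀ (f : R₀ ⟶ CommRingCat.of (R₀ ⊗[K] R₀)),
        f s₀ = (Scheme.ΓSpecIso _).hom ((Spec.map f ≫ j).appTop s) := by
      intro f
      rw [Scheme.Hom.comp_appTop, CommRingCat.comp_apply,
        ← CommRingCat.comp_apply (Spec.map f).appTop, Scheme.ΓSpecIso_naturality,
        CommRingCat.comp_apply, hs₀]
    rw [n1 fL, n1 fR, e4]
  have e6 : s₀ ⊗ₜ[K] (1 : R₀) = (1 : R₀) ⊗ₜ[K] s₀ := e5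
  obtain ⟨c₀, hc₀⟩ := exists_algebraMap_eq_of_tmul_eq s₀ e6
  have hc₀' : ρ c₀ = s₀ := hc₀
  obtain ⟨z, hz⟩ : ∃ z : Spec (.of K) ⟶ 𝔸(PUnit.{u+1}; X),
      z = AffineSpace.homOfVector x (fun _ => (Scheme.ΓSpecIso (.of K)).inv c₀) := ⟨_, rfl⟩
  have hzo : z ≫ (𝔸(PUnit.{u+1}; X) ↘ X) = x := by
    rw [hz, AffineSpace.homOfVector_over]
  have hzc : ∀ i, z.appTop (AffineSpace.coord X i) = (Scheme.ΓSpecIso (.of K)).inv c₀ := by
    intro i
    rw [hz, AffineSpace.homOfVector_appTop_coord]
  have key : Spec.map ρ ≫ z = j ≫ φ π s := by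
    apply AffineSpace.hom_ext
    · rw [Category.assoc, Category.assoc, hzo, φ_over, hjπ]
    · intro i
      rw [Scheme.Hom.comp_appTop, Scheme.Hom.comp_appTop, CommRingCat.comp_apply,
        CommRingCat.comp_apply, hzc, φ_coord]
      have h1 : (Spec.map ρ).appTop ((Scheme.ΓSpecIso (.of K)).inv c₀) =
          (Scheme.ΓSpecIso R₀).inv (ρ c₀) := by
        rw [← CommRingCat.comp_apply, ← Scheme.ΓSpecIso_inv_naturality, CommRingCat.comp_apply]
      rw [h1, hc₀', hs₀, ← CommRingCat.comp_apply, Iso.hom_inv_id]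
      rfl
  have hdom : IsSchemeTheoreticallyDominant (Spec.map ρ) := by
    have hsj : Surjective (Spec.map ρ) := by
      constructor
      intro pt
      obtain ⟨r⟩ : Nonempty (Spec R₀) := inferInstanceAs (Nonempty (PrimeSpectrum R₀))
      exact ⟨r, Subsingleton.elim _ _⟩
    exact IsSchemeTheoreticallyDominant.of_isDominant _
  have H : (φ π s).imageι.ker ≤ z.ker := by
    calc (φ π s).imageι.ker = (φ π s).ker := Scheme.IdealSheafData.ker_subschemeι _
      _ ≤ (j ≫ φ π s).ker := Scheme.Hom.le_ker_comp j _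
      _ = (Spec.map ρ ≫ z).ker := by rw [key]
      _ = z.ker := by
        rw [Scheme.Hom.ker_comp, (Spec.map ρ).ker_eq_bot, Scheme.IdealSheafData.map_bot]
  refine ⟨IsClosedImmersion.lift (φ π s).imageι z H, ?_⟩
  rw [← Category.assoc, IsClosedImmersion.lift_fac, hzo]


theorem main13113 (hX : HTop.IsSeminormal X) [IsProper π] [Surjective π] [IsReduced Y]
    (hs : (pullback.fst π π).appTop s = (pullback.snd π π).appTop s) :
    ∃! t : Γ(X, ⊤), π.appTop t = s := by
  have hredX : IsReduced X := (Groth.Agent.S7421.result).2 X hX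
  obtain ⟨hsurj, huc, hsq⟩ := image_props'' π s
  have hui := univInj_q π s hs
  have hq : FlatMor.IsUnivHomeo (q π s) := isUnivHomeo_of _
  have hres : HTop.ResidueFieldsIso (q π s) := by
    apply residueFieldsIso_of_lift _ (isHomeomorph_of_isUnivHomeo _ hq).injective
    intro K _ x
    exact exists_lift_q π s hs x
  obtain ⟨t', ht'⟩ := exists_section_of_isSeminormal (q π s) hq hres hX
  have e1 : π ≫ t' = (φ π s).toImage := by
    apply hom_ext_of_isUnivHomeo (q π s) hq
    rw [Category.assoc, ht', Category.comp_id, toImage_q]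
  have hinj : Function.Injective π.appTop := by
    have : IsSchemeTheoreticallyDominant π := IsSchemeTheoreticallyDominant.of_isDominant π
    exact π.app_injective ⊤
  have e2 : π.appTop ((t' ≫ (φ π s).imageι).appTop (AffineSpace.coord X PUnit.unit)) = s := by
    rw [← CommRingCat.comp_apply, ← Scheme.Hom.comp_appTop, ← Category.assoc, e1,
      Scheme.Hom.toImage_imageι, φ_coord]
  refine ⟨(t' ≫ (φ π s).imageι).appTop (AffineSpace.coord X PUnit.unit), e2, ?_⟩
  intro t ht
  apply hinj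
  rw [ht, e2]

end main

end Groth.Agent.Helper7.SNDesc
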