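import Mathlib
import Groth.Agent.Lib.Helper7.SNSch

/-! helper7: morphisms from seminormal schemes lift through proper universally injective morphisms
as soon as they lift pointwise. -/

namespace Groth.Agent.Helper7.SNSch
open AlgebraicGeometry CategoryTheory Limits
open Groth.Agent.Helper9.UH
universe u

theorem main13112 {T X Y : Scheme.{u}} (hT : HTop.IsSeminormal T) (f : X ⟶ Y) [IsProper f]
    [UniversallyInjective f] (g : T ⟶ Y)
    (hlift : ∀ t : T, ∃ l : Spec (T.residueField t) ⟶ X,
      l ≫ f = T.fromSpecResidueField t ≫ g) :
    ∃ h : T ⟶ X, h ≫ f = g := by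
  have hsurj : Surjective (pullback.snd f g) := by
    constructor
    intro t
    obtain ⟨l, hl⟩ := hlift t
    refine ⟨(pullback.lift l (T.fromSpecResidueField t) hl) default, ?_⟩
    rw [← Scheme.Hom.comp_apply, pullback.lift_snd, Scheme.fromSpecResidueField_apply]
  have huc : UniversallyClosed (pullback.snd f g) := inferInstance
  have hui : UniversallyInjective (pullback.snd f g) :=
    MorphismProperty.pullback_snd _ _ inferInstance
  have hq : FlatMor.IsUnivHomeo (pullback.snd f g) := isUnivHomeo_of _
  have hres : HTop.ResidueFieldsIso (pullback.snd f g) := by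
    apply residueFieldsIso_of_lift _ (isHomeomorph_of_isUnivHomeo _ hq).injective
    intro K _ k
    obtain ⟨l, hl⟩ := hlift (k (IsLocalRing.closedPoint K))
    refine ⟨Spec.map (T.descResidueField (Scheme.stalkClosedPointTo k)) ≫
      pullback.lift l (T.fromSpecResidueField _) hl, ?_⟩
    rw [Category.assoc, pullback.lift_snd,
      Scheme.descResidueField_stalkClosedPointTo_fromSpecResidueField]
  obtain ⟨s, hs⟩ := exists_section_of_isSeminormal _ hq hres hT
  exact ⟨s ≫ pullback.fst f g, by
    rw [Category.assoc, pullback.condition, ← Category.assoc, hs, Category.id_comp]⟩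

end Groth.Agent.Helper7.SNSch
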