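import Mathlib
import Groth.Agent.Lib.Helper7.SNSch

/-! helper7: the normalization factors through the seminormalization by dominant morphisms, finite
when the normalization is. -/

namespace Groth.Agent.Helper7.SNSch
open AlgebraicGeometry CategoryTheory Limits
open Groth.Agent.Helper9.UH
universe u

lemma finite_of_comp_injective {A B C : Type*} [CommRing A] [CommRing B] [CommRing C]
    [IsNoetherianRing A] (φ : A →+* B) (ψ : B →+* C) (hψ : Function.Injective ψ)
    (h : (ψ.comp φ).Finite) : φ.Finite := by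
  let _ : Algebra A B := φ.toAlgebra
  let _ : Algebra A C := (ψ.comp φ).toAlgebra
  have hfin : Module.Finite A C := h
  have hN : IsNoetherian A C := isNoetherian_of_isNoetherianRing_of_finite A C
  let l : B →ₗ[A] C :=
    { toFun := ψ
      map_add' := map_add ψ
      map_smul' := by
        intro a b
        simp only [Algebra.smul_def, RingHom.algebraMap_toAlgebra, map_mul, RingHom.id_apply,
          RingHom.comp_apply] }
  exact Module.Finite.of_injective l hψ

theorem main15963 {S Sn X' : Scheme.{u}} [IsNoetherian S] [IsReduced S] (π : Sn ⟶ S)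
    (hbir : ∃ U : S.Opens, Dense (U : Set S) ∧ Dense ((π ⁻¹ᵁ U : Sn.Opens) : Set Sn) ∧
      IsIso (π ∣_ U))
    (ν : X' ⟶ S) (hν : HTop.IsSeminormalization ν) (hX' : HTop.IsSeminormal X')
    (g : Sn ⟶ X') (hg : g ≫ ν = π) :
    (IsSchemeTheoreticallyDominant ν ∧ IsSchemeTheoreticallyDominant g) ∧
      (IsFinite π → IsFinite ν ∧ IsFinite g) := by
  subst hg
  have hhom := isHomeomorph_of_isUnivHomeo ν hν.1.1
  have hsν : Surjective ν := ⟨hhom.surjective⟩
  have hredX' : IsReduced X' := (Groth.Agent.S7421.result).2 X' hX'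
  have haffν : IsAffineHom ν := UHSch.isAffineHom_of_isUnivHomeo ν hν.1.1
  have h1 : IsSchemeTheoreticallyDominant ν := IsSchemeTheoreticallyDominant.of_isDominant ν
  have hdomπ : DenseRange (g ≫ ν) := by
    obtain ⟨U, hU, -, hiso⟩ := hbir
    apply hU.mono
    intro s hs
    have hsurj : Function.Surjective ((g ≫ ν) ∣_ U) :=
      (ConcreteCategory.bijective_of_isIso ((g ≫ ν) ∣_ U).base).2
    obtain ⟨z, hz⟩ := hsurj ⟨s, hs⟩
    refine ⟨((g ≫ ν) ⁻¹ᵁ U).ι z, ?_⟩
    rw [← Scheme.Hom.comp_apply, ← morphismRestrict_ι, Scheme.Hom.comp_apply, hz]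
    rfl
  have hdomg : IsDominant g := by
    constructor
    show Dense (Set.range g)
    rw [hhom.isInducing.dense_iff]
    intro x
    have : ν '' Set.range g = Set.range (g ≫ ν) := by
      ext s
      constructor
      · rintro ⟨_, ⟨z, rfl⟩, rfl⟩
        exact ⟨z, rfl⟩
      · rintro ⟨z, rfl⟩
        exact ⟨g z, ⟨z, rfl⟩, rfl⟩
    rw [this]
    exact hdomπ (ν x)
  have h2 : IsSchemeTheoreticallyDominant g := IsSchemeTheoreticallyDominant.of_isDominant g
  refine ⟨⟨h1, h2⟩, ?_⟩
  intro hfin
  have hg : IsFinite g := IsFinite.of_comp g ν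
  refine ⟨?_, hg⟩
  rw [isFinite_iff]
  refine ⟨haffν, ?_⟩
  intro U hU
  have hN : IsNoetherianRing Γ(S, U) := IsLocallyNoetherian.component_noetherian ⟨U, hU⟩
  have hinj : Function.Injective (g.app (ν ⁻¹ᵁ U)).hom := g.app_injective _
  apply finite_of_comp_injective (ν.app U).hom (g.app (ν ⁻¹ᵁ U)).hom hinj
  exact (g ≫ ν).finite_app U hU

end Groth.Agent.Helper7.SNSch
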