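import Mathlib
import Groth.Agent.Lib.Helper4.DomDVR3
import Groth.Agent.Lib.Helper7.MonoImm

set_option autoImplicit false
universe u
open CategoryTheory CategoryTheory.Limits AlgebraicGeometry

/-! helper7: Noetherian valuative criteria of separatedness through a dense image and at generic points (S9210, S9211), using helper4's discrete valuation rings through specializations. -/

namespace Groth.Agent.Helper7.SepDVR

/-- a generic point of an irreducible component has no proper generization. -/
theorem eq_of_specializes_generic {T : Type*} [TopologicalSpace T] [T0Space T] {η t : T}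
    (hη : closure {η} ∈ irreducibleComponents T) (ht : t ⤳ η) : t = η := by
  have h1 : closure {η} ≤ closure {t} := specializes_iff_closure_subset.mp ht
  have h2 : closure {t} ≤ closure {η} := hη.2 isIrreducible_singleton.closure h1
  exact (ht.antisymm (specializes_iff_closure_subset.mpr h2)).eq

/-- every point of a scheme is a specialization of a generic point of an irreducible component. -/
theorem exists_generic_specializes (X : Scheme.{u}) (x : X) :
    ∃ η : X, closure {η} ∈ irreducibleComponents X ∧ η ⤳ x := by
  obtain ⟨η, hη⟩ := QuasiSober.sober (isIrreducible_irreducibleComponent (x := x))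
    isClosed_irreducibleComponent
  refine ⟨η, ?_, ?_⟩
  · rw [hη.def]
    exact irreducibleComponent_mem_irreducibleComponents x
  · rw [specializes_iff_mem_closure, hη.def]
    exact mem_irreducibleComponent

set_option backward.isDefEq.respectTransparency false in
/-- specializations of a diagonal point which is reached by a discrete valuation ring with unique
liftings stay in the diagonal. -/
theorem mem_range_diagonal_of_dvr {X S : Scheme.{u}} [IsLocallyNoetherian S] (f : X ⟶ S)
    [LocallyOfFiniteType f] {U : Scheme.{u}} (h : U ⟶ X) [LocallyOfFiniteType h] (ξ : U)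
    (p : ↥(pullback f f)) (hsp : (h ≫ pullback.diagonal f).base ξ ⤳ p)
    (Huniq : ∀ (A : ValuationSubring (U.residueField ξ)), IsDiscreteValuationRing A →
      ∀ l₁ l₂ : Spec (CommRingCat.of A) ⟶ X, l₁ ≫ f = l₂ ≫ f →
        Spec.map (CommRingCat.ofHom A.subtype) ≫ l₁ = U.fromSpecResidueField ξ ≫ h →
        Spec.map (CommRingCat.ofHom A.subtype) ≫ l₂ = U.fromSpecResidueField ξ ≫ h → l₁ = l₂) :
    p ∈ Set.range (pullback.diagonal f).base := by
  by_cases hne : p = (h ≫ pullback.diagonal f).base ξ
  · rw [hne]
    exact ⟨h.base ξ, rfl⟩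
  have : IsLocallyNoetherian (pullback f f) :=
    LocallyOfFiniteType.isLocallyNoetherian (pullback.fst f f ≫ f)
  have : LocallyOfFiniteType (pullback.diagonal f) := by
    have : LocallyOfFiniteType (pullback.diagonal f ≫ pullback.fst f f) := by
      rw [pullback.diagonal_fst]; infer_instance
    exact locallyOfFiniteType_of_comp _ (pullback.fst f f)
  obtain ⟨A, φ, hA, hcl, hgen⟩ := Groth.Agent.Lib.Helper4.DomDVR.S4450_main
    (h ≫ pullback.diagonal f) ξ p hsp hne
  have e1 : Spec.map (CommRingCat.ofHom A.subtype) ≫ φ ≫ pullback.fst f f =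
      U.fromSpecResidueField ξ ≫ h := by
    rw [← Category.assoc, hgen, Category.assoc, Category.assoc, pullback.diagonal_fst,
      Category.comp_id]
  have e2 : Spec.map (CommRingCat.ofHom A.subtype) ≫ φ ≫ pullback.snd f f =
      U.fromSpecResidueField ξ ≫ h := by
    rw [← Category.assoc, hgen, Category.assoc, Category.assoc, pullback.diagonal_snd,
      Category.comp_id]
  have e3 : φ ≫ pullback.fst f f = φ ≫ pullback.snd f f :=
    Huniq A hA _ _ (by rw [Category.assoc, Category.assoc, pullback.condition]) e1 e2
  have e4 : φ = (φ ≫ pullback.fst f f) ≫ pullback.diagonal f := by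
    refine pullback.hom_ext ?_ ?_
    · rw [Category.assoc, pullback.diagonal_fst, Category.comp_id]
    · rw [Category.assoc, pullback.diagonal_snd, Category.comp_id, e3]
  refine ⟨(φ ≫ pullback.fst f f).base (IsLocalRing.closedPoint A), ?_⟩
  rw [← hcl]
  conv_rhs => rw [e4]
  rfl

set_option backward.isDefEq.respectTransparency false in
/-- over a locally Noetherian base, a morphism locally of finite type is separated as soon as
specializations of diagonal points over generic points of irreducible components stay in the
diagonal. -/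
theorem isSeparated_of_forall_generic {X S : Scheme.{u}} [IsLocallyNoetherian S] (f : X ⟶ S)
    [LocallyOfFiniteType f]
    (Hpt : ∀ (η : X), closure {η} ∈ irreducibleComponents X → ∀ p : ↥(pullback f f),
      (pullback.diagonal f).base η ⤳ p → p ∈ Set.range (pullback.diagonal f).base) :
    IsSeparated f := by
  have hP : IsLocallyNoetherian (pullback f f) :=
    LocallyOfFiniteType.isLocallyNoetherian (pullback.fst f f ≫ f)
  refine ⟨IsClosedImmersion.of_isPreimmersion _ ?_⟩
  rw [← closure_subset_iff_isClosed]
  intro p hp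
  obtain ⟨_, ⟨W, hW, rfl⟩, hpW, -⟩ := (pullback f f).isBasis_affineOpens.exists_subset_of_mem_open
    (Set.mem_univ p) isOpen_univ
  have hWN : TopologicalSpace.NoetherianSpace W := by
    have := IsLocallyNoetherian.component_noetherian (X := pullback f f) ⟨W, hW⟩
    exact noetherianSpace_of_isAffineOpen W hW
  have hVc : IsCompact ((pullback.diagonal f ⁻¹ᵁ W : X.Opens) : Set X) := by
    rw [(pullback.diagonal f).isEmbedding.isInducing.isCompact_iff]
    have hsub : (pullback.diagonal f).base '' ((pullback.diagonal f ⁻¹ᵁ W : X.Opens) : Set X) ⊆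
        (W : Set ↥(pullback f f)) := by
      rintro _ ⟨x, hx, rfl⟩
      exact hx
    have hc := (TopologicalSpace.NoetherianSpace.isCompact (α := W)
      (Subtype.val ⁻¹' ((pullback.diagonal f).base ''
        ((pullback.diagonal f ⁻¹ᵁ W : X.Opens) : Set X)))).image continuous_subtype_val
    have e : (pullback.diagonal f).base '' ((pullback.diagonal f ⁻¹ᵁ W : X.Opens) : Set X) =
        Subtype.val '' ((Subtype.val : W → ↥(pullback f f)) ⁻¹' ((pullback.diagonal f).base ''
        ((pullback.diagonal f ⁻¹ᵁ W : X.Opens) : Set X))) := by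
      refine Set.ext fun q => ⟨fun hq => ⟨⟨q, hsub hq⟩, hq, rfl⟩, ?_⟩
      rintro ⟨⟨q', hq'⟩, hq, rfl⟩
      exact hq
    rw [e]
    exact hc
  have hVc' : CompactSpace ↥((pullback.diagonal f ⁻¹ᵁ W : X.Opens) : Scheme.{u}) :=
    isCompact_iff_compactSpace.mp hVc
  have hp' : p ∈ closure (Set.range ((pullback.diagonal f ⁻¹ᵁ W).ι ≫ pullback.diagonal f).base) := by
    rw [mem_closure_iff]
    intro O hO hpO
    obtain ⟨q, ⟨hqO, hqW⟩, x, rfl⟩ := mem_closure_iff.mp hp (O ∩ W) (hO.inter W.2) ⟨hpO, hpW⟩
    exact ⟨_, hqO, ⟨⟨x, hqW⟩, rfl⟩⟩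
  obtain ⟨v, hv⟩ := MonoImm.exists_specializes_of_mem_closure_range
    ((pullback.diagonal f ⁻¹ᵁ W).ι ≫ pullback.diagonal f) p hp'
  obtain ⟨η, hη, hηv⟩ := exists_generic_specializes X v.1
  refine Hpt η hη p (Specializes.trans ?_ hv)
  exact hηv.map (pullback.diagonal f).continuous

set_option backward.isDefEq.respectTransparency false in
theorem S9211_main {X S : Scheme.{u}} [IsLocallyNoetherian S] (f : X ⟶ S)
    [LocallyOfFiniteType f] :
    IsSeparated f ↔ ∀ (η : X), closure {η} ∈ irreducibleComponents (X : Type u) →
      ∀ (A : ValuationSubring (X.residueField η)), IsDiscreteValuationRing A →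
        ∀ l₁ l₂ : Spec (CommRingCat.of A) ⟶ X, l₁ ≫ f = l₂ ≫ f →
          Spec.map (CommRingCat.ofHom A.subtype) ≫ l₁ = X.fromSpecResidueField η →
          Spec.map (CommRingCat.ofHom A.subtype) ≫ l₂ = X.fromSpecResidueField η → l₁ = l₂ := by
  constructor
  · intro hf η _ A _ l₁ l₂ h12 h1 h2
    have hu := IsSeparated.valuativeCriterion f
    let Sq : ValuativeCommSq f :=
      { R := A
        K := X.residueField η
        i₁ := X.fromSpecResidueField η
        i₂ := l₁ ≫ f
        commSq := ⟨by rw [← Category.assoc]; exact congrArg (· ≫ f) h1.symm⟩ }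
    have hs := hu Sq
    let L₁ : Sq.commSq.LiftStruct := ⟨l₁, h1, rfl⟩
    let L₂ : Sq.commSq.LiftStruct := ⟨l₂, h2, h12.symm⟩
    exact congrArg (fun L : Sq.commSq.LiftStruct => L.l) (Subsingleton.elim L₁ L₂)
  · intro H
    refine isSeparated_of_forall_generic f fun η hη p hp => ?_
    refine mem_range_diagonal_of_dvr f (𝟙 X) η p (by rwa [Category.id_comp]) ?_
    intro A hA l₁ l₂ h12 h1 h2
    rw [Category.comp_id] at h1 h2
    exact H η hη A hA l₁ l₂ h12 h1 h2

set_option backward.isDefEq.respectTransparency false in
theorem S9210_main {X S U : Scheme.{u}} [IsLocallyNoetherian S] (f : X ⟶ S)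
    [LocallyOfFiniteType f] (h : U ⟶ X) [LocallyOfFiniteType h] [QuasiCompact h]
    (hd : DenseRange h.base)
    (H : ∀ (A : Type u) [CommRing A] [IsDomain A] [IsDiscreteValuationRing A]
      (u : Spec (CommRingCat.of (FractionRing A)) ⟶ U) (y : Spec (CommRingCat.of A) ⟶ S),
      u ≫ h ≫ f = Spec.map (CommRingCat.ofHom (algebraMap A (FractionRing A))) ≫ y →
        ∀ l₁ l₂ : Spec (CommRingCat.of A) ⟶ X, l₁ ≫ f = y →
          Spec.map (CommRingCat.ofHom (algebraMap A (FractionRing A))) ≫ l₁ = u ≫ h →
          l₂ ≫ f = y →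
          Spec.map (CommRingCat.ofHom (algebraMap A (FractionRing A))) ≫ l₂ = u ≫ h → l₁ = l₂) :
    IsSeparated f := by
  refine isSeparated_of_forall_generic f fun η hη p hp => ?_
  obtain ⟨ξ, hξ⟩ := MonoImm.exists_specializes_of_mem_closure_range h η (hd.closure_range ▸ Set.mem_univ η)
  have hξη : h.base ξ = η := eq_of_specializes_generic hη hξ
  refine mem_range_diagonal_of_dvr f h ξ p ?_ ?_
  · rw [Scheme.Hom.comp_base, TopCat.comp_app, hξη]
    exact hp
  · intro A hA l₁ l₂ h12 h1 h2
    let e : FractionRing A ≃ₐ[A] U.residueField ξ := FractionRing.algEquiv A (U.residueField ξ)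
    have he : (CommRingCat.ofHom (algebraMap A (FractionRing A))) =
        CommRingCat.ofHom A.subtype ≫
          CommRingCat.ofHom (e.symm : U.residueField ξ →+* FractionRing A) := by
      ext a
      change algebraMap A (FractionRing A) a = e.symm (algebraMap A (U.residueField ξ) a)
      rw [e.symm.commutes]
    have hm : Spec.map (CommRingCat.ofHom (algebraMap A (FractionRing A))) =
        Spec.map (CommRingCat.ofHom (e.symm : U.residueField ξ →+* FractionRing A)) ≫
          Spec.map (CommRingCat.ofHom A.subtype) := by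
      rw [he, Spec.map_comp]
    refine H A (Spec.map (CommRingCat.ofHom (e.symm : U.residueField ξ →+* FractionRing A)) ≫
      U.fromSpecResidueField ξ) (l₁ ≫ f) ?_ l₁ l₂ rfl ?_ h12.symm ?_
    · rw [hm, Category.assoc, Category.assoc, ← Category.assoc (Spec.map (CommRingCat.ofHom A.subtype)),
        h1, Category.assoc]
    · rw [hm, Category.assoc, h1, Category.assoc]
    · rw [hm, Category.assoc, h2, Category.assoc]

end Groth.Agent.Helper7.SepDVR
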