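import Mathlib
import Groth.Prelude.Def_W4stktopologysheavesBas

set_option autoImplicit false
universe u
open TopologicalSpace ShB CategoryTheory

/-! helper7: sheaves of sets on a basis (`ShB`): the cofinal-system criterion (`glue`, `main7585`,
`main7586`), separatedness (`sep`, `sepSheaf`), germs (`germ_eq_iff`, `germ_res`, `main7587`), and the
extension of a sheaf on a basis to a sheaf on the space (`ext`, `exists_ext`, `unique_ext`, `main7588`). -/

namespace Groth.Agent.Helper7.ShBLib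

variable {X : Type u} [TopologicalSpace X] {B : Set (Opens X)}

/-- restriction of restrictions, with arbitrary proofs -/
theorem res_res (F : ShB.Pre B) {U V W : B} (h₁ : (V : Opens X) ≤ (U : Opens X))
    (h₂ : (W : Opens X) ≤ (V : Opens X)) (h₃ : (W : Opens X) ≤ (U : Opens X)) (s : F.obj U) :
    F.res h₂ (F.res h₁ s) = F.res h₃ s := F.res_comp h₁ h₂ s

/-- separatedness from uniqueness for a cofinal system -/
theorem sep (F : ShB.Pre B)
    (C : B → Set (ShB.Cover B)) (hCU : ∀ U, ∀ c ∈ C U, c.U = U)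
    (hC : ∀ (U : B) (ι : Type u) (V : ι → B), (∀ i, (V i : Opens X) ≤ (U : Opens X)) →
      (U : Opens X) ≤ ⨆ i, (V i : Opens X) →
      ∃ c ∈ C U, ∀ i' : c.ι, ∃ i, (c.V i' : Opens X) ≤ (V i : Opens X))
    (H : ∀ U, ∀ c ∈ C U, ShB.GluesUniquely F c)
    (U : B) (t t' : F.obj U)
    (h : ∀ x ∈ (U : Opens X), ∃ (W : B) (hW : (W : Opens X) ≤ (U : Opens X)),
      x ∈ (W : Opens X) ∧ F.res hW t = F.res hW t') : t = t' := by
  obtain ⟨c, hc, href⟩ := hC U {W : B // ∃ hW : (W : Opens X) ≤ (U : Opens X), F.res hW t = F.res hW t'}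
    (fun W => W.1) (fun W => W.2.choose) (by
      intro x hx
      obtain ⟨W, hW, hxW, he⟩ := h x hx
      exact Opens.mem_iSup.mpr ⟨⟨W, hW, he⟩, hxW⟩)
  have hU : c.U = U := hCU U c hc
  have h1 : (c.U : Opens X) ≤ (U : Opens X) := (congrArg Subtype.val hU).le
  have h2 : (U : Opens X) ≤ (c.U : Opens X) := (congrArg Subtype.val hU).ge
  have key : F.res h1 t = F.res h1 t' := by
    obtain ⟨t0, -, huniq⟩ := H U c hc (fun i => F.res (c.V_le i) (F.res h1 t)) (fun i j k => by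
      rw [res_res F _ _ ((c.W_le_left i j k).trans (c.V_le i)),
        res_res F _ _ ((c.W_le_left i j k).trans (c.V_le i))])
    rw [huniq (F.res h1 t) (fun i => rfl)]
    refine (huniq (F.res h1 t') (fun i => ?_)).symm
    obtain ⟨⟨W, hW, he⟩, hi⟩ := href i
    rw [res_res F _ _ ((c.V_le i).trans h1), res_res F _ _ ((c.V_le i).trans h1),
      ← res_res F hW hi, ← res_res F hW hi, he]
  have := congrArg (F.res h2) key
  rwa [res_res F _ _ le_rfl, res_res F _ _ le_rfl, F.res_id, F.res_id] at this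

/-- the cofinal-system criterion -/
theorem glue (hB : Opens.IsBasis B) (F : ShB.Pre B)
    (C : B → Set (ShB.Cover B)) (hCU : ∀ U, ∀ c ∈ C U, c.U = U)
    (hC : ∀ (U : B) (ι : Type u) (V : ι → B), (∀ i, (V i : Opens X) ≤ (U : Opens X)) →
      (U : Opens X) ≤ ⨆ i, (V i : Opens X) →
      ∃ c ∈ C U, ∀ i' : c.ι, ∃ i, (c.V i' : Opens X) ≤ (V i : Opens X))
    (H : ∀ U, ∀ c ∈ C U, ShB.GluesUniquely F c) (c : ShB.Cover B) :
    ShB.GluesUniquely F c := by
  intro s hs
  -- Step A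
  have stepA : ∀ (i j : c.ι) (W : B) (hWi : (W : Opens X) ≤ (c.V i : Opens X))
      (hWj : (W : Opens X) ≤ (c.V j : Opens X)), F.res hWi (s i) = F.res hWj (s j) := by
    intro i j W hWi hWj
    refine sep F C hCU hC H W _ _ (fun x hx => ?_)
    have hx2 : x ∈ (c.V i : Opens X) ⊓ (c.V j : Opens X) := ⟨hWi hx, hWj hx⟩
    obtain ⟨k, hk⟩ := Opens.mem_iSup.mp (c.W_cover i j hx2)
    obtain ⟨W', hW'B, hxW', hW'⟩ := Opens.isBasis_iff_nbhd.mp hB
      (show x ∈ (W : Opens X) ⊓ (c.W i j k : Opens X) from ⟨hx, hk⟩)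
    refine ⟨⟨W', hW'B⟩, hW'.trans inf_le_left, hxW', ?_⟩
    have hk' : W' ≤ (c.W i j k : Opens X) := hW'.trans inf_le_right
    rw [res_res F _ _ (hk'.trans (c.W_le_left i j k)), res_res F _ _ (hk'.trans (c.W_le_right i j k)),
      ← res_res F (c.W_le_left i j k) (V := c.W i j k) (W := ⟨W', hW'B⟩) hk',
      ← res_res F (c.W_le_right i j k) (V := c.W i j k) (W := ⟨W', hW'B⟩) hk', hs]
  -- uniqueness
  have huniq : ∀ t t' : F.obj c.U, (∀ i, F.res (c.V_le i) t = s i) →
      (∀ i, F.res (c.V_le i) t' = s i) → t = t' := by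
    intro t t' ht ht'
    refine sep F C hCU hC H c.U _ _ (fun x hx => ?_)
    obtain ⟨i, hi⟩ := Opens.mem_iSup.mp (c.V_cover hx)
    exact ⟨c.V i, c.V_le i, hi, (ht i).trans (ht' i).symm⟩
  -- existence
  obtain ⟨c', hc', href⟩ := hC c.U c.ι c.V c.V_le c.V_cover
  have hU : c'.U = c.U := hCU c.U c' hc'
  have h1 : (c'.U : Opens X) ≤ (c.U : Opens X) := (congrArg Subtype.val hU).le
  have h2 : (c.U : Opens X) ≤ (c'.U : Opens X) := (congrArg Subtype.val hU).ge
  choose α hα using href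
  obtain ⟨t1, ht1, -⟩ := H c.U c' hc' (fun i' => F.res (hα i') (s (α i'))) (fun i' j' k' => by
    rw [res_res F _ _ ((c'.W_le_left i' j' k').trans (hα i')),
      res_res F _ _ ((c'.W_le_right i' j' k').trans (hα j'))]
    exact stepA _ _ _ _ _)
  have hex : ∀ i, F.res (c.V_le i) (F.res h2 t1) = s i := by
    intro i
    refine sep F C hCU hC H (c.V i) _ _ (fun x hx => ?_)
    have hxU : x ∈ (c'.U : Opens X) := h2 (c.V_le i hx)
    obtain ⟨i', hi'⟩ := Opens.mem_iSup.mp (c'.V_cover hxU)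
    obtain ⟨W', hW'B, hxW', hW'⟩ := Opens.isBasis_iff_nbhd.mp hB
      (show x ∈ (c.V i : Opens X) ⊓ (c'.V i' : Opens X) from ⟨hx, hi'⟩)
    refine ⟨⟨W', hW'B⟩, hW'.trans inf_le_left, hxW', ?_⟩
    have hk' : W' ≤ (c'.V i' : Opens X) := hW'.trans inf_le_right
    rw [res_res F _ _ ((hW'.trans inf_le_left).trans (c.V_le i)),
      res_res F _ _ (hk'.trans (c'.V_le i')),
      ← res_res F (c'.V_le i') (V := c'.V i') (W := ⟨W', hW'B⟩) hk', ht1,
      res_res F _ _ (hk'.trans (hα i'))]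
    exact stepA _ _ _ _ _
  exact ⟨F.res h2 t1, hex, fun t' ht' => huniq _ _ ht' hex⟩

/-- replace the chosen coverings of the pairwise intersections by the intersections themselves -/
def interCover (hBi : ∀ U ∈ B, ∀ U' ∈ B, ∀ U'' ∈ B, U' ≤ U → U'' ≤ U → U' ⊓ U'' ∈ B)
    (c : ShB.Cover B) : ShB.Cover B where
  U := c.U
  ι := c.ι
  V := c.V
  V_le := c.V_le
  V_cover := c.V_cover
  κ := fun _ _ => PUnit
  W := fun i j _ => ⟨(c.V i : Opens X) ⊓ c.V j,
    hBi c.U c.U.2 _ (c.V i).2 _ (c.V j).2 (c.V_le i) (c.V_le j)⟩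
  W_le_left := fun _ _ _ => inf_le_left
  W_le_right := fun _ _ _ => inf_le_right
  W_cover := fun _ _ => le_iSup_of_le PUnit.unit le_rfl

theorem main7586 (hB : Opens.IsBasis B)
    (hBi : ∀ U ∈ B, ∀ U' ∈ B, ∀ U'' ∈ B, U' ≤ U → U'' ≤ U → U' ⊓ U'' ∈ B)
    (F : ShB.Pre B)
    (C : B → Set (ShB.Cover B)) (hCU : ∀ U, ∀ c ∈ C U, c.U = U)
    (hC : ∀ (U : B) (ι : Type u) (V : ι → B), (∀ i, (V i : Opens X) ≤ (U : Opens X)) →
      (U : Opens X) ≤ ⨆ i, (V i : Opens X) →
      ∃ c ∈ C U, ∀ i' : c.ι, ∃ i, (c.V i' : Opens X) ≤ (V i : Opens X)) :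
    ShB.IsSheaf F ↔ ∀ (U : B), ∀ c ∈ C U, ∀ s : ∀ i, F.obj (c.V i),
      (∀ i j, F.res (U := c.V i) (V := ⟨(c.V i : Opens X) ⊓ c.V j,
          hBi c.U c.U.2 _ (c.V i).2 _ (c.V j).2 (c.V_le i) (c.V_le j)⟩) inf_le_left (s i) =
        F.res (U := c.V j) (V := ⟨(c.V i : Opens X) ⊓ c.V j,
          hBi c.U c.U.2 _ (c.V i).2 _ (c.V j).2 (c.V_le i) (c.V_le j)⟩) inf_le_right (s j)) →
      ∃! t : F.obj c.U, ∀ i, F.res (c.V_le i) t = s i := by
  constructor
  · intro hF U c _ s hs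
    exact hF (interCover hBi c) s (fun i j _ => hs i j)
  · intro H
    refine fun c => glue hB F (fun U => {c₂ | ∃ c ∈ C U, c₂ = interCover hBi c}) ?_ ?_ ?_ c
    · rintro U _ ⟨c, hc, rfl⟩
      exact hCU U c hc
    · intro U ι V hV hcov
      obtain ⟨c, hc, href⟩ := hC U ι V hV hcov
      exact ⟨interCover hBi c, ⟨c, hc, rfl⟩, href⟩
    · rintro U _ ⟨c, hc, rfl⟩ s hs
      exact H U c hc s (fun i j => hs i j PUnit.unit)

theorem stalkRel_equiv (hB : Opens.IsBasis B) (F : ShB.Pre B) (x : X) :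
    Equivalence (ShB.StalkRel F x) := by
  refine ⟨fun a => ⟨a.1.1, a.1.2, le_rfl, le_rfl, rfl⟩, ?_, ?_⟩
  · rintro a b ⟨W, hx, ha, hb, h⟩
    exact ⟨W, hx, hb, ha, h.symm⟩
  · rintro a b c ⟨W, hx, ha, hb, h⟩ ⟨W', hx', hb', hc, h'⟩
    obtain ⟨W'', hW''B, hxW'', hW''⟩ := Opens.isBasis_iff_nbhd.mp hB
      (show x ∈ (W : Opens X) ⊓ (W' : Opens X) from ⟨hx, hx'⟩)
    have h1 : W'' ≤ (W : Opens X) := hW''.trans inf_le_left
    have h2 : W'' ≤ (W' : Opens X) := hW''.trans inf_le_right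
    refine ⟨⟨W'', hW''B⟩, hxW'', h1.trans ha, h2.trans hc, ?_⟩
    rw [← res_res F ha (V := W) (W := ⟨W'', hW''B⟩) h1, h, res_res F _ _ (h2.trans hb'),
      ← res_res F hb' (V := W') (W := ⟨W'', hW''B⟩) h2, h', res_res F _ _ (h2.trans hc)]

theorem germ_eq_iff (hB : Opens.IsBasis B) (F : ShB.Pre B) {U V : B} (x : X)
    (hxU : x ∈ (U : Opens X)) (hxV : x ∈ (V : Opens X)) (s : F.obj U) (t : F.obj V) :
    ShB.germ F x hxU s = ShB.germ F x hxV t ↔
      ∃ (W : B) (_ : x ∈ (W : Opens X)) (ha : (W : Opens X) ≤ (U : Opens X))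
        (hb : (W : Opens X) ≤ (V : Opens X)), F.res ha s = F.res hb t := by
  constructor
  · intro h
    have := Quot.eqvGen_exact h
    rw [(stalkRel_equiv hB F x).eqvGen_iff] at this
    exact this
  · intro h
    exact Quot.sound h

theorem germ_res (F : ShB.Pre B) {U V : B} (x : X) (h : (V : Opens X) ≤ (U : Opens X))
    (hxV : x ∈ (V : Opens X)) (s : F.obj U) :
    ShB.germ F x hxV (F.res h s) = ShB.germ F x (h hxV) s :=
  Quot.sound ⟨V, hxV, le_rfl, h, by rw [res_res F _ _ h]⟩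

/-- the covering datum with all possible members inside the pairwise intersections -/
def fullCover (hB : Opens.IsBasis B) (U : B) (ι : Type u) (V : ι → B)
    (hV : ∀ i, (V i : Opens X) ≤ (U : Opens X)) (hcov : (U : Opens X) ≤ ⨆ i, (V i : Opens X)) :
    ShB.Cover B where
  U := U
  ι := ι
  V := V
  V_le := hV
  V_cover := hcov
  κ := fun i j => {W : B // (W : Opens X) ≤ (V i : Opens X) ⊓ (V j : Opens X)}
  W := fun _ _ k => k.1
  W_le_left := fun _ _ k => k.2.trans inf_le_left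
  W_le_right := fun _ _ k => k.2.trans inf_le_right
  W_cover := fun i j x hx => by
    obtain ⟨W', hW'B, hxW', hW'⟩ := Opens.isBasis_iff_nbhd.mp hB hx
    exact Opens.mem_iSup.mpr ⟨⟨⟨W', hW'B⟩, hW'⟩, hxW'⟩

theorem sepSheaf (hB : Opens.IsBasis B) (F : ShB.Pre B) (hF : ShB.IsSheaf F)
    (U : B) (t t' : F.obj U)
    (h : ∀ x ∈ (U : Opens X), ∃ (W : B) (hW : (W : Opens X) ≤ (U : Opens X)),
      x ∈ (W : Opens X) ∧ F.res hW t = F.res hW t') : t = t' :=
  sep F (fun U => {c | c.U = U}) (fun _ _ hc => hc)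
    (fun U ι V hV hcov => ⟨fullCover hB U ι V hV hcov, rfl, fun i' => ⟨i', le_rfl⟩⟩)
    (fun _ c _ => hF c) U t t' h

theorem main7587 (hB : Opens.IsBasis B) (F : ShB.Pre B) (hF : ShB.IsSheaf F) (U : B) :
    Function.Injective (fun (s : F.obj U) (x : (U : Opens X)) => ShB.germ F x.1 x.2 s) ∧
    ∀ f : ∀ x : (U : Opens X), ShB.Stalk F x.1,
      (∃ s : F.obj U, ∀ x, ShB.germ F x.1 x.2 s = f x) ↔
      ∀ x : (U : Opens X), ∃ (V : B) (hxV : x.1 ∈ (V : Opens X))
        (hVU : (V : Opens X) ≤ (U : Opens X)) (σ : F.obj V),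
        ∀ (y : X) (hy : y ∈ (V : Opens X)), ShB.germ F y hy σ = f ⟨y, hVU hy⟩ := by
  constructor
  · intro s s' h
    refine sepSheaf hB F hF U s s' (fun x hx => ?_)
    have h1 := congrFun h ⟨x, hx⟩
    obtain ⟨W, hxW, ha, hb, he⟩ := (germ_eq_iff hB F x hx hx s s').mp h1
    exact ⟨W, ha, hxW, he⟩
  · intro f
    constructor
    · rintro ⟨s, hs⟩ x
      exact ⟨U, x.2, le_rfl, s, fun y hy => hs ⟨y, hy⟩⟩
    · intro h
      choose V hxV hVU σ hσ using h
      have hcov : (U : Opens X) ≤ ⨆ i : (U : Opens X), (V i : Opens X) :=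
        fun x hx => Opens.mem_iSup.mpr ⟨⟨x, hx⟩, hxV ⟨x, hx⟩⟩
      obtain ⟨t, ht, -⟩ := hF (fullCover hB U (U : Opens X) V hVU hcov) σ (by
        rintro i j ⟨W, hW⟩
        refine sepSheaf hB F hF W _ _ (fun y hy => ?_)
        have hyi : y ∈ (V i : Opens X) := (hW hy).1
        have hyj : y ∈ (V j : Opens X) := (hW hy).2
        have h1 : ShB.germ F y hyi (σ i) = ShB.germ F y hyj (σ j) :=
          (hσ i y hyi).trans (hσ j y hyj).symm
        obtain ⟨W', hyW', ha, hb, he⟩ := (germ_eq_iff hB F y hyi hyj (σ i) (σ j)).mp h1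
        obtain ⟨W'', hW''B, hyW'', hW''⟩ := Opens.isBasis_iff_nbhd.mp hB
          (show y ∈ (W : Opens X) ⊓ (W' : Opens X) from ⟨hy, hyW'⟩)
        have h2 : W'' ≤ (W' : Opens X) := hW''.trans inf_le_right
        refine ⟨⟨W'', hW''B⟩, hW''.trans inf_le_left, hyW'', ?_⟩
        change F.res _ (F.res _ (σ i)) = F.res _ (F.res _ (σ j))
        rw [res_res F _ _ (h2.trans ha), res_res F _ _ (h2.trans hb),
          ← res_res F ha (V := W') (W := ⟨W'', hW''B⟩) h2, he, res_res F _ _ (h2.trans hb)])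
      refine ⟨t, fun x => ?_⟩
      have h1 := ht x
      change F.res (hVU x) t = σ x at h1
      rw [← hσ x x.1 (hxV x), ← h1, germ_res]

/-- the local predicate cutting out the families of germs locally coming from sections -/
def extPred (hB : Opens.IsBasis B) (F : ShB.Pre B) :
    TopCat.LocalPredicate (X := TopCat.of X) (fun x => ShB.Stalk F x) where
  pred {U} f := ∀ x : U, ∃ (V : B) (_ : x.1 ∈ (V : Opens X)) (hVU : (V : Opens X) ≤ U)
    (σ : F.obj V), ∀ (y : X) (hy : y ∈ (V : Opens X)), ShB.germ F y hy σ = f ⟨y, hVU hy⟩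
  res {U' U} i f hf x := by
    obtain ⟨V, hxV, hVU, σ, hσ⟩ := hf ⟨x.1, i.le x.2⟩
    obtain ⟨W, hWB, hxW, hW⟩ := Opens.isBasis_iff_nbhd.mp hB
      (show x.1 ∈ (V : Opens X) ⊓ U' from ⟨hxV, x.2⟩)
    refine ⟨⟨W, hWB⟩, hxW, hW.trans inf_le_right, F.res (V := ⟨W, hWB⟩) (hW.trans inf_le_left) σ,
      fun y hy => ?_⟩
    rw [germ_res]
    exact hσ y _
  locality {U} f hf x := by
    obtain ⟨V', hxV', i, h⟩ := hf x
    obtain ⟨V, hxV, hVU, σ, hσ⟩ := h ⟨x.1, hxV'⟩
    exact ⟨V, hxV, hVU.trans i.le, σ, fun y hy => hσ y hy⟩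

/-- the extension of a sheaf on a basis -/
noncomputable def ext (hB : Opens.IsBasis B) (F : ShB.Pre B) :
    TopCat.Sheaf (Type u) (TopCat.of X) :=
  TopCat.subsheafToTypes (extPred hB F)

/-- sections over a member versus germ families -/
noncomputable def extEquiv (hB : Opens.IsBasis B) (F : ShB.Pre B) (hF : ShB.IsSheaf F) (U : B) :
    F.obj U ≃ (ShB.restrict B (ext hB F).presheaf).obj U :=
  Equiv.ofBijective
    (fun s => ⟨fun x => ShB.germ F x.1 x.2 s, fun x => ⟨U, x.2, le_rfl, s, fun _ _ => rfl⟩⟩) (by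
    constructor
    · intro s s' h
      exact (main7587 hB F hF U).1 (congrArg Subtype.val h)
    · rintro ⟨f, hf⟩
      obtain ⟨s, hs⟩ := ((main7587 hB F hF U).2 f).mpr hf
      exact ⟨s, Subtype.ext (funext hs)⟩)

theorem extEquiv_natural (hB : Opens.IsBasis B) (F : ShB.Pre B) (hF : ShB.IsSheaf F) {U V : B}
    (h : (V : Opens X) ≤ (U : Opens X)) (s : F.obj U) :
    (ShB.restrict B (ext hB F).presheaf).res h (extEquiv hB F hF U s) =
      extEquiv hB F hF V (F.res h s) := by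
  refine Subtype.ext (funext fun x => ?_)
  exact (germ_res F x.1 h x.2 s).symm

theorem exists_ext (hB : Opens.IsBasis B) (F : ShB.Pre B) (hF : ShB.IsSheaf F) :
    ∃ G : TopCat.Sheaf (Type u) (TopCat.of X), Nonempty (ShB.Iso (ShB.restrict B G.presheaf) F) := by
  refine ⟨ext hB F, ⟨⟨⟨fun U => (extEquiv hB F hF U).symm, ?_⟩,
    ⟨fun U => extEquiv hB F hF U, ?_⟩, ?_, ?_⟩⟩⟩
  · intro U V h g
    apply (extEquiv hB F hF V).injective
    rw [← extEquiv_natural, Equiv.apply_symm_apply, Equiv.apply_symm_apply]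
  · intro U V h s
    exact extEquiv_natural hB F hF h s
  · intro U s
    exact Equiv.apply_symm_apply _ _
  · intro U t
    exact Equiv.symm_apply_apply _ _

/-- the transformation on the basis induced by two identifications with `F` -/
noncomputable def basisTrans {F : ShB.Pre B} (G G' : TopCat.Sheaf (Type u) (TopCat.of X))
    (e : ShB.Iso (ShB.restrict B G.presheaf) F) (e' : ShB.Iso (ShB.restrict B G'.presheaf) F) :
    (inducedFunctor (fun U : B => (U : Opens X))).op ⋙ G.1 ⟶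
      (inducedFunctor (fun U : B => (U : Opens X))).op ⋙ G'.1 where
  app U := TypeCat.ofHom (fun s => e'.inv.app U.unop (e.hom.app U.unop s))
  naturality U V f := by
    ext s
    have hle := f.unop.hom.le
    have h1 := e.hom.natural hle s
    have h2 := e'.inv.natural hle (e.hom.app U.unop s)
    rw [h1] at h2
    exact h2.symm

theorem isBasis_range (hB : Opens.IsBasis B) :
    Opens.IsBasis (Set.range (fun U : B => (U : Opens X))) := by
  rw [Subtype.range_coe]; exact hB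

/-- the morphism of sheaves induced by two identifications with `F` on the basis -/
noncomputable def extHom (hB : Opens.IsBasis B) {F : ShB.Pre B}
    (G G' : TopCat.Sheaf (Type u) (TopCat.of X))
    (e : ShB.Iso (ShB.restrict B G.presheaf) F) (e' : ShB.Iso (ShB.restrict B G'.presheaf) F) :
    G ⟶ G' :=
  ⟨TopCat.Sheaf.restrictHomEquivHom (B := fun U : B => (U : Opens X)) G.1 G' (isBasis_range hB)
    (basisTrans G G' e e')⟩

theorem extHom_app (hB : Opens.IsBasis B) {F : ShB.Pre B}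
    (G G' : TopCat.Sheaf (Type u) (TopCat.of X))
    (e : ShB.Iso (ShB.restrict B G.presheaf) F) (e' : ShB.Iso (ShB.restrict B G'.presheaf) F)
    (U : B) (s : G.presheaf.obj (Opposite.op (U : Opens X))) :
    (extHom hB G G' e e').1.app (Opposite.op (U : Opens X)) s =
      e'.inv.app U (e.hom.app U s) := by
  have h := TopCat.Sheaf.extend_hom_app (B := fun U : B => (U : Opens X)) G.1 G'
    (isBasis_range hB) (basisTrans G G' e e') U
  exact congrArg (fun f => f s) h

theorem unique_ext (hB : Opens.IsBasis B) (F : ShB.Pre B)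
    (G G' : TopCat.Sheaf (Type u) (TopCat.of X)) (e : ShB.Iso (ShB.restrict B G.presheaf) F)
    (e' : ShB.Iso (ShB.restrict B G'.presheaf) F) :
    ∃! φ : G ⟶ G', IsIso φ ∧ ∀ (U : B) (s : G.presheaf.obj (Opposite.op (U : Opens X))),
      e'.hom.app U (φ.1.app (Opposite.op (U : Opens X)) s) = e.hom.app U s := by
  refine ⟨extHom hB G G' e e', ⟨?_, fun U s => ?_⟩, ?_⟩
  · refine TopCat.Sheaf.isIso_iff_isIso_basis (B := fun U : B => (U : Opens X))
      (isBasis_range hB) (fun U => ?_)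
    rw [isIso_iff_bijective]
    constructor
    · intro s s' h
      have h1 := extHom_app hB G G' e e' U s
      have h2 := extHom_app hB G G' e e' U s'
      have h3 : e'.inv.app U (e.hom.app U s) = e'.inv.app U (e.hom.app U s') :=
        h1.symm.trans (h.trans h2)
      have h4 := congrArg (e'.hom.app U) h3
      rw [e'.inv_hom, e'.inv_hom] at h4
      have h5 := congrArg (e.inv.app U) h4
      rwa [e.hom_inv, e.hom_inv] at h5
    · intro t
      refine ⟨e.inv.app U (e'.hom.app U t), ?_⟩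
      refine (extHom_app hB G G' e e' U _).trans ?_
      rw [e.inv_hom, e'.hom_inv]
  · rw [extHom_app, e'.inv_hom]
  · rintro φ ⟨-, hφ⟩
    refine Sheaf.hom_ext ?_
    refine TopCat.Sheaf.hom_ext (B := fun U : B => (U : Opens X)) G.1 G' (isBasis_range hB)
      (fun U => ?_)
    ext s
    refine Eq.trans ?_ (extHom_app hB G G' e e' U s).symm
    rw [← hφ U s, e'.hom_inv]
    rfl

theorem main7588 (hB : Opens.IsBasis B) (F : ShB.Pre B) (hF : ShB.IsSheaf F) :
    (∃ G : TopCat.Sheaf (Type u) (TopCat.of X), Nonempty (ShB.Iso (ShB.restrict B G.presheaf) F)) ∧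
    ∀ (G G' : TopCat.Sheaf (Type u) (TopCat.of X)) (e : ShB.Iso (ShB.restrict B G.presheaf) F)
      (e' : ShB.Iso (ShB.restrict B G'.presheaf) F),
      ∃! φ : G ⟶ G', IsIso φ ∧ ∀ (U : B) (s : G.presheaf.obj (Opposite.op (U : TopologicalSpace.Opens X))),
        e'.hom.app U (φ.1.app (Opposite.op (U : TopologicalSpace.Opens X)) s) = e.hom.app U s :=
  ⟨exists_ext hB F hF, fun G G' e e' => unique_ext hB F G G' e e'⟩

theorem main7585 (hB : Opens.IsBasis B) (F : ShB.Pre B)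
    (C : B → Set (ShB.Cover B)) (hCU : ∀ U, ∀ c ∈ C U, c.U = U)
    (hC : ∀ (U : B) (ι : Type u) (V : ι → B), (∀ i, (V i : Opens X) ≤ (U : Opens X)) →
      (U : Opens X) ≤ ⨆ i, (V i : Opens X) →
      ∃ c ∈ C U, ∀ i' : c.ι, ∃ i, (c.V i' : Opens X) ≤ (V i : Opens X)) :
    ShB.IsSheaf F ↔ ∀ U, ∀ c ∈ C U, ShB.GluesUniquely F c :=
  ⟨fun h _ c _ => h c, fun H c => glue hB F C hCU hC H c⟩

end Groth.Agent.Helper7.ShBLib
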