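import Mathlib
import Groth.Prelude.Def_W4stktopologysheavesDim

/-! helper7: the soberification of a topological space: description of opens and closeds,
soberness, and the universal property. -/

open TopologicalSpace Topology

universe u

namespace Groth.Agent.Helper7.SobLib

variable {X : Type u} [TopologicalSpace X]

/-- underlying set of a point of the soberification -/
def car (Z : PtTop.Sob X) : Set X := ((show IrreducibleCloseds X from Z) : Set X)

lemma car_irred (Z : PtTop.Sob X) : IsIrreducible (car Z) :=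
  (show IrreducibleCloseds X from Z).isIrreducible

lemma car_closed (Z : PtTop.Sob X) : IsClosed (car Z) :=
  (show IrreducibleCloseds X from Z).isClosed

lemma car_ext {Z Z' : PtTop.Sob X} (h : car Z = car Z') : Z = Z' :=
  IrreducibleCloseds.ext h

/-- make a point of the soberification -/
def mk (F : Set X) (h1 : IsIrreducible F) (h2 : IsClosed F) : PtTop.Sob X :=
  (⟨F, h1, h2⟩ : IrreducibleCloseds X)

@[simp] lemma car_mk (F : Set X) (h1 : IsIrreducible F) (h2 : IsClosed F) :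
    car (mk F h1 h2) = F := rfl

lemma car_toSob (x : X) : car (PtTop.toSob X x) = closure {x} := rfl

/-- the basic open sets of the soberification -/
def D (U : Set X) : Set (PtTop.Sob X) := {Z | (car Z ∩ U).Nonempty}

/-- the basic closed sets of the soberification -/
def C (F : Set X) : Set (PtTop.Sob X) := {Z | car Z ⊆ F}

lemma mem_D {U : Set X} {Z : PtTop.Sob X} : Z ∈ D U ↔ (car Z ∩ U).Nonempty := Iff.rfl

lemma mem_C {F : Set X} {Z : PtTop.Sob X} : Z ∈ C F ↔ car Z ⊆ F := Iff.rfl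

lemma compl_D (U : Set X) : (D U)ᶜ = C Uᶜ := by
  ext Z
  rw [Set.mem_compl_iff, mem_D, mem_C, Set.not_nonempty_iff_eq_empty,
    ← Set.disjoint_iff_inter_eq_empty, Set.subset_compl_iff_disjoint_right]

lemma compl_C (F : Set X) : (C F)ᶜ = D Fᶜ := by
  rw [← compl_compl (D Fᶜ), compl_D, compl_compl]

lemma D_inter {U V : Set X} (hU : IsOpen U) (hV : IsOpen V) : D (U ∩ V) = D U ∩ D V := by
  ext Z
  constructor
  · rintro ⟨x, hxZ, hxU, hxV⟩
    exact ⟨⟨x, hxZ, hxU⟩, ⟨x, hxZ, hxV⟩⟩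
  · rintro ⟨h1, h2⟩
    exact (car_irred Z).isPreirreducible U V hU hV h1 h2

lemma D_sUnion (S : Set (Set X)) : D (⋃₀ S) = ⋃ U ∈ S, D U := by
  ext Z
  simp only [mem_D, Set.mem_iUnion, exists_prop]
  constructor
  · rintro ⟨x, hxZ, U, hU, hxU⟩
    exact ⟨U, hU, x, hxZ, hxU⟩
  · rintro ⟨U, hU, x, hxZ, hxU⟩
    exact ⟨x, hxZ, U, hU, hxU⟩

lemma D_univ : D (Set.univ : Set X) = Set.univ := by
  ext Z
  simp only [mem_D, Set.inter_univ, Set.mem_univ, iff_true]
  exact (car_irred Z).nonempty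

lemma isOpen_D {U : Set X} (hU : IsOpen U) : IsOpen (D U) :=
  TopologicalSpace.GenerateOpen.basic _ ⟨⟨U, hU⟩, rfl⟩

lemma isOpen_iff (S : Set (PtTop.Sob X)) : IsOpen S ↔ ∃ U : Set X, IsOpen U ∧ S = D U := by
  constructor
  · intro hS
    induction hS with
    | basic s hs =>
      obtain ⟨U, rfl⟩ := hs
      exact ⟨U, U.isOpen, rfl⟩
    | univ => exact ⟨Set.univ, isOpen_univ, D_univ.symm⟩
    | inter s t _ _ hs ht =>
      obtain ⟨U, hU, rfl⟩ := hs
      obtain ⟨V, hV, rfl⟩ := ht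
      exact ⟨U ∩ V, hU.inter hV, (D_inter hU hV).symm⟩
    | sUnion S _ ih =>
      choose U hU hSU using ih
      refine ⟨⋃₀ {V | ∃ s, ∃ hs : s ∈ S, V = U s hs}, ?_, ?_⟩
      · refine isOpen_sUnion ?_
        rintro _ ⟨s, hs, rfl⟩
        exact hU s hs
      · rw [D_sUnion]
        ext Z
        simp only [Set.mem_sUnion, Set.mem_iUnion, exists_prop]
        constructor
        · rintro ⟨s, hs, hZs⟩
          refine ⟨U s hs, ⟨s, hs, rfl⟩, ?_⟩
          rw [← hSU s hs]; exact hZs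
        · rintro ⟨_, ⟨s, hs, rfl⟩, hZ⟩
          exact ⟨s, hs, by rw [hSU s hs]; exact hZ⟩
  · rintro ⟨U, hU, rfl⟩
    exact isOpen_D hU

lemma isClosed_C {F : Set X} (hF : IsClosed F) : IsClosed (C F) := by
  rw [← isOpen_compl_iff, compl_C]; exact isOpen_D hF.isOpen_compl

lemma isClosed_iff (T : Set (PtTop.Sob X)) : IsClosed T ↔ ∃ F : Set X, IsClosed F ∧ T = C F := by
  rw [← isOpen_compl_iff, isOpen_iff]
  constructor
  · rintro ⟨U, hU, hTU⟩
    refine ⟨Uᶜ, hU.isClosed_compl, ?_⟩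
    rw [← compl_D, ← hTU, compl_compl]
  · rintro ⟨F, hF, rfl⟩
    exact ⟨Fᶜ, hF.isOpen_compl, compl_C F⟩

lemma preimage_D {U : Set X} (hU : IsOpen U) : PtTop.toSob X ⁻¹' D U = U := by
  ext x
  change ((closure {x} : Set X) ∩ U).Nonempty ↔ _
  constructor
  · rintro ⟨y, hy, hyU⟩
    have := mem_closure_iff.mp hy U hU hyU
    obtain ⟨z, hzU, hz⟩ := this
    rw [Set.mem_singleton_iff] at hz
    rwa [hz] at hzU
  · intro hx
    exact ⟨x, subset_closure rfl, hx⟩

lemma continuous_toSob : Continuous (PtTop.toSob X) := by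
  rw [continuous_def]
  intro S hS
  obtain ⟨U, hU, rfl⟩ := (isOpen_iff S).mp hS
  rw [preimage_D hU]; exact hU

lemma bijOn_preimage :
    Set.BijOn (fun U' : Set (PtTop.Sob X) => PtTop.toSob X ⁻¹' U') {U' | IsOpen U'}
      {U : Set X | IsOpen U} := by
  refine ⟨?_, ?_, ?_⟩
  · intro S hS
    exact continuous_toSob.isOpen_preimage S hS
  · intro S hS S' hS' h
    obtain ⟨U, hU, rfl⟩ := (isOpen_iff S).mp hS
    obtain ⟨V, hV, rfl⟩ := (isOpen_iff S').mp hS'
    simp only [preimage_D hU, preimage_D hV] at h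
    rw [h]
  · intro U hU
    exact ⟨D U, isOpen_D hU, preimage_D hU⟩

lemma car_subset_of_forall_D {Z Z' : PtTop.Sob X}
    (h : ∀ U : Set X, IsOpen U → Z ∈ D U → Z' ∈ D U) : car Z ⊆ car Z' := by
  by_contra hne
  rw [Set.not_subset] at hne
  obtain ⟨x, hxZ, hxZ'⟩ := hne
  obtain ⟨y, hy, hy'⟩ := h (car Z')ᶜ (car_closed Z').isOpen_compl ⟨x, hxZ, hxZ'⟩
  exact hy' hy

instance t0Space_sob : T0Space (PtTop.Sob X) := by
  refine ⟨fun Z Z' h => ?_⟩
  have h1 := car_subset_of_forall_D (Z := Z) (Z' := Z')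
    (fun U hU hZ => (h.mem_open_iff (isOpen_D hU)).mp hZ)
  have h2 := car_subset_of_forall_D (Z := Z') (Z' := Z)
    (fun U hU hZ => (h.mem_open_iff (isOpen_D hU)).mpr hZ)
  exact car_ext (Set.Subset.antisymm h1 h2)


lemma C_mono {F F' : Set X} (h : F ⊆ F') : C F ⊆ C F' := fun _ hZ => hZ.trans h

instance quasiSober_sob : QuasiSober (PtTop.Sob X) := by
  refine ⟨fun {T} hT hTc => ?_⟩
  obtain ⟨F, hF, rfl⟩ := (isClosed_iff T).mp hTc
  let W : Set X := ⋃ Z ∈ C F, car Z
  have hWF : W ⊆ F := Set.iUnion₂_subset fun Z hZ => hZ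
  have hWne : W.Nonempty := by
    obtain ⟨Z₀, hZ₀⟩ := hT.nonempty
    obtain ⟨x, hx⟩ := (car_irred Z₀).nonempty
    exact ⟨x, Set.mem_iUnion₂.mpr ⟨Z₀, hZ₀, hx⟩⟩
  have hWpre : IsPreirreducible W := by
    intro U V hU hV hWU hWV
    obtain ⟨x, hxW, hxU⟩ := hWU
    obtain ⟨y, hyW, hyV⟩ := hWV
    obtain ⟨Z₁, hZ₁, hxZ₁⟩ := Set.mem_iUnion₂.mp hxW
    obtain ⟨Z₂, hZ₂, hyZ₂⟩ := Set.mem_iUnion₂.mp hyW
    have := hT.isPreirreducible (D U) (D V) (isOpen_D hU) (isOpen_D hV)
      ⟨Z₁, hZ₁, ⟨x, hxZ₁, hxU⟩⟩ ⟨Z₂, hZ₂, ⟨y, hyZ₂, hyV⟩⟩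
    obtain ⟨Z, hZ, hZU, hZV⟩ := this
    have hZUV : Z ∈ D (U ∩ V) := by rw [D_inter hU hV]; exact ⟨hZU, hZV⟩
    obtain ⟨z, hz, hzUV⟩ := hZUV
    exact ⟨z, Set.mem_iUnion₂.mpr ⟨Z, hZ, hz⟩, hzUV⟩
  have hirr : IsIrreducible (closure W) := IsIrreducible.closure (⟨hWne, hWpre⟩ : IsIrreducible W)
  have hF₀F : closure W ⊆ F := closure_minimal hWF hF
  have hT : C F = C (closure W) := by
    apply Set.Subset.antisymm
    · intro Z hZ
      exact (Set.subset_biUnion_of_mem (u := fun Z => car Z) hZ).trans subset_closure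
    · exact C_mono hF₀F
  refine ⟨mk (closure W) hirr isClosed_closure, ?_⟩
  rw [hT]
  rw [isGenericPoint_iff_forall_closed (isClosed_C isClosed_closure)
    (show mk (closure W) hirr isClosed_closure ∈ C (closure W) from Set.Subset.refl _)]
  intro T' hT' hmem
  obtain ⟨F', hF', rfl⟩ := (isClosed_iff T').mp hT'
  exact C_mono hmem

/-- the extension of a continuous map to a sober space -/
noncomputable def ext {Y : Type*} [TopologicalSpace Y] [QuasiSober Y] (f : X → Y)
    (hf : Continuous f) (Z : PtTop.Sob X) : Y :=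
  ((car_irred Z).image f hf.continuousOn).genericPoint

lemma ext_spec {Y : Type*} [TopologicalSpace Y] [QuasiSober Y] (f : X → Y)
    (hf : Continuous f) (Z : PtTop.Sob X) :
    IsGenericPoint (ext f hf Z) (closure (f '' car Z)) :=
  ((car_irred Z).image f hf.continuousOn).isGenericPoint_genericPoint_closure

lemma preimage_ext {Y : Type*} [TopologicalSpace Y] [QuasiSober Y] (f : X → Y)
    (hf : Continuous f) {V : Set Y} (hV : IsOpen V) : ext f hf ⁻¹' V = D (f ⁻¹' V) := by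
  ext Z
  rw [Set.mem_preimage, (ext_spec f hf Z).mem_open_set_iff hV,
    closure_inter_open_nonempty_iff hV, mem_D]
  constructor
  · rintro ⟨_, ⟨x, hx, rfl⟩, hxV⟩
    exact ⟨x, hx, hxV⟩
  · rintro ⟨x, hx, hxV⟩
    exact ⟨f x, ⟨x, hx, rfl⟩, hxV⟩

lemma continuous_ext {Y : Type*} [TopologicalSpace Y] [QuasiSober Y] (f : X → Y)
    (hf : Continuous f) : Continuous (ext f hf) := by
  rw [continuous_def]
  intro V hV
  rw [preimage_ext f hf hV]
  exact isOpen_D (hV.preimage hf)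

lemma ext_comp_toSob {Y : Type*} [TopologicalSpace Y] [QuasiSober Y] [T0Space Y] (f : X → Y)
    (hf : Continuous f) : ext f hf ∘ PtTop.toSob X = f := by
  funext x
  have h1 := ext_spec f hf (PtTop.toSob X x)
  have h2 : closure (f '' car (PtTop.toSob X x)) = closure {f x} := by
    rw [car_toSob]
    apply Set.Subset.antisymm
    · refine closure_minimal ?_ isClosed_closure
      have := image_closure_subset_closure_image (s := {x}) hf
      rwa [Set.image_singleton] at this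
    · exact closure_mono (Set.singleton_subset_iff.mpr ⟨x, subset_closure rfl, rfl⟩)
  rw [h2] at h1
  exact h1.eq isGenericPoint_closure

end Groth.Agent.Helper7.SobLib
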