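import Mathlib
import Groth.Agent.Lib.Helper7.SobLib

/-! helper7: compactness, spectrality and noetherianity of the soberification. -/

open TopologicalSpace Topology

universe u

namespace Groth.Agent.Helper7.SobLib

variable {X : Type u} [TopologicalSpace X]

lemma D_mono {U V : Set X} (h : U ⊆ V) : D U ⊆ D V := by
  rintro Z ⟨x, hxZ, hxU⟩
  exact ⟨x, hxZ, h hxU⟩

lemma D_iUnion {ι : Sort*} (U : ι → Set X) : D (⋃ i, U i) = ⋃ i, D (U i) := by
  ext Z
  simp only [mem_D, Set.mem_iUnion]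
  constructor
  · rintro ⟨x, hxZ, hx⟩
    obtain ⟨i, hi⟩ := Set.mem_iUnion.mp hx
    exact ⟨i, x, hxZ, hi⟩
  · rintro ⟨i, x, hxZ, hi⟩
    exact ⟨x, hxZ, Set.mem_iUnion.mpr ⟨i, hi⟩⟩

lemma subset_of_D_subset {U V : Set X} (hU : IsOpen U) (hV : IsOpen V) (h : D U ⊆ D V) :
    U ⊆ V := by
  rw [← preimage_D hU, ← preimage_D hV]
  exact Set.preimage_mono h

lemma isCompact_D_iff {U : Set X} (hU : IsOpen U) : IsCompact (D U) ↔ IsCompact U := by
  constructor
  · intro hc
    refine isCompact_of_finite_subcover fun {ι} V hV hUV => ?_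
    have h1 : D U ⊆ ⋃ i, D (V i) := by
      rw [← D_iUnion]; exact D_mono hUV
    obtain ⟨t, ht⟩ := hc.elim_finite_subcover (fun i => D (V i)) (fun i => isOpen_D (hV i)) h1
    refine ⟨t, ?_⟩
    have h2 : (⋃ i ∈ t, D (V i)) = D (⋃ i ∈ t, V i) := by
      rw [D_iUnion]
      congr 1
      funext i
      rw [D_iUnion]
    rw [h2] at ht
    exact subset_of_D_subset hU (isOpen_biUnion fun i _ => hV i) ht
  · intro hc
    refine isCompact_of_finite_subcover fun {ι} V hV hUV => ?_
    choose W hW hVW using fun i => (isOpen_iff (V i)).mp (hV i)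
    have h1 : D U ⊆ D (⋃ i, W i) := by
      rw [D_iUnion]
      refine hUV.trans ?_
      exact Set.iUnion_mono fun i => (hVW i).le
    have h2 : U ⊆ ⋃ i, W i := subset_of_D_subset hU (isOpen_iUnion hW) h1
    obtain ⟨t, ht⟩ := hc.elim_finite_subcover W hW h2
    refine ⟨t, ?_⟩
    have h3 : (⋃ i ∈ t, V i) = D (⋃ i ∈ t, W i) := by
      rw [D_iUnion]
      congr 1
      funext i
      rw [D_iUnion]
      congr 1
      funext _
      exact hVW i
    rw [h3]
    exact D_mono ht


lemma compactSpace_sob [CompactSpace X] : CompactSpace (PtTop.Sob X) := by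
  refine ⟨?_⟩
  rw [← D_univ]
  exact (isCompact_D_iff isOpen_univ).mpr isCompact_univ

lemma quasiSeparatedSpace_sob [QuasiSeparatedSpace X] : QuasiSeparatedSpace (PtTop.Sob X) := by
  refine ⟨fun U' V' hU' hU'c hV' hV'c => ?_⟩
  obtain ⟨U, hU, rfl⟩ := (isOpen_iff U').mp hU'
  obtain ⟨V, hV, rfl⟩ := (isOpen_iff V').mp hV'
  rw [← D_inter hU hV, isCompact_D_iff (hU.inter hV)]
  exact QuasiSeparatedSpace.inter_isCompact U V hU ((isCompact_D_iff hU).mp hU'c) hV
    ((isCompact_D_iff hV).mp hV'c)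

lemma prespectralSpace_sob [PrespectralSpace X] : PrespectralSpace (PtTop.Sob X) := by
  refine PrespectralSpace.of_isTopologicalBasis
    (B := {S | ∃ U : Set X, IsOpen U ∧ IsCompact U ∧ S = D U}) ?_ ?_
  · refine isTopologicalBasis_of_isOpen_of_nhds ?_ ?_
    · rintro _ ⟨U, hU, -, rfl⟩
      exact isOpen_D hU
    · intro Z S hZS hS
      obtain ⟨V, hV, rfl⟩ := (isOpen_iff S).mp hS
      obtain ⟨x, hxZ, hxV⟩ := hZS
      obtain ⟨U, ⟨hU, hUc⟩, hxU, hUV⟩ :=
        PrespectralSpace.isTopologicalBasis.exists_subset_of_mem_open hxV hV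
      exact ⟨D U, ⟨U, hU, hUc, rfl⟩, ⟨x, hxZ, hxU⟩, D_mono hUV⟩
  · rintro _ ⟨U, hU, hUc, rfl⟩
    exact (isCompact_D_iff hU).mpr hUc

lemma noetherianSpace_sob [NoetherianSpace X] : NoetherianSpace (PtTop.Sob X) := by
  rw [noetherianSpace_iff_opens]
  intro S
  obtain ⟨U, hU, hSU⟩ := (isOpen_iff (S : Set (PtTop.Sob X))).mp S.isOpen
  rw [hSU, isCompact_D_iff hU]
  exact NoetherianSpace.isCompact U

theorem sob_spectral (X : Type u) [TopologicalSpace X] :
    (CompactSpace X → CompactSpace (PtTop.Sob X)) ∧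
    (CompactSpace X → PrespectralSpace X → QuasiSeparatedSpace X → SpectralSpace (PtTop.Sob X)) ∧
    (TopologicalSpace.NoetherianSpace X →
      TopologicalSpace.NoetherianSpace (PtTop.Sob X) ∧ SpectralSpace (PtTop.Sob X)) := by
  refine ⟨fun _ => compactSpace_sob, fun _ _ _ => ?_, fun _ => ?_⟩
  · have h1 := compactSpace_sob (X := X)
    have h2 := quasiSeparatedSpace_sob (X := X)
    have h3 := prespectralSpace_sob (X := X)
    exact { }
  · have h0 := noetherianSpace_sob (X := X)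
    refine ⟨h0, ?_⟩
    exact { }

end Groth.Agent.Helper7.SobLib
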