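import Mathlib.Topology.Spectral.Basic
import Mathlib.Topology.Spectral.ConstructibleTopology
import Mathlib.Topology.Connected.TotallyDisconnected
import Mathlib.Topology.Connected.Separation
import Mathlib.Topology.Constructible
import Mathlib.Topology.Separation.Hausdorff

/-!
# Helper library (helper7): spectral spaces and the constructible topology
-/

set_option autoImplicit false

namespace Groth.Agent.Helper7

open Topology TopologicalSpace

universe u
variable {X : Type u} [TopologicalSpace X]

/-- In a prespectral space every open set is open for the constructible topology. -/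
theorem isOpen_cons_of_isOpen [PrespectralSpace X] {U : Set X} (hU : IsOpen U) :
    IsOpen[constructibleTopology X] U := by
  obtain ⟨S, hS, rfl⟩ := PrespectralSpace.isTopologicalBasis.open_eq_sUnion hU
  exact @isOpen_sUnion X (constructibleTopology X) S fun s hs =>
    (hS hs).2.isOpen_constructibleTopology_of_isOpen (hS hs).1

/-- In a prespectral space every closed set is closed for the constructible topology. -/
theorem isClosed_cons_of_isClosed [PrespectralSpace X] {Z : Set X} (hZ : IsClosed Z) :
    IsClosed[constructibleTopology X] Z := by
  rw [← @isOpen_compl_iff X Z (constructibleTopology X)]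
  exact isOpen_cons_of_isOpen hZ.isOpen_compl

theorem cons_le [PrespectralSpace X] : constructibleTopology X ≤ ‹TopologicalSpace X› :=
  fun _ hU => isOpen_cons_of_isOpen hU

theorem continuous_id_cons [PrespectralSpace X] :
    @Continuous X X (constructibleTopology X) ‹TopologicalSpace X› id :=
  continuous_id_of_le cons_le

/-- Compact opens are clopen in the constructible topology. -/
theorem isClopen_cons_of_isCompact_isOpen {U : Set X} (hUo : IsOpen U) (hUc : IsCompact U) :
    @IsClopen X (constructibleTopology X) U := by
  refine ⟨?_, hUc.isOpen_constructibleTopology_of_isOpen hUo⟩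
  rw [← @isOpen_compl_iff X U (constructibleTopology X)]
  exact IsCompact.isOpen_constructibleTopology_of_isClosed (by rwa [compl_compl])
    hUo.isClosed_compl

/-- The constructible topology on a spectral space is compact. -/
theorem compactSpace_cons [SpectralSpace X] : @CompactSpace X (constructibleTopology X) := by
  have h : CompactSpace (WithConstructibleTopology X) := inferInstance
  exact @Function.Surjective.compactSpace _ _ _ (constructibleTopology X) _
    (WithTopology.continuous_ofTopology _) h
    (WithTopology.ofTopology_surjective _)

/-- The constructible topology on a spectral space is Hausdorff. -/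
theorem t2Space_cons [SpectralSpace X] : @T2Space X (constructibleTopology X) := by
  refine @T2Space.mk X (constructibleTopology X) ?_
  intro x y hxy
  obtain ⟨U, hU, hxor⟩ := exists_isOpen_xor_mem hxy
  rcases hxor with ⟨hxU, hyU⟩ | ⟨hyU, hxU⟩
  · obtain ⟨V, ⟨hVo, hVc⟩, hxV, hVU⟩ :=
      PrespectralSpace.isTopologicalBasis.exists_subset_of_mem_open hxU hU
    have hcl := isClopen_cons_of_isCompact_isOpen hVo hVc
    exact ⟨V, Vᶜ, hcl.2, (@IsClopen.compl X (constructibleTopology X) V hcl).2, hxV,
      fun h => hyU (hVU h), disjoint_compl_right⟩
  · obtain ⟨V, ⟨hVo, hVc⟩, hyV, hVU⟩ :=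
      PrespectralSpace.isTopologicalBasis.exists_subset_of_mem_open hyU hU
    have hcl := isClopen_cons_of_isCompact_isOpen hVo hVc
    exact ⟨Vᶜ, V, (@IsClopen.compl X (constructibleTopology X) V hcl).2, hcl.2,
      fun h => hxU (hVU h), hyV, disjoint_compl_left⟩

/-- A subset closed in the constructible topology of a spectral space is compact
for the constructible topology. -/
theorem isCompact_cons_of_isClosed_cons [SpectralSpace X] {E : Set X}
    (hE : IsClosed[constructibleTopology X] E) : @IsCompact X (constructibleTopology X) E :=
  @IsClosed.isCompact X (constructibleTopology X) E compactSpace_cons hE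

/-- Compactness for the constructible topology implies compactness for the original one. -/
theorem isCompact_of_isCompact_cons [PrespectralSpace X] {E : Set X}
    (hE : @IsCompact X (constructibleTopology X) E) : IsCompact E := by
  have := @IsCompact.image X X (constructibleTopology X) _ E id hE continuous_id_cons
  simpa using this

/-- A subset closed in the constructible topology of a spectral space is compact. -/
theorem isCompact_of_isClosed_cons [SpectralSpace X] {E : Set X}
    (hE : IsClosed[constructibleTopology X] E) : IsCompact E :=
  isCompact_of_isCompact_cons (isCompact_cons_of_isClosed_cons hE)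

variable {Y : Type u} [TopologicalSpace Y]

/-- A spectral map is continuous for the constructible topologies. -/
theorem continuous_cons_of_isSpectralMap {f : X → Y} (hf : IsSpectralMap f) :
    @Continuous X Y (constructibleTopology X) (constructibleTopology Y) f := by
  refine (continuous_generateFrom_iff (t := constructibleTopology X)
    (b := constructibleTopologySubbasis Y)).mpr ?_
  intro s hs
  rcases hs with ⟨ho, hc⟩ | ⟨hcl, hc⟩
  · exact (hf.isCompact_preimage_of_isOpen ho hc).isOpen_constructibleTopology_of_isOpen
      (ho.preimage hf.continuous)
  · refine IsCompact.isOpen_constructibleTopology_of_isClosed ?_ (hcl.preimage hf.continuous)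
    rw [← Set.preimage_compl]
    exact hf.isCompact_preimage_of_isOpen hcl.isOpen_compl hc

/-- If `E` is compact for the constructible topology, and `𝒰` is a family of compact open sets
such that every finite subfamily has an intersection meeting `E`, then `E` meets `⋂₀ 𝒰`. -/
theorem nonempty_inter_sInter_of_isCompact_cons {E : Set X}
    (hE : @IsCompact X (constructibleTopology X) E) (𝒰 : Set (Set X))
    (h𝒰 : ∀ U ∈ 𝒰, IsOpen U ∧ IsCompact U)
    (hfin : ∀ a ⊆ 𝒰, a.Finite → (E ∩ ⋂₀ a).Nonempty) : (E ∩ ⋂₀ 𝒰).Nonempty :=
  @IsCompact.nonempty_inter_sInter X (constructibleTopology X) E hE 𝒰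
    (fun U hU => (isClopen_cons_of_isCompact_isOpen (h𝒰 U hU).1 (h𝒰 U hU).2).1) hfin

/-- Stacks 0903 (1): for `E` closed in the constructible topology of a spectral space,
every point of the closure of `E` is a specialization of a point of `E`. -/
theorem exists_specializes_of_mem_closure [SpectralSpace X] {E : Set X}
    (hE : IsClosed[constructibleTopology X] E) {x : X} (hx : x ∈ closure E) :
    ∃ e ∈ E, e ⤳ x := by
  have hEc := isCompact_cons_of_isClosed_cons hE
  obtain ⟨e, heE, he⟩ := nonempty_inter_sInter_of_isCompact_cons hEc
    {U | IsOpen U ∧ IsCompact U ∧ x ∈ U} (fun U hU => ⟨hU.1, hU.2.1⟩) (by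
      intro a ha hfin
      have hopen : IsOpen (⋂₀ a) := hfin.isOpen_sInter fun U hU => (ha hU).1
      have hxa : x ∈ ⋂₀ a := fun U hU => (ha hU).2.2
      obtain ⟨y, hy1, hy2⟩ := mem_closure_iff.mp hx _ hopen hxa
      exact ⟨y, hy2, hy1⟩)
  refine ⟨e, heE, specializes_iff_forall_open.mpr fun s hs hxs => ?_⟩
  obtain ⟨V, ⟨hVo, hVc⟩, hxV, hVs⟩ :=
    PrespectralSpace.isTopologicalBasis.exists_subset_of_mem_open hxs hs
  exact hVs (he V ⟨hVo, hVc, hxV⟩)

/-- Stacks 0903 (2). -/
theorem isClosed_of_isClosed_cons_of_stableUnderSpecialization [SpectralSpace X] {E : Set X}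
    (hE : IsClosed[constructibleTopology X] E) (hs : StableUnderSpecialization E) :
    IsClosed E := by
  rw [← closure_subset_iff_isClosed]
  intro x hx
  obtain ⟨e, he, hex⟩ := exists_specializes_of_mem_closure hE hx
  exact hs hex he

/-- Stacks 0903 (3). -/
theorem isOpen_of_isOpen_cons_of_stableUnderGeneralization [SpectralSpace X] {E : Set X}
    (hE : IsOpen[constructibleTopology X] E) (hs : StableUnderGeneralization E) :
    IsOpen E := by
  rw [← isClosed_compl_iff]
  refine isClosed_of_isClosed_cons_of_stableUnderSpecialization ?_ hs.compl
  exact (@isClosed_compl_iff X (constructibleTopology X) E).mpr hE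

end Groth.Agent.Helper7
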