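import Groth.Agent.Lib.Helper7.Spectral

/-!
# Helper library (helper7): subspaces of spectral spaces closed in the constructible topology
-/

set_option autoImplicit false

namespace Groth.Agent.Helper7

open Topology TopologicalSpace

universe u
variable {X : Type u} [TopologicalSpace X]

/-- For `E` closed in the constructible topology of a spectral space and `U` compact open,
`E ∩ U` is compact. -/
theorem isCompact_inter_of_isClosed_cons [SpectralSpace X] {E U : Set X}
    (hE : IsClosed[constructibleTopology X] E) (hUo : IsOpen U) (hUc : IsCompact U) :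
    IsCompact (E ∩ U) :=
  isCompact_of_isClosed_cons
    (@IsClosed.inter X E U (constructibleTopology X) hE
      (isClopen_cons_of_isCompact_isOpen hUo hUc).1)

/-- The inclusion of a subset closed in the constructible topology is a spectral map. -/
theorem isSpectralMap_subtype_val_of_isClosed_cons [SpectralSpace X] {E : Set X}
    (hE : IsClosed[constructibleTopology X] E) : IsSpectralMap (Subtype.val : E → X) := by
  refine ⟨continuous_subtype_val, fun U hUo hUc => ?_⟩
  rw [Subtype.isCompact_iff, Subtype.image_preimage_coe]
  exact isCompact_inter_of_isClosed_cons hE hUo hUc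

/-- A point whose closure is the closure of a subset `T` of a set `E` closed in the constructible
topology lies in `E` (no compactness needed). -/
theorem mem_of_isGenericPoint_closure_of_isClosed_cons {E T : Set X}
    (hE : IsClosed[constructibleTopology X] E) (hT : T ⊆ E) {η : X}
    (hη : IsGenericPoint η (closure T)) : η ∈ E := by
  by_contra hηE
  have hopen : IsOpen[constructibleTopology X] Eᶜ :=
    (@isOpen_compl_iff X E (constructibleTopology X)).mpr hE
  have hb := @isTopologicalBasis_of_subbasis X (constructibleTopology X)
    (constructibleTopologySubbasis X) rfl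
  obtain ⟨B, hB, hηB, hBE⟩ :=
    @IsTopologicalBasis.exists_subset_of_mem_open X (constructibleTopology X) _ hb η Eᶜ hηE hopen
  obtain ⟨f, ⟨hfin, hfs⟩, rfl⟩ := hB
  -- split f into open and closed members
  classical
  let fo : Set (Set X) := {s ∈ f | IsOpen s}
  have hfo_fin : fo.Finite := hfin.subset (fun s hs => hs.1)
  have hO : IsOpen (⋂₀ fo) := hfo_fin.isOpen_sInter fun s hs => hs.2
  have hηO : η ∈ ⋂₀ fo := fun s hs => hηB s hs.1
  -- T meets the open set ⋂₀ fo
  have hηcl : η ∈ closure T := hη.mem
  obtain ⟨t, htO, htT⟩ := mem_closure_iff.mp hηcl _ hO hηO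
  -- t lies in every member of f
  have : t ∈ ⋂₀ f := by
    intro s hs
    rcases hfs hs with ⟨ho, _⟩ | ⟨hc, _⟩
    · exact htO s ⟨hs, ho⟩
    · have : closure T ⊆ s := (hη.mem_closed_set_iff hc).mp (hηB s hs)
      exact this (subset_closure htT)
  exact hBE this (hT htT)

/-- A subset closed in the constructible topology of a quasi-sober space is quasi-sober. -/
theorem quasiSober_of_isClosed_cons [QuasiSober X] {E : Set X}
    (hE : IsClosed[constructibleTopology X] E) : QuasiSober E := by
  refine ⟨fun {S} hS hSc => ?_⟩
  have hT : IsIrreducible (Subtype.val '' S) := hS.image _ continuous_subtype_val.continuousOn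
  have hZ : IsIrreducible (closure (Subtype.val '' S)) := hT.closure
  obtain ⟨η, hη⟩ := QuasiSober.sober hZ isClosed_closure
  have hηE : η ∈ E := mem_of_isGenericPoint_closure_of_isClosed_cons hE
    (by rintro _ ⟨x, _, rfl⟩; exact x.2) hη
  refine ⟨⟨η, hηE⟩, ?_⟩
  rw [IsGenericPoint, IsInducing.subtypeVal.closure_eq_preimage_closure_image, Set.image_singleton,
    hη.def, ← IsInducing.subtypeVal.closure_eq_preimage_closure_image, hSc.closure_eq]

/-- Stacks 0902: a subset of a spectral space that is closed in the constructible topology is a
spectral space for the induced topology. -/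
theorem spectralSpace_of_isClosed_cons [SpectralSpace X] {E : Set X}
    (hE : IsClosed[constructibleTopology X] E) : SpectralSpace E := by
  have hval := isSpectralMap_subtype_val_of_isClosed_cons hE
  have hcomp : CompactSpace E := isCompact_iff_compactSpace.mp (isCompact_of_isClosed_cons hE)
  have hsober : QuasiSober E := quasiSober_of_isClosed_cons hE
  have hpre : PrespectralSpace E := PrespectralSpace.of_isInducing _ IsInducing.subtypeVal hval
  have hqs : QuasiSeparatedSpace E := by
    have hbasis := (PrespectralSpace.isTopologicalBasis (X := X)).isInducing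
      (IsInducing.subtypeVal (t := E))
    let b : {U : Set X // IsOpen U ∧ IsCompact U} → Set E := fun U => Subtype.val ⁻¹' U.1
    have hrange : Set.range b = Set.image (Set.preimage Subtype.val)
        {U : Set X | IsOpen U ∧ IsCompact U} := by
      ext s; constructor
      · rintro ⟨U, rfl⟩; exact ⟨U.1, U.2, rfl⟩
      · rintro ⟨U, hU, rfl⟩; exact ⟨⟨U, hU⟩, rfl⟩
    refine QuasiSeparatedSpace.of_isTopologicalBasis (b := b) (hrange ▸ hbasis) ?_
    intro U V
    have : b U ∩ b V = Subtype.val ⁻¹' (U.1 ∩ V.1) := rfl
    rw [this]
    exact hval.isCompact_preimage_of_isOpen (U.2.1.inter V.2.1)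
      (QuasiSeparatedSpace.inter_isCompact _ _ U.2.1 U.2.2 V.2.1 V.2.2)
  exact { }

end Groth.Agent.Helper7
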