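import Mathlib.Topology.Spectral.Basic
import Mathlib.Topology.Spectral.Hom
import Mathlib.Topology.Bases
import Mathlib.Topology.Irreducible

/-!
# Helper library (helper7): arbitrary products of spectral spaces
-/

set_option autoImplicit false

namespace Groth.Agent.Helper7

open Topology TopologicalSpace

universe u v
variable {ι : Type u} {X : ι → Type v} [∀ i, TopologicalSpace (X i)]

/-- A finite-support box of compact sets in a product of compact spaces is compact. -/
theorem isCompact_finset_pi [∀ i, CompactSpace (X i)] (F : Set ι) (U : ∀ i, Set (X i))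
    (hU : ∀ i ∈ F, IsCompact (U i)) : IsCompact (F.pi U) := by
  classical
  rw [← Set.univ_pi_ite]
  refine isCompact_univ_pi fun i => ?_
  split_ifs with h
  · exact hU i h
  · exact isCompact_univ

/-- The product of quasi-sober spaces is quasi-sober. -/
theorem quasiSober_pi [∀ i, QuasiSober (X i)] : QuasiSober (∀ i, X i) := by
  classical
  refine ⟨fun {S} hS hSc => ?_⟩
  have h1 : ∀ i, IsIrreducible (closure (Function.eval i '' S)) := fun i =>
    (hS.image _ (continuous_apply i).continuousOn).closure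
  choose ξ hξ using fun i => QuasiSober.sober (h1 i) isClosed_closure
  have hmem : ξ ∈ S := by
    rw [← hSc.closure_eq, mem_closure_iff]
    intro o ho hξo
    obtain ⟨I, u, hu, hsub⟩ := isOpen_pi_iff.mp ho ξ hξo
    have key := isIrreducible_iff_sInter.mp hS (I.image fun i => Function.eval i ⁻¹' u i)
      (by
        intro s hs
        obtain ⟨i, hi, rfl⟩ := Finset.mem_image.mp hs
        exact (hu i hi).1.preimage (continuous_apply i))
      (by
        intro s hs
        obtain ⟨i, hi, rfl⟩ := Finset.mem_image.mp hs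
        obtain ⟨_, hxu, ⟨p, hp, rfl⟩⟩ := mem_closure_iff.mp (hξ i).mem (u i) (hu i hi).1 (hu i hi).2
        exact ⟨p, hp, hxu⟩)
    obtain ⟨p, hpS, hp⟩ := key
    refine ⟨p, hsub ?_, hpS⟩
    intro i hi
    exact hp (Function.eval i ⁻¹' u i) (by
      simp only [Finset.coe_image, Set.mem_image, Finset.mem_coe]
      exact ⟨i, hi, rfl⟩)
  refine ⟨ξ, ?_⟩
  refine le_antisymm ?_ ?_
  · exact (hSc.closure_subset_iff.mpr (Set.singleton_subset_iff.mpr hmem))
  · intro p hp
    rw [← Set.univ_pi_singleton, closure_pi_set]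
    intro i _
    show p i ∈ closure {ξ i}
    rw [(hξ i).def]
    exact subset_closure ⟨p, hp, rfl⟩

/-- Finite-support boxes of compact opens form a basis of a product of prespectral spaces. -/
theorem isTopologicalBasis_pi_compactOpens [∀ i, PrespectralSpace (X i)] :
    IsTopologicalBasis { S : Set (∀ i, X i) | ∃ (U : ∀ i, Set (X i)) (F : Finset ι),
      (∀ i, i ∈ F → U i ∈ {V : Set (X i) | IsOpen V ∧ IsCompact V}) ∧ S = (F : Set ι).pi U } :=
  isTopologicalBasis_pi fun _ => PrespectralSpace.isTopologicalBasis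

theorem prespectralSpace_pi [∀ i, PrespectralSpace (X i)] [∀ i, CompactSpace (X i)] :
    PrespectralSpace (∀ i, X i) := by
  refine PrespectralSpace.of_isTopologicalBasis isTopologicalBasis_pi_compactOpens ?_
  rintro _ ⟨U, F, hU, rfl⟩
  exact isCompact_finset_pi _ _ fun i hi => (hU i hi).2

theorem quasiSeparatedSpace_pi [∀ i, PrespectralSpace (X i)] [∀ i, CompactSpace (X i)]
    [∀ i, QuasiSeparatedSpace (X i)] : QuasiSeparatedSpace (∀ i, X i) := by
  classical
  let I := {p : (∀ i, Set (X i)) × Finset ι // ∀ i ∈ p.2, IsOpen (p.1 i) ∧ IsCompact (p.1 i)}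
  let b : I → Set (∀ i, X i) := fun p => (p.1.2 : Set ι).pi p.1.1
  have hrange : Set.range b = { S : Set (∀ i, X i) | ∃ (U : ∀ i, Set (X i)) (F : Finset ι),
      (∀ i, i ∈ F → U i ∈ {V : Set (X i) | IsOpen V ∧ IsCompact V}) ∧ S = (F : Set ι).pi U } := by
    ext s; constructor
    · rintro ⟨⟨⟨U, F⟩, h⟩, rfl⟩; exact ⟨U, F, h, rfl⟩
    · rintro ⟨U, F, h, rfl⟩; exact ⟨⟨(U, F), h⟩, rfl⟩
  refine QuasiSeparatedSpace.of_isTopologicalBasis (b := b)
    (hrange ▸ isTopologicalBasis_pi_compactOpens) ?_
  rintro ⟨⟨U, F⟩, hU⟩ ⟨⟨V, G⟩, hV⟩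
  have : b ⟨(U, F), hU⟩ ∩ b ⟨(V, G), hV⟩ = Set.pi Set.univ (fun i =>
      (if i ∈ (F : Set ι) then U i else Set.univ) ∩ (if i ∈ (G : Set ι) then V i else Set.univ)) := by
    rw [Set.pi_inter_distrib, Set.univ_pi_ite, Set.univ_pi_ite]
  rw [this]
  refine isCompact_univ_pi fun i => ?_
  have hF : IsOpen (if i ∈ (F : Set ι) then U i else Set.univ) ∧
      IsCompact (if i ∈ (F : Set ι) then U i else Set.univ) := by
    split_ifs with h
    · exact hU i h
    · exact ⟨isOpen_univ, isCompact_univ⟩
  have hG : IsOpen (if i ∈ (G : Set ι) then V i else Set.univ) ∧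
      IsCompact (if i ∈ (G : Set ι) then V i else Set.univ) := by
    split_ifs with h
    · exact hV i h
    · exact ⟨isOpen_univ, isCompact_univ⟩
  exact QuasiSeparatedSpace.inter_isCompact _ _ hF.1 hF.2 hG.1 hG.2

/-- An arbitrary product of spectral spaces is spectral. -/
theorem spectralSpace_pi [∀ i, SpectralSpace (X i)] : SpectralSpace (∀ i, X i) := by
  have h1 : QuasiSober (∀ i, X i) := quasiSober_pi
  have h2 : PrespectralSpace (∀ i, X i) := prespectralSpace_pi
  have h3 : QuasiSeparatedSpace (∀ i, X i) := quasiSeparatedSpace_pi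
  exact { }

/-- The projections from a product of compact spaces are spectral maps. -/
theorem isSpectralMap_eval [∀ i, CompactSpace (X i)] (i : ι) :
    IsSpectralMap (Function.eval i : (∀ i, X i) → X i) := by
  classical
  refine ⟨continuous_apply i, fun U _ hUc => ?_⟩
  rw [← Set.univ_pi_update_univ]
  refine isCompact_univ_pi fun j => ?_
  by_cases h : j = i
  · subst h
    rw [Function.update_self]
    exact hUc
  · rw [Function.update_of_ne h]
    exact isCompact_univ

end Groth.Agent.Helper7
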