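import Mathlib.Topology.Category.TopCat.Limits.Basic
import Mathlib.CategoryTheory.Limits.ConcreteCategory.Basic

/-!
# Helper library (helper7): concrete description of limit cones in `TopCat`
-/

set_option autoImplicit false

namespace Groth.Agent.Helper7

open CategoryTheory CategoryTheory.Limits Topology

universe u
variable {J : Type u} [SmallCategory J] {F : J ⥤ TopCat.{u}}

/-- The canonical map from the point of a cone to the product of the spaces of the diagram. -/
def coneToPi (c : Cone F) : c.pt → ∀ j, F.obj j := fun x j => c.π.app j x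

@[simp] theorem coneToPi_apply (c : Cone F) (x : c.pt) (j : J) : coneToPi c x j = c.π.app j x := rfl

theorem coneToPi_compat (c : Cone F) (x : c.pt) {i j : J} (a : i ⟶ j) :
    F.map a (coneToPi c x i) = coneToPi c x j := by
  simp only [coneToPi_apply]
  rw [← c.w a]
  rfl

theorem continuous_coneToPi (c : Cone F) : Continuous (coneToPi c) :=
  continuous_pi fun j => (c.π.app j).hom.continuous

theorem isInducing_coneToPi (c : Cone F) (hc : IsLimit c) : IsInducing (coneToPi c) := by
  refine ⟨?_⟩
  have h := TopCat.induced_of_isLimit c hc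
  change c.pt.str = _
  rw [h]
  simp only [Pi.topologicalSpace, induced_iInf, induced_compose]
  rfl

theorem injective_coneToPi (c : Cone F) (hc : IsLimit c) : Function.Injective (coneToPi c) := by
  intro x y hxy
  refine Concrete.isLimit_ext F hc x y fun j => ?_
  exact congrFun hxy j

theorem exists_of_compat (c : Cone F) (hc : IsLimit c) (u : ∀ j, F.obj j)
    (hu : ∀ ⦃i j : J⦄ (a : i ⟶ j), F.map a (u i) = u j) : ∃ x : c.pt, coneToPi c x = u := by
  let e := IsLimit.conePointUniqueUpToIso (TopCat.limitConeIsLimit F) hc
  let y : (TopCat.limitCone F).pt := ⟨u, fun {i j} a => hu a⟩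
  refine ⟨e.hom y, funext fun j => ?_⟩
  have := IsLimit.conePointUniqueUpToIso_hom_comp (TopCat.limitConeIsLimit F) hc j
  have h2 := ConcreteCategory.congr_hom this y
  exact h2

theorem range_coneToPi (c : Cone F) (hc : IsLimit c) :
    Set.range (coneToPi c) = {u | ∀ ⦃i j : J⦄ (a : i ⟶ j), F.map a (u i) = u j} := by
  ext u; constructor
  · rintro ⟨x, rfl⟩ i j a
    exact coneToPi_compat c x a
  · intro hu
    exact exists_of_compat c hc u hu

theorem isEmbedding_coneToPi (c : Cone F) (hc : IsLimit c) : IsEmbedding (coneToPi c) :=
  ⟨isInducing_coneToPi c hc, injective_coneToPi c hc⟩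

end Groth.Agent.Helper7
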