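import Groth.Agent.Lib.Helper7.Spectral2
import Groth.Agent.Lib.Helper7.SpectralPi
import Groth.Agent.Lib.Helper7.TopCatLimit
import Mathlib.CategoryTheory.Filtered.Basic

/-!
# Helper library (helper7): limits of spectral spaces along spectral maps
-/

set_option autoImplicit false

namespace Groth.Agent.Helper7

open CategoryTheory CategoryTheory.Limits Topology TopologicalSpace

universe u
variable {J : Type u} [SmallCategory J] {F : J ⥤ TopCat.{u}}

/-- The set of compatible families in the product of the spaces of a diagram. -/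
def compatSet (F : J ⥤ TopCat.{u}) : Set (∀ j, F.obj j) :=
  {u | ∀ ⦃i j : J⦄ (a : i ⟶ j), F.map a (u i) = u j}

/-- The set of families with `j`-th coordinate in `Z j`. -/
def boxSet (Z : ∀ j, Set (F.obj j)) : Set (∀ j, F.obj j) := {u | ∀ j, u j ∈ Z j}

theorem spectralSpace_piObj (hF : ∀ j, SpectralSpace (F.obj j)) :
    SpectralSpace (∀ j, F.obj j) :=
  have := hF
  spectralSpace_pi

theorem isClosed_cons_eqLocus (hF : ∀ j, SpectralSpace (F.obj j)) {i j : J} (a : i ⟶ j)
    (ha : IsSpectralMap (F.map a : F.obj i → F.obj j)) :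
    IsClosed[constructibleTopology (∀ j, F.obj j)] {u : ∀ j, F.obj j | F.map a (u i) = u j} := by
  have := hF
  have h1 : IsSpectralMap (fun u : ∀ j, F.obj j => F.map a (u i)) :=
    ha.comp (isSpectralMap_eval i)
  have h2 : IsSpectralMap (fun u : ∀ j, F.obj j => u j) := isSpectralMap_eval j
  exact @isClosed_eq (F.obj j) (∀ j, F.obj j) (constructibleTopology (F.obj j))
    (constructibleTopology (∀ j, F.obj j)) t2Space_cons _ _
    (continuous_cons_of_isSpectralMap h1) (continuous_cons_of_isSpectralMap h2)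

theorem isClosed_cons_compatSet (hF : ∀ j, SpectralSpace (F.obj j))
    (hFm : ∀ {i j : J} (a : i ⟶ j), IsSpectralMap (F.map a : F.obj i → F.obj j)) :
    IsClosed[constructibleTopology (∀ j, F.obj j)] (compatSet F) := by
  have : compatSet F = ⋂ (i : J) (j : J) (a : i ⟶ j),
      {u : ∀ j, F.obj j | F.map a (u i) = u j} := by
    ext u; simp [compatSet]
  rw [this]
  refine @isClosed_iInter _ _ (constructibleTopology (∀ j, F.obj j)) _ fun i => ?_
  refine @isClosed_iInter _ _ (constructibleTopology (∀ j, F.obj j)) _ fun j => ?_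
  refine @isClosed_iInter _ _ (constructibleTopology (∀ j, F.obj j)) _ fun a => ?_
  exact isClosed_cons_eqLocus hF a (hFm a)

theorem isClosed_cons_evalPreimage (hF : ∀ j, SpectralSpace (F.obj j)) (j : J)
    {Z : Set (F.obj j)} (hZ : IsClosed[constructibleTopology (F.obj j)] Z) :
    IsClosed[constructibleTopology (∀ j, F.obj j)] (Function.eval j ⁻¹' Z) := by
  have := hF
  exact @IsClosed.preimage _ _ (constructibleTopology (∀ j, F.obj j))
    (constructibleTopology (F.obj j)) _
    (continuous_cons_of_isSpectralMap (isSpectralMap_eval j)) _ hZ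

theorem isClosed_cons_boxSet (hF : ∀ j, SpectralSpace (F.obj j)) (Z : ∀ j, Set (F.obj j))
    (hZ : ∀ j, IsClosed[constructibleTopology (F.obj j)] (Z j)) :
    IsClosed[constructibleTopology (∀ j, F.obj j)] (boxSet Z) := by
  have : boxSet Z = ⋂ j, Function.eval j ⁻¹' Z j := by
    ext u; simp [boxSet]
  rw [this]
  exact @isClosed_iInter _ _ (constructibleTopology (∀ j, F.obj j)) _ fun j =>
    isClosed_cons_evalPreimage hF j (hZ j)

theorem range_coneToPi_eq_compatSet (c : Cone F) (hc : IsLimit c) :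
    Set.range (coneToPi c) = compatSet F := range_coneToPi c hc

/-- Key compactness statement: the preimage in the limit of a subset of the product that is closed
in the constructible topology is compact. -/
theorem isCompact_coneToPi_preimage (hF : ∀ j, SpectralSpace (F.obj j))
    (hFm : ∀ {i j : J} (a : i ⟶ j), IsSpectralMap (F.map a : F.obj i → F.obj j))
    (c : Cone F) (hc : IsLimit c) {K : Set (∀ j, F.obj j)}
    (hK : IsClosed[constructibleTopology (∀ j, F.obj j)] K) :
    IsCompact (coneToPi c ⁻¹' K) := by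
  have := spectralSpace_piObj hF
  rw [(isInducing_coneToPi c hc).isCompact_iff, Set.image_preimage_eq_inter_range,
    range_coneToPi_eq_compatSet c hc]
  exact isCompact_of_isClosed_cons
    (@IsClosed.inter _ _ _ (constructibleTopology (∀ j, F.obj j)) hK
      (isClosed_cons_compatSet hF hFm))

/-- Stacks 0A2W (1). -/
theorem isCompact_limit_sections (hF : ∀ j, SpectralSpace (F.obj j))
    (hFm : ∀ {i j : J} (a : i ⟶ j), IsSpectralMap (F.map a : F.obj i → F.obj j))
    (c : Cone F) (hc : IsLimit c) (Z : ∀ j, Set (F.obj j))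
    (hZ : ∀ j, IsClosed[constructibleTopology (F.obj j)] (Z j)) :
    IsCompact {x : c.pt | ∀ j, c.π.app j x ∈ Z j} :=
  isCompact_coneToPi_preimage hF hFm c hc (isClosed_cons_boxSet hF Z hZ)

/-- The limit of a diagram of spectral spaces with spectral transition maps is spectral. -/
theorem spectralSpace_of_isLimit (hF : ∀ j, SpectralSpace (F.obj j))
    (hFm : ∀ {i j : J} (a : i ⟶ j), IsSpectralMap (F.map a : F.obj i → F.obj j))
    (c : Cone F) (hc : IsLimit c) : SpectralSpace c.pt := by
  have := spectralSpace_piObj hF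
  have hE : SpectralSpace (Set.range (coneToPi c)) := by
    rw [range_coneToPi_eq_compatSet c hc]
    exact spectralSpace_of_isClosed_cons (isClosed_cons_compatSet hF hFm)
  let e : c.pt ≃ₜ Set.range (coneToPi c) := (isEmbedding_coneToPi c hc).toHomeomorph
  have : CompactSpace c.pt := e.symm.compactSpace
  exact e.isOpenEmbedding.spectralSpace

/-- The projections from the limit are spectral. -/
theorem isSpectralMap_π_of_isLimit (hF : ∀ j, SpectralSpace (F.obj j))
    (hFm : ∀ {i j : J} (a : i ⟶ j), IsSpectralMap (F.map a : F.obj i → F.obj j))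
    (c : Cone F) (hc : IsLimit c) (j : J) : IsSpectralMap (c.π.app j : c.pt → F.obj j) := by
  refine ⟨(c.π.app j).hom.continuous, fun U hUo hUc => ?_⟩
  have : (c.π.app j : c.pt → F.obj j) ⁻¹' U = coneToPi c ⁻¹' (Function.eval j ⁻¹' U) := rfl
  rw [this]
  exact isCompact_coneToPi_preimage hF hFm c hc
    (isClosed_cons_evalPreimage hF j (isClopen_cons_of_isCompact_isOpen hUo hUc).1)

/-- For a cofiltered diagram, partial sections over finitely many arrows exist. -/
theorem exists_partial_section [IsCofiltered J] (Z : ∀ j, Set (F.obj j))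
    (hZne : ∀ j, (Z j).Nonempty)
    (hZm : ∀ ⦃i j : J⦄ (a : i ⟶ j), Set.MapsTo (F.map a) (Z i) (Z j))
    (A : Finset (Σ (i : J) (j : J), i ⟶ j)) :
    ∃ u : ∀ j, F.obj j, (∀ j, u j ∈ Z j) ∧ ∀ f ∈ A, F.map f.2.2 (u f.1) = u f.2.1 := by
  classical
  let O : Finset J := A.image (fun f => f.1) ∪ A.image (fun f => f.2.1)
  have hO1 : ∀ f ∈ A, f.1 ∈ O := fun f hf =>
    Finset.mem_union_left _ (Finset.mem_image_of_mem _ hf)
  have hO2 : ∀ f ∈ A, f.2.1 ∈ O := fun f hf =>
    Finset.mem_union_right _ (Finset.mem_image_of_mem _ hf)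
  let H : Finset (Σ' (X Y : J) (_ : X ∈ O) (_ : Y ∈ O), X ⟶ Y) :=
    A.attach.image (fun f => ⟨f.1.1, f.1.2.1, hO1 f.1 f.2, hO2 f.1 f.2, f.1.2.2⟩)
  obtain ⟨z, hz⟩ := hZne (IsCofiltered.inf O H)
  choose z0 hz0 using hZne
  refine ⟨fun j => if hj : j ∈ O then F.map (IsCofiltered.infTo O H hj) z else z0 j, ?_, ?_⟩
  · intro j
    dsimp only
    split_ifs with hj
    · exact hZm _ hz
    · exact hz0 j
  · rintro ⟨i, j, a⟩ hf
    dsimp only
    rw [dif_pos (hO1 _ hf), dif_pos (hO2 _ hf)]
    have hcomm : IsCofiltered.infTo O H (hO1 _ hf) ≫ a = IsCofiltered.infTo O H (hO2 _ hf) := by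
      refine IsCofiltered.infTo_commutes O H (hO1 _ hf) (hO2 _ hf) ?_
      exact Finset.mem_image.mpr ⟨⟨⟨i, j, a⟩, hf⟩, Finset.mem_attach _ _, rfl⟩
    rw [← hcomm, F.map_comp]
    rfl

/-- Stacks 0A2W (2)-type statement: a cofiltered limit of nonempty constructibly closed subsets is
nonempty. -/
theorem exists_limit_section [IsCofiltered J] (hF : ∀ j, SpectralSpace (F.obj j))
    (hFm : ∀ {i j : J} (a : i ⟶ j), IsSpectralMap (F.map a : F.obj i → F.obj j))
    (c : Cone F) (hc : IsLimit c) (Z : ∀ j, Set (F.obj j))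
    (hZne : ∀ j, (Z j).Nonempty)
    (hZ : ∀ j, IsClosed[constructibleTopology (F.obj j)] (Z j))
    (hZm : ∀ ⦃i j : J⦄ (a : i ⟶ j), Set.MapsTo (F.map a) (Z i) (Z j)) :
    ∃ x : c.pt, ∀ j, c.π.app j x ∈ Z j := by
  classical
  have := spectralSpace_piObj hF
  let t : Finset (Σ (i : J) (j : J), i ⟶ j) → Set (∀ j, F.obj j) := fun A =>
    boxSet Z ∩ ⋂ f ∈ A, {u : ∀ j, F.obj j | F.map f.2.2 (u f.1) = u f.2.1}
  have hclosed : ∀ A, IsClosed[constructibleTopology (∀ j, F.obj j)] (t A) := by
    intro A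
    refine @IsClosed.inter _ _ _ (constructibleTopology (∀ j, F.obj j))
      (isClosed_cons_boxSet hF Z hZ) ?_
    refine @isClosed_iInter _ _ (constructibleTopology (∀ j, F.obj j)) _ fun f => ?_
    refine @isClosed_iInter _ _ (constructibleTopology (∀ j, F.obj j)) _ fun _ => ?_
    exact isClosed_cons_eqLocus hF f.2.2 (hFm f.2.2)
  have hdir : Directed (· ⊇ ·) t := by
    intro A B
    refine ⟨A ∪ B, ?_, ?_⟩
    · intro u hu
      refine ⟨hu.1, Set.mem_iInter₂.mpr fun f hf => ?_⟩
      exact Set.mem_iInter₂.mp hu.2 f (Finset.mem_union_left _ hf)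
    · intro u hu
      refine ⟨hu.1, Set.mem_iInter₂.mpr fun f hf => ?_⟩
      exact Set.mem_iInter₂.mp hu.2 f (Finset.mem_union_right _ hf)
  have hne : ∀ A, (t A).Nonempty := by
    intro A
    obtain ⟨u, hu1, hu2⟩ := exists_partial_section Z hZne hZm A
    exact ⟨u, hu1, Set.mem_iInter₂.mpr hu2⟩
  obtain ⟨u, hu⟩ := @IsCompact.nonempty_iInter_of_directed_nonempty_isCompact_isClosed
    (∀ j, F.obj j) (constructibleTopology (∀ j, F.obj j)) _ ⟨∅⟩ t hdir hne
    (fun A => isCompact_cons_of_isClosed_cons (hclosed A)) hclosed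
  have hu' := Set.mem_iInter.mp hu
  have hcompat : u ∈ compatSet F := by
    intro i j a
    exact Set.mem_iInter₂.mp (hu' {⟨i, j, a⟩}).2 ⟨i, j, a⟩ (Finset.mem_singleton_self _)
  obtain ⟨x, rfl⟩ := exists_of_compat c hc u hcompat
  exact ⟨x, fun j => (hu' ∅).1 j⟩

end Groth.Agent.Helper7
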