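import Groth.Agent.Lib.Helper7.SpectralLimit
import Mathlib.CategoryTheory.Filtered.Final
import Mathlib.CategoryTheory.Limits.Final

/-!
# Helper library (helper7): cofiltered limits of spectral spaces, descent of inclusions
-/

set_option autoImplicit false

namespace Groth.Agent.Helper7

open CategoryTheory CategoryTheory.Limits Topology TopologicalSpace

universe u
variable {J : Type u} [SmallCategory J] {F : J ⥤ TopCat.{u}}

theorem isClosed_cons_preimage_of_isSpectralMap {X Y : Type u} [TopologicalSpace X]
    [TopologicalSpace Y] {f : X → Y} (hf : IsSpectralMap f) {Z : Set Y}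
    (hZ : IsClosed[constructibleTopology Y] Z) : IsClosed[constructibleTopology X] (f ⁻¹' Z) :=
  @IsClosed.preimage _ _ (constructibleTopology X) (constructibleTopology Y) _
    (continuous_cons_of_isSpectralMap hf) _ hZ

theorem isOpen_cons_preimage_of_isSpectralMap {X Y : Type u} [TopologicalSpace X]
    [TopologicalSpace Y] {f : X → Y} (hf : IsSpectralMap f) {Z : Set Y}
    (hZ : IsOpen[constructibleTopology Y] Z) : IsOpen[constructibleTopology X] (f ⁻¹' Z) :=
  @IsOpen.preimage _ _ (constructibleTopology X) (constructibleTopology Y) _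
    (continuous_cons_of_isSpectralMap hf) _ hZ

/-- Stacks 0A2X-type statement: a constructibly closed subset of `X_i` whose preimages in all
`X_j` (`j ⟶ i`) are nonempty has nonempty preimage in the limit. -/
theorem exists_mem_preimage_of_forall_nonempty [IsCofiltered J]
    (hF : ∀ j, SpectralSpace (F.obj j))
    (hFm : ∀ {i j : J} (a : i ⟶ j), IsSpectralMap (F.map a : F.obj i → F.obj j))
    (c : Cone F) (hc : IsLimit c) (i : J) (E : Set (F.obj i))
    (hE : IsClosed[constructibleTopology (F.obj i)] E)
    (hne : ∀ (j : J) (a : j ⟶ i), ((F.map a : F.obj j → F.obj i) ⁻¹' E).Nonempty) :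
    ∃ x : c.pt, c.π.app i x ∈ E := by
  let F' : Over i ⥤ TopCat.{u} := Over.forget i ⋙ F
  let c' : Cone F' := c.whisker (Over.forget i)
  have hc' : IsLimit c' := (Functor.Initial.isLimitWhiskerEquiv (Over.forget i) c).symm hc
  obtain ⟨x, hx⟩ := exists_limit_section (F := F') (fun a => hF a.left)
    (fun g => hFm g.left) c' hc'
    (fun a => (F.map a.hom : F.obj a.left → F.obj i) ⁻¹' E)
    (fun a => hne a.left a.hom)
    (fun a => isClosed_cons_preimage_of_isSpectralMap (hFm a.hom) hE)
    (by
      intro a b g x hx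
      simp only [Set.mem_preimage] at hx ⊢
      have hw : g.left ≫ b.hom = a.hom := Over.w g
      have : F.map b.hom (F.map g.left x) = F.map a.hom x := by
        rw [← hw, F.map_comp]; rfl
      change F.map b.hom (F.map g.left x) ∈ E
      rw [this]; exact hx)
  refine ⟨x, ?_⟩
  have := hx (Over.mk (𝟙 i))
  simp only [Set.mem_preimage] at this
  have h2 : F.map (Over.mk (𝟙 i)).hom = 𝟙 (F.obj i) := by
    simp
  rw [h2] at this
  exact this

/-- Stacks 0A2X. -/
theorem preimage_subset_preimage_iff [IsCofiltered J]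
    (hF : ∀ j, SpectralSpace (F.obj j))
    (hFm : ∀ {i j : J} (a : i ⟶ j), IsSpectralMap (F.map a : F.obj i → F.obj j))
    (c : Cone F) (hc : IsLimit c) (i : J) (E F' : Set (F.obj i))
    (hE : IsClosed[constructibleTopology (F.obj i)] E)
    (hF' : IsOpen[constructibleTopology (F.obj i)] F') :
    ((c.π.app i : c.pt → F.obj i) ⁻¹' E ⊆ (c.π.app i : c.pt → F.obj i) ⁻¹' F') ↔
      ∃ (j : J) (a : j ⟶ i), (F.map a : F.obj j → F.obj i) ⁻¹' E ⊆
        (F.map a : F.obj j → F.obj i) ⁻¹' F' := by
  constructor
  · intro h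
    by_contra hcon
    push Not at hcon
    have hne : ∀ (j : J) (a : j ⟶ i),
        ((F.map a : F.obj j → F.obj i) ⁻¹' (E \ F')).Nonempty := by
      intro j a
      obtain ⟨x, hx1, hx2⟩ := Set.not_subset.mp (hcon j a)
      exact ⟨x, hx1, hx2⟩
    have hcl : IsClosed[constructibleTopology (F.obj i)] (E \ F') :=
      @IsClosed.sdiff _ _ _ (constructibleTopology (F.obj i)) hE hF'
    obtain ⟨x, hx⟩ := exists_mem_preimage_of_forall_nonempty hF hFm c hc i (E \ F') hcl hne
    exact hx.2 (h hx.1)
  · rintro ⟨j, a, h⟩ x hx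
    have hw : c.π.app i x = F.map a (c.π.app j x) := by
      rw [← c.w a]; rfl
    simp only [Set.mem_preimage] at hx ⊢
    rw [hw] at hx ⊢
    exact h hx

end Groth.Agent.Helper7
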