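import Groth.Agent.Lib.Helper7.SpectralLimit2
import Mathlib.Topology.Compactness.Bases

/-!
# Helper library (helper7): cofiltered limits of spectral spaces, descent of compact opens
-/

set_option autoImplicit false

namespace Groth.Agent.Helper7

open CategoryTheory CategoryTheory.Limits Topology TopologicalSpace

universe u
variable {J : Type u} [SmallCategory J] {F : J ⥤ TopCat.{u}}

theorem π_eq_map_π (c : Cone F) {i j : J} (a : j ⟶ i) (x : c.pt) :
    c.π.app i x = F.map a (c.π.app j x) := by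
  rw [← c.w a]; rfl

theorem preimage_π_preimage_map (c : Cone F) {i j : J} (a : j ⟶ i) (U : Set (F.obj i)) :
    (c.π.app j : c.pt → F.obj j) ⁻¹' ((F.map a : F.obj j → F.obj i) ⁻¹' U) =
      (c.π.app i : c.pt → F.obj i) ⁻¹' U := by
  ext x
  simp only [Set.mem_preimage]
  rw [π_eq_map_π c a x]

/-- The set of preimages of compact opens under the projections. -/
def basicOpens (c : Cone F) : Set (Set c.pt) :=
  {U | ∃ (j : J) (V : Set (F.obj j)), IsOpen V ∧ IsCompact V ∧
    (c.π.app j : c.pt → F.obj j) ⁻¹' V = U}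

theorem isTopologicalBasis_basicOpens [IsCofiltered J]
    (hF : ∀ j, SpectralSpace (F.obj j))
    (hFm : ∀ {i j : J} (a : i ⟶ j), IsSpectralMap (F.map a : F.obj i → F.obj j))
    (c : Cone F) (hc : IsLimit c) : IsTopologicalBasis (basicOpens c) := by
  have := hF
  refine ⟨?_, ?_, ?_⟩
  · rintro _ ⟨j, V, hVo, hVc, rfl⟩ _ ⟨k, W, hWo, hWc, rfl⟩ x hx
    let i := IsCofiltered.min j k
    let a : i ⟶ j := IsCofiltered.minToLeft j k
    let b : i ⟶ k := IsCofiltered.minToRight j k
    refine ⟨(c.π.app i : c.pt → F.obj i) ⁻¹' ((F.map a : F.obj i → F.obj j) ⁻¹' V ∩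
      (F.map b : F.obj i → F.obj k) ⁻¹' W), ⟨i, _, ?_, ?_, rfl⟩, ?_, ?_⟩
    · exact (hVo.preimage (hFm a).continuous).inter (hWo.preimage (hFm b).continuous)
    · exact QuasiSeparatedSpace.inter_isCompact _ _ (hVo.preimage (hFm a).continuous)
        ((hFm a).isCompact_preimage_of_isOpen hVo hVc) (hWo.preimage (hFm b).continuous)
        ((hFm b).isCompact_preimage_of_isOpen hWo hWc)
    · rw [Set.preimage_inter, preimage_π_preimage_map, preimage_π_preimage_map]
      exact hx
    · rw [Set.preimage_inter, preimage_π_preimage_map, preimage_π_preimage_map]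
  · refine Set.eq_univ_of_forall fun x => ?_
    obtain ⟨j⟩ := IsCofiltered.nonempty (C := J)
    exact ⟨Set.univ, ⟨j, Set.univ, isOpen_univ, isCompact_univ, rfl⟩, trivial⟩
  · have h1 := TopCat.induced_of_isLimit c hc
    change c.pt.str = _
    rw [h1]
    have h2 : ∀ j, (F.obj j).str = generateFrom {V : Set (F.obj j) | IsOpen V ∧ IsCompact V} :=
      fun j => (PrespectralSpace.isTopologicalBasis (X := F.obj j)).eq_generateFrom
    have h3 : ∀ j, induced (c.π.app j : c.pt → F.obj j) (F.obj j).str =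
        generateFrom (Set.preimage (c.π.app j : c.pt → F.obj j) ''
          {V : Set (F.obj j) | IsOpen V ∧ IsCompact V}) := by
      intro j
      conv_lhs => rw [h2 j]
      exact induced_generateFrom_eq
    simp only [h3]
    let p : ∀ j, c.pt → F.obj j := fun j => c.π.app j
    refine (generateFrom_iUnion (α := c.pt) (f := fun j => Set.preimage (p j) ''
          {V : Set (F.obj j) | IsOpen V ∧ IsCompact V})).symm.trans ?_
    congr 1
    ext U
    simp only [Set.mem_iUnion, Set.mem_image, Set.mem_ofPred_eq, basicOpens]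
    constructor
    · rintro ⟨j, V, ⟨hVo, hVc⟩, rfl⟩; exact ⟨j, V, hVo, hVc, rfl⟩
    · rintro ⟨j, V, hVo, hVc, rfl⟩; exact ⟨j, V, ⟨hVo, hVc⟩, rfl⟩

theorem isCompact_of_mem_basicOpens
    (hF : ∀ j, SpectralSpace (F.obj j))
    (hFm : ∀ {i j : J} (a : i ⟶ j), IsSpectralMap (F.map a : F.obj i → F.obj j))
    (c : Cone F) (hc : IsLimit c) {U : Set c.pt} (hU : U ∈ basicOpens c) : IsCompact U := by
  obtain ⟨j, V, hVo, hVc, rfl⟩ := hU
  exact (isSpectralMap_π_of_isLimit hF hFm c hc j).isCompact_preimage_of_isOpen hVo hVc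

/-- Stacks 0A2Y (1): every compact open of the limit comes from a compact open at a finite
stage. -/
theorem exists_compactOpen_preimage_eq [IsCofiltered J]
    (hF : ∀ j, SpectralSpace (F.obj j))
    (hFm : ∀ {i j : J} (a : i ⟶ j), IsSpectralMap (F.map a : F.obj i → F.obj j))
    (c : Cone F) (hc : IsLimit c) (U : Set c.pt) (hUo : IsOpen U) (hUc : IsCompact U) :
    ∃ (i : J) (Ui : Set (F.obj i)), IsOpen Ui ∧ IsCompact Ui ∧
      (c.π.app i : c.pt → F.obj i) ⁻¹' Ui = U := by
  have := hF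
  let b : basicOpens c → Set c.pt := fun s => s.1
  have hb : IsTopologicalBasis (Set.range b) := by
    have : Set.range b = basicOpens c := Subtype.range_coe
    rw [this]
    exact isTopologicalBasis_basicOpens hF hFm c hc
  obtain ⟨s, hs, rfl⟩ := (isCompact_open_iff_eq_finite_iUnion_of_isTopologicalBasis b hb
    (fun i => isCompact_of_mem_basicOpens hF hFm c hc i.2) U).mp ⟨hUc, hUo⟩
  clear hUo hUc
  induction s, hs using Set.Finite.induction_on with
  | empty =>
    obtain ⟨j⟩ := IsCofiltered.nonempty (C := J)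
    exact ⟨j, ∅, isOpen_empty, isCompact_empty, by simp⟩
  | insert ha hs ih =>
    rename_i t s
    obtain ⟨j, V, hVo, hVc, hV⟩ := ih
    obtain ⟨k, W, hWo, hWc, hW⟩ := t.2
    let i := IsCofiltered.min j k
    let a : i ⟶ j := IsCofiltered.minToLeft j k
    let b' : i ⟶ k := IsCofiltered.minToRight j k
    refine ⟨i, (F.map b' : F.obj i → F.obj k) ⁻¹' W ∪ (F.map a : F.obj i → F.obj j) ⁻¹' V,
      ?_, ?_, ?_⟩
    · exact (hWo.preimage (hFm b').continuous).union (hVo.preimage (hFm a).continuous)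
    · exact ((hFm b').isCompact_preimage_of_isOpen hWo hWc).union
        ((hFm a).isCompact_preimage_of_isOpen hVo hVc)
    · rw [Set.preimage_union, preimage_π_preimage_map, preimage_π_preimage_map, hV, hW,
        Set.biUnion_insert]

/-- Stacks 0A2Y (2). -/
theorem exists_hom_preimage_subset [IsCofiltered J]
    (hF : ∀ j, SpectralSpace (F.obj j))
    (hFm : ∀ {i j : J} (a : i ⟶ j), IsSpectralMap (F.map a : F.obj i → F.obj j))
    (c : Cone F) (hc : IsLimit c) (i j : J) (A : Set (F.obj i)) (B : Set (F.obj j))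
    (hA : IsClosed[constructibleTopology (F.obj i)] A)
    (hB : IsOpen[constructibleTopology (F.obj j)] B)
    (h : (c.π.app i : c.pt → F.obj i) ⁻¹' A ⊆ (c.π.app j : c.pt → F.obj j) ⁻¹' B) :
    ∃ (k : J) (a : k ⟶ i) (b : k ⟶ j),
      (F.map a : F.obj k → F.obj i) ⁻¹' A ⊆ (F.map b : F.obj k → F.obj j) ⁻¹' B := by
  let k₀ := IsCofiltered.min i j
  let a₀ : k₀ ⟶ i := IsCofiltered.minToLeft i j
  let b₀ : k₀ ⟶ j := IsCofiltered.minToRight i j
  have h' : (c.π.app k₀ : c.pt → F.obj k₀) ⁻¹' ((F.map a₀ : F.obj k₀ → F.obj i) ⁻¹' A) ⊆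
      (c.π.app k₀ : c.pt → F.obj k₀) ⁻¹' ((F.map b₀ : F.obj k₀ → F.obj j) ⁻¹' B) := by
    rw [preimage_π_preimage_map, preimage_π_preimage_map]; exact h
  obtain ⟨k, d, hd⟩ := (preimage_subset_preimage_iff hF hFm c hc k₀ _ _
    (isClosed_cons_preimage_of_isSpectralMap (hFm a₀) hA)
    (isOpen_cons_preimage_of_isSpectralMap (hFm b₀) hB)).mp h'
  refine ⟨k, d ≫ a₀, d ≫ b₀, ?_⟩
  intro x hx
  simp only [Set.mem_preimage, F.map_comp] at hx ⊢
  exact hd hx

/-- Stacks 0A2Y (3)/(4): equality of preimages of constructibly clopen sets descends. -/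
theorem exists_hom_preimage_eq [IsCofiltered J]
    (hF : ∀ j, SpectralSpace (F.obj j))
    (hFm : ∀ {i j : J} (a : i ⟶ j), IsSpectralMap (F.map a : F.obj i → F.obj j))
    (c : Cone F) (hc : IsLimit c) (i : J) (A B : Set (F.obj i))
    (hA : @IsClopen _ (constructibleTopology (F.obj i)) A)
    (hB : @IsClopen _ (constructibleTopology (F.obj i)) B)
    (h : (c.π.app i : c.pt → F.obj i) ⁻¹' A = (c.π.app i : c.pt → F.obj i) ⁻¹' B) :
    ∃ (j : J) (a : j ⟶ i),
      (F.map a : F.obj j → F.obj i) ⁻¹' A = (F.map a : F.obj j → F.obj i) ⁻¹' B := by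
  have hD : IsClosed[constructibleTopology (F.obj i)] ((A \ B) ∪ (B \ A)) :=
    @IsClosed.union _ _ _ (constructibleTopology (F.obj i))
      (@IsClosed.sdiff _ _ _ (constructibleTopology (F.obj i)) hA.1 hB.2)
      (@IsClosed.sdiff _ _ _ (constructibleTopology (F.obj i)) hB.1 hA.2)
  have h' : (c.π.app i : c.pt → F.obj i) ⁻¹' ((A \ B) ∪ (B \ A)) ⊆
      (c.π.app i : c.pt → F.obj i) ⁻¹' ∅ := by
    rw [Set.preimage_union, Set.preimage_sdiff, Set.preimage_sdiff, h]
    simp
  obtain ⟨j, a, ha⟩ := (preimage_subset_preimage_iff hF hFm c hc i _ _ hD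
    (@isOpen_empty _ (constructibleTopology (F.obj i)))).mp h'
  refine ⟨j, a, ?_⟩
  ext x
  simp only [Set.mem_preimage]
  constructor
  · intro hx
    by_contra hxB
    exact ha (show x ∈ (F.map a : F.obj j → F.obj i) ⁻¹' ((A \ B) ∪ (B \ A)) from
      Or.inl ⟨hx, hxB⟩)
  · intro hx
    by_contra hxA
    exact ha (show x ∈ (F.map a : F.obj j → F.obj i) ⁻¹' ((A \ B) ∪ (B \ A)) from
      Or.inr ⟨hx, hxA⟩)

end Groth.Agent.Helper7
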