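import Mathlib.Topology.Spectral.Basic
import Mathlib.Topology.Bases

/-!
# Helper library (helper7): products of spectral spaces
-/

set_option autoImplicit false

namespace Groth.Agent.Helper7

open Topology TopologicalSpace

universe u v
variable {X : Type u} {Y : Type v} [TopologicalSpace X] [TopologicalSpace Y]

/-- The product of two quasi-sober spaces is quasi-sober. -/
theorem quasiSober_prod [QuasiSober X] [QuasiSober Y] : QuasiSober (X × Y) := by
  refine ⟨fun {S} hS hSc => ?_⟩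
  have h1 : IsIrreducible (closure (Prod.fst '' S)) :=
    (hS.image _ continuous_fst.continuousOn).closure
  have h2 : IsIrreducible (closure (Prod.snd '' S)) :=
    (hS.image _ continuous_snd.continuousOn).closure
  obtain ⟨ξ, hξ⟩ := QuasiSober.sober h1 isClosed_closure
  obtain ⟨η, hη⟩ := QuasiSober.sober h2 isClosed_closure
  have hmem : (ξ, η) ∈ S := by
    rw [← hSc.closure_eq]
    rw [mem_closure_iff_nhds_basis ((nhds_basis_opens ξ).prod_nhds (nhds_basis_opens η))]
    rintro ⟨U, V⟩ ⟨⟨hξU, hU⟩, ⟨hηV, hV⟩⟩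
    have hSU : (S ∩ (Prod.fst ⁻¹' U)).Nonempty := by
      obtain ⟨_, hxU, ⟨p, hp, rfl⟩⟩ := mem_closure_iff.mp hξ.mem U hU hξU
      exact ⟨p, hp, hxU⟩
    have hSV : (S ∩ (Prod.snd ⁻¹' V)).Nonempty := by
      obtain ⟨_, hyV, ⟨p, hp, rfl⟩⟩ := mem_closure_iff.mp hη.mem V hV hηV
      exact ⟨p, hp, hyV⟩
    obtain ⟨p, hpS, hpU, hpV⟩ := hS.2 _ _ (hU.preimage continuous_fst) (hV.preimage continuous_snd)
      hSU hSV
    exact ⟨p, hpS, ⟨hpU, hpV⟩⟩
  refine ⟨(ξ, η), ?_⟩
  refine le_antisymm ?_ ?_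
  · exact (hSc.closure_subset_iff.mpr (Set.singleton_subset_iff.mpr hmem))
  · intro p hp
    rw [← Set.singleton_prod_singleton, closure_prod_eq, hξ.def, hη.def]
    exact ⟨subset_closure ⟨p, hp, rfl⟩, subset_closure ⟨p, hp, rfl⟩⟩

/-- Products of compact opens form a basis of the product of prespectral spaces. -/
theorem isTopologicalBasis_prod_compactOpens [PrespectralSpace X] [PrespectralSpace Y] :
    IsTopologicalBasis (Set.image2 (· ×ˢ ·) {U : Set X | IsOpen U ∧ IsCompact U}
      {V : Set Y | IsOpen V ∧ IsCompact V}) :=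
  PrespectralSpace.isTopologicalBasis.prod PrespectralSpace.isTopologicalBasis

theorem prespectralSpace_prod [PrespectralSpace X] [PrespectralSpace Y] :
    PrespectralSpace (X × Y) := by
  refine PrespectralSpace.of_isTopologicalBasis isTopologicalBasis_prod_compactOpens ?_
  rintro _ ⟨U, hU, V, hV, rfl⟩
  exact hU.2.prod hV.2

theorem quasiSeparatedSpace_prod [PrespectralSpace X] [PrespectralSpace Y]
    [QuasiSeparatedSpace X] [QuasiSeparatedSpace Y] : QuasiSeparatedSpace (X × Y) := by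
  let b : {U : Set X // IsOpen U ∧ IsCompact U} × {V : Set Y // IsOpen V ∧ IsCompact V} →
    Set (X × Y) := fun p => p.1.1 ×ˢ p.2.1
  have hrange : Set.range b = Set.image2 (· ×ˢ ·) {U : Set X | IsOpen U ∧ IsCompact U}
      {V : Set Y | IsOpen V ∧ IsCompact V} := by
    ext s; constructor
    · rintro ⟨⟨U, V⟩, rfl⟩; exact ⟨U.1, U.2, V.1, V.2, rfl⟩
    · rintro ⟨U, hU, V, hV, rfl⟩; exact ⟨(⟨U, hU⟩, ⟨V, hV⟩), rfl⟩
  refine QuasiSeparatedSpace.of_isTopologicalBasis (b := b)
    (hrange ▸ isTopologicalBasis_prod_compactOpens) ?_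
  rintro ⟨U, V⟩ ⟨U', V'⟩
  have : b (U, V) ∩ b (U', V') = (U.1 ∩ U'.1) ×ˢ (V.1 ∩ V'.1) := Set.prod_inter_prod
  rw [this]
  exact (QuasiSeparatedSpace.inter_isCompact _ _ U.2.1 U.2.2 U'.2.1 U'.2.2).prod
    (QuasiSeparatedSpace.inter_isCompact _ _ V.2.1 V.2.2 V'.2.1 V'.2.2)

/-- The product of two spectral spaces is spectral. -/
theorem spectralSpace_prod [SpectralSpace X] [SpectralSpace Y] : SpectralSpace (X × Y) := by
  have h1 : QuasiSober (X × Y) := quasiSober_prod
  have h2 : PrespectralSpace (X × Y) := prespectralSpace_prod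
  have h3 : QuasiSeparatedSpace (X × Y) := quasiSeparatedSpace_prod
  exact { }

end Groth.Agent.Helper7
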