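import Groth.Agent.Lib.Helper7.Spectral2
import Groth.Agent.Lib.Helper7.SpectralPi
import Mathlib.Topology.ContinuousMap.T0Sierpinski
import Mathlib.Topology.NoetherianSpace

/-!
# Helper library (helper7): spectral spaces as constructibly closed subspaces of powers of the
Sierpinski space
-/

set_option autoImplicit false

namespace Groth.Agent.Helper7

open Topology TopologicalSpace

universe u

/-- A finite topological space is quasi-sober. -/
theorem quasiSober_of_finite {X : Type u} [TopologicalSpace X] [Finite X] : QuasiSober X := by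
  classical
  refine ⟨fun {S} hS hSc => ?_⟩
  have hfin : S.Finite := Set.toFinite S
  obtain ⟨z, hz, hSz⟩ := isIrreducible_iff_sUnion_isClosed.mp hS
    (hfin.toFinset.image fun x => closure {x})
    (by
      intro z hz
      obtain ⟨x, _, rfl⟩ := Finset.mem_image.mp hz
      exact isClosed_closure)
    (by
      intro x hx
      refine ⟨closure {x}, ?_, subset_closure rfl⟩
      simp only [Finset.coe_image, Set.mem_image, Finset.mem_coe, Set.Finite.mem_toFinset]
      exact ⟨x, hx, rfl⟩)
  obtain ⟨x, hx, rfl⟩ := Finset.mem_image.mp hz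
  refine ⟨x, le_antisymm ?_ hSz⟩
  exact hSc.closure_subset_iff.mpr (Set.singleton_subset_iff.mpr (hfin.mem_toFinset.mp hx))

theorem t0Space_Prop : T0Space Prop := by
  rw [t0Space_iff_exists_isOpen_xor_mem]
  intro p q hpq
  refine ⟨{True}, isOpen_singleton_true, ?_⟩
  by_cases hp : p
  · left
    refine ⟨by simpa using hp, ?_⟩
    simp only [Set.mem_singleton_iff, eq_iff_iff, iff_true]
    intro hq
    exact hpq (propext ⟨fun _ => hq, fun _ => hp⟩)
  · right
    have hq : q := by
      by_contra hq
      exact hpq (propext ⟨fun h => (hp h).elim, fun h => (hq h).elim⟩)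
    exact ⟨by simpa using hq, by simpa using hp⟩

/-- The Sierpinski space is spectral. -/
theorem spectralSpace_Prop : SpectralSpace Prop := by
  have h0 : T0Space Prop := t0Space_Prop
  have h1 : QuasiSober Prop := quasiSober_of_finite
  have h4 : NoetherianSpace Prop := inferInstance
  have h5 : CompactSpace Prop := inferInstance
  have h6 : PrespectralSpace Prop := inferInstance
  have h7 : QuasiSeparatedSpace Prop := inferInstance
  exact { }

/-- Powers of the Sierpinski space are spectral. -/
theorem spectralSpace_pi_Prop (I : Type u) : SpectralSpace (I → Prop) := by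
  exact @spectralSpace_pi I (fun _ => Prop) _ (fun _ => spectralSpace_Prop)

/-- The coordinate sets `{p | p i}` are clopen in the constructible topology. -/
theorem isClopen_cons_coord (I : Type u) (i : I) :
    @IsClopen (I → Prop) (constructibleTopology (I → Prop)) {p | p i} := by
  have h : {p : I → Prop | p i} = (Function.eval i : (I → Prop) → Prop) ⁻¹' {True} := by
    ext p; simp
  rw [h]
  exact isClopen_cons_of_isCompact_isOpen (isOpen_singleton_true.preimage (continuous_apply i))
    ((@isSpectralMap_eval I (fun _ : I => Prop) _ (fun _ => inferInstance)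
      i).isCompact_preimage_of_isOpen isOpen_singleton_true (Set.toFinite _).isCompact)

/-- Transport of spectrality along an embedding with constructibly closed range. -/
theorem spectralSpace_of_isEmbedding_of_isClosed_cons_range {X Y : Type u} [TopologicalSpace X]
    [TopologicalSpace Y] [SpectralSpace Y] {f : X → Y} (hf : IsEmbedding f)
    (hr : IsClosed[constructibleTopology Y] (Set.range f)) : SpectralSpace X := by
  have hE : SpectralSpace (Set.range f) := spectralSpace_of_isClosed_cons hr
  let e : X ≃ₜ Set.range f := hf.toHomeomorph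
  have : CompactSpace X := e.symm.compactSpace
  exact e.isOpenEmbedding.spectralSpace

section Forward

variable (X : Type u) [TopologicalSpace X]

/-- The index type: compact opens of `X`. -/
abbrev CompactOpenIdx : Type u := {U : Set X // IsOpen U ∧ IsCompact U}

/-- The canonical map from `X` to the power of the Sierpinski space indexed by compact opens. -/
def toSierpinskiPower : X → (CompactOpenIdx X → Prop) := fun x U => x ∈ U.1

theorem isInducing_toSierpinskiPower [PrespectralSpace X] :
    IsInducing (toSierpinskiPower X) := by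
  refine ⟨?_⟩
  have h1 : ‹TopologicalSpace X› = generateFrom {U : Set X | IsOpen U ∧ IsCompact U} :=
    (PrespectralSpace.isTopologicalBasis (X := X)).eq_generateFrom
  apply le_antisymm
  · rw [← continuous_iff_le_induced]
    exact continuous_pi fun U => continuous_Prop.mpr U.2.1
  · conv_rhs => rw [h1]
    refine le_generateFrom ?_
    intro U hU
    rw [isOpen_induced_iff]
    refine ⟨{p | p ⟨U, hU⟩}, ?_, ?_⟩
    · have : {p : CompactOpenIdx X → Prop | p ⟨U, hU⟩} =
          (Function.eval ⟨U, hU⟩ : (CompactOpenIdx X → Prop) → Prop) ⁻¹' {True} := by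
        ext p; simp
      rw [this]
      exact isOpen_singleton_true.preimage (continuous_apply _)
    · ext x; rfl

theorem injective_toSierpinskiPower [PrespectralSpace X] [T0Space X] :
    Function.Injective (toSierpinskiPower X) := by
  intro x y hxy
  refine Inseparable.eq ?_
  rw [← (isInducing_toSierpinskiPower X).inseparable_iff, hxy]

/-- The conditions cutting out the range. -/
def primeFilterSet : Set (CompactOpenIdx X → Prop) :=
  {p | (∀ (h : IsOpen (Set.univ : Set X) ∧ IsCompact (Set.univ : Set X)), p ⟨Set.univ, h⟩) ∧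
    (¬ p ⟨∅, isOpen_empty, isCompact_empty⟩) ∧
    (∀ (U V W : CompactOpenIdx X), W.1 = U.1 ∩ V.1 → (p W ↔ p U ∧ p V)) ∧
    (∀ (U V W : CompactOpenIdx X), W.1 = U.1 ∪ V.1 → (p W ↔ p U ∨ p V))}

theorem isClosed_cons_primeFilterSet :
    IsClosed[constructibleTopology (CompactOpenIdx X → Prop)] (primeFilterSet X) := by
  let τ := constructibleTopology (CompactOpenIdx X → Prop)
  have hc : ∀ U : CompactOpenIdx X, @IsClopen _ τ {p : CompactOpenIdx X → Prop | p U} :=
    fun U => isClopen_cons_coord _ U
  have hA : primeFilterSet X =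
      (⋂ (h : IsOpen (Set.univ : Set X) ∧ IsCompact (Set.univ : Set X)),
        {p : CompactOpenIdx X → Prop | p ⟨Set.univ, h⟩}) ∩
      ({p : CompactOpenIdx X → Prop | p ⟨∅, isOpen_empty, isCompact_empty⟩}ᶜ ∩
      ((⋂ (U : CompactOpenIdx X) (V : CompactOpenIdx X) (W : CompactOpenIdx X)
          (_ : W.1 = U.1 ∩ V.1),
        (({p : CompactOpenIdx X → Prop | p W}ᶜ ∪ ({p | p U} ∩ {p | p V})) ∩
          (({p | p U} ∩ {p | p V})ᶜ ∪ {p | p W}))) ∩
      (⋂ (U : CompactOpenIdx X) (V : CompactOpenIdx X) (W : CompactOpenIdx X)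
          (_ : W.1 = U.1 ∪ V.1),
        (({p : CompactOpenIdx X → Prop | p W}ᶜ ∪ ({p | p U} ∪ {p | p V})) ∩
          (({p | p U} ∪ {p | p V})ᶜ ∪ {p | p W}))))) := by
    ext p
    simp only [primeFilterSet, Set.mem_ofPred_eq, Set.mem_inter_iff, Set.mem_iInter,
      Set.mem_compl_iff, Set.mem_union]
    refine and_congr Iff.rfl (and_congr Iff.rfl (and_congr ?_ ?_))
    · refine forall_congr' fun U => forall_congr' fun V => forall_congr' fun W =>
        forall_congr' fun _ => ?_
      tauto
    · refine forall_congr' fun U => forall_congr' fun V => forall_congr' fun W =>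
        forall_congr' fun _ => ?_
      tauto
  rw [hA]
  refine @IsClosed.inter _ _ _ τ ?_ (@IsClosed.inter _ _ _ τ ?_ (@IsClosed.inter _ _ _ τ ?_ ?_))
  · exact @isClosed_iInter _ _ τ _ fun h => (hc _).1
  · exact (@IsClopen.compl _ τ _ (hc _)).1
  · refine @isClosed_iInter _ _ τ _ fun U => @isClosed_iInter _ _ τ _ fun V =>
      @isClosed_iInter _ _ τ _ fun W => @isClosed_iInter _ _ τ _ fun _ => ?_
    exact (@IsClopen.inter _ τ _ _
      (@IsClopen.union _ τ _ _ (@IsClopen.compl _ τ _ (hc W)) (@IsClopen.inter _ τ _ _ (hc U) (hc V)))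
      (@IsClopen.union _ τ _ _ (@IsClopen.compl _ τ _ (@IsClopen.inter _ τ _ _ (hc U) (hc V)))
        (hc W))).1
  · refine @isClosed_iInter _ _ τ _ fun U => @isClosed_iInter _ _ τ _ fun V =>
      @isClosed_iInter _ _ τ _ fun W => @isClosed_iInter _ _ τ _ fun _ => ?_
    exact (@IsClopen.inter _ τ _ _
      (@IsClopen.union _ τ _ _ (@IsClopen.compl _ τ _ (hc W)) (@IsClopen.union _ τ _ _ (hc U) (hc V)))
      (@IsClopen.union _ τ _ _ (@IsClopen.compl _ τ _ (@IsClopen.union _ τ _ _ (hc U) (hc V)))
        (hc W))).1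

theorem range_toSierpinskiPower_subset :
    Set.range (toSierpinskiPower X) ⊆ primeFilterSet X := by
  rintro _ ⟨x, rfl⟩
  refine ⟨fun _ => trivial, fun h => h, ?_, ?_⟩
  · intro U V W hW
    simp only [toSierpinskiPower, hW, Set.mem_inter_iff]
  · intro U V W hW
    simp only [toSierpinskiPower, hW, Set.mem_union]

theorem primeFilterSet_subset_range [SpectralSpace X] :
    primeFilterSet X ⊆ Set.range (toSierpinskiPower X) := by
  classical
  rintro p ⟨h1, h2, h3, h4⟩
  let t : CompactOpenIdx X → Set X := fun U => if p U then U.1 else U.1ᶜ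
  have htc : ∀ U, IsClosed[constructibleTopology X] (t U) := by
    intro U
    have hcl := isClopen_cons_of_isCompact_isOpen U.2.1 U.2.2
    by_cases hU : p U
    · simp only [t, if_pos hU]; exact hcl.1
    · simp only [t, if_neg hU]; exact (@IsClopen.compl _ (constructibleTopology X) _ hcl).1
  have key : ∀ u : Finset (CompactOpenIdx X), ∃ U V : CompactOpenIdx X, p U ∧ ¬ p V ∧
      U.1 ∩ V.1ᶜ ⊆ ⋂ i ∈ u, t i := by
    intro u
    induction u using Finset.induction_on with
    | empty =>
      exact ⟨⟨Set.univ, isOpen_univ, isCompact_univ⟩, ⟨∅, isOpen_empty, isCompact_empty⟩,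
        h1 _, h2, by simp⟩
    | insert W u hW ih =>
      obtain ⟨U, V, hU, hV, hUV⟩ := ih
      by_cases hpW : p W
      · refine ⟨⟨U.1 ∩ W.1, U.2.1.inter W.2.1,
          QuasiSeparatedSpace.inter_isCompact _ _ U.2.1 U.2.2 W.2.1 W.2.2⟩, V,
          (h3 U W _ rfl).mpr ⟨hU, hpW⟩, hV, ?_⟩
        intro x hx
        simp only [Finset.mem_insert, Set.iInter_iInter_eq_or_left, Set.mem_inter_iff]
        refine ⟨?_, hUV ⟨hx.1.1, hx.2⟩⟩
        simp only [t, if_pos hpW]; exact hx.1.2
      · refine ⟨U, ⟨V.1 ∪ W.1, V.2.1.union W.2.1, V.2.2.union W.2.2⟩, hU, ?_, ?_⟩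
        · rw [h4 V W _ rfl]; tauto
        · intro x hx
          simp only [Finset.mem_insert, Set.iInter_iInter_eq_or_left, Set.mem_inter_iff]
          have hx2 : x ∉ V.1 ∪ W.1 := hx.2
          refine ⟨?_, hUV ⟨hx.1, fun h => hx2 (Or.inl h)⟩⟩
          simp only [t, if_neg hpW]; exact fun h => hx2 (Or.inr h)
  have hne : ∀ u : Finset (CompactOpenIdx X), (Set.univ ∩ ⋂ i ∈ u, t i).Nonempty := by
    intro u
    obtain ⟨U, V, hU, hV, hUV⟩ := key u
    have : (U.1 ∩ V.1ᶜ).Nonempty := by
      by_contra hcon
      rw [Set.not_nonempty_iff_eq_empty] at hcon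
      have hsub : U.1 ⊆ V.1 := by
        intro x hx
        by_contra hxV
        have : x ∈ U.1 ∩ V.1ᶜ := ⟨hx, hxV⟩
        rw [hcon] at this
        exact this
      have hUeq : U.1 = U.1 ∩ V.1 := (Set.inter_eq_left.mpr hsub).symm
      exact hV ((h3 U V U hUeq).mp hU).2
    obtain ⟨x, hx⟩ := this
    exact ⟨x, trivial, hUV hx⟩
  obtain ⟨x, -, hx⟩ := @IsCompact.inter_iInter_nonempty X (constructibleTopology X) Set.univ _
    (@isCompact_univ _ (constructibleTopology X) compactSpace_cons) t htc hne
  refine ⟨x, funext fun U => propext ?_⟩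
  have hxU := Set.mem_iInter.mp hx U
  by_cases hU : p U
  · simp only [t, if_pos hU] at hxU
    exact ⟨fun _ => hU, fun _ => hxU⟩
  · simp only [t, if_neg hU] at hxU
    exact ⟨fun h => (hxU h).elim, fun h => (hU h).elim⟩

theorem range_toSierpinskiPower [SpectralSpace X] :
    Set.range (toSierpinskiPower X) = primeFilterSet X :=
  le_antisymm (range_toSierpinskiPower_subset X) (primeFilterSet_subset_range X)

end Forward

end Groth.Agent.Helper7
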