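import Mathlib

set_option autoImplicit false
universe u
open CategoryTheory AlgebraicGeometry TopologicalSpace Opposite

/-! helper7: spreading out a local homomorphism into a scheme locally of finite presentation
(no germ-injectivity assumption on the source). -/

namespace Groth.Agent.Helper7.SpreadFP

variable {X : Scheme.{u}} {R A : CommRingCat.{u}}

set_option backward.isDefEq.respectTransparency false in
lemma exists_lift_of_fp_aux {U : X.Opens} {x : X} (hxU : x ∈ U)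
    (φ : A ⟶ X.presheaf.stalk x) (φRA : R ⟶ A) (φRX : R ⟶ Γ(X, U))
    (hφRA : RingHom.FinitePresentation φRA.hom)
    (e : φRA ≫ φ = φRX ≫ X.presheaf.germ U x hxU) :
    ∃ (V : X.Opens) (hxV : x ∈ V) (φ' : A ⟶ Γ(X, V)) (i : V ≤ U),
      φ = φ' ≫ X.presheaf.germ V x hxV ∧ φRX ≫ X.presheaf.map i.hom.op = φRA ≫ φ' := by
  classical
  let _ := φRA.hom.toAlgebra
  obtain ⟨n, f, hf, T, hT⟩ := hφRA
  -- lifts of the generators
  choose W hxW s hs using fun i : Fin n ↦ X.presheaf.exists_germ_eq (φ (f (MvPolynomial.X i)))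
  let V₀ : X.Opens := Finset.univ.inf W ⊓ U
  have hxV₀ : x ∈ V₀ := by
    rw [← SetLike.mem_coe, TopologicalSpace.Opens.coe_inf, TopologicalSpace.Opens.coe_finset_inf]
    exact ⟨by simpa using fun i ↦ hxW i, hxU⟩
  have hV₀W : ∀ i, V₀ ≤ W i := fun i ↦ inf_le_left.trans (Finset.inf_le (Finset.mem_univ i))
  have hV₀U : V₀ ≤ U := inf_le_right
  let t : Fin n → Γ(X, V₀) := fun i ↦ X.presheaf.map (homOfLE (hV₀W i)).op (s i)
  let ψ₀ : R →+* Γ(X, V₀) := (φRX ≫ X.presheaf.map (homOfLE hV₀U).op).hom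
  let g : MvPolynomial (Fin n) R →+* Γ(X, V₀) := MvPolynomial.eval₂Hom ψ₀ t
  have hg : (X.presheaf.germ V₀ x hxV₀).hom.comp g = φ.hom.comp f.toRingHom := by
    apply MvPolynomial.ringHom_ext
    · intro r
      have h1 : φ.hom (φRA.hom r) = (X.presheaf.germ U x hxU).hom (φRX.hom r) :=
        congr($(e).hom r)
      have h2 : f (MvPolynomial.C r) = φRA.hom r := by
        rw [← MvPolynomial.algebraMap_eq, AlgHom.commutes]; rfl
      change (X.presheaf.germ V₀ x hxV₀).hom (g (MvPolynomial.C r)) = φ.hom (f (MvPolynomial.C r))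
      rw [h2, h1]
      have h3 : g (MvPolynomial.C r) = ψ₀ r := by simp [g]
      rw [h3]
      exact X.presheaf.germ_res_apply (homOfLE hV₀U) x hxV₀ _
    · intro i
      simp only [RingHom.coe_comp, Function.comp_apply, g, MvPolynomial.eval₂Hom_X',
        AlgHom.toRingHom_eq_coe, RingHom.coe_coe, t]
      exact (X.presheaf.germ_res_apply (homOfLE (hV₀W i)) x hxV₀ _).trans (hs i)
  -- kill the relations
  have hrel : ∀ p : MvPolynomial (Fin n) R, p ∈ T →
      ∃ (W' : X.Opens) (_ : x ∈ W') (h : W' ≤ V₀), X.presheaf.map (homOfLE h).op (g p) = 0 := by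
    intro p hp
    have hp' : f p = 0 := by
      have : p ∈ RingHom.ker f.toRingHom := by rw [← hT]; exact Ideal.subset_span hp
      simpa using this
    have h0 : (X.presheaf.germ V₀ x hxV₀).hom (g p) = (X.presheaf.germ V₀ x hxV₀).hom 0 := by
      have := congr($hg p)
      simp only [RingHom.coe_comp, Function.comp_apply, AlgHom.toRingHom_eq_coe,
        RingHom.coe_coe, hp', map_zero] at this
      rw [this, map_zero]
    obtain ⟨W', hxW', i1, i2, h12⟩ := X.presheaf.germ_eq x hxV₀ hxV₀ _ _ h0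
    refine ⟨W', hxW', i1.le, ?_⟩
    rw [map_zero] at h12
    exact h12
  choose W' hxW' hW' hW'0 using hrel
  let V₁ : X.Opens := (T.attach.inf fun p ↦ W' p.1 p.2) ⊓ V₀
  have hxV₁ : x ∈ V₁ := by
    rw [← SetLike.mem_coe, TopologicalSpace.Opens.coe_inf, TopologicalSpace.Opens.coe_finset_inf]
    exact ⟨by simpa using fun p hp ↦ hxW' p hp, hxV₀⟩
  have hV₁V₀ : V₁ ≤ V₀ := inf_le_right
  let g₁ : MvPolynomial (Fin n) R →+* Γ(X, V₁) := (X.presheaf.map (homOfLE hV₁V₀).op).hom.comp g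
  have hker : RingHom.ker f.toRingHom ≤ RingHom.ker g₁ := by
    rw [← hT, Ideal.span_le]
    intro p hp
    have hle : V₁ ≤ W' p hp := inf_le_left.trans (Finset.inf_le (f := fun p : T ↦ W' p.1 p.2)
      (Finset.mem_attach T ⟨p, hp⟩))
    simp only [SetLike.mem_coe, RingHom.mem_ker, g₁, RingHom.coe_comp, Function.comp_apply]
    have := congr((X.presheaf.map (homOfLE hle).op).hom $(hW'0 p hp))
    rw [map_zero] at this
    rw [← this, ← CommRingCat.comp_apply, ← X.presheaf.map_comp]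
    rfl
  let φ' : A →+* Γ(X, V₁) := RingHom.liftOfSurjective f.toRingHom hf ⟨g₁, hker⟩
  have hφ' : φ'.comp f.toRingHom = g₁ := RingHom.liftOfRightInverse_comp _ _ _ _
  refine ⟨V₁, hxV₁, CommRingCat.ofHom φ', hV₁V₀.trans hV₀U, ?_, ?_⟩
  · ext a
    obtain ⟨p, rfl⟩ := hf a
    have h1 : φ' (f p) = g₁ p := congr($hφ' p)
    have h2 := congr($hg p)
    simp only [RingHom.coe_comp, Function.comp_apply, AlgHom.toRingHom_eq_coe,
      RingHom.coe_coe] at h2
    simp only [CommRingCat.hom_comp, CommRingCat.hom_ofHom, RingHom.coe_comp, Function.comp_apply]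
    rw [h1, ← h2]
    exact (X.presheaf.germ_res_apply (homOfLE hV₁V₀) x hxV₁ _).symm
  · ext r
    have h1 : φ' (f (MvPolynomial.C r)) = g₁ (MvPolynomial.C r) := congr($hφ' (MvPolynomial.C r))
    have h3 : φRA.hom r = f (MvPolynomial.C r) := by
      rw [← MvPolynomial.algebraMap_eq, AlgHom.commutes]; rfl
    simp only [CommRingCat.hom_comp, CommRingCat.hom_ofHom, RingHom.coe_comp, Function.comp_apply]
    rw [h3, h1]
    have h4 : g₁ (MvPolynomial.C r) = (X.presheaf.map (homOfLE hV₁V₀).op).hom (ψ₀ r) := by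
      simp [g₁, g]
    rw [h4]
    have h5 : X.presheaf.map (homOfLE (hV₁V₀.trans hV₀U)).op =
        X.presheaf.map (homOfLE hV₀U).op ≫ X.presheaf.map (homOfLE hV₁V₀).op := by
      rw [← Functor.map_comp]; rfl
    exact congr($(h5).hom (φRX.hom r))

set_option backward.isDefEq.respectTransparency false in
lemma exists_lift_of_fp {U : X.Opens} {x : X} (hxU : x ∈ U)
    (φ : A ⟶ X.presheaf.stalk x) (φRA : R ⟶ A) (φRX : R ⟶ Γ(X, U))
    (hφRA : RingHom.FinitePresentation φRA.hom)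
    (e : φRA ≫ φ = φRX ≫ X.presheaf.germ U x hxU) :
    ∃ (V : X.Opens) (hxV : x ∈ V) (φ' : A ⟶ Γ(X, V)) (i : V ≤ U), IsAffineOpen V ∧
      φ = φ' ≫ X.presheaf.germ V x hxV ∧ φRX ≫ X.presheaf.map i.hom.op = φRA ≫ φ' := by
  obtain ⟨V, hxV, φ', i, h₁, h₂⟩ := exists_lift_of_fp_aux hxU φ φRA φRX hφRA e
  obtain ⟨_, ⟨V', hV', rfl⟩, hxV', iV'V⟩ :=
    X.isBasis_affineOpens.exists_subset_of_mem_open hxV V.2
  have iV'V' : V' ≤ V := iV'V
  refine ⟨V', hxV', φ' ≫ X.presheaf.map (homOfLE iV'V').op, iV'V'.trans i, hV', ?_, ?_⟩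
  · rw [Category.assoc, X.presheaf.germ_res (homOfLE iV'V') x hxV']
    exact h₁
  · rw [← Category.assoc, ← h₂, Category.assoc, ← Functor.map_comp]
    rfl

set_option backward.isDefEq.respectTransparency.types false in
/-- Spreading out a local homomorphism to a morphism on a neighbourhood when the target is locally
of finite presentation; no hypothesis on the source. -/
theorem spread_out_of_lfp {X Y S : Scheme.{u}} (sX : X ⟶ S) (sY : Y ⟶ S)
    [LocallyOfFinitePresentation sY] {x : X} {y : Y}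
    (e : sX x = sY y) (φ : Y.presheaf.stalk y ⟶ X.presheaf.stalk x)
    (h : sY.stalkMap y ≫ φ =
      S.presheaf.stalkSpecializes (Inseparable.of_eq e).specializes ≫ sX.stalkMap x) :
    ∃ (U : X.Opens) (hxU : x ∈ U) (f : U.toScheme ⟶ Y),
      Spec.map φ ≫ Y.fromSpecStalk y = U.fromSpecStalkOfMem x hxU ≫ f ∧
      f ≫ sY = U.ι ≫ sX := by
  obtain ⟨_, ⟨U, hU, rfl⟩, hxU, -⟩ :=
    S.isBasis_affineOpens.exists_subset_of_mem_open (Set.mem_univ (sX x)) isOpen_univ
  have hyU : sY y ∈ U := e ▸ hxU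
  obtain ⟨_, ⟨V : Y.Opens, hV, rfl⟩, hyV, iVU⟩ :=
    Y.isBasis_affineOpens.exists_subset_of_mem_open hyU (sY ⁻¹ᵁ U).2
  have : sY.appLE U V iVU ≫ Y.presheaf.germ V y hyV ≫ φ =
      sX.app U ≫ X.presheaf.germ (sX ⁻¹ᵁ U) x hxU := by
    rw [Scheme.Hom.appLE, Category.assoc, Y.presheaf.germ_res_assoc,
      ← Scheme.Hom.germ_stalkMap_assoc, h]
    simp
  obtain ⟨W, hxW, φ', i, hW, h₁, h₂⟩ :=
    exists_lift_of_fp (R := Γ(S, U)) (A := Γ(Y, V)) (U := sX ⁻¹ᵁ U) (x := x) hxU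
    (Y.presheaf.germ _ y hyV ≫ φ) (sY.appLE U V iVU) (sX.app U)
    (sY.finitePresentation_appLE hU hV _) this
  refine ⟨W, hxW, W.toSpecΓ ≫ Spec.map φ' ≫ hV.fromSpec, ?_, ?_⟩
  · rw [W.fromSpecStalkOfMem_toSpecΓ_assoc x hxW, ← Spec.map_comp_assoc, ← h₁,
      Spec.map_comp, Category.assoc, ← IsAffineOpen.fromSpecStalk,
      IsAffineOpen.fromSpecStalk_eq_fromSpecStalk]
  · simp only [Category.assoc]
    rw [← IsAffineOpen.SpecMap_appLE_fromSpec sY hU hV iVU, ← Spec.map_comp_assoc, ← h₂,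
      ← Scheme.Hom.appLE, ← hW.isoSpec_hom, IsAffineOpen.SpecMap_appLE_fromSpec sX hU hW i,
      ← Iso.eq_inv_comp, IsAffineOpen.isoSpec_inv_ι_assoc]

end Groth.Agent.Helper7.SpreadFP
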