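import Mathlib
import Groth.Agent.Lib.Helper7.SpreadFP

set_option autoImplicit false
universe u
open CategoryTheory AlgebraicGeometry TopologicalSpace Opposite

/-! helper7: uniqueness of spreading out for targets locally of finite type over the base
(no germ-injectivity assumption on the source). -/

namespace Groth.Agent.Helper7.SpreadFP

lemma ringHom_ext_of_adjoin {R A B : Type*} [CommRing R] [CommRing A] [CommRing B] [Algebra R A]
    (a b : A →+* B) (s : Set A) (hs : Algebra.adjoin R s = ⊤)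
    (h1 : a.comp (algebraMap R A) = b.comp (algebraMap R A)) (h2 : ∀ t ∈ s, a t = b t) : a = b := by
  let _ : Algebra R B := (a.comp (algebraMap R A)).toAlgebra
  let a' : A →ₐ[R] B := { a with commutes' := fun r => rfl }
  let b' : A →ₐ[R] B := { b with commutes' := fun r => (congr($h1 r)).symm }
  have : a' = b' := AlgHom.ext_of_adjoin_eq_top hs h2
  exact congr(($this : A →+* B))

set_option backward.isDefEq.respectTransparency.types false in
/-- Two morphisms over `S` into a scheme locally of finite type over `S` which agree on the local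
ring at `x` agree on a neighbourhood of `x`; no hypothesis on the source. -/
lemma spread_out_unique_of_lft {X Y S : Scheme.{u}} (sY : Y ⟶ S) [LocallyOfFiniteType sY] {x : X}
    (f g : X ⟶ Y) (hfg : f ≫ sY = g ≫ sY) (e : f x = g x)
    (H : f.stalkMap x =
      Y.presheaf.stalkSpecializes (Inseparable.of_eq e.symm).specializes ≫ g.stalkMap x) :
    ∃ (U : X.Opens), x ∈ U ∧ U.ι ≫ f = U.ι ≫ g := by
  classical
  obtain ⟨_, ⟨U₀, hU₀, rfl⟩, hxU₀, -⟩ :=
    S.isBasis_affineOpens.exists_subset_of_mem_open (Set.mem_univ (sY (f x))) isOpen_univ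
  obtain ⟨_, ⟨V : Y.Opens, hV, rfl⟩, hxV, iVU⟩ :=
    Y.isBasis_affineOpens.exists_subset_of_mem_open hxU₀ (sY ⁻¹ᵁ U₀).2
  have hxV' : g x ∈ V := e ▸ hxV
  let W₀ : X.Opens := f ⁻¹ᵁ V ⊓ g ⁻¹ᵁ V
  have hxW₀ : x ∈ W₀ := ⟨hxV, hxV'⟩
  have key : f.appLE V W₀ inf_le_left ≫ X.presheaf.germ W₀ x hxW₀ =
      g.appLE V W₀ inf_le_right ≫ X.presheaf.germ W₀ x hxW₀ := by
    simp only [Scheme.Hom.appLE, Category.assoc, X.presheaf.germ_res',
      ← Scheme.Hom.germ_stalkMap, H]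
    simp only [TopCat.Presheaf.germ_stalkSpecializes_assoc, Scheme.Hom.germ_stalkMap]
  have hft := sY.finiteType_appLE hU₀ hV iVU
  let _ : Algebra Γ(S, U₀) Γ(Y, V) := (sY.appLE U₀ V iVU).hom.toAlgebra
  obtain ⟨s, hs⟩ := hft
  have hgen : ∀ t : Γ(Y, V), t ∈ s → ∃ (W : X.Opens) (_ : x ∈ W) (h : W ≤ W₀),
      X.presheaf.map (homOfLE h).op ((f.appLE V W₀ inf_le_left).hom t) =
        X.presheaf.map (homOfLE h).op ((g.appLE V W₀ inf_le_right).hom t) := by
    intro t _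
    have h0 := congr($(key).hom t)
    obtain ⟨W, hxW, i1, i2, h12⟩ := X.presheaf.germ_eq x hxW₀ hxW₀ _ _ h0
    exact ⟨W, hxW, i1.le, h12⟩
  choose W hxW hW hWeq using hgen
  let W₁ : X.Opens := (s.attach.inf fun p ↦ W p.1 p.2) ⊓ W₀
  have hxW₁ : x ∈ W₁ := by
    rw [← SetLike.mem_coe, TopologicalSpace.Opens.coe_inf, TopologicalSpace.Opens.coe_finset_inf]
    exact ⟨by simpa using fun p hp ↦ hxW p hp, hxW₀⟩
  have hW₁W₀ : W₁ ≤ W₀ := inf_le_right
  refine ⟨W₁, hxW₁, ?_⟩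
  have hWf : W₁ ≤ f ⁻¹ᵁ V := hW₁W₀.trans inf_le_left
  have hWg : W₁ ≤ g ⁻¹ᵁ V := hW₁W₀.trans inf_le_right
  rw [← Scheme.Hom.resLE_comp_ι _ hWf, ← Scheme.Hom.resLE_comp_ι _ hWg]
  congr 1
  have : IsAffine V := hV
  suffices ∀ (U₁ V₁) (eU : W₁ = U₁) (eV : V = V₁),
      f.appLE V₁ U₁ (eU ▸ eV ▸ hWf) = g.appLE V₁ U₁ (eU ▸ eV ▸ hWg) by
    rw [← cancel_mono V.toScheme.isoSpec.hom]
    simp only [Scheme.isoSpec, asIso_hom, Scheme.toSpecΓ_naturality,
      Scheme.Hom.app_eq_appLE, Scheme.Hom.resLE_appLE]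
    congr 2
    apply this <;> simp
  rintro _ _ rfl rfl
  ext1
  refine ringHom_ext_of_adjoin (R := Γ(S, U₀)) _ _ (s : Set Γ(Y, V)) hs ?_ ?_
  · obtain ⟨k, hk1, hk2⟩ : ∃ k, f ≫ sY = k ∧ g ≫ sY = k := ⟨_, rfl, hfg.symm⟩
    have h1 : sY.appLE U₀ V iVU ≫ f.appLE V W₁ hWf = k.appLE U₀ W₁ (by
        rw [← hk1]; exact hWf.trans (f.preimage_mono iVU)) := by
      rw [Scheme.Hom.appLE_comp_appLE]; simp only [hk1]
    have h2 : sY.appLE U₀ V iVU ≫ g.appLE V W₁ hWg = k.appLE U₀ W₁ (by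
        rw [← hk1]; exact hWf.trans (f.preimage_mono iVU)) := by
      rw [Scheme.Hom.appLE_comp_appLE]; simp only [hk2]
    exact congr($(h1.trans h2.symm).hom)
  · intro t ht
    have hle : W₁ ≤ W t ht := inf_le_left.trans (Finset.inf_le (f := fun p : s ↦ W p.1 p.2)
      (Finset.mem_attach s ⟨t, ht⟩))
    have h3 := congr((X.presheaf.map (homOfLE hle).op).hom $(hWeq t ht))
    have h4 : ∀ (k : X ⟶ Y) (hk : W₀ ≤ k ⁻¹ᵁ V), (k.appLE V W₁ (hW₁W₀.trans hk)).hom t =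
        (X.presheaf.map (homOfLE hle).op).hom ((X.presheaf.map (homOfLE (hW t ht)).op).hom
          ((k.appLE V W₀ hk).hom t)) := by
      intro k hk
      have h5 : k.appLE V W₁ (hW₁W₀.trans hk) = k.appLE V W₀ hk ≫
          X.presheaf.map (homOfLE (hW t ht)).op ≫ X.presheaf.map (homOfLE hle).op := by
        rw [← Functor.map_comp, Scheme.Hom.appLE_map]
      exact congr($(h5).hom t)
    rw [h4 f inf_le_left, h4 g inf_le_right]
    exact h3

/-- A variant of `spread_out_unique_of_lft` with hypothesis an equality of scheme morphisms. -/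
lemma spread_out_unique_of_lft' {X Y S : Scheme.{u}} (sY : Y ⟶ S) [LocallyOfFiniteType sY] {x : X}
    (f g : X ⟶ Y) (hfg : f ≫ sY = g ≫ sY)
    (e : X.fromSpecStalk x ≫ f = X.fromSpecStalk x ≫ g) :
    ∃ (U : X.Opens), x ∈ U ∧ U.ι ≫ f = U.ι ≫ g := by
  fapply spread_out_unique_of_lft sY f g hfg
  · simpa using congr($e (IsLocalRing.closedPoint _))
  · apply Spec.map_injective
    rw [← cancel_mono (Y.fromSpecStalk _)]
    simpa [Scheme.SpecMap_stalkSpecializes_fromSpecStalk]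

lemma fromSpecStalkOfMem_homOfLE {X : Scheme.{u}} {U' U : X.Opens} (hle : U' ≤ U) (x : X)
    (hx' : x ∈ U') : U'.fromSpecStalkOfMem x hx' ≫ X.homOfLE hle =
      U.fromSpecStalkOfMem x (hle hx') := by
  rw [← cancel_mono U.ι, Category.assoc, Scheme.homOfLE_ι, Scheme.Opens.fromSpecStalkOfMem_ι,
    Scheme.Opens.fromSpecStalkOfMem_ι]

/-- Uniqueness of spreading out, for morphisms defined on an open subscheme. -/
lemma unique_opens {X Z S : Scheme.{u}} (sZ : Z ⟶ S) [LocallyOfFiniteType sZ] {x : X}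
    {T : X.Opens} (hxT : x ∈ T) (a b : T.toScheme ⟶ Z) (hab : a ≫ sZ = b ≫ sZ)
    (e : T.fromSpecStalkOfMem x hxT ≫ a = T.fromSpecStalkOfMem x hxT ≫ b) :
    ∃ (T' : X.Opens) (hT' : T' ≤ T), x ∈ T' ∧ X.homOfLE hT' ≫ a = X.homOfLE hT' ≫ b := by
  have e' : T.toScheme.fromSpecStalk ⟨x, hxT⟩ ≫ a = T.toScheme.fromSpecStalk ⟨x, hxT⟩ ≫ b := by
    simp only [Scheme.Opens.fromSpecStalkOfMem, Category.assoc] at e
    exact (cancel_epi _).mp e
  obtain ⟨T'', hxT'', h⟩ := spread_out_unique_of_lft' sZ a b hab e'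
  refine ⟨T.ι ''ᵁ T'', T.ι_image_le T'', ⟨⟨x, hxT⟩, hxT'', rfl⟩, ?_⟩
  rw [← Scheme.Opens.isoImage_ι_inv_ι, Category.assoc, Category.assoc, h]

end Groth.Agent.Helper7.SpreadFP
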