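import Mathlib
import Groth.Agent.Lib.Helper7.SpreadFP
import Groth.Agent.Lib.Helper7.SpreadFP2

set_option autoImplicit false
universe u
open CategoryTheory AlgebraicGeometry TopologicalSpace Opposite

/-! helper7: spreading out an isomorphism of local rings to an isomorphism of open
neighbourhoods (schemes locally of finite presentation over a base). -/

namespace Groth.Agent.Helper7.SpreadFP

set_option backward.isDefEq.respectTransparency false in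
lemma exists_iso_of_partial_inverses {X Y U V U₂ V₂ : Scheme.{u}} (jU : U ⟶ X) (jV : V ⟶ Y)
    (a : U₂ ⟶ U) (b : V₂ ⟶ V)
    [IsOpenImmersion jU] [IsOpenImmersion jV] [IsOpenImmersion a] [IsOpenImmersion b]
    (f : U ⟶ Y) (g : V ⟶ X) (f₂ : U₂ ⟶ V) (g₂ : V₂ ⟶ U)
    (h2 : f₂ ≫ g = a ≫ jU) (h3 : g₂ ≫ jU = b ≫ g) (h4 : g₂ ≫ f = b ≫ jV) :
    ∃ (U₃ : U₂.Opens) (V₃ : V₂.Opens) (F : U₃.toScheme ⟶ V₃.toScheme), IsIso F ∧
      F ≫ V₃.ι ≫ b = U₃.ι ≫ f₂ ∧ U₃ = f₂ ⁻¹ᵁ b.opensRange := by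
  let U₃ : U₂.Opens := f₂ ⁻¹ᵁ b.opensRange
  have hr1 : Set.range (U₃.ι ≫ f₂) ⊆ Set.range b := by
    rintro _ ⟨u, rfl⟩
    exact u.2
  let f₃ : U₃.toScheme ⟶ V₂ := IsOpenImmersion.lift b (U₃.ι ≫ f₂) hr1
  have hf₃ : f₃ ≫ b = U₃.ι ≫ f₂ := IsOpenImmersion.lift_fac _ _ _
  let j : U₃.toScheme ⟶ U := U₃.ι ≫ a
  have hj : f₃ ≫ g₂ = j := by
    rw [← cancel_mono jU, Category.assoc, h3, reassoc_of% hf₃, Category.assoc, h2]
  let V₃ : V₂.Opens := g₂ ⁻¹ᵁ j.opensRange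
  have hr2 : Set.range (V₃.ι ≫ g₂) ⊆ Set.range j := by
    rintro _ ⟨v, rfl⟩
    exact v.2
  let g₃ : V₃.toScheme ⟶ U₃.toScheme := IsOpenImmersion.lift j (V₃.ι ≫ g₂) hr2
  have hg₃ : g₃ ≫ j = V₃.ι ≫ g₂ := IsOpenImmersion.lift_fac _ _ _
  have hr3 : Set.range f₃ ⊆ Set.range V₃.ι := by
    rintro _ ⟨u, rfl⟩
    rw [Scheme.Opens.range_ι]
    change g₂ (f₃ u) ∈ Set.range j
    rw [← Scheme.Hom.comp_apply, hj]
    exact ⟨u, rfl⟩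
  let f₄ : U₃.toScheme ⟶ V₃.toScheme := IsOpenImmersion.lift V₃.ι f₃ hr3
  have hf₄ : f₄ ≫ V₃.ι = f₃ := IsOpenImmersion.lift_fac _ _ _
  have hsec : g₃ ≫ f₄ = 𝟙 _ := by
    rw [← cancel_mono V₃.ι, ← cancel_mono (b ≫ jV)]
    calc (g₃ ≫ f₄) ≫ V₃.ι ≫ b ≫ jV = g₃ ≫ f₃ ≫ b ≫ jV := by
          simp only [Category.assoc, reassoc_of% hf₄]
      _ = g₃ ≫ (f₃ ≫ g₂) ≫ f := by rw [← h4]; simp only [Category.assoc]
      _ = (g₃ ≫ j) ≫ f := by rw [hj]; simp only [Category.assoc]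
      _ = V₃.ι ≫ b ≫ jV := by rw [hg₃, Category.assoc, h4]
      _ = (𝟙 _ ≫ V₃.ι) ≫ b ≫ jV := by rw [Category.id_comp]
  have hmono : Mono f₄ := by
    have : Mono (f₄ ≫ V₃.ι ≫ g₂) := by
      rw [reassoc_of% hf₄, hj]; infer_instance
    exact mono_of_mono f₄ (V₃.ι ≫ g₂)
  have hepi : IsSplitEpi f₄ := IsSplitEpi.mk' ⟨g₃, hsec⟩
  refine ⟨U₃, V₃, f₄, isIso_of_mono_of_isSplitEpi f₄, ?_, rfl⟩
  rw [reassoc_of% hf₄, hf₃]

lemma mem_of_spread {X Y : Scheme.{u}} {x : X} {y : Y}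
    (φ : Y.presheaf.stalk y ⟶ X.presheaf.stalk x)
    {U : X.Opens} (hxU : x ∈ U) (f : U.toScheme ⟶ Y)
    (hf1 : Spec.map φ ≫ Y.fromSpecStalk y = U.fromSpecStalkOfMem x hxU ≫ f)
    {W : Y.Opens} (hyW : y ∈ W) : f ⟨x, hxU⟩ ∈ W := by
  have h0 : (⟨x, hxU⟩ : U) = U.fromSpecStalkOfMem x hxU (IsLocalRing.closedPoint _) := by
    apply Subtype.ext
    change x = (U.fromSpecStalkOfMem x hxU ≫ U.ι) (IsLocalRing.closedPoint _)
    rw [Scheme.Opens.fromSpecStalkOfMem_ι, Scheme.fromSpecStalk_closedPoint]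
  rw [h0, ← Scheme.Hom.comp_apply, ← hf1, Scheme.Hom.comp_apply]
  have hsp : Y.fromSpecStalk y (Spec.map φ (IsLocalRing.closedPoint _)) ⤳ y := by
    have : Y.fromSpecStalk y (Spec.map φ (IsLocalRing.closedPoint _)) ∈
        Set.range (Y.fromSpecStalk y) := ⟨_, rfl⟩
    rw [Scheme.range_fromSpecStalk] at this
    exact this
  exact hsp.mem_open W.2 hyW

set_option backward.isDefEq.respectTransparency false in
lemma half {X Y S : Scheme.{u}} (sX : X ⟶ S) (sY : Y ⟶ S) [LocallyOfFiniteType sX]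
    {x : X} {y : Y} (φ : Y.presheaf.stalk y ⟶ X.presheaf.stalk x)
    (ψ : X.presheaf.stalk x ⟶ Y.presheaf.stalk y) (hψφ : ψ ≫ φ = 𝟙 _)
    {U : X.Opens} (hxU : x ∈ U) (f : U.toScheme ⟶ Y)
    (hf1 : Spec.map φ ≫ Y.fromSpecStalk y = U.fromSpecStalkOfMem x hxU ≫ f)
    (hf2 : f ≫ sY = U.ι ≫ sX)
    {V : Y.Opens} (hyV : y ∈ V) (g : V.toScheme ⟶ X)
    (hg1 : Spec.map ψ ≫ X.fromSpecStalk x = V.fromSpecStalkOfMem y hyV ≫ g)
    (hg2 : g ≫ sX = V.ι ≫ sY) :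
    ∃ (U₂ : X.Opens) (hU₂ : U₂ ≤ U) (_ : x ∈ U₂) (f₂ : U₂.toScheme ⟶ V.toScheme),
      f₂ ≫ V.ι = X.homOfLE hU₂ ≫ f ∧ f₂ ≫ g = U₂.ι := by
  let U₁ : X.Opens := U.ι ''ᵁ (f ⁻¹ᵁ V)
  have hU₁ : U₁ ≤ U := U.ι_image_le _
  let f₁ : U₁.toScheme ⟶ V.toScheme := (U.ι.isoImage (f ⁻¹ᵁ V)).inv ≫ (f ∣_ V)
  have hf₁ : f₁ ≫ V.ι = X.homOfLE hU₁ ≫ f := by
    simp only [f₁, Category.assoc, morphismRestrict_ι]
    rw [← Category.assoc, Scheme.Opens.isoImage_ι_inv_ι]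
  have hxU₁ : x ∈ U₁ := ⟨⟨x, hxU⟩, mem_of_spread φ hxU f hf1 hyV, rfl⟩
  have hover : (f₁ ≫ g) ≫ sX = U₁.ι ≫ sX := by
    rw [Category.assoc, hg2, reassoc_of% hf₁, hf2, ← Category.assoc, Scheme.homOfLE_ι]
  have hst : U₁.fromSpecStalkOfMem x hxU₁ ≫ f₁ ≫ g = U₁.fromSpecStalkOfMem x hxU₁ ≫ U₁.ι := by
    have h1 : U₁.fromSpecStalkOfMem x hxU₁ ≫ f₁ = Spec.map φ ≫ V.fromSpecStalkOfMem y hyV := by
      rw [← cancel_mono V.ι, Category.assoc, hf₁, ← Category.assoc, fromSpecStalkOfMem_homOfLE,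
        ← hf1, Category.assoc, Scheme.Opens.fromSpecStalkOfMem_ι]
    rw [reassoc_of% h1, ← hg1, ← Spec.map_comp_assoc, hψφ, Spec.map_id, Category.id_comp,
      Scheme.Opens.fromSpecStalkOfMem_ι]
  obtain ⟨U₂, hU₂, hxU₂, h⟩ := unique_opens sX hxU₁ (f₁ ≫ g) U₁.ι hover hst
  refine ⟨U₂, hU₂.trans hU₁, hxU₂, X.homOfLE hU₂ ≫ f₁, ?_, ?_⟩
  · rw [Category.assoc, hf₁, ← Category.assoc, Scheme.homOfLE_homOfLE]
  · rw [Category.assoc, h, Scheme.homOfLE_ι]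

set_option backward.isDefEq.respectTransparency false in
/-- Spreading out an isomorphism of local rings to an isomorphism of open neighbourhoods, for
schemes locally of finite presentation over the base. -/
theorem exists_isIso_spread_out {X Y S : Scheme.{u}} (sX : X ⟶ S) (sY : Y ⟶ S)
    [LocallyOfFinitePresentation sX] [LocallyOfFinitePresentation sY]
    {x : X} {y : Y} (e : sX x = sY y)
    (φ : Y.presheaf.stalk y ⟶ X.presheaf.stalk x) [IsIso φ]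
    (h : sY.stalkMap y ≫ φ =
      S.presheaf.stalkSpecializes (Inseparable.of_eq e).specializes ≫ sX.stalkMap x) :
    ∃ (U : X.Opens) (hxU : x ∈ U) (V : Y.Opens) (f : U.toScheme ⟶ V.toScheme), IsIso f ∧
      Spec.map φ ≫ Y.fromSpecStalk y = U.fromSpecStalkOfMem x hxU ≫ f ≫ V.ι ∧
        f ≫ V.ι ≫ sY = U.ι ≫ sX := by
  obtain ⟨U, hxU, f, hf1, hf2⟩ := spread_out_of_lfp sX sY e φ h
  have h' : sX.stalkMap x ≫ inv φ =
      S.presheaf.stalkSpecializes (Inseparable.of_eq e.symm).specializes ≫ sY.stalkMap y := by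
    have h1 : sY.stalkMap y = S.presheaf.stalkSpecializes (Inseparable.of_eq e).specializes ≫
        sX.stalkMap x ≫ inv φ := by
      rw [← Category.assoc, ← h, Category.assoc, IsIso.hom_inv_id, Category.comp_id]
    rw [h1, ← Category.assoc, TopCat.Presheaf.stalkSpecializes_comp,
      TopCat.Presheaf.stalkSpecializes_refl, Category.id_comp]
  obtain ⟨V, hyV, g, hg1, hg2⟩ := spread_out_of_lfp sY sX e.symm (inv φ) h'
  obtain ⟨U₂, hU₂, hxU₂, f₂, hf₂a, hf₂b⟩ :=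
    half sX sY φ (inv φ) (IsIso.inv_hom_id φ) hxU f hf1 hf2 hyV g hg1 hg2
  obtain ⟨V₂, hV₂, hyV₂, g₂, hg₂a, hg₂b⟩ :=
    half sY sX (inv φ) φ (IsIso.hom_inv_id φ) hyV g hg1 hg2 hxU f hf1 hf2
  obtain ⟨U₃, V₃, F, hFiso, hF, hU₃⟩ := exists_iso_of_partial_inverses U.ι V.ι
    (X.homOfLE hU₂) (Y.homOfLE hV₂) f g f₂ g₂
    (by rw [hf₂b, Scheme.homOfLE_ι]) hg₂a (by rw [hg₂b, Scheme.homOfLE_ι])
  have hxU₃ : (⟨x, hxU₂⟩ : U₂) ∈ U₃ := by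
    rw [hU₃]
    change f₂ ⟨x, hxU₂⟩ ∈ Set.range (Y.homOfLE hV₂)
    have h1 : V.ι (f₂ ⟨x, hxU₂⟩) ∈ V₂ := by
      rw [← Scheme.Hom.comp_apply, hf₂a, Scheme.Hom.comp_apply]
      have h2 : (X.homOfLE hU₂) ⟨x, hxU₂⟩ = ⟨x, hxU⟩ := by
        apply U.ι.injective
        rw [← Scheme.Hom.comp_apply, Scheme.homOfLE_ι]
        rfl
      rw [h2]
      exact mem_of_spread φ hxU f hf1 hyV₂
    refine ⟨⟨V.ι (f₂ ⟨x, hxU₂⟩), h1⟩, ?_⟩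
    apply V.ι.injective
    rw [← Scheme.Hom.comp_apply, Scheme.homOfLE_ι]
    rfl
  have hle : U₂.ι ''ᵁ U₃ ≤ U := (U₂.ι_image_le U₃).trans hU₂
  have key : ((U₂.ι.isoImage U₃).inv ≫ F ≫ (V₂.ι.isoImage V₃).hom) ≫ (V₂.ι ''ᵁ V₃).ι =
      X.homOfLE hle ≫ f := by
    calc ((U₂.ι.isoImage U₃).inv ≫ F ≫ (V₂.ι.isoImage V₃).hom) ≫ (V₂.ι ''ᵁ V₃).ι
        = (U₂.ι.isoImage U₃).inv ≫ (F ≫ V₃.ι ≫ Y.homOfLE hV₂) ≫ V.ι := by
          simp only [Category.assoc, Scheme.Hom.isoImage_hom_ι, Scheme.homOfLE_ι]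
      _ = ((U₂.ι.isoImage U₃).inv ≫ U₃.ι) ≫ f₂ ≫ V.ι := by
          rw [hF]; simp only [Category.assoc]
      _ = X.homOfLE hle ≫ f := by
          rw [Scheme.Opens.isoImage_ι_inv_ι, hf₂a, ← Category.assoc, Scheme.homOfLE_homOfLE]
  refine ⟨U₂.ι ''ᵁ U₃, ⟨⟨x, hxU₂⟩, hxU₃, rfl⟩, V₂.ι ''ᵁ V₃,
    (U₂.ι.isoImage U₃).inv ≫ F ≫ (V₂.ι.isoImage V₃).hom, inferInstance, ?_, ?_⟩
  · rw [key, ← Category.assoc, fromSpecStalkOfMem_homOfLE, hf1]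
  · rw [← Category.assoc, key, Category.assoc, hf2, ← Category.assoc, Scheme.homOfLE_ι]

end Groth.Agent.Helper7.SpreadFP
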