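import Mathlib

/-! helper7: good stratifications of Noetherian spaces refining finite families of locally closed sets. -/

namespace Groth.Agent.Helper7.Strat
open TopologicalSpace
universe u
variable {X : Type u} [TopologicalSpace X]

open Classical in
lemma exists_open_piece (Z : Set X) (hZ : Z.Nonempty) (Ps : Finset (Set X))
    (hPs : ∀ P ∈ Ps, IsLocallyClosed P) :
    ∃ V : Set X, IsOpen V ∧ (Z ∩ V).Nonempty ∧ ∀ P ∈ Ps, Z ∩ V ⊆ P ∨ Disjoint (Z ∩ V) P := by
  induction Ps using Finset.induction_on with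
  | empty => exact ⟨Set.univ, isOpen_univ, by simpa using hZ, by simp⟩
  | insert P Ps hP ih =>
    obtain ⟨V, hV, hne, hVP⟩ := ih fun Q hQ => hPs Q (Finset.mem_insert_of_mem hQ)
    obtain ⟨A, B, hA, hB, rfl⟩ := hPs P (Finset.mem_insert_self _ _)
    have key : ∃ V' : Set X, IsOpen V' ∧ V' ⊆ V ∧ (Z ∩ V').Nonempty ∧
        (Z ∩ V' ⊆ A ∩ B ∨ Disjoint (Z ∩ V') (A ∩ B)) := by
      by_cases h1 : Z ∩ V ⊆ B
      · by_cases h2 : (Z ∩ V ∩ A).Nonempty
        · refine ⟨V ∩ A, hV.inter hA, Set.inter_subset_left, ?_, Or.inl ?_⟩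
          · rwa [← Set.inter_assoc]
          · intro x hx
            exact ⟨hx.2.2, h1 ⟨hx.1, hx.2.1⟩⟩
        · refine ⟨V, hV, subset_rfl, hne, Or.inr ?_⟩
          rw [Set.disjoint_iff]
          intro x hx
          exact h2 ⟨x, hx.1, hx.2.1⟩
      · refine ⟨V ∩ Bᶜ, hV.inter hB.isOpen_compl, Set.inter_subset_left, ?_, Or.inr ?_⟩
        · rw [Set.not_subset] at h1
          obtain ⟨x, hx, hxB⟩ := h1
          exact ⟨x, hx.1, hx.2, hxB⟩
        · rw [Set.disjoint_iff]
          intro x hx
          exact hx.1.2.2 hx.2.2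
    obtain ⟨V', hV', hsub, hne', hP'⟩ := key
    refine ⟨V', hV', hne', ?_⟩
    intro Q hQ
    rcases Finset.mem_insert.mp hQ with rfl | hQ
    · exact hP'
    · have hsub' : Z ∩ V' ⊆ Z ∩ V := Set.inter_subset_inter_right _ hsub
      rcases hVP Q hQ with h | h
      · exact Or.inl (hsub'.trans h)
      · exact Or.inr (h.mono_left hsub')

/-- a good stratification of `Z` refining the family `Ps` -/
structure IsGood (Z : Set X) (Ps : Finset (Set X)) (Ss : Finset (Set X)) : Prop where
  lc : ∀ S ∈ Ss, IsLocallyClosed S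
  cover : ⋃₀ (Ss : Set (Set X)) = Z
  disj : ∀ S ∈ Ss, ∀ T ∈ Ss, S ≠ T → Disjoint S T
  front : ∀ S ∈ Ss, ∀ T ∈ Ss, (S ∩ closure T).Nonempty → S ⊆ closure T
  refine : ∀ S ∈ Ss, ∀ P ∈ Ps, (S ∩ P).Nonempty → S ⊆ P

open Classical in
theorem exists_isGood [NoetherianSpace X] (Z : Closeds X) :
    ∀ Ps : Finset (Set X), (∀ P ∈ Ps, IsLocallyClosed P) →
      ∃ Ss : Finset (Set X), IsGood (Z : Set X) Ps Ss := by
  induction Z using WellFoundedLT.induction with
  | ind Z ih =>
    intro Ps hPs
    by_cases hZ : (Z : Set X).Nonempty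
    · obtain ⟨V, hV, hne, hVP⟩ := exists_open_piece (Z : Set X) hZ Ps hPs
      let Z' : Closeds X := ⟨(Z : Set X) ∩ Vᶜ, Z.isClosed.inter hV.isClosed_compl⟩
      have hZ'lt : Z' < Z := by
        refine lt_of_le_of_ne (fun x hx => hx.1) ?_
        intro he
        obtain ⟨x, hxZ, hxV⟩ := hne
        have : x ∈ (Z' : Set X) := by rw [he]; exact hxZ
        exact this.2 hxV
      set U : Set X := (Z : Set X) ∩ V with hU
      have hUlc : IsLocallyClosed U := Z.isClosed.isLocallyClosed.inter hV.isLocallyClosed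
      have hUZ' : Disjoint U (Z' : Set X) := by
        rw [Set.disjoint_iff]
        intro x hx
        exact hx.2.2 hx.1.2
      have hUZ'u : U ∪ (Z' : Set X) = Z := by
        ext x
        constructor
        · rintro (h | h)
          · exact h.1
          · exact h.1
        · intro hx
          by_cases hxV : x ∈ V
          · exact Or.inl ⟨hx, hxV⟩
          · exact Or.inr ⟨hx, hxV⟩
      obtain ⟨Ss', hSs'⟩ := ih Z' hZ'lt (insert (closure U) Ps) (by
        intro P hP
        rcases Finset.mem_insert.mp hP with rfl | hP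
        · exact isClosed_closure.isLocallyClosed
        · exact hPs P hP)
      have hsubZ' : ∀ S ∈ Ss', S ⊆ (Z' : Set X) := by
        intro S hS
        rw [← hSs'.cover]
        exact Set.subset_sUnion_of_mem (Finset.mem_coe.mpr hS)
      have hclZ' : ∀ S ∈ Ss', closure S ⊆ (Z' : Set X) := fun S hS =>
        closure_minimal (hsubZ' S hS) Z'.isClosed
      refine ⟨insert U Ss', ?_, ?_, ?_, ?_, ?_⟩
      · intro S hS
        rcases Finset.mem_insert.mp hS with rfl | hS
        · exact hUlc
        · exact hSs'.lc S hS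
      · rw [Finset.coe_insert, Set.sUnion_insert, hSs'.cover, hUZ'u]
      · intro S hS T hT hne'
        rcases Finset.mem_insert.mp hS with rfl | hS <;> rcases Finset.mem_insert.mp hT with rfl | hT
        · exact absurd rfl hne'
        · exact hUZ'.mono_right (hsubZ' T hT)
        · exact (hUZ'.mono_right (hsubZ' S hS)).symm
        · exact hSs'.disj S hS T hT hne'
      · intro S hS T hT hST
        rcases Finset.mem_insert.mp hS with rfl | hS <;> rcases Finset.mem_insert.mp hT with rfl | hT
        · exact subset_closure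
        · exfalso
          obtain ⟨x, hxU, hxT⟩ := hST
          exact (Set.disjoint_iff.mp hUZ') ⟨hxU, hclZ' T hT hxT⟩
        · exact hSs'.refine S hS (closure U) (Finset.mem_insert_self _ _) hST
        · exact hSs'.front S hS T hT hST
      · intro S hS P hP hSP
        rcases Finset.mem_insert.mp hS with rfl | hS
        · rcases hVP P hP with h | h
          · exact h
          · exact absurd hSP (Set.not_nonempty_iff_eq_empty.mpr (Set.disjoint_iff_inter_eq_empty.mp h))
        · exact hSs'.refine S hS P (Finset.mem_insert_of_mem hP) hSP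
    · refine ⟨∅, ?_, ?_, ?_, ?_, ?_⟩
      · simp
      · simp [Set.not_nonempty_iff_eq_empty.mp hZ]
      · simp
      · simp
      · simp

end Groth.Agent.Helper7.Strat
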