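import Mathlib.Topology.LocallyClosed
import Mathlib.Topology.Constructible
import Mathlib.Data.Fintype.Basic
import Mathlib.Data.Fintype.Powerset
import Mathlib.Data.Fintype.Sigma
import Mathlib.Order.Interval.Set.Basic

/-!
# Helper library (helper7): the stratification by "type" with respect to finitely many closed sets
-/

set_option autoImplicit false
set_option linter.unusedSectionVars false

namespace Groth.Agent.Helper7

open Topology TopologicalSpace Set

universe u
variable {X : Type u} [TopologicalSpace X]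

section
variable {A : Type} [Fintype A] [DecidableEq A] (C : A → Set X)

/-- The stratum of points whose type (the set of indices `a` with `x ∈ C a`) is `s`. -/
def typeStratum (s : (Finset A)ᵒᵈ) : Set X := {x | ∀ a, a ∈ OrderDual.ofDual s ↔ x ∈ C a}

theorem typeStratum_eq (s : (Finset A)ᵒᵈ) :
    typeStratum C s = (⋂ a ∈ OrderDual.ofDual s, C a) ∩ (⋂ a ∈ (OrderDual.ofDual s)ᶜ, (C a)ᶜ) := by
  ext x
  simp only [typeStratum, Set.mem_ofPred_eq, mem_inter_iff, mem_iInter, Finset.mem_compl,
    mem_compl_iff]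
  constructor
  · intro h
    exact ⟨fun a ha => (h a).mp ha, fun a ha hx => ha ((h a).mpr hx)⟩
  · rintro ⟨h1, h2⟩ a
    exact ⟨h1 a, fun hx => by_contra fun ha => h2 a ha hx⟩

theorem isLocallyClosed_typeStratum (hC : ∀ a, IsClosed (C a)) (s : (Finset A)ᵒᵈ) :
    IsLocallyClosed (typeStratum C s) := by
  rw [typeStratum_eq, Set.inter_comm]
  refine ⟨_, _, ?_, ?_, rfl⟩
  · exact isOpen_biInter_finset fun a _ => (hC a).isOpen_compl
  · exact isClosed_biInter fun a _ => hC a

theorem iUnion_typeStratum : ⋃ s, typeStratum C s = Set.univ := by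
  classical
  refine Set.eq_univ_of_forall fun x => ?_
  refine Set.mem_iUnion.mpr ⟨OrderDual.toDual (Finset.univ.filter fun a => x ∈ C a), ?_⟩
  intro a
  simp

theorem disjoint_typeStratum {s t : (Finset A)ᵒᵈ} (hst : s ≠ t) :
    Disjoint (typeStratum C s) (typeStratum C t) := by
  rw [Set.disjoint_left]
  intro x hxs hxt
  apply hst
  apply OrderDual.ofDual.injective
  ext a
  rw [hxs a, hxt a]

theorem closure_typeStratum_subset (hC : ∀ a, IsClosed (C a)) (s : (Finset A)ᵒᵈ) :
    closure (typeStratum C s) ⊆ ⋃ t ∈ Set.Iic s, typeStratum C t := by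
  classical
  have h1 : closure (typeStratum C s) ⊆ ⋂ a ∈ OrderDual.ofDual s, C a := by
    refine (isClosed_biInter fun a _ => hC a).closure_subset_iff.mpr ?_
    intro x hx
    exact Set.mem_iInter₂.mpr fun a ha => (hx a).mp ha
  intro x hx
  have hx' := Set.mem_iInter₂.mp (h1 hx)
  refine Set.mem_iUnion₂.mpr ⟨OrderDual.toDual (Finset.univ.filter fun a => x ∈ C a), ?_, ?_⟩
  · show OrderDual.ofDual s ≤ Finset.univ.filter fun a => x ∈ C a
    intro a ha
    simp only [Finset.mem_filter, Finset.mem_univ, true_and]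
    exact hx' a ha
  · intro a
    simp

theorem typeStratum_subset_of_nonempty_inter {P : Set X}
    (hP : ∀ x y, (∀ a, x ∈ C a ↔ y ∈ C a) → x ∈ P → y ∈ P) (s : (Finset A)ᵒᵈ)
    (h : (typeStratum C s ∩ P).Nonempty) : typeStratum C s ⊆ P := by
  obtain ⟨x, hxs, hxP⟩ := h
  intro y hy
  exact hP x y (fun a => by rw [← hxs a, ← hy a]) hxP

/-- Packaging of the type stratification. -/
theorem exists_stratification (hC : ∀ a, IsClosed (C a)) :
    ∃ (I : Type) (_ : Fintype I) (_ : PartialOrder I) (S : I → Set X),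
      (∀ i, IsLocallyClosed (S i) ∧ ∃ s : Finset A, S i = {x | ∀ a, a ∈ s ↔ x ∈ C a}) ∧
      (⋃ i, S i = Set.univ) ∧ (∀ i j, i ≠ j → Disjoint (S i) (S j)) ∧
      (∀ j, closure (S j) ⊆ ⋃ i ∈ Set.Iic j, S i) ∧
      (∀ (P : Set X), (∀ x y, (∀ a, x ∈ C a ↔ y ∈ C a) → x ∈ P → y ∈ P) →
        ∀ i, (S i ∩ P).Nonempty → S i ⊆ P) :=
  ⟨(Finset A)ᵒᵈ, inferInstance, inferInstance, typeStratum C,
    fun i => ⟨isLocallyClosed_typeStratum C hC i, OrderDual.ofDual i, rfl⟩,
    iUnion_typeStratum C, fun _ _ h => disjoint_typeStratum C h,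
    closure_typeStratum_subset C hC,
    fun _ hP i h => typeStratum_subset_of_nonempty_inter C hP i h⟩

end

end Groth.Agent.Helper7
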