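import Mathlib
import Groth.Agent.Lib.Helper7.Hensel.StrictPoints
import Groth.Agent.Lib.Helper7.Hensel.EtaleLiftConverse
import Groth.Agent.Lib.Helper7.Hensel.Local

set_option autoImplicit false
set_option linter.style.haveILetI false
set_option linter.unusedVariables false

open CategoryTheory AlgebraicGeometry IsLocalRing Polynomial

/-! helper7: a local ring is strictly henselian iff every point of an etale scheme over its
closed point is hit by a section (ring-level and scheme-level versions). -/

namespace Groth.Agent.Helper7.StrictSections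

universe u

open Groth.Agent.Helper7.Hensel

/-- Ring-level forward direction. -/
theorem exists_algHom_comap_eq (A : Type u) [CommRing A] [HenselianLocalRing A]
    [IsSepClosed (ResidueField A)] (C : Type u) [CommRing C] [Algebra A C] [Algebra.Etale A C]
    (q : Ideal C) [q.IsPrime] (hq : q.comap (algebraMap A C) = maximalIdeal A) :
    ∃ τ : C →ₐ[A] A, (maximalIdeal A).comap τ.toRingHom = q := by
  let S := Localization.AtPrime q
  haveI : IsLocalHom (algebraMap A S) := by
    constructor
    intro a ha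
    by_contra hna
    have hm : a ∈ maximalIdeal A := (mem_maximalIdeal a).mpr hna
    rw [← hq, Ideal.mem_comap] at hm
    rw [IsScalarTower.algebraMap_apply A C S] at ha
    exact (IsLocalization.AtPrime.isUnit_to_map_iff S q _).mp ha hm
  obtain ⟨τ, hτ⟩ := (bijective_comp_ofId A S C).surjective (IsScalarTower.toAlgHom A C S)
  refine ⟨τ, ?_⟩
  ext c
  have h1 : algebraMap A S (τ c) = algebraMap C S c := AlgHom.congr_fun hτ c
  rw [Ideal.mem_comap, mem_maximalIdeal, mem_nonunits_iff]
  show ¬ IsUnit (τ c) ↔ c ∈ q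
  rw [← isUnit_map_iff (algebraMap A S), h1, IsLocalization.AtPrime.isUnit_to_map_iff S q]
  exact not_not

/-- Ring-level converse, henselian part. -/
theorem henselianLocalRing_of_sections (A : Type u) [CommRing A] [IsLocalRing A]
    (H : ∀ (C : Type u) [CommRing C] [Algebra A C] [Algebra.Etale A C] (q : Ideal C) [q.IsPrime],
      q.comap (algebraMap A C) = maximalIdeal A →
      ∃ τ : C →ₐ[A] A, (maximalIdeal A).comap τ.toRingHom = q) :
    HenselianLocalRing A := by
  apply henselianLocalRing_of_henselianRing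
  apply henselianRing_of_etale_lift
  intro A' _ _ _ σ
  haveI : (RingHom.ker σ.toRingHom).IsPrime := RingHom.ker_isPrime _
  have hq : (RingHom.ker σ.toRingHom).comap (algebraMap A A') = maximalIdeal A := by
    ext a
    rw [Ideal.mem_comap, RingHom.mem_ker]
    show σ (algebraMap A A' a) = 0 ↔ _
    rw [AlgHom.commutes]
    exact Ideal.Quotient.eq_zero_iff_mem
  obtain ⟨τ, hτ⟩ := H A' (RingHom.ker σ.toRingHom) hq
  refine ⟨τ, ?_⟩
  ext a'
  obtain ⟨a, ha⟩ := Ideal.Quotient.mk_surjective (σ a')
  have h1 : a' - algebraMap A A' a ∈ RingHom.ker σ.toRingHom := by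
    rw [RingHom.mem_ker]
    show σ (a' - algebraMap A A' a) = 0
    rw [map_sub, AlgHom.commutes, sub_eq_zero]
    exact ha.symm
  rw [← hτ, Ideal.mem_comap] at h1
  have h2 : τ (a' - algebraMap A A' a) ∈ maximalIdeal A := h1
  rw [map_sub, AlgHom.commutes] at h2
  show Ideal.Quotient.mk _ (τ a') = σ a'
  rw [← ha]
  exact (Ideal.Quotient.mk_eq_mk_iff_sub_mem _ _).mpr h2

/-- Ring-level converse, separably closed part. -/
theorem isSepClosed_of_sections (A : Type u) [CommRing A] [IsLocalRing A]
    (H : ∀ (C : Type u) [CommRing C] [Algebra A C] [Algebra.Etale A C] (q : Ideal C) [q.IsPrime],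
      q.comap (algebraMap A C) = maximalIdeal A →
      ∃ τ : C →ₐ[A] A, (maximalIdeal A).comap τ.toRingHom = q) :
    IsSepClosed (ResidueField A) := by
  apply IsSepClosed.of_exists_root
  intro p hp hirr hsep
  obtain ⟨P, hPmap, hPdeg, hPmonic⟩ :=
    Polynomial.lifts_and_degree_eq_and_monic
      ((Polynomial.mem_lifts p).mpr
        (Polynomial.map_surjective (residue A) residue_surjective p)) hp
  let L := AlgebraicClosure (ResidueField A)
  obtain ⟨z, hz⟩ := IsAlgClosed.exists_aeval_eq_zero L p (by
    intro h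
    exact (Polynomial.degree_pos_of_irreducible hirr).ne' h)
  let SP : StandardEtalePair A := ⟨P, hPmonic, derivative P, 1, 0, 1, by simp⟩
  have hae : ∀ Q : A[X], aeval z Q = aeval z (Q.map (residue A)) := by
    intro Q
    rw [aeval_def, aeval_def, eval₂_map]
    rfl
  have hmap : SP.HasMap z := by
    refine ⟨?_, ?_⟩
    · show aeval z P = 0
      rw [hae, hPmap, hz]
    · show IsUnit (aeval z (derivative P))
      rw [hae, ← Polynomial.derivative_map, hPmap]
      exact (hsep.aeval_derivative_ne_zero hz).isUnit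
  let σ : SP.Ring →ₐ[A] L := SP.lift z hmap
  haveI : (RingHom.ker σ.toRingHom).IsPrime := RingHom.ker_isPrime _
  have hq : (RingHom.ker σ.toRingHom).comap (algebraMap A SP.Ring) = maximalIdeal A := by
    ext a
    rw [Ideal.mem_comap, RingHom.mem_ker]
    show σ (algebraMap A SP.Ring a) = 0 ↔ _
    rw [AlgHom.commutes, IsScalarTower.algebraMap_apply A (ResidueField A) L,
      map_eq_zero_iff _ (algebraMap (ResidueField A) L).injective]
    exact residue_eq_zero_iff a
  obtain ⟨τ, -⟩ := H SP.Ring (RingHom.ker σ.toRingHom) hq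
  refine ⟨residue A (τ SP.X), ?_⟩
  have h1 : aeval (τ SP.X) P = 0 := (SP.hasMap_X.map τ).1
  rw [← hPmap, Polynomial.eval_map, Polynomial.eval₂_at_apply]
  have : P.eval (τ SP.X) = aeval (τ SP.X) P := by
    rw [aeval_def]; rfl
  rw [this, h1, map_zero]

set_option backward.isDefEq.respectTransparency false in
theorem forward (A : Type u) [CommRing A] [HenselianLocalRing A]
    [IsSepClosed (ResidueField A)] (X : Scheme.{u}) (f : X ⟶ Spec (CommRingCat.of A)) [Etale f]
    (x : X) (hx : f.base x = closedPoint A) :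
    ∃ u : Spec (CommRingCat.of A) ⟶ X, u ≫ f = 𝟙 _ ∧ u.base (closedPoint A) = x := by
  obtain ⟨V, hV, hxV, -⟩ := exists_isAffineOpen_mem_and_subset (x := x) (U := ⊤) trivial
  let ψ : CommRingCat.of A ⟶ Γ(X, V) := Spec.preimage (hV.fromSpec ≫ f)
  have hψ : Spec.map ψ = hV.fromSpec ≫ f := Spec.map_preimage _
  have het : Etale (Spec.map ψ) := by rw [hψ]; infer_instance
  have hψet : ψ.hom.Etale := (HasRingHomProperty.Spec_iff (P := @Etale)).mp het
  algebraize [ψ.hom]
  let q : PrimeSpectrum Γ(X, V) := hV.primeIdealOf ⟨x, hxV⟩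
  have hqx : hV.fromSpec.base q = x := hV.fromSpec_primeIdealOf ⟨x, hxV⟩
  have hq : q.asIdeal.comap (algebraMap A Γ(X, V)) = maximalIdeal A := by
    have h1 : (Spec.map ψ).base q = closedPoint A := by
      rw [hψ, Scheme.Hom.comp_base, TopCat.comp_app, hqx, hx]
    exact congrArg PrimeSpectrum.asIdeal h1
  obtain ⟨τ, hτ⟩ := exists_algHom_comap_eq A Γ(X, V) q.asIdeal hq
  refine ⟨Spec.map (CommRingCat.ofHom τ.toRingHom) ≫ hV.fromSpec, ?_, ?_⟩
  · rw [Category.assoc, ← hψ, ← Spec.map_comp]
    have : ψ ≫ CommRingCat.ofHom τ.toRingHom = 𝟙 _ := by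
      ext a
      exact τ.commutes a
    rw [this, Spec.map_id]
  · rw [Scheme.Hom.comp_base, TopCat.comp_app]
    have : (Spec.map (CommRingCat.ofHom τ.toRingHom)).base (closedPoint A) = q := by
      apply PrimeSpectrum.ext
      exact hτ
    rw [this]
    exact hqx

set_option backward.isDefEq.respectTransparency false in
theorem ring_of_scheme (A : Type u) [CommRing A] [IsLocalRing A]
    (H : ∀ (X : Scheme.{u}) (f : X ⟶ Spec (CommRingCat.of A)), Etale f →
        ∀ x : X, f.base x = closedPoint A →
          ∃ u : Spec (CommRingCat.of A) ⟶ X, u ≫ f = 𝟙 _ ∧ u.base (closedPoint A) = x)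
    (C : Type u) [CommRing C] [Algebra A C] [Algebra.Etale A C] (q : Ideal C) [q.IsPrime]
    (hq : q.comap (algebraMap A C) = maximalIdeal A) :
    ∃ τ : C →ₐ[A] A, (maximalIdeal A).comap τ.toRingHom = q := by
  have het : Etale (Spec.map (CommRingCat.ofHom (algebraMap A C))) := by
    rw [HasRingHomProperty.Spec_iff (P := @Etale)]
    exact RingHom.etale_algebraMap.mpr inferInstance
  obtain ⟨u, hu1, hu2⟩ := H (Spec (CommRingCat.of C))
    (Spec.map (CommRingCat.ofHom (algebraMap A C))) het ⟨q, inferInstance⟩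
    (PrimeSpectrum.ext hq)
  let τ₀ : CommRingCat.of C ⟶ CommRingCat.of A := Spec.preimage u
  have hτ₀ : Spec.map τ₀ = u := Spec.map_preimage _
  have hcomp : CommRingCat.ofHom (algebraMap A C) ≫ τ₀ = 𝟙 _ := by
    apply Spec.map_injective
    rw [Spec.map_comp, hτ₀, hu1, Spec.map_id]
  let τ : C →ₐ[A] A :=
    { τ₀.hom with
      commutes' := fun a => by
        have := congrArg (fun φ => φ.hom a) hcomp
        exact this }
  refine ⟨τ, ?_⟩
  have h2 : (Spec.map τ₀).base (closedPoint A) = ⟨q, inferInstance⟩ := by rw [hτ₀, hu2]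
  exact congrArg PrimeSpectrum.asIdeal h2

theorem S5062_main (A : Type u) [CommRing A] [IsLocalRing A] :
    (HenselianLocalRing A ∧ IsSepClosed (IsLocalRing.ResidueField A)) ↔
      ∀ (X : Scheme.{u}) (f : X ⟶ Spec (CommRingCat.of A)), Etale f →
        ∀ x : X, f.base x = IsLocalRing.closedPoint A →
          ∃ u : Spec (CommRingCat.of A) ⟶ X, u ≫ f = 𝟙 _ ∧
            u.base (IsLocalRing.closedPoint A) = x := by
  constructor
  · rintro ⟨hH, hS⟩ X f hf x hx
    exact forward A X f x hx
  · intro H
    exact ⟨henselianLocalRing_of_sections A (fun C _ _ _ q _ hq => ring_of_scheme A H C q hq),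
      isSepClosed_of_sections A (fun C _ _ _ q _ hq => ring_of_scheme A H C q hq)⟩

end Groth.Agent.Helper7.StrictSections
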