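import Mathlib
import Groth.Prelude.Def_W4c2submetdescSubtr
import Groth.Agent.Lib.Helper7.LimFin
import Groth.Agent.Lib.Helper7.LimGen3
import Groth.Agent.Lib.Helper7.MonoImm

set_option autoImplicit false
open CategoryTheory CategoryTheory.Limits AlgebraicGeometry Opposite TopologicalSpace
universe u

/-! helper7: the lifting property for ordered pairs of points (S-subtrusive) passes to cofiltered limits with affine transition maps (S14791). -/

namespace Groth.Agent.Helper7.SubtrLim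

open Groth.Agent.Helper7.LimBC Groth.Agent.Helper7.LimStage Groth.Agent.Helper7.LimFin

/-- points of a cartesian square of schemes. -/
theorem exists_of_isPullback {P X Y S : Scheme.{u}} {p₁ : P ⟶ X} {p₂ : P ⟶ Y} {f : X ⟶ S}
    {g : Y ⟶ S} (h : IsPullback p₁ p₂ f g) (x : X) (y : Y) (hxy : f x = g y) :
    ∃ z : P, p₁ z = x ∧ p₂ z = y := by
  obtain ⟨z, hz1, hz2⟩ := Scheme.Pullback.exists_preimage_pullback x y hxy
  refine ⟨h.isoPullback.inv z, ?_, ?_⟩
  · rw [← Scheme.Hom.comp_apply, IsPullback.isoPullback_inv_fst, hz1]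
  · rw [← Scheme.Hom.comp_apply, IsPullback.isoPullback_inv_snd, hz2]

/-- being S-subtrusive only depends on the base change up to isomorphism. -/
theorem isSSubtrusive_of_isPullback {P P' X₀ Y₀ B : Scheme.{u}} {p : P ⟶ X₀} {u : P ⟶ B}
    {p' : P' ⟶ X₀} {u' : P' ⟶ B} {f₀ : X₀ ⟶ Y₀} {b : B ⟶ Y₀}
    (h : IsPullback p u f₀ b) (h' : IsPullback p' u' f₀ b) (hu : Subtr.IsSSubtrusive u) :
    Subtr.IsSSubtrusive u' := by
  intro y y' hyy'
  obtain ⟨x, x', hxx', hx, hx'⟩ := hu hyy'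
  have e : (h.isoIsPullback _ _ h').hom ≫ u' = u := IsPullback.isoIsPullback_hom_snd _ _ h h'
  refine ⟨(h.isoIsPullback _ _ h').hom x, (h.isoIsPullback _ _ h').hom x',
    hxx'.map (h.isoIsPullback _ _ h').hom.continuous, ?_, ?_⟩
  · rw [← Scheme.Hom.comp_apply, e, hx]
  · rw [← Scheme.Hom.comp_apply, e, hx']

theorem quasiCompact_fromSpecResidueField (Y : Scheme.{u}) (y : Y) :
    QuasiCompact (Y.fromSpecResidueField y) := by
  refine ⟨fun U _ _ => ?_⟩
  exact (Set.toFinite _).isCompact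

set_option backward.isDefEq.respectTransparency false in
/-- for a quasi-compact morphism, points in the closure of a fibre are specializations of points
of the fibre. -/
theorem exists_specializes_of_mem_closure_fibre {X Y : Scheme.{u}} (f : X ⟶ Y) (y' : Y) (x : X)
    (hx : x ∈ closure (f ⁻¹' {y'})) : ∃ x' : X, f x' = y' ∧ x' ⤳ x := by
  have h1 : QuasiCompact (Y.fromSpecResidueField y') := quasiCompact_fromSpecResidueField Y y'
  have h2 : QuasiCompact (f.fiberι y') := by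
    change QuasiCompact (pullback.fst f (Y.fromSpecResidueField y'))
    infer_instance
  rw [← f.range_fiberι y'] at hx
  obtain ⟨z, hz⟩ := MonoImm.exists_specializes_of_mem_closure_range (f.fiberι y') x hx
  refine ⟨f.fiberι y' z, ?_, hz⟩
  have : f.fiberι y' z ∈ f ⁻¹' {y'} := by
    rw [← f.range_fiberι y']
    exact ⟨z, rfl⟩
  exact this

/-- a compact subset of an open subset of a scheme lies in a compact open subset of it. -/
theorem exists_compact_open_between (X : Scheme.{u}) {F O : Set X} (hF : IsCompact F)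
    (hO : IsOpen O) (hFO : F ⊆ O) :
    ∃ U' : X.Opens, IsCompact (U' : Set X) ∧ F ⊆ U' ∧ (U' : Set X) ⊆ O := by
  have key : ∀ x : F, ∃ W : X.Opens, IsAffineOpen W ∧ x.1 ∈ W ∧ (W : Set X) ⊆ O := by
    intro x
    obtain ⟨_, ⟨W, hW, rfl⟩, hxW, hWO⟩ :=
      X.isBasis_affineOpens.exists_subset_of_mem_open (hFO x.2) hO
    exact ⟨W, hW, hxW, hWO⟩
  choose W hW hxW hWO using key
  obtain ⟨t, ht⟩ := hF.elim_nhds_subcover' (fun x hx => (W ⟨x, hx⟩ : Set X))
    (fun x hx => (W ⟨x, hx⟩).2.mem_nhds (hxW ⟨x, hx⟩))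
  refine ⟨⨆ x ∈ t, W x, ?_, ?_, ?_⟩
  · have : ((⨆ x ∈ t, W x : X.Opens) : Set X) = ⋃ x ∈ t, (W x : Set X) := by
      simp
    rw [this]
    exact t.finite_toSet.isCompact_biUnion fun x _ => (hW x).isCompact
  · intro x hx
    obtain ⟨_, ⟨z, rfl⟩, _, ⟨hz, rfl⟩, hxz⟩ := ht hx
    exact Opens.mem_iSup.mpr ⟨z, Opens.mem_iSup.mpr ⟨hz, hxz⟩⟩
  · intro x hx
    obtain ⟨z, hz⟩ := Opens.mem_iSup.mp hx
    obtain ⟨_, hz'⟩ := Opens.mem_iSup.mp hz
    exact hWO z hz'

variable {I : Type u} [Category.{u} I] [IsCofiltered I] (D : I ⥤ Scheme.{u}) (c : Cone D)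
  (hc : IsLimit c) [∀ {i j : I} (f : i ⟶ j), IsAffineHom (D.map f)] {i₀ : I}
  {X₀ Y₀ : Scheme.{u}} (f₀ : X₀ ⟶ Y₀) (g₀ : Y₀ ⟶ D.obj i₀)

set_option backward.isDefEq.respectTransparency false in
include hc in
/-- the lifting property for ordered pairs of points passes to the limit (canonical model). -/
theorem core [QuasiCompact f₀] (j₁ : Over i₀)
    (h : ∀ (j : Over i₀), (j ⟶ j₁) → Subtr.IsSSubtrusive (stF D f₀ g₀ j)) :
    Subtr.IsSSubtrusive (limF D c f₀ g₀) := by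
  intro y y' hyy'
  by_contra hno
  have hqc : QuasiCompact (limF D c f₀ g₀) :=
    MorphismProperty.of_isPullback (isPullback_bcHom f₀ g₀ (c.π.app i₀)) ‹QuasiCompact f₀›
  have hcl : ∀ x, limF D c f₀ g₀ x = y → x ∉ closure (limF D c f₀ g₀ ⁻¹' {y'}) := by
    intro x hx hmem
    obtain ⟨x', hx', hsp⟩ := exists_specializes_of_mem_closure_fibre _ y' x hmem
    exact hno ⟨x, x', hsp, hx, hx'⟩
  have hFc : IsCompact (limF D c f₀ g₀ ⁻¹' {y}) :=
    (limF D c f₀ g₀).isCompact_preimage_singleton y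
  obtain ⟨U', hU'c, hFU', hU'⟩ := exists_compact_open_between (cX D c f₀ g₀).pt hFc
    (isClosed_closure (s := limF D c f₀ g₀ ⁻¹' {y'})).isOpen_compl (fun x hx => hcl x hx)
  obtain ⟨j₀, V, hVc, hV⟩ := exists_preimage_eq (bcDiagram D i₀ (f₀ ≫ g₀)) (cX D c f₀ g₀)
    (isLimitBcCone hc _) U' hU'c
  have hUj : (cX D c f₀ g₀).π.app (IsCofiltered.min j₀ j₁) ⁻¹ᵁ
      ((bcDiagram D i₀ (f₀ ≫ g₀)).map (IsCofiltered.minToLeft j₀ j₁) ⁻¹ᵁ V) = U' := by
    rw [← hV, ← Scheme.Hom.comp_preimage, Cone.w]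
  have hsp : (cY D c g₀).π.app (IsCofiltered.min j₀ j₁) y' ⤳
      (cY D c g₀).π.app (IsCofiltered.min j₀ j₁) y := hyy'.map (Scheme.Hom.continuous _)
  obtain ⟨xj, xj', hxx', hxj, hxj'⟩ := h _ (IsCofiltered.minToRight j₀ j₁) hsp
  obtain ⟨x, hx1, hx2⟩ := exists_of_isPullback
    (LimGen.isPullback_limF D c f₀ g₀ (IsCofiltered.min j₀ j₁)) xj y hxj
  have hxjU : xj ∈ ((bcDiagram D i₀ (f₀ ≫ g₀)).map (IsCofiltered.minToLeft j₀ j₁) ⁻¹ᵁ V) := by
    have hxU : x ∈ U' := hFU' hx2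
    rw [← hUj] at hxU
    rw [← hx1]
    exact hxU
  have hxj'U : xj' ∈ ((bcDiagram D i₀ (f₀ ≫ g₀)).map (IsCofiltered.minToLeft j₀ j₁) ⁻¹ᵁ V) :=
    hxx'.mem_open (Opens.isOpen _) hxjU
  obtain ⟨x', hx'1, hx'2⟩ := exists_of_isPullback
    (LimGen.isPullback_limF D c f₀ g₀ (IsCofiltered.min j₀ j₁)) xj' y' hxj'
  have hx'U : x' ∈ U' := by
    have h3 : (cX D c f₀ g₀).π.app (IsCofiltered.min j₀ j₁) x' ∈
        ((bcDiagram D i₀ (f₀ ≫ g₀)).map (IsCofiltered.minToLeft j₀ j₁) ⁻¹ᵁ V) := by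
      rw [hx'1]
      exact hxj'U
    rw [← hUj]
    exact h3
  exact hU' hx'U (subset_closure hx'2)

set_option backward.isDefEq.respectTransparency false in
theorem S14791_main {I : Type u} [SmallCategory I] [IsCofiltered I]
    (D : I ⥤ Scheme.{u}) (c : Limits.Cone D) (hc : Limits.IsLimit c)
    [∀ (i j : I) (a : i ⟶ j), IsAffineHom (D.map a)] (i₀ : I)
    {X₀ Y₀ : Scheme.{u}} (f₀ : X₀ ⟶ Y₀) (g₀ : Y₀ ⟶ D.obj i₀) [QuasiCompact f₀]
    (h : ∃ (i₁ : I) (ψ : i₁ ⟶ i₀), ∀ (i : I) (φ : i ⟶ i₁),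
      Subtr.IsSSubtrusive (pullback.snd f₀ (pullback.fst g₀ (D.map (φ ≫ ψ))))) :
    Subtr.IsSSubtrusive (pullback.snd f₀ (pullback.fst g₀ (c.π.app i₀))) := by
  have hD : ∀ {i j : I} (f : i ⟶ j), IsAffineHom (D.map f) := fun f => inferInstance
  obtain ⟨i₁, ψ, h⟩ := h
  have hcore : Subtr.IsSSubtrusive (limF D c f₀ g₀) := by
    refine core D c hc f₀ g₀ (Over.mk ψ) (fun j b => ?_)
    have hj : b.left ≫ ψ = j.hom := Over.w b
    have h1 := h j.left b.left
    rw [hj] at h1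
    exact isSSubtrusive_of_isPullback (IsPullback.of_hasPullback _ _)
      (isPullback_bcHom f₀ g₀ (D.map j.hom)) h1
  exact isSSubtrusive_of_isPullback (isPullback_bcHom f₀ g₀ (c.π.app i₀))
    (IsPullback.of_hasPullback _ _) hcore

end Groth.Agent.Helper7.SubtrLim
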