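import Mathlib
import Groth.Prelude.Def_W4c2submetdescSubtr
import Groth.Agent.Lib.Helper7.SubtrLim
import Groth.Agent.Lib.Helper7.RelFGSub
import Groth.Agent.Lib.Helper4.UnivClosed

set_option autoImplicit false
open CategoryTheory CategoryTheory.Limits AlgebraicGeometry Opposite TopologicalSpace
universe u

/-! helper7: for a quasi-compact morphism the lifting property for ordered pairs holds universally as soon as it holds after base change to finite dimensional affine spaces (S14772); uses the limit theorem S14791 and helper4's charts of affine spaces. -/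

namespace Groth.Agent.Helper7.SubtrAff

open Groth.Agent.Helper7.SubtrLim AffineSpace

set_option backward.isDefEq.respectTransparency false in
/-- transfer of the lifting property for ordered pairs along an immersion of the base. -/
theorem isSSubtrusive_of_immersion {X Y A T P PA : Scheme.{u}} {f : X ⟶ Y} {m : A ⟶ Y}
    {q' : PA ⟶ X} {v : PA ⟶ A} (hv : IsPullback q' v f m) (hS : Subtr.IsSSubtrusive v)
    (a : T ⟶ A) [IsImmersion a] {q : P ⟶ X} {u : P ⟶ T} (hu : IsPullback q u f (a ≫ m)) :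
    Subtr.IsSSubtrusive u := by
  have hk1 : hv.lift q (u ≫ a) (by rw [hu.w, Category.assoc]) ≫ q' = q := hv.lift_fst _ _ _
  have hk2 : hv.lift q (u ≫ a) (by rw [hu.w, Category.assoc]) ≫ v = u ≫ a := hv.lift_snd _ _ _
  have hsq : IsPullback u (hv.lift q (u ≫ a) (by rw [hu.w, Category.assoc])) a v := by
    refine IsPullback.of_bot ?_ hk2.symm hv.flip
    rw [hk1]
    exact hu.flip
  have hki : IsImmersion (hv.lift q (u ≫ a) (by rw [hu.w, Category.assoc])) :=
    MorphismProperty.of_isPullback hsq inferInstance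
  intro t t' htt'
  have h1 : a t' ⤳ a t := htt'.map a.continuous
  obtain ⟨z, z', hzz', hz, hz'⟩ := hS h1
  obtain ⟨w, hw1, hw2⟩ := exists_of_isPullback hsq t z hz.symm
  obtain ⟨w', hw'1, hw'2⟩ := exists_of_isPullback hsq t' z' hz'.symm
  refine ⟨w, w', ?_, hw1, hw'1⟩
  have hemb := (hv.lift q (u ≫ a) (by rw [hu.w, Category.assoc])).isEmbedding
  rw [← hemb.isInducing.specializes_iff, hw2, hw'2]
  exact hzz'

/-- a finitely generated algebra is a quotient of a polynomial ring in a positive finite number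
of variables indexed by a lifted `Fin`. -/
theorem exists_surjective_mvPolynomial (R C : Type u) [CommRing R] [CommRing C] [Algebra R C]
    [Algebra.FiniteType R C] :
    ∃ (n : ℕ) (_ : 0 < n) (ψ : MvPolynomial (ULift.{u} (Fin n)) R →ₐ[R] C),
      Function.Surjective ψ := by
  obtain ⟨n, φ, hφ⟩ := Algebra.FiniteType.iff_quotient_mvPolynomial''.mp
    (inferInstance : Algebra.FiniteType R C)
  let g : MvPolynomial (Fin (n + 1)) R →ₐ[R] MvPolynomial (Fin n) R :=
    MvPolynomial.aeval (Fin.lastCases 0 MvPolynomial.X)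
  have hg : Function.Surjective g := by
    intro p
    refine ⟨MvPolynomial.rename Fin.castSucc p, ?_⟩
    change MvPolynomial.aeval _ (MvPolynomial.rename Fin.castSucc p) = p
    rw [MvPolynomial.aeval_rename]
    have : (Fin.lastCases (0 : MvPolynomial (Fin n) R) MvPolynomial.X ∘ Fin.castSucc) =
        MvPolynomial.X := by
      funext i
      simp
    rw [this, MvPolynomial.aeval_X_left]
    rfl
  let e : MvPolynomial (ULift.{u} (Fin (n + 1))) R ≃ₐ[R] MvPolynomial (Fin (n + 1)) R :=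
    MvPolynomial.renameEquiv R Equiv.ulift
  refine ⟨n + 1, Nat.succ_pos n, (φ.comp g).comp e.toAlgHom, ?_⟩
  exact (hφ.comp hg).comp e.surjective

set_option backward.isDefEq.respectTransparency false in
/-- the spectrum of a finitely generated algebra over an affine open immerses into a finite
dimensional affine space. -/
theorem exists_immersion_affineSpace_fin {Y : Scheme.{u}} (R : CommRingCat.{u})
    (jS : Spec R ⟶ Y) [IsOpenImmersion jS] (C : Type u) [CommRing C] [Algebra R C]
    [Algebra.FiniteType R C] :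
    ∃ (n : ℕ) (_ : 0 < n) (κ : Spec (CommRingCat.of C) ⟶ 𝔸(ULift.{u} (Fin n); Y)),
      IsImmersion κ ∧ κ ≫ (𝔸(ULift.{u} (Fin n); Y) ↘ Y) =
        Spec.map (CommRingCat.ofHom (algebraMap R C)) ≫ jS := by
  obtain ⟨n, hn, ψ, hψ⟩ := exists_surjective_mvPolynomial R C
  have : IsClosedImmersion (Spec.map (CommRingCat.ofHom ψ.toRingHom)) :=
    IsClosedImmersion.spec_of_surjective (CommRingCat.ofHom ψ.toRingHom) hψ
  refine ⟨n, hn, Spec.map (CommRingCat.ofHom ψ.toRingHom) ≫
    Groth.Agent.Lib.Helper4.UC.chart (ULift.{u} (Fin n)) R jS, inferInstance, ?_⟩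
  unfold Groth.Agent.Lib.Helper4.UC.chart
  rw [Category.assoc, Category.assoc, map_over, SpecIso_inv_over_assoc, ← Spec.map_comp_assoc]
  congr 2
  ext r
  simp

open Groth.Agent.Helper7.RelFGSub in
set_option backward.isDefEq.respectTransparency false in
/-- the base change to the spectrum of any algebra over an affine open has the lifting property
as soon as the base changes to finite dimensional affine spaces have it. -/
theorem isSSubtrusive_spec {X Y : Scheme.{u}} (f : X ⟶ Y) [QuasiCompact f]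
    (H : ∀ n : ℕ, 0 < n →
      Subtr.IsSSubtrusive (pullback.snd f (𝔸(ULift.{u} (Fin n); Y) ↘ Y)))
    (R B : Type u) [CommRing R] [CommRing B] [Algebra R B]
    (jS : Spec (CommRingCat.of R) ⟶ Y) [IsOpenImmersion jS] :
    Subtr.IsSSubtrusive
      (pullback.snd f (Spec.map (CommRingCat.ofHom (algebraMap R B)) ≫ jS)) := by
  obtain ⟨hc⟩ := isLimit_specCone R B
  let i₀ : (Idx R B)ᵒᵖ := op ⟨⊥, Subalgebra.fg_bot⟩
  have key := SubtrLim.S14791_main (specDiag R B) (specCone R B) hc i₀
    (pullback.snd f (toBase R B i₀ ≫ jS)) (𝟙 _) ⟨i₀, 𝟙 i₀, fun i φ => ?_⟩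
  · -- pass from the limit model to the spectrum of `B`
    have hsq : IsPullback
        (pullback.fst (pullback.snd f (toBase R B i₀ ≫ jS))
          (pullback.fst (𝟙 _) ((specCone R B).π.app i₀)) ≫ pullback.fst f (toBase R B i₀ ≫ jS))
        (pullback.snd (pullback.snd f (toBase R B i₀ ≫ jS))
          (pullback.fst (𝟙 _) ((specCone R B).π.app i₀)))
        f (pullback.fst (𝟙 _) ((specCone R B).π.app i₀) ≫ (toBase R B i₀ ≫ jS)) :=
      (IsPullback.of_hasPullback _ _).paste_horiz (IsPullback.of_hasPullback f _)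
    have hcomp : inv (pullback.snd (𝟙 ((specDiag R B).obj i₀)) ((specCone R B).π.app i₀)) ≫
        (pullback.fst (𝟙 _) ((specCone R B).π.app i₀) ≫ (toBase R B i₀ ≫ jS)) =
        Spec.map (CommRingCat.ofHom (algebraMap R B)) ≫ jS := by
      rw [IsIso.inv_comp_eq, ← π_toBase R B i₀, Category.assoc, ← Category.assoc,
        ← Category.assoc, ← pullback.condition, Category.comp_id, Category.assoc]
    have hu : IsPullback (pullback.fst f (Spec.map (CommRingCat.ofHom (algebraMap R B)) ≫ jS))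
        (pullback.snd f (Spec.map (CommRingCat.ofHom (algebraMap R B)) ≫ jS)) f
        (inv (pullback.snd (𝟙 ((specDiag R B).obj i₀)) ((specCone R B).π.app i₀)) ≫
          (pullback.fst (𝟙 _) ((specCone R B).π.app i₀) ≫ (toBase R B i₀ ≫ jS))) := by
      rw [hcomp]
      exact IsPullback.of_hasPullback _ _
    exact isSSubtrusive_of_immersion hsq key _ hu
  · -- the stages
    have hft : Algebra.FiniteType R i.unop.1 := (Subalgebra.fg_iff_finiteType _).mp i.unop.2
    obtain ⟨n, hn, κ₀, hκ₀, hκ₀'⟩ :=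
      exists_immersion_affineSpace_fin (CommRingCat.of R) jS i.unop.1
    obtain ⟨κ, hκ, hκ'⟩ : ∃ κ : (specDiag R B).obj i ⟶ 𝔸(ULift.{u} (Fin n); Y), IsImmersion κ ∧
        κ ≫ (𝔸(ULift.{u} (Fin n); Y) ↘ Y) = toBase R B i ≫ jS := ⟨κ₀, hκ₀, hκ₀'⟩
    have hsq : IsPullback
        (pullback.fst (pullback.snd f (toBase R B i₀ ≫ jS))
          (pullback.fst (𝟙 _) ((specDiag R B).map (φ ≫ 𝟙 i₀))) ≫
            pullback.fst f (toBase R B i₀ ≫ jS))
        (pullback.snd (pullback.snd f (toBase R B i₀ ≫ jS))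
          (pullback.fst (𝟙 _) ((specDiag R B).map (φ ≫ 𝟙 i₀))))
        f (pullback.fst (𝟙 _) ((specDiag R B).map (φ ≫ 𝟙 i₀)) ≫ (toBase R B i₀ ≫ jS)) :=
      (IsPullback.of_hasPullback _ _).paste_horiz (IsPullback.of_hasPullback f _)
    have hcomp : pullback.fst (𝟙 ((specDiag R B).obj i₀)) ((specDiag R B).map (φ ≫ 𝟙 i₀)) ≫
        (toBase R B i₀ ≫ jS) =
        (pullback.snd (𝟙 ((specDiag R B).obj i₀)) ((specDiag R B).map (φ ≫ 𝟙 i₀)) ≫ κ) ≫
          (𝔸(ULift.{u} (Fin n); Y) ↘ Y) := by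
      have hc1 : pullback.fst (𝟙 ((specDiag R B).obj i₀)) ((specDiag R B).map (φ ≫ 𝟙 i₀)) =
          pullback.snd (𝟙 ((specDiag R B).obj i₀)) ((specDiag R B).map (φ ≫ 𝟙 i₀)) ≫
            (specDiag R B).map (φ ≫ 𝟙 i₀) :=
        (Category.comp_id _).symm.trans pullback.condition
      rw [Category.assoc, hκ', ← map_toBase R B (φ ≫ 𝟙 i₀), hc1]
      simp only [Category.assoc]
    rw [hcomp] at hsq
    exact isSSubtrusive_of_immersion (IsPullback.of_hasPullback f _) (H n hn) _ hsq

set_option backward.isDefEq.respectTransparency false in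
theorem isSSubtrusive_spec' {X Y : Scheme.{u}} (f : X ⟶ Y) [QuasiCompact f]
    (H : ∀ n : ℕ, 0 < n →
      Subtr.IsSSubtrusive (pullback.snd f (𝔸(ULift.{u} (Fin n); Y) ↘ Y)))
    {R B : CommRingCat.{u}} (φ : R ⟶ B) (jS : Spec R ⟶ Y) [IsOpenImmersion jS] :
    Subtr.IsSSubtrusive (pullback.snd f (Spec.map φ ≫ jS)) :=
  @isSSubtrusive_spec X Y f _ H R B _ _ φ.hom.toAlgebra jS _

set_option backward.isDefEq.respectTransparency false in
theorem S14772_main {X Y : Scheme.{u}} (f : X ⟶ Y) [QuasiCompact f] :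
    Subtr.UnivSSubtrusive f ↔
      ∀ n : ℕ, 0 < n →
        Subtr.IsSSubtrusive (pullback.snd f (AffineSpace (ULift.{u} (Fin n)) Y ↘ Y)) := by
  constructor
  · intro hf n _
    exact hf _ _ _ (IsPullback.of_hasPullback f _).flip
  · intro H X' Y' i₁ i₂ f' hsq t t' htt'
    obtain ⟨_, ⟨V, hV, rfl⟩, htV, -⟩ := Y.isBasis_affineOpens.exists_subset_of_mem_open
      (Set.mem_univ (i₂ t)) isOpen_univ
    obtain ⟨_, ⟨W, hW, rfl⟩, htW, hWV⟩ := Y'.isBasis_affineOpens.exists_subset_of_mem_open
      (show t ∈ ((i₂ ⁻¹ᵁ V : Y'.Opens) : Set Y') from htV) (i₂ ⁻¹ᵁ V).2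
    have ht'W : t' ∈ (W : Set Y') := htt'.mem_open W.2 htW
    have key := isSSubtrusive_spec' f H (i₂.appLE V W hWV) hV.fromSpec
    have e : Spec.map (i₂.appLE V W hWV) ≫ hV.fromSpec = hW.fromSpec ≫ i₂ :=
      hV.SpecMap_appLE_fromSpec i₂ hW hWV
    rw [e] at key
    have hr : Set.range hW.fromSpec = (W : Set Y') := hW.range_fromSpec
    obtain ⟨w, rfl⟩ : t ∈ Set.range hW.fromSpec := by rw [hr]; exact htW
    obtain ⟨w', rfl⟩ : t' ∈ Set.range hW.fromSpec := by rw [hr]; exact ht'W
    have hww' : w' ⤳ w :=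
      (hW.fromSpec.isOpenEmbedding.isInducing.specializes_iff).mp htt'
    obtain ⟨z, z', hzz', hz, hz'⟩ := key hww'
    have hcond : (pullback.snd f (hW.fromSpec ≫ i₂) ≫ hW.fromSpec) ≫ i₂ =
        pullback.fst f (hW.fromSpec ≫ i₂) ≫ f := by
      rw [Category.assoc, pullback.condition]
    refine ⟨hsq.lift _ _ hcond z, hsq.lift _ _ hcond z', hzz'.map (Scheme.Hom.continuous _),
      ?_, ?_⟩
    · rw [← Scheme.Hom.comp_apply, hsq.lift_fst, Scheme.Hom.comp_apply, hz]
    · rw [← Scheme.Hom.comp_apply, hsq.lift_fst, Scheme.Hom.comp_apply, hz']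

end Groth.Agent.Helper7.SubtrAff
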