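import Mathlib
import Groth.Prelude.Def_W4c2submetdescSubtr
import Groth.Prelude.Def_SGA1
import Groth.Agent.Lib.Helper7.SubtrAff
import Groth.Agent.Lib.Helper4.DomDVR3

set_option autoImplicit false
open CategoryTheory CategoryTheory.Limits AlgebraicGeometry Opposite TopologicalSpace
universe u

/-! helper7: universally submersive versus universally S-subtrusive over a locally Noetherian base
(S14770, S14771): quotient maps from the lifting property, arcs from discrete valuation rings. -/

namespace Groth.Agent.Helper7.SubtrNoeth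

open Groth.Agent.Helper7.SubtrLim AffineSpace

set_option backward.isDefEq.respectTransparency false in
/-- a quasi-compact morphism with the lifting property for ordered pairs is a quotient map. -/
theorem isQuotientMap_of_isSSubtrusive {P T : Scheme.{u}} (h : P ⟶ T) [QuasiCompact h]
    (hS : Subtr.IsSSubtrusive h) : Topology.IsQuotientMap h := by
  rw [Topology.isQuotientMap_iff_isClosed]
  refine ⟨fun t => ?_, fun Z => ⟨fun hZ => hZ.preimage h.continuous, fun hZ => ?_⟩⟩
  · obtain ⟨x, _, _, hx, _⟩ := hS (specializes_rfl (x := t))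
    exact ⟨x, hx⟩
  · rw [← closure_subset_iff_isClosed]
    intro p hp
    let C : Closeds P := ⟨h ⁻¹' Z, hZ⟩
    let I := Scheme.IdealSheafData.vanishingIdeal C
    have hrange : Set.range (I.subschemeι ≫ h) = Z := by
      rw [Scheme.Hom.comp_base, TopCat.coe_comp, Set.range_comp,
        Scheme.IdealSheafData.range_subschemeι, Scheme.IdealSheafData.coe_support_vanishingIdeal]
      change h '' (h ⁻¹' Z) = Z
      apply Set.image_preimage_eq
      intro t
      obtain ⟨x, _, _, hx, _⟩ := hS (specializes_rfl (x := t))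
      exact ⟨x, hx⟩
    rw [← hrange] at hp
    obtain ⟨c, hc⟩ := MonoImm.exists_specializes_of_mem_closure_range (I.subschemeι ≫ h) p hp
    have hzZ : (I.subschemeι ≫ h) c ∈ Z := by rw [← hrange]; exact ⟨c, rfl⟩
    obtain ⟨x, x', hxx', hx, hx'⟩ := hS hc
    have hx'C : x' ∈ h ⁻¹' Z := by
      change h x' ∈ Z
      rw [hx']
      exact hzZ
    have hxC : x ∈ h ⁻¹' Z := hxx'.mem_closed hZ hx'C
    rw [← hx]
    exact hxC

/-- the generic point of the spectrum of a domain. -/
def gen (A : Type u) [CommRing A] [IsDomain A] : PrimeSpectrum A := ⟨⊥, Ideal.isPrime_bot⟩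

/-- the two points of the spectrum of a discrete valuation ring. -/
theorem eq_gen_or_eq_closedPoint (A : Type u) [CommRing A] [IsDomain A]
    [IsDiscreteValuationRing A] (q : PrimeSpectrum A) :
    q = gen A ∨ q = IsLocalRing.closedPoint A := by
  by_cases h : q.asIdeal = ⊥
  · left
    exact PrimeSpectrum.ext h
  · right
    have := q.isPrime.isMaximal h
    exact PrimeSpectrum.ext (IsLocalRing.eq_maximalIdeal this)

set_option backward.isDefEq.respectTransparency false in
/-- a non-trivial specialization in a locally Noetherian scheme is the image of the two points of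
the spectrum of a discrete valuation ring. -/
theorem exists_dvr_arc {T : Scheme.{u}} [IsLocallyNoetherian T] {t t' : T} (h : t' ⤳ t)
    (hne : t ≠ t') :
    ∃ (A : Type u) (_ : CommRing A) (_ : IsDomain A) (_ : IsDiscreteValuationRing A)
      (φ : Spec (CommRingCat.of A) ⟶ T),
      φ (IsLocalRing.closedPoint A) = t ∧ φ (gen A) = t' := by
  obtain ⟨A, φ, hA, hcl, hgen⟩ := Groth.Agent.Lib.Helper4.DomDVR.S4450_main (𝟙 T) t' t h hne
  refine ⟨A, inferInstance, inferInstance, hA, φ, hcl, ?_⟩
  have hpt : (Spec.map (CommRingCat.ofHom A.subtype)) (⊥ : PrimeSpectrum (T.residueField t')) =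
      gen A := by
    refine PrimeSpectrum.ext ?_
    change Ideal.comap A.subtype ⊥ = ⊥
    rw [← RingHom.ker_eq_comap_bot]
    exact (RingHom.injective_iff_ker_eq_bot _).mp Subtype.val_injective
  rw [← hpt, ← Scheme.Hom.comp_apply, hgen, Category.comp_id]
  exact Scheme.fromSpecResidueField_apply t' _

set_option backward.isDefEq.respectTransparency false in
/-- if the base change to the spectrum of a discrete valuation ring is a quotient map then the
images of its two points lift to an ordered pair. -/
theorem exists_pair_of_isQuotientMap {P T : Scheme.{u}} (h : P ⟶ T) [QuasiCompact h]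
    (A : Type u) [CommRing A] [IsDomain A] [IsDiscreteValuationRing A]
    (φ : Spec (CommRingCat.of A) ⟶ T) (hne : φ (IsLocalRing.closedPoint A) ≠ φ (gen A))
    (hq : Topology.IsQuotientMap (pullback.snd h φ)) :
    ∃ x x' : P, x' ⤳ x ∧ h x = φ (IsLocalRing.closedPoint A) ∧ h x' = φ (gen A) := by
  have hncl : ¬ IsClosed ((pullback.snd h φ) ⁻¹' {gen A}) := by
    intro hcl
    have h1 : IsClosed ({gen A} : Set (PrimeSpectrum A)) := hq.isClosed_preimage.mp hcl
    have h2 : gen A ⤳ IsLocalRing.closedPoint A := IsLocalRing.specializes_closedPoint _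
    have h3 : IsLocalRing.closedPoint A ∈ ({gen A} : Set (PrimeSpectrum A)) :=
      h2.mem_closed h1 rfl
    exact hne (congrArg (fun q => φ q) h3)
  have hex : ∃ p, p ∈ closure ((pullback.snd h φ) ⁻¹' {gen A}) ∧
      p ∉ (pullback.snd h φ) ⁻¹' {gen A} := by
    by_contra hno
    apply hncl
    rw [← closure_subset_iff_isClosed]
    intro p hp
    by_contra hp'
    exact hno ⟨p, hp, hp'⟩
  obtain ⟨p, hp, hp'⟩ := hex
  obtain ⟨p', hp'1, hp'2⟩ := exists_specializes_of_mem_closure_fibre (pullback.snd h φ) (gen A) p hp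
  have hpc : (pullback.snd h φ) p = IsLocalRing.closedPoint A := by
    rcases eq_gen_or_eq_closedPoint A ((pullback.snd h φ) p) with h1 | h1
    · exact absurd h1 hp'
    · exact h1
  refine ⟨(pullback.fst h φ) p, (pullback.fst h φ) p', hp'2.map (Scheme.Hom.continuous _), ?_, ?_⟩
  · rw [← Scheme.Hom.comp_apply, pullback.condition, Scheme.Hom.comp_apply, hpc]
  · rw [← Scheme.Hom.comp_apply, pullback.condition, Scheme.Hom.comp_apply, hp'1]

set_option backward.isDefEq.respectTransparency false in
/-- over a locally Noetherian base, a quasi-compact morphism all of whose base changes are quotient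
maps has the lifting property for ordered pairs. -/
theorem isSSubtrusive_of_univSubmersive {P T : Scheme.{u}} [IsLocallyNoetherian T] (h : P ⟶ T)
    [QuasiCompact h] (hh : SGA1.UnivSubmersive h) : Subtr.IsSSubtrusive h := by
  intro t t' htt'
  have hq : Topology.IsQuotientMap h := MorphismProperty.universally_le _ _ hh
  by_cases hne : t = t'
  · subst hne
    obtain ⟨x, hx⟩ := hq.surjective t
    exact ⟨x, x, specializes_rfl, hx, hx⟩
  · obtain ⟨A, _, _, _, φ, hcl, hgen⟩ := exists_dvr_arc htt' hne
    have hq' : Topology.IsQuotientMap (pullback.snd h φ) :=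
      hh (pullback.fst h φ) φ (pullback.snd h φ) (IsPullback.of_hasPullback h φ).flip
    obtain ⟨x, x', hxx', hx, hx'⟩ := exists_pair_of_isQuotientMap h A φ
      (by rw [hcl, hgen]; exact hne) hq'
    exact ⟨x, x', hxx', hx.trans hcl, hx'.trans hgen⟩

set_option backward.isDefEq.respectTransparency false in
theorem S14770_main {X Y : Scheme.{u}} [IsLocallyNoetherian Y] (f : X ⟶ Y) [QuasiCompact f] :
    SGA1.UnivSubmersive f ↔ Subtr.UnivSSubtrusive f := by
  constructor
  · intro hf
    rw [SubtrAff.S14772_main]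
    intro n _
    have : IsLocallyNoetherian (𝔸(ULift.{u} (Fin n); Y)) :=
      LocallyOfFiniteType.isLocallyNoetherian (𝔸(ULift.{u} (Fin n); Y) ↘ Y)
    refine isSSubtrusive_of_univSubmersive _ ?_
    exact (MorphismProperty.universally_isStableUnderBaseChange _).of_isPullback
      (IsPullback.of_hasPullback f _) hf
  · intro hf X' Y' i₁ i₂ f' hsq
    have : QuasiCompact f' := MorphismProperty.of_isPullback hsq.flip inferInstance
    exact isQuotientMap_of_isSSubtrusive f' (hf _ _ _ hsq)

/-- the generic and closed points of a discrete valuation ring differ. -/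
theorem closedPoint_ne_gen (A : Type u) [CommRing A] [IsDomain A] [IsDiscreteValuationRing A] :
    IsLocalRing.closedPoint A ≠ gen A := by
  intro h
  have h1 : IsLocalRing.maximalIdeal A = ⊥ := congrArg PrimeSpectrum.asIdeal h
  exact IsDiscreteValuationRing.not_a_field A h1

/-- a surjective map between the spectra of discrete valuation rings preserves the closed and the
generic point. -/
theorem surj_dvr {A B : Type u} [CommRing A] [IsDomain A] [IsDiscreteValuationRing A]
    [CommRing B] [IsDomain B] [IsDiscreteValuationRing B]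
    (b : PrimeSpectrum B → PrimeSpectrum A) (hb : Continuous b) (hs : Function.Surjective b) :
    b (IsLocalRing.closedPoint B) = IsLocalRing.closedPoint A ∧ b (gen B) = gen A := by
  have hcl : b (IsLocalRing.closedPoint B) = IsLocalRing.closedPoint A := by
    obtain ⟨q, hq⟩ := hs (IsLocalRing.closedPoint A)
    rcases eq_gen_or_eq_closedPoint B q with h1 | h1
    · have h2 : gen B ⤳ IsLocalRing.closedPoint B := IsLocalRing.specializes_closedPoint _
      have h3 := h2.map hb
      rw [← h1, hq] at h3
      have h4 : IsClosed ({IsLocalRing.closedPoint A} : Set (PrimeSpectrum A)) :=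
        IsLocalRing.isClosed_singleton_closedPoint A
      exact h3.mem_closed h4 rfl
    · rw [← h1]; exact hq
  refine ⟨hcl, ?_⟩
  obtain ⟨q, hq⟩ := hs (gen A)
  rcases eq_gen_or_eq_closedPoint B q with h1 | h1
  · rw [← h1]; exact hq
  · rw [h1, hcl] at hq
    exact absurd hq (closedPoint_ne_gen A)

set_option backward.isDefEq.respectTransparency false in
/-- (ii) implies (iii). -/
theorem dvr_of_univSSubtrusive {X Y : Scheme.{u}} [IsLocallyNoetherian Y]
    (f : X ⟶ Y) [LocallyOfFiniteType f] (hf : Subtr.UnivSSubtrusive f)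
    (D : Type u) [CommRing D] [IsDomain D] [IsDiscreteValuationRing D]
    (g : Spec (CommRingCat.of D) ⟶ Y) :
    ∃ (D' : Type u) (_ : CommRing D') (_ : IsDomain D') (_ : IsDiscreteValuationRing D')
      (a : Spec (CommRingCat.of D') ⟶ X) (b : Spec (CommRingCat.of D') ⟶ Spec (CommRingCat.of D)),
      Surjective b ∧ a ≫ f = b ≫ g := by
  have hS : Subtr.IsSSubtrusive (pullback.snd f g) :=
    hf _ _ _ (IsPullback.of_hasPullback f g).flip
  have hsp : gen D ⤳ IsLocalRing.closedPoint D := IsLocalRing.specializes_closedPoint _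
  obtain ⟨x, x', hxx', hx, hx'⟩ := hS hsp
  have hne : x ≠ x' := by
    intro h
    rw [← h, hx] at hx'
    exact closedPoint_ne_gen D hx'
  have : IsLocallyNoetherian (pullback f g) :=
    LocallyOfFiniteType.isLocallyNoetherian (pullback.snd f g)
  obtain ⟨D', _, _, _, ψ, hcl, hgen⟩ := exists_dvr_arc hxx' hne
  refine ⟨D', inferInstance, inferInstance, inferInstance, ψ ≫ pullback.fst f g,
    ψ ≫ pullback.snd f g, ⟨fun q => ?_⟩, ?_⟩
  · rcases eq_gen_or_eq_closedPoint D q with h1 | h1
    · refine ⟨gen D', ?_⟩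
      rw [Scheme.Hom.comp_apply, hgen, hx', h1]
    · refine ⟨IsLocalRing.closedPoint D', ?_⟩
      rw [Scheme.Hom.comp_apply, hcl, hx, h1]
  · rw [Category.assoc, Category.assoc, pullback.condition]

set_option backward.isDefEq.respectTransparency false in
/-- (iii) implies (ii). -/
theorem univSSubtrusive_of_dvr {X Y : Scheme.{u}} [IsLocallyNoetherian Y]
    (f : X ⟶ Y) [QuasiCompact f]
    (H : ∀ (D : Type u) [CommRing D] [IsDomain D] [IsDiscreteValuationRing D]
      (g : Spec (CommRingCat.of D) ⟶ Y),
      ∃ (D' : Type u) (_ : CommRing D') (_ : IsDomain D') (_ : IsDiscreteValuationRing D')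
        (a : Spec (CommRingCat.of D') ⟶ X)
        (b : Spec (CommRingCat.of D') ⟶ Spec (CommRingCat.of D)),
        Surjective b ∧ a ≫ f = b ≫ g) :
    Subtr.UnivSSubtrusive f := by
  rw [SubtrAff.S14772_main]
  intro n _
  have : IsLocallyNoetherian (𝔸(ULift.{u} (Fin n); Y)) :=
    LocallyOfFiniteType.isLocallyNoetherian (𝔸(ULift.{u} (Fin n); Y) ↘ Y)
  intro t t' htt'
  by_cases hne : t = t'
  · subst hne
    let D := PowerSeries (𝔸(ULift.{u} (Fin n); Y).residueField t)
    let φ : Spec (CommRingCat.of D) ⟶ 𝔸(ULift.{u} (Fin n); Y) :=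
      Spec.map (CommRingCat.ofHom (PowerSeries.C (R := 𝔸(ULift.{u} (Fin n); Y).residueField t))) ≫
        𝔸(ULift.{u} (Fin n); Y).fromSpecResidueField t
    obtain ⟨D', _, _, _, a, b, -, hab⟩ := H D (φ ≫ (𝔸(ULift.{u} (Fin n); Y) ↘ Y))
    let ψ : Spec (CommRingCat.of D') ⟶ pullback f (𝔸(ULift.{u} (Fin n); Y) ↘ Y) :=
      pullback.lift a (b ≫ φ) (hab.trans (Category.assoc _ _ _).symm)
    have hψ : ψ ≫ pullback.snd f (𝔸(ULift.{u} (Fin n); Y) ↘ Y) = b ≫ φ := pullback.lift_snd _ _ _
    have hφ : ∀ q, φ q = t := by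
      intro q
      rw [Scheme.Hom.comp_apply]
      exact Scheme.fromSpecResidueField_apply t _
    refine ⟨ψ (gen D'), ψ (gen D'), specializes_rfl, ?_, ?_⟩
    · rw [← Scheme.Hom.comp_apply, hψ, Scheme.Hom.comp_apply, hφ]
    · rw [← Scheme.Hom.comp_apply, hψ, Scheme.Hom.comp_apply, hφ]
  · obtain ⟨A, _, _, _, φ, hcl, hgen⟩ := exists_dvr_arc htt' hne
    obtain ⟨D', _, _, _, a, b, hb, hab⟩ := H A (φ ≫ (𝔸(ULift.{u} (Fin n); Y) ↘ Y))
    let ψ : Spec (CommRingCat.of D') ⟶ pullback f (𝔸(ULift.{u} (Fin n); Y) ↘ Y) :=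
      pullback.lift a (b ≫ φ) (hab.trans (Category.assoc _ _ _).symm)
    have hψ : ψ ≫ pullback.snd f (𝔸(ULift.{u} (Fin n); Y) ↘ Y) = b ≫ φ := pullback.lift_snd _ _ _
    obtain ⟨hb1, hb2⟩ := surj_dvr (A := A) (B := D') (fun q => b q) b.continuous hb.surj
    have hsp : gen D' ⤳ IsLocalRing.closedPoint D' := IsLocalRing.specializes_closedPoint _
    refine ⟨ψ (IsLocalRing.closedPoint D'), ψ (gen D'), hsp.map ψ.continuous, ?_, ?_⟩
    · rw [← Scheme.Hom.comp_apply, hψ, Scheme.Hom.comp_apply]
      exact (congrArg (fun q => φ q) hb1).trans hcl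
    · rw [← Scheme.Hom.comp_apply, hψ, Scheme.Hom.comp_apply]
      exact (congrArg (fun q => φ q) hb2).trans hgen

set_option backward.isDefEq.respectTransparency false in
theorem S14771_main {X Y : Scheme.{u}} [IsLocallyNoetherian Y]
    (f : X ⟶ Y) [LocallyOfFiniteType f] [QuasiCompact f] :
    List.TFAE [
      SGA1.UnivSubmersive f,
      Subtr.UnivSSubtrusive f,
      ∀ (D : Type u) [CommRing D] [IsDomain D] [IsDiscreteValuationRing D]
        (g : Spec (CommRingCat.of D) ⟶ Y),
        ∃ (D' : Type u) (_ : CommRing D') (_ : IsDomain D') (_ : IsDiscreteValuationRing D')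
          (a : Spec (CommRingCat.of D') ⟶ X)
          (b : Spec (CommRingCat.of D') ⟶ Spec (CommRingCat.of D)),
          Surjective b ∧ a ≫ f = b ≫ g] := by
  tfae_have 1 ↔ 2 := S14770_main f
  tfae_have 2 → 3 := fun hf D _ _ _ g => dvr_of_univSSubtrusive f hf D g
  tfae_have 3 → 2 := fun H => univSSubtrusive_of_dvr f H
  tfae_finish

end Groth.Agent.Helper7.SubtrNoeth
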