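import Mathlib
import Groth.Agent.Lib.Helper7.TopInv
import Groth.Prelude.Def_FEt

set_option autoImplicit false
universe u
open CategoryTheory CategoryTheory.Limits AlgebraicGeometry

/-! helper7: restriction of finite etale covers along a universal homeomorphism is fully faithful
(`main0283`). -/

namespace Groth.Agent.Helper7.TopInv

open Groth.Agent.Helper7.UHSch

theorem main0283 {X Y : Scheme.{u}} (f : X ⟶ Y) [IsIntegralHom f] [UniversallyInjective f]
    [Surjective f] : (FEt.restrict f).Full ∧ (FEt.restrict f).Faithful := by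
  have hf : FlatMor.IsUnivHomeo f := Groth.Agent.Helper9.UH.isUnivHomeo_of f
  have hπ : ∀ A : FEt.Cat Y, FlatMor.IsUnivHomeo (pullback.fst A.hom f) := fun A =>
    MorphismProperty.pullback_fst (P := FlatMor.IsUnivHomeo) A.hom f hf
  constructor
  · refine ⟨fun {A B} ψ => ?_⟩
    have hB : Etale B.hom := B.prop.2
    obtain ⟨ψl, hψl⟩ : ∃ ψl : pullback A.hom f ⟶ pullback B.hom f, ψl = ψ.left := ⟨ψ.left, rfl⟩
    have hw : ψl ≫ pullback.snd B.hom f = pullback.snd A.hom f := by
      rw [hψl]; exact MorphismProperty.Over.w ψ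
    obtain ⟨φ, hφ1, hφ2⟩ := exists_descent B.hom A.hom (pullback.fst A.hom f) (hπ A)
      (ψl ≫ pullback.fst B.hom f) (by
        rw [Category.assoc, pullback.condition, ← Category.assoc, hw, pullback.condition])
    refine ⟨MorphismProperty.Over.homMk φ hφ1 trivial, ?_⟩
    apply MorphismProperty.Over.Hom.ext
    rw [← hψl]
    apply pullback.hom_ext
    · refine Eq.trans (pullback.lift_fst _ _ _) ?_
      exact hφ2
    · refine Eq.trans (pullback.lift_snd _ _ _) ?_
      exact hw.symm
  · refine ⟨fun {A B} φ₁ φ₂ h => ?_⟩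
    have hB : Etale B.hom := B.prop.2
    have hsurj : Surjective (pullback.fst A.hom f) := surjective_of_isUnivHomeo _ (hπ A)
    have h' : ((FEt.restrict f).map φ₁).left = ((FEt.restrict f).map φ₂).left :=
      congrArg (fun t => t.left) h
    have h1 := congrArg (· ≫ pullback.fst B.hom f) h'
    have e1 : ((FEt.restrict f).map φ₁).left ≫ pullback.fst B.hom f =
        pullback.fst A.hom f ≫ φ₁.left := pullback.lift_fst _ _ _
    have e2 : ((FEt.restrict f).map φ₂).left ≫ pullback.fst B.hom f =
        pullback.fst A.hom f ≫ φ₂.left := pullback.lift_fst _ _ _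
    apply MorphismProperty.Over.Hom.ext
    exact eq_of_surjective_comp B.hom φ₁.left φ₂.left
      (by rw [MorphismProperty.Over.w, MorphismProperty.Over.w])
      (pullback.fst A.hom f) (e1.symm.trans (h1.trans e2))

end Groth.Agent.Helper7.TopInv
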