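import Mathlib

/-! helper7: limits in the category of topological commutative rings. -/

namespace Groth.Agent.Helper7.TopRingLim
open CategoryTheory CategoryTheory.Limits
universe u
variable {J : Type u} [SmallCategory J] (F : J ⥤ TopCommRingCat.{u})

/-- compatible families as a subring of the product -/
def sec : Subring (∀ j, F.obj j) where
  carrier := {x | ∀ (i j : J) (f : i ⟶ j), (F.map f).1 (x i) = x j}
  mul_mem' := by
    intro a b ha hb i j f
    simp only [Pi.mul_apply, map_mul]
    rw [ha i j f, hb i j f]
  one_mem' := by
    intro i j f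
    simp
  add_mem' := by
    intro a b ha hb i j f
    simp only [Pi.add_apply, map_add]
    rw [ha i j f, hb i j f]
  zero_mem' := by
    intro i j f
    simp
  neg_mem' := by
    intro a ha i j f
    simp only [Pi.neg_apply, map_neg]
    rw [ha i j f]

/-- the limit cone -/
def cone : Cone F where
  pt := TopCommRingCat.of (sec F)
  π :=
    { app := fun j => ⟨(Pi.evalRingHom (fun j => F.obj j) j).comp (sec F).subtype,
        (continuous_apply j).comp continuous_subtype_val⟩
      naturality := by
        intro i j f
        apply Subtype.ext
        ext x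
        exact (x.2 i j f).symm }

/-- the lift -/
def lift (s : Cone F) : s.pt ⟶ (cone F).pt :=
  ⟨RingHom.codRestrict (RingHom.pi fun j => (s.π.app j).1) (sec F) (by
      intro x i j f
      have := s.w f
      have h2 := congrArg (fun g => g.1 x) this
      exact h2),
    Continuous.subtype_mk (continuous_pi fun j => (s.π.app j).2) _⟩

/-- the cone is a limit -/
def isLimit : IsLimit (cone F) where
  lift := lift F
  fac := by
    intro s j
    apply Subtype.ext
    ext x
    rfl
  uniq := by
    intro s m hm
    apply Subtype.ext
    ext x
    apply Subtype.ext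
    funext j
    have := congrArg (fun g => g.1 x) (hm j)
    exact this

lemma compat_top (s : Cone (F ⋙ forget₂ TopCommRingCat.{u} TopCat.{u})) (x : s.pt) :
    (fun j => (s.π.app j) x : ∀ j, F.obj j) ∈ sec F := by
  intro i j f
  have := s.w f
  have h2 := congrArg (fun g => g.hom x) this
  exact h2

/-- the lift in `TopCat` -/
def liftTop (s : Cone (F ⋙ forget₂ TopCommRingCat.{u} TopCat.{u})) :
    s.pt ⟶ ((forget₂ TopCommRingCat.{u} TopCat.{u}).mapCone (cone F)).pt :=
  TopCat.ofHom ⟨fun x => (⟨fun j => (s.π.app j) x, compat_top F s x⟩ : sec F),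
    Continuous.subtype_mk (continuous_pi fun j => (s.π.app j).hom.2) _⟩

/-- the image cone in `TopCat` is a limit -/
def isLimitTop : IsLimit ((forget₂ TopCommRingCat.{u} TopCat.{u}).mapCone (cone F)) where
  lift s := liftTop F s
  fac := by
    intro s j
    ext x
    rfl
  uniq := by
    intro s m hm
    ext x
    apply Subtype.ext
    funext j
    have := congrArg (fun g => g.hom x) (hm j)
    exact this

/-- the image cone in `CommRingCat` is a limit -/
def isLimitRing : IsLimit ((forget₂ TopCommRingCat.{u} CommRingCat.{u}).mapCone (cone F)) where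
  lift s := CommRingCat.ofHom (RingHom.codRestrict (RingHom.pi fun j => (s.π.app j).hom) (sec F) (by
      intro x i j f
      have := s.w f
      have h2 := congrArg (fun g => g.hom x) this
      exact h2))
  fac := by
    intro s j
    ext x
    rfl
  uniq := by
    intro s m hm
    ext x
    apply Subtype.ext
    funext j
    have := congrArg (fun g => g.hom x) (hm j)
    exact this

theorem hasLimits : HasLimits TopCommRingCat.{u} :=
  ⟨fun _ _ => ⟨fun F => HasLimit.mk ⟨cone F, isLimit F⟩⟩⟩

theorem preservesLimits_top : PreservesLimits (forget₂ TopCommRingCat.{u} TopCat.{u}) :=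
  ⟨⟨fun {F} => preservesLimit_of_preserves_limit_cone (isLimit F) (isLimitTop F)⟩⟩

theorem preservesLimits_ring : PreservesLimits (forget₂ TopCommRingCat.{u} CommRingCat.{u}) :=
  ⟨⟨fun {F} => preservesLimit_of_preserves_limit_cone (isLimit F) (isLimitRing F)⟩⟩

end Groth.Agent.Helper7.TopRingLim
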