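import Mathlib
import Groth.Agent.Lib.Helper7.UHSch3

/-! helper7: universal homeomorphisms descend along quasi-compact flat surjective morphisms. -/

namespace Groth.Agent.Helper7.UHSch
open AlgebraicGeometry CategoryTheory Limits MorphismProperty
universe u

theorem isUnivHomeo_eq : (FlatMor.IsUnivHomeo : MorphismProperty Scheme.{u}) =
    ((@UniversallyClosed ⊓ @UniversallyInjective ⊓ @Surjective : MorphismProperty Scheme.{u})) := by
  ext X Y f
  constructor
  · intro h
    exact ⟨⟨Groth.Agent.Helper9.UH.universallyClosed_of_isUnivHomeo f h,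
      Groth.Agent.Helper9.UH.universallyInjective_of_isUnivHomeo f h⟩,
      surjective_of_isUnivHomeo f h⟩
  · rintro ⟨⟨h1, h2⟩, h3⟩
    have : UniversallyClosed f := h1
    have : UniversallyInjective f := h2
    have : Surjective f := h3
    exact Groth.Agent.Helper9.UH.isUnivHomeo_of f

theorem main1126 : MorphismProperty.DescendsAlong (FlatMor.IsUnivHomeo.{u})
    (@Surjective ⊓ @Flat ⊓ @QuasiCompact : MorphismProperty Scheme.{u}) := by
  rw [isUnivHomeo_eq]
  infer_instance

end Groth.Agent.Helper7.UHSch
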