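import Mathlib
import Groth.Agent.Lib.Helper7.FPCrit

/-! helper7: integral extensions of integrally closed domains with purely inseparable fraction
field extension induce universal homeomorphisms. -/

namespace Groth.Agent.Helper7.UHSch
open AlgebraicGeometry CategoryTheory Limits MorphismProperty
open Groth.Agent.Helper7.FPColim
universe u

theorem main17689
    (R S K L : Type u) [CommRing R] [IsDomain R] [IsIntegrallyClosed R]
    [CommRing S] [IsDomain S] [Algebra R S] [Algebra.IsIntegral R S] [FaithfulSMul R S]
    [Field K] [Field L] [Algebra R K] [IsFractionRing R K] [Algebra S L] [IsFractionRing S L]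
    [Algebra K L] [Algebra R L] [IsScalarTower R S L] [IsScalarTower R K L] [IsPurelyInseparable K L] :
    FlatMor.IsUnivHomeo (Spec.map (CommRingCat.ofHom (algebraMap R S))) := by
  rw [uh_iff_crit]
  have hinj : Function.Injective (algebraMap R S) := FaithfulSMul.algebraMap_injective R S
  have hSL : Function.Injective (algebraMap S L) := IsFractionRing.injective S L
  refine ⟨⟨algebraMap_isIntegral_iff.mpr inferInstance, ?_⟩, ?_⟩
  · intro F _ ψ ψ' h
    obtain ⟨q, hq⟩ := ExpChar.exists K
    have key : ∀ s : S, ∃ (n : ℕ) (r : R), s ^ q ^ n = algebraMap R S r := by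
      intro s
      obtain ⟨n, y, hy⟩ := IsPurelyInseparable.pow_mem K q (algebraMap S L s)
      have hint : IsIntegral R y := by
        have h1 : IsIntegral R (algebraMap S L (s ^ q ^ n)) :=
          (Algebra.IsIntegral.isIntegral (R := R) (s ^ q ^ n)).algebraMap
        rw [map_pow, ← hy] at h1
        exact (isIntegral_algebraMap_iff (algebraMap K L).injective).mp h1
      obtain ⟨r, hr⟩ := IsIntegrallyClosed.algebraMap_eq_of_integral hint
      refine ⟨n, r, hSL ?_⟩
      rw [map_pow, ← hy, ← hr, ← IsScalarTower.algebraMap_apply, ← IsScalarTower.algebraMap_apply]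
    ext s
    obtain ⟨n, r, hs⟩ := key s
    have e : ψ s ^ q ^ n = ψ' s ^ q ^ n := by
      rw [← map_pow, ← map_pow, hs]
      exact congrArg (fun f => f r) h
    cases hq with
    | zero => simpa using e
    | prime hp =>
      have hK : (q : K) = 0 := CharP.cast_eq_zero K q
      have hR : (q : R) = 0 := by
        apply IsFractionRing.injective R K
        rw [map_natCast, map_zero, hK]
      have hF : (q : F) = 0 := by
        have := congrArg (fun x => ψ (algebraMap R S x)) hR
        simpa using this
      have : CharP F q := (CharP.charP_iff_prime_eq_zero hp).2 hF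
      have : Fact q.Prime := ⟨hp⟩
      exact iterateFrobenius_inj F q n e
  · rw [(RingHom.injective_iff_ker_eq_bot _).mp hinj]
    exact bot_le

end Groth.Agent.Helper7.UHSch
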