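import Mathlib
import Groth.Prelude.Def_Omega3
import Groth.Agent.Lib.Helper7.ThickSch4

set_option autoImplicit false
set_option linter.style.haveILetI false
set_option linter.unusedVariables false
universe u

open AlgebraicGeometry CategoryTheory Limits

/-! helper7: universal first order thickenings, formal properties (S9733, S9740, S9741). -/

namespace Groth.Agent.Helper7.UnivThick

open Groth.Agent.Helper7.ThickSch

lemma isFirstOrderThickening_left {X X' Y Y' : Scheme.{u}} {iX : X ⟶ X'} {iY : Y ⟶ Y'}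
    {f : X ⟶ Y} {f' : X' ⟶ Y'}
    (hY : MoreMor.IsFirstOrderThickening iY) (hc : IsPullback iX f f' iY) :
    MoreMor.IsFirstOrderThickening iX := by
  obtain ⟨⟨hcl, hsurj⟩, hsq⟩ := hY
  haveI := hcl
  refine ⟨⟨isClosedImmersion_left hc, surjective_left hc hsurj⟩, ?_⟩
  have := ker_pow_eq_bot_of_isPullback hc 2 (by rw [pow_two]; exact hsq)
  rw [pow_two] at this
  exact this

set_option backward.isDefEq.respectTransparency false in
lemma isFirstOrderThickening_of_comp {A B C : Scheme.{u}} (p : A ⟶ B) (v : B ⟶ C)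
    (hv : MoreMor.IsFirstOrderThickening v) (hpv : MoreMor.IsFirstOrderThickening (p ≫ v)) :
    MoreMor.IsFirstOrderThickening p := by
  obtain ⟨⟨hvcl, hvs⟩, hvsq⟩ := hv
  obtain ⟨⟨hpvcl, hpvs⟩, hpvsq⟩ := hpv
  haveI := hvcl
  haveI := hpvcl
  haveI : IsClosedImmersion p := IsClosedImmersion.of_comp_isClosedImmersion p v
  refine ⟨⟨inferInstance, ?_⟩, ?_⟩
  · constructor
    intro y
    obtain ⟨x, hx⟩ := hpvs.surj (v.base y)
    refine ⟨x, ?_⟩
    apply v.isClosedEmbedding.injective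
    rw [← hx]
    rfl
  · refine Scheme.IdealSheafData.ext_of_iSup_eq_top (ι := C.affineOpens)
      (fun W => ⟨v ⁻¹ᵁ W.1, W.2.preimage v⟩) ?_ ?_
    · rw [eq_top_iff]
      intro y _
      obtain ⟨_, ⟨W, hW, rfl⟩, hyW, -⟩ :=
        C.isBasis_affineOpens.exists_subset_of_mem_open (Set.mem_univ (v.base y)) isOpen_univ
      exact TopologicalSpace.Opens.mem_iSup.mpr ⟨⟨W, hW⟩, hyW⟩
    · rintro ⟨W, hW⟩
      simp only [Scheme.IdealSheafData.ideal_mul, Scheme.IdealSheafData.ideal_bot, Pi.bot_apply,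
        Pi.mul_apply]
      rw [eq_bot_iff, Ideal.mul_le]
      intro x hx y hy
      rw [Scheme.Hom.ker_apply, RingHom.mem_ker] at hx hy
      obtain ⟨x', rfl⟩ := v.app_surjective W hW x
      obtain ⟨y', rfl⟩ := v.app_surjective W hW y
      have hx' : x' ∈ (p ≫ v).ker.ideal ⟨W, hW⟩ := by
        rw [Scheme.Hom.ker_apply, RingHom.mem_ker, Scheme.Hom.comp_app]
        exact hx
      have hy' : y' ∈ (p ≫ v).ker.ideal ⟨W, hW⟩ := by
        rw [Scheme.Hom.ker_apply, RingHom.mem_ker, Scheme.Hom.comp_app]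
        exact hy
      have hxy : x' * y' ∈ ((p ≫ v).ker * (p ≫ v).ker).ideal ⟨W, hW⟩ := by
        rw [Scheme.IdealSheafData.ideal_mul]
        exact Ideal.mul_mem_mul hx' hy'
      rw [hpvsq] at hxy
      have h0 : x' * y' = 0 := hxy
      rw [Ideal.mem_bot, ← map_mul, h0, map_zero]

set_option backward.isDefEq.respectTransparency false in
theorem S9733_main {Z X W Y W' : Scheme.{u}} (h : Z ⟶ X) (f : Z ⟶ W) (g : X ⟶ Y) (h' : W ⟶ Y)
    (hc : IsPullback h f g h') (j : W ⟶ W') (k : W' ⟶ Y) (hu : OmegaSh.IsUnivThickening h' j k)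
    (e : h ≫ g = (f ≫ j) ≫ k) :
    OmegaSh.IsUnivThickening h (pullback.lift h (f ≫ j) e) (pullback.fst g k) := by
  obtain ⟨hj, hjk, huniv⟩ := hu
  refine ⟨?_, pullback.lift_fst _ _ _, ?_⟩
  · have hbig : IsPullback (pullback.lift h (f ≫ j) e ≫ pullback.fst g k) f g (j ≫ k) := by
      rw [pullback.lift_fst, hjk]; exact hc
    have hpb : IsPullback (pullback.lift h (f ≫ j) e) f (pullback.snd g k) j :=
      IsPullback.of_right hbig (pullback.lift_snd _ _ _) (IsPullback.of_hasPullback g k)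
    exact isFirstOrderThickening_left hj hpb
  · intro T T' t b a ht hw
    have hw' : t ≫ (b ≫ g) = (a ≫ f) ≫ h' := by
      rw [← Category.assoc, hw, Category.assoc, Category.assoc, hc.w]
    obtain ⟨c, ⟨hc1, hc2⟩, hcu⟩ := huniv T T' t (b ≫ g) (a ≫ f) ht hw'
    refine ⟨pullback.lift b c hc2.symm, ⟨?_, pullback.lift_fst _ _ _⟩, ?_⟩
    · apply pullback.hom_ext
      · simp only [Category.assoc, pullback.lift_fst]; exact hw
      · simp only [Category.assoc, pullback.lift_snd]; exact hc1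
    · rintro a'' ⟨h1, h2⟩
      have hc'' : a'' ≫ pullback.snd g k = c := by
        apply hcu
        constructor
        · rw [← Category.assoc, h1, Category.assoc, pullback.lift_snd, Category.assoc]
        · rw [Category.assoc, ← pullback.condition, ← Category.assoc, h2]
      apply pullback.hom_ext
      · rw [h2, pullback.lift_fst]
      · rw [hc'', pullback.lift_snd]

set_option backward.isDefEq.respectTransparency false in
theorem S9741_main {Z Y X Z' Y' : Scheme.{u}} (a : Z ⟶ Y) (b : Y ⟶ X)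
    (i : Z ⟶ Z') (c : Z' ⟶ X) (hZ : OmegaSh.IsUnivThickening (a ≫ b) i c)
    (j : Y ⟶ Y') (d : Y' ⟶ X) (hY : OmegaSh.IsUnivThickening b j d) :
    ∃ (m : Z' ⟶ Y') (hm : i ≫ m = a ≫ j), m ≫ d = c ∧
      OmegaSh.IsUnivThickening a (pullback.lift a i hm.symm) (pullback.fst j m) := by
  obtain ⟨hi, hic, hZu⟩ := hZ
  obtain ⟨hj, hjd, hYu⟩ := hY
  obtain ⟨m, ⟨hm1, hm2⟩, -⟩ := hYu Z Z' i c a hi hic
  refine ⟨m, hm1, hm2, ?_, pullback.lift_fst _ _ _, ?_⟩
  · have hsnd : MoreMor.IsFirstOrderThickening (pullback.snd j m) :=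
      isFirstOrderThickening_left hj (IsPullback.of_hasPullback j m).flip
    refine isFirstOrderThickening_of_comp _ (pullback.snd j m) hsnd ?_
    rw [pullback.lift_snd]
    exact hi
  · intro T T' t β α ht hw
    have hw1 : t ≫ (β ≫ b) = α ≫ (a ≫ b) := by
      rw [← Category.assoc, hw, Category.assoc]
    obtain ⟨γ, ⟨hγ1, hγ2⟩, hγu⟩ := hZu T T' t (β ≫ b) α ht hw1
    have hw2 : t ≫ (β ≫ b) = (α ≫ a) ≫ b := by
      rw [hw1, Category.assoc]
    obtain ⟨δ, -, hδu⟩ := hYu T T' t (β ≫ b) (α ≫ a) ht hw2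
    have e1 : β ≫ j = δ := by
      apply hδu
      constructor
      · rw [← Category.assoc, hw, Category.assoc]
      · rw [Category.assoc, hjd]
    have e2 : γ ≫ m = δ := by
      apply hδu
      constructor
      · rw [← Category.assoc, hγ1, Category.assoc, hm1, Category.assoc]
      · rw [Category.assoc, hm2, hγ2]
    have e : β ≫ j = γ ≫ m := e1.trans e2.symm
    refine ⟨pullback.lift β γ e, ⟨?_, pullback.lift_fst _ _ _⟩, ?_⟩
    · apply pullback.hom_ext
      · simp only [Category.assoc, pullback.lift_fst]; exact hw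
      · simp only [Category.assoc, pullback.lift_snd]; exact hγ1
    · rintro α'' ⟨h1, h2⟩
      have hγ'' : α'' ≫ pullback.snd j m = γ := by
        apply hγu
        constructor
        · rw [← Category.assoc, h1, Category.assoc, pullback.lift_snd]
        · rw [← hm2, Category.assoc, ← Category.assoc (pullback.snd j m), ← pullback.condition,
            Category.assoc, hjd, ← Category.assoc, h2]
      apply pullback.hom_ext
      · rw [h2, pullback.lift_fst]
      · rw [hγ'', pullback.lift_snd]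

set_option backward.isDefEq.respectTransparency false in
theorem S9740_main {Z Z' X : Scheme.{u}} (h : Z ⟶ X) (i : Z ⟶ Z') (h' : Z' ⟶ X)
    (hu : OmegaSh.IsUnivThickening h i h') (V : Z.Opens) (U : X.Opens) (hVU : V ≤ h ⁻¹ᵁ U)
    (V' : Z'.Opens) (hV' : i ⁻¹ᵁ V' = V) (hV'U : V' ≤ h' ⁻¹ᵁ U) :
    OmegaSh.IsUnivThickening (h.resLE U V hVU) (i.resLE V' V hV'.ge) (h'.resLE U V' hV'U) := by
  obtain ⟨hi, rfl, huniv⟩ := hu
  subst hV'
  refine ⟨?_, ?_, ?_⟩
  · rw [Scheme.Hom.resLE_eq_morphismRestrict]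
    exact isFirstOrderThickening_left hi (isPullback_morphismRestrict i V')
  · rw [Scheme.Hom.resLE_comp_resLE]
  · intro T T' t b a ht hw
    have hts : Surjective t := ht.1.2
    have hw' : t ≫ (b ≫ U.ι) = (a ≫ (i ⁻¹ᵁ V').ι) ≫ (i ≫ h') := by
      rw [← Category.assoc, hw, Category.assoc, Scheme.Hom.resLE_comp_ι, Category.assoc]
    obtain ⟨a₀, ⟨ha1, ha2⟩, hau⟩ := huniv T T' t (b ≫ U.ι) (a ≫ (i ⁻¹ᵁ V').ι) ht hw'
    have hrange : Set.range a₀.base ⊆ Set.range V'.ι.base := by
      rw [Scheme.Opens.range_ι]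
      rintro _ ⟨y, rfl⟩
      obtain ⟨x, rfl⟩ := hts.surj y
      have h1 : a₀.base (t.base x) = i.base ((i ⁻¹ᵁ V').ι.base (a.base x)) := by
        have := congrArg (fun g => g.base x) ha1
        exact this
      rw [h1]
      have h2 : (i ⁻¹ᵁ V').ι.base (a.base x) ∈ i ⁻¹ᵁ V' := by
        have : (i ⁻¹ᵁ V').ι.base (a.base x) ∈ Set.range (i ⁻¹ᵁ V').ι.base := ⟨_, rfl⟩
        rw [Scheme.Opens.range_ι] at this
        exact this
      exact h2
    refine ⟨IsOpenImmersion.lift V'.ι a₀ hrange, ⟨?_, ?_⟩, ?_⟩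
    · rw [← cancel_mono V'.ι, Category.assoc, IsOpenImmersion.lift_fac, Category.assoc,
        Scheme.Hom.resLE_comp_ι, ha1, Category.assoc]
    · rw [← cancel_mono U.ι, Category.assoc, Scheme.Hom.resLE_comp_ι, ← Category.assoc,
        IsOpenImmersion.lift_fac, ha2]
    · rintro a'' ⟨h1, h2⟩
      rw [← cancel_mono V'.ι, IsOpenImmersion.lift_fac]
      apply hau
      constructor
      · rw [← Category.assoc, h1, Category.assoc, Scheme.Hom.resLE_comp_ι, Category.assoc]
      · rw [Category.assoc, ← Scheme.Hom.resLE_comp_ι h' hV'U, ← Category.assoc, h2]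

end Groth.Agent.Helper7.UnivThick
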