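import Mathlib
import Groth.Prelude.Def_Omega3
import Groth.Agent.Lib.Helper7.UnivThick

set_option autoImplicit false
set_option linter.style.haveILetI false
set_option linter.unusedVariables false
universe u

open AlgebraicGeometry CategoryTheory Limits

/-! helper7: the structure morphism of a universal first order thickening is formally unramified (S9732). -/

namespace Groth.Agent.Helper7.UnivThick

section RingLemma

variable {R S' : Type u} [CommRing R] [CommRing S'] [Algebra R S'] (J : Ideal S')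

/-- if lifts of maps out of `S'/J` to square zero extensions are unique, `S'` is formally
unramified over `R` (for `J` of square zero). -/
theorem formallyUnramified_of_unique_lifts (hJ : J * J = ⊥)
    (U : ∀ (B : Type u) [CommRing B] [Algebra R B] (L : Ideal B), L ^ 2 = ⊥ →
      ∀ α₁ α₂ : S' →ₐ[R] B, (∀ x ∈ J, α₁ x ∈ L) → (∀ s, α₁ s - α₂ s ∈ L) → α₁ = α₂) :
    Algebra.FormallyUnramified R S' := by
  rw [Algebra.FormallyUnramified.iff_comp_injective]
  intro B _ _ I hI α₁ α₂ h12
  have hdiff : ∀ s, α₁ s - α₂ s ∈ I := by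
    intro s
    have := congrArg (fun φ : S' →ₐ[R] B ⧸ I => φ s) h12
    simp only [AlgHom.comp_apply, Ideal.Quotient.mkₐ_eq_mk] at this
    exact Ideal.Quotient.eq.mp this
  have hII : I * I = ⊥ := by rw [← pow_two]; exact hI
  set J' : Ideal B := J.map α₁.toRingHom with hJ'
  have hJJ : J' * J' = ⊥ := by
    rw [hJ', ← Ideal.map_mul, hJ, Ideal.map_bot]
  have hmemJ' : ∀ x ∈ J, α₁ x ∈ J' := fun x hx => Ideal.mem_map_of_mem α₁.toRingHom hx
  -- step 1
  have hN2 : (I ⊔ J') ^ 2 ≤ I * J' := by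
    rw [pow_two, Ideal.sup_mul, Ideal.mul_sup, Ideal.mul_sup, hII, hJJ, bot_sup_eq, sup_bot_eq]
    refine sup_le le_rfl ?_
    rw [mul_comm]
  have step1 : ∀ s, α₁ s - α₂ s ∈ (I ⊔ J') ^ 2 := by
    have := U (B ⧸ (I ⊔ J') ^ 2) ((I ⊔ J').map (Ideal.Quotient.mk ((I ⊔ J') ^ 2)))
      (by rw [← Ideal.map_pow, Ideal.map_quotient_self])
      ((Ideal.Quotient.mkₐ R ((I ⊔ J') ^ 2)).comp α₁) ((Ideal.Quotient.mkₐ R ((I ⊔ J') ^ 2)).comp α₂)
      (fun x hx => Ideal.mem_map_of_mem _ (Ideal.mem_sup_right (hmemJ' x hx)))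
      (fun s => by
        simp only [AlgHom.comp_apply, Ideal.Quotient.mkₐ_eq_mk, ← map_sub]
        exact Ideal.mem_map_of_mem _ (Ideal.mem_sup_left (hdiff s)))
    intro s
    have hs := congrArg (fun φ : S' →ₐ[R] B ⧸ (I ⊔ J') ^ 2 => φ s) this
    simp only [AlgHom.comp_apply, Ideal.Quotient.mkₐ_eq_mk] at hs
    exact Ideal.Quotient.eq.mp hs
  -- step 2
  have hN1 : (I * J' ⊔ J') ^ 2 = ⊥ := by
    rw [pow_two, Ideal.sup_mul, Ideal.mul_sup, Ideal.mul_sup, hJJ, sup_bot_eq, eq_bot_iff]
    have h1 : I * J' * (I * J') ≤ ⊥ := by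
      calc I * J' * (I * J') ≤ I * I := Ideal.mul_mono Ideal.mul_le_left Ideal.mul_le_left
        _ = ⊥ := hII
    have h2 : I * J' * J' ≤ ⊥ := by
      rw [mul_assoc, hJJ, Ideal.mul_bot]
    have h3 : J' * (I * J') ≤ ⊥ := by
      rw [mul_comm, mul_assoc, hJJ, Ideal.mul_bot]
    exact sup_le (sup_le h1 h2) h3
  exact U B (I * J' ⊔ J') hN1 α₁ α₂ (fun x hx => Ideal.mem_sup_right (hmemJ' x hx))
    (fun s => Ideal.mem_sup_left (hN2 (step1 s)))

end RingLemma

section SpecThick

set_option backward.isDefEq.respectTransparency false in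
/-- `Spec (B/L) → Spec B` is a first order thickening when `L² = 0`. -/
theorem isFirstOrderThickening_SpecMap_mk (B : Type u) [CommRing B] (L : Ideal B)
    (hL : L ^ 2 = ⊥) :
    MoreMor.IsFirstOrderThickening
      (Spec.map (CommRingCat.ofHom (Ideal.Quotient.mk L))) := by
  haveI hcl : IsClosedImmersion (Spec.map (CommRingCat.ofHom (Ideal.Quotient.mk L))) :=
    IsClosedImmersion.spec_of_surjective _ Ideal.Quotient.mk_surjective
  have hker : (Spec.map (CommRingCat.ofHom (Ideal.Quotient.mk L))).ker *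
      (Spec.map (CommRingCat.ofHom (Ideal.Quotient.mk L))).ker = ⊥ := by
    apply Scheme.IdealSheafData.ext_of_isAffine
    simp only [Scheme.IdealSheafData.ideal_mul, Scheme.IdealSheafData.ideal_bot, Pi.bot_apply,
      Pi.mul_apply]
    rw [eq_bot_iff, Ideal.mul_le]
    intro x hx y hy
    rw [Scheme.Hom.ker_apply, RingHom.mem_ker] at hx hy
    have nat := Scheme.ΓSpecIso_naturality (CommRingCat.ofHom (Ideal.Quotient.mk L))
    have hx' : (Scheme.ΓSpecIso (CommRingCat.of B)).hom.hom x ∈ L := by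
      have := congrArg (fun φ => φ.hom x) nat
      simp only [CommRingCat.hom_comp, RingHom.comp_apply, CommRingCat.hom_ofHom] at this
      rw [← Ideal.Quotient.eq_zero_iff_mem, ← this]
      have hx0 : (Spec.map (CommRingCat.ofHom (Ideal.Quotient.mk L))).appTop.hom x = 0 := hx
      rw [hx0, map_zero]
    have hy' : (Scheme.ΓSpecIso (CommRingCat.of B)).hom.hom y ∈ L := by
      have := congrArg (fun φ => φ.hom y) nat
      simp only [CommRingCat.hom_comp, RingHom.comp_apply, CommRingCat.hom_ofHom] at this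
      rw [← Ideal.Quotient.eq_zero_iff_mem, ← this]
      have hy0 : (Spec.map (CommRingCat.ofHom (Ideal.Quotient.mk L))).appTop.hom y = 0 := hy
      rw [hy0, map_zero]
    have hxy : (Scheme.ΓSpecIso (CommRingCat.of B)).hom.hom (x * y) ∈ L ^ 2 := by
      rw [map_mul, pow_two]
      exact Ideal.mul_mem_mul hx' hy'
    rw [hL, Ideal.mem_bot] at hxy
    rw [Ideal.mem_bot]
    have hinj : Function.Injective (Scheme.ΓSpecIso (CommRingCat.of B)).hom.hom :=
      (ConcreteCategory.bijective_of_isIso (Scheme.ΓSpecIso (CommRingCat.of B)).hom).1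
    exact hinj (by rw [hxy, map_zero])
  refine ⟨⟨hcl, ?_⟩, hker⟩
  haveI : IsDominant (Spec.map (CommRingCat.ofHom (Ideal.Quotient.mk L))) := by
    rw [isDominant_iff, denseRange_iff_closure_range, ← Scheme.Hom.support_ker,
      ← Scheme.IdealSheafData.support_pow _ 2 (by simp), pow_two, hker]
    simp
  constructor
  intro y
  have hr : Set.range (Spec.map (CommRingCat.ofHom (Ideal.Quotient.mk L))).base = Set.univ := by
    have h1 := (Spec.map (CommRingCat.ofHom (Ideal.Quotient.mk L))).isClosedEmbedding.isClosed_range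
    have h2 := (Spec.map (CommRingCat.ofHom (Ideal.Quotient.mk L))).denseRange
    rw [← h1.closure_eq]
    exact h2.closure_range
  have : y ∈ Set.range (Spec.map (CommRingCat.ofHom (Ideal.Quotient.mk L))).base := by
    rw [hr]; trivial
  exact this

end SpecThick

set_option backward.isDefEq.respectTransparency false in
theorem formallyUnramified_appTop_of_isUnivThickening {Z Z' X : Scheme.{u}} [IsAffine Z]
    [IsAffine Z'] [IsAffine X] (h : Z ⟶ X) (i : Z ⟶ Z') (h' : Z' ⟶ X)
    (hu : OmegaSh.IsUnivThickening h i h') : h'.appTop.hom.FormallyUnramified := by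
  obtain ⟨⟨⟨hcl, hsurj⟩, hsq⟩, hih, huniv⟩ := hu
  haveI := hcl
  letI := h'.appTop.hom.toAlgebra
  show Algebra.FormallyUnramified Γ(X, ⊤) Γ(Z', ⊤)
  refine formallyUnramified_of_unique_lifts (RingHom.ker i.appTop.hom) ?_ ?_
  · have := congrArg (fun I => I.ideal ⟨⊤, isAffineOpen_top Z'⟩) hsq
    simp only [Scheme.IdealSheafData.ideal_mul, Scheme.IdealSheafData.ideal_bot, Pi.bot_apply,
      Pi.mul_apply] at this
    rw [Scheme.Hom.ker_apply] at this
    exact this
  · intro B _ _ L hL α₁ α₂ hJ hdiff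
    have ht := isFirstOrderThickening_SpecMap_mk B L hL
    have hπ : Function.Surjective i.appTop.hom := i.app_surjective ⊤ (isAffineOpen_top _)
    have hker : RingHom.ker i.appTop.hom ≤
        RingHom.ker ((Ideal.Quotient.mk L).comp α₁.toRingHom) := by
      intro x hx
      rw [RingHom.mem_ker, RingHom.comp_apply, Ideal.Quotient.eq_zero_iff_mem]
      exact hJ x hx
    have hā : (RingHom.liftOfSurjective i.appTop.hom hπ
        ⟨(Ideal.Quotient.mk L).comp α₁.toRingHom, hker⟩).comp i.appTop.hom =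
        (Ideal.Quotient.mk L).comp α₁.toRingHom :=
      RingHom.liftOfSurjective_comp _ hπ _
    have h12 : (Ideal.Quotient.mk L).comp α₂.toRingHom =
        (Ideal.Quotient.mk L).comp α₁.toRingHom := by
      ext s
      simp only [RingHom.comp_apply]
      exact (Ideal.Quotient.eq.mpr (hdiff s)).symm
    have e1 : Spec.map (CommRingCat.ofHom (Ideal.Quotient.mk L)) ≫
        (Spec.map (CommRingCat.ofHom α₁.toRingHom) ≫ Z'.isoSpec.inv) =
        (Spec.map (CommRingCat.ofHom (RingHom.liftOfSurjective i.appTop.hom hπ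
          ⟨(Ideal.Quotient.mk L).comp α₁.toRingHom, hker⟩)) ≫ Z.isoSpec.inv) ≫ i := by
      rw [Category.assoc, ← Scheme.isoSpec_inv_naturality, ← Category.assoc, ← Category.assoc,
        ← Spec.map_comp, ← Spec.map_comp]
      congr 2
      ext s
      exact (congrArg (fun φ => φ s) hā).symm
    have e2 : Spec.map (CommRingCat.ofHom (Ideal.Quotient.mk L)) ≫
        (Spec.map (CommRingCat.ofHom α₂.toRingHom) ≫ Z'.isoSpec.inv) =
        (Spec.map (CommRingCat.ofHom (RingHom.liftOfSurjective i.appTop.hom hπ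
          ⟨(Ideal.Quotient.mk L).comp α₁.toRingHom, hker⟩)) ≫ Z.isoSpec.inv) ≫ i := by
      rw [← e1, ← Category.assoc, ← Category.assoc, ← Spec.map_comp, ← Spec.map_comp]
      congr 2
      ext s
      exact congrArg (fun φ => φ s) h12
    have e3 : (Spec.map (CommRingCat.ofHom α₂.toRingHom) ≫ Z'.isoSpec.inv) ≫ h' =
        (Spec.map (CommRingCat.ofHom α₁.toRingHom) ≫ Z'.isoSpec.inv) ≫ h' := by
      rw [Category.assoc, Category.assoc, ← Scheme.isoSpec_inv_naturality, ← Category.assoc,
        ← Category.assoc, ← Spec.map_comp, ← Spec.map_comp]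
      congr 2
      ext r
      exact (α₂.commutes r).trans (α₁.commutes r).symm
    have hw : Spec.map (CommRingCat.ofHom (Ideal.Quotient.mk L)) ≫
        ((Spec.map (CommRingCat.ofHom α₁.toRingHom) ≫ Z'.isoSpec.inv) ≫ h') =
        (Spec.map (CommRingCat.ofHom (RingHom.liftOfSurjective i.appTop.hom hπ
          ⟨(Ideal.Quotient.mk L).comp α₁.toRingHom, hker⟩)) ≫ Z.isoSpec.inv) ≫ h := by
      rw [← hih, ← Category.assoc, e1, Category.assoc]
    obtain ⟨c, _, hcu⟩ := huniv _ _ _ _ _ ht hw
    have hg : Spec.map (CommRingCat.ofHom α₁.toRingHom) ≫ Z'.isoSpec.inv =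
        Spec.map (CommRingCat.ofHom α₂.toRingHom) ≫ Z'.isoSpec.inv :=
      (hcu _ ⟨e1, rfl⟩).trans (hcu _ ⟨e2, e3⟩).symm
    rw [cancel_mono] at hg
    have h4 := Spec.map_injective hg
    ext s
    exact congrArg (fun φ => φ.hom s) h4

set_option backward.isDefEq.respectTransparency false in
theorem S9732_main {Z Z' X : Scheme.{u}} (h : Z ⟶ X) (i : Z ⟶ Z') (h' : Z' ⟶ X)
    (hu : OmegaSh.IsUnivThickening h i h') : FormallyUnramified h' := by
  rw [HasRingHomProperty.iff_appLE (P := @FormallyUnramified)]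
  intro U V' e
  haveI : IsClosedImmersion i := hu.1.1.1
  have hVU : i ⁻¹ᵁ V'.1 ≤ h ⁻¹ᵁ U.1 := by
    intro x hx
    have h1 : h'.base (i.base x) ∈ U.1 := e hx
    have h2 : h.base x = h'.base (i.base x) := by
      have := congrArg (fun g => g.base x) hu.2.1
      exact this.symm
    show h.base x ∈ U.1
    rw [h2]
    exact h1
  have hu' := S9740_main h i h' hu (i ⁻¹ᵁ V'.1) U.1 hVU V'.1 rfl e
  haveI : IsAffine (U.1 : Scheme.{u}) := U.2
  haveI : IsAffine (V'.1 : Scheme.{u}) := V'.2
  haveI : IsAffine ((i ⁻¹ᵁ V'.1 : Z.Opens) : Scheme.{u}) := V'.2.preimage i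
  have key := formallyUnramified_appTop_of_isUnivThickening _ _ _ hu'
  exact (RingHom.FormallyUnramified.respectsIso.arrow_mk_iso_iff
    (arrowResLEAppIso h' U.1 V'.1 e)).mp key

end Groth.Agent.Helper7.UnivThick
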