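import Mathlib
import Groth.Prelude.Def_Omega3
import Groth.Agent.Lib.Helper7.UnivThick

set_option autoImplicit false
set_option linter.style.haveILetI false
set_option linter.unusedVariables false
universe u

open AlgebraicGeometry CategoryTheory Limits

/-! helper7: the first order infinitesimal neighbourhood of an immersion is a universal first order thickening (S12456). -/

namespace Groth.Agent.Helper7.UnivThick

set_option backward.isDefEq.respectTransparency false in
/-- sections killed by a square zero thickening multiply to zero. -/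
lemma mul_eq_zero_of_app_eq_zero {T T' : Scheme.{u}} (t : T ⟶ T') [QuasiCompact t]
    (ht : t.ker * t.ker = ⊥) (O : T'.Opens) (a b : Γ(T', O))
    (ha : (t.app O).hom a = 0) (hb : (t.app O).hom b = 0) : a * b = 0 := by
  refine TopCat.Sheaf.eq_of_locally_eq' T'.sheaf
    (fun W : {W : T'.affineOpens // W.1 ≤ O} => W.1.1) O (fun W => homOfLE W.2) ?_ _ _ ?_
  · intro x hx
    obtain ⟨_, ⟨W, hW, rfl⟩, hxW, hWO⟩ :=
      T'.isBasis_affineOpens.exists_subset_of_mem_open hx O.isOpen
    exact TopologicalSpace.Opens.mem_iSup.mpr ⟨⟨⟨W, hW⟩, hWO⟩, hxW⟩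
  · rintro ⟨W, hWO⟩
    have key : ∀ c : Γ(T', O), (t.app O).hom c = 0 →
        (T'.presheaf.map (homOfLE hWO).op).hom c ∈ t.ker.ideal W := by
      intro c hc
      rw [Scheme.Hom.ker_apply, RingHom.mem_ker]
      have nat := t.naturality (homOfLE hWO).op
      have := congrArg (fun φ => φ.hom c) nat
      simp only [CommRingCat.hom_comp, RingHom.comp_apply] at this
      rw [this, hc, map_zero]
    have h1 := Ideal.mul_mem_mul (key a ha) (key b hb)
    have h2 : (T'.presheaf.map (homOfLE hWO).op).hom a * (T'.presheaf.map (homOfLE hWO).op).hom b ∈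
        (t.ker * t.ker).ideal W := h1
    rw [ht] at h2
    have h3 : (T'.presheaf.map (homOfLE hWO).op).hom a *
        (T'.presheaf.map (homOfLE hWO).op).hom b = 0 := h2
    show (T'.presheaf.map (homOfLE hWO).op).hom (a * b) = (T'.presheaf.map (homOfLE hWO).op).hom 0
    rw [map_mul, h3, map_zero]

set_option backward.isDefEq.respectTransparency false in
lemma mul_le_ker_of_le_ker_comp {T T' U : Scheme.{u}} (t : T ⟶ T') [QuasiCompact t]
    (ht : t.ker * t.ker = ⊥) (b : T' ⟶ U) (I : U.IdealSheafData) (hI : I ≤ (t ≫ b).ker) :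
    I * I ≤ b.ker := by
  unfold Scheme.Hom.ker
  rw [Scheme.IdealSheafData.le_ofIdeals_iff]
  intro W
  simp only [Scheme.IdealSheafData.ideal_mul, Pi.mul_apply]
  rw [Ideal.mul_le]
  intro x hx y hy
  rw [RingHom.mem_ker, map_mul]
  have hx' : ((t ≫ b).app W).hom x = 0 := (t ≫ b).ideal_ker_le W (hI W hx)
  have hy' : ((t ≫ b).app W).hom y = 0 := (t ≫ b).ideal_ker_le W (hI W hy)
  rw [Scheme.Hom.comp_app] at hx' hy'
  exact mul_eq_zero_of_app_eq_zero t ht _ _ _ hx' hy'

set_option backward.isDefEq.respectTransparency false in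
lemma ker_mul_ker_eq_bot_of_comp {A B C : Scheme.{u}} (p : A ⟶ B) (v : B ⟶ C)
    [IsClosedImmersion v] [IsClosedImmersion (p ≫ v)] [QuasiCompact p]
    (H : (p ≫ v).ker * (p ≫ v).ker ≤ v.ker) : p.ker * p.ker = ⊥ := by
  refine Scheme.IdealSheafData.ext_of_iSup_eq_top (ι := C.affineOpens)
    (fun W => ⟨v ⁻¹ᵁ W.1, W.2.preimage v⟩) ?_ ?_
  · rw [eq_top_iff]
    intro y _
    obtain ⟨_, ⟨W, hW, rfl⟩, hyW, -⟩ :=
      C.isBasis_affineOpens.exists_subset_of_mem_open (Set.mem_univ (v.base y)) isOpen_univ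
    exact TopologicalSpace.Opens.mem_iSup.mpr ⟨⟨W, hW⟩, hyW⟩
  · rintro ⟨W, hW⟩
    simp only [Scheme.IdealSheafData.ideal_mul, Scheme.IdealSheafData.ideal_bot, Pi.bot_apply,
      Pi.mul_apply]
    rw [eq_bot_iff, Ideal.mul_le]
    intro x hx y hy
    rw [Scheme.Hom.ker_apply, RingHom.mem_ker] at hx hy
    obtain ⟨x', rfl⟩ := v.app_surjective W hW x
    obtain ⟨y', rfl⟩ := v.app_surjective W hW y
    have hx' : x' ∈ (p ≫ v).ker.ideal ⟨W, hW⟩ := by
      rw [Scheme.Hom.ker_apply, RingHom.mem_ker, Scheme.Hom.comp_app]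
      exact hx
    have hy' : y' ∈ (p ≫ v).ker.ideal ⟨W, hW⟩ := by
      rw [Scheme.Hom.ker_apply, RingHom.mem_ker, Scheme.Hom.comp_app]
      exact hy
    have hxy : x' * y' ∈ ((p ≫ v).ker * (p ≫ v).ker).ideal ⟨W, hW⟩ := by
      rw [Scheme.IdealSheafData.ideal_mul]
      exact Ideal.mul_mem_mul hx' hy'
    have hxy2 : x' * y' ∈ v.ker.ideal ⟨W, hW⟩ := H _ hxy
    rw [Scheme.Hom.ker_apply, RingHom.mem_ker] at hxy2
    rw [Ideal.mem_bot, ← map_mul]
    exact hxy2

set_option backward.isDefEq.respectTransparency false in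
theorem S12456_main {X : Scheme.{u}} (U : X.Opens) (I : (U : Scheme.{u}).IdealSheafData)
    (h : I ^ 2 ≤ I) :
    OmegaSh.IsUnivThickening (I.subschemeι ≫ U.ι) (Scheme.IdealSheafData.inclusion h)
      ((I ^ 2).subschemeι ≫ U.ι) := by
  have hcomp : Scheme.IdealSheafData.inclusion h ≫ (I ^ 2).subschemeι = I.subschemeι :=
    Scheme.IdealSheafData.inclusion_subschemeι h
  haveI hcompcl : IsClosedImmersion (Scheme.IdealSheafData.inclusion h ≫ (I ^ 2).subschemeι) := by
    rw [hcomp]; infer_instance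
  haveI hcl : IsClosedImmersion (Scheme.IdealSheafData.inclusion h) :=
    IsClosedImmersion.of_comp_isClosedImmersion _ (I ^ 2).subschemeι
  have hsurj : Surjective (Scheme.IdealSheafData.inclusion h) := by
    constructor
    intro y
    have h1 : (I ^ 2).subschemeι.base y ∈ Set.range (I ^ 2).subschemeι.base := ⟨y, rfl⟩
    rw [Scheme.IdealSheafData.range_subschemeι,
      Scheme.IdealSheafData.support_pow _ 2 (by norm_num),
      ← Scheme.IdealSheafData.range_subschemeι] at h1
    obtain ⟨z, hz⟩ := h1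
    refine ⟨z, ?_⟩
    apply (I ^ 2).subschemeι.isClosedEmbedding.injective
    rw [← hz]
    have := congrArg (fun g => g.base z) hcomp
    exact this
  have hker : (Scheme.IdealSheafData.inclusion h).ker * (Scheme.IdealSheafData.inclusion h).ker
      = ⊥ := by
    apply ker_mul_ker_eq_bot_of_comp _ (I ^ 2).subschemeι
    have e1 : (Scheme.IdealSheafData.inclusion h ≫ (I ^ 2).subschemeι).ker = I := by
      rw [hcomp, Scheme.IdealSheafData.ker_subschemeι]
    rw [e1, Scheme.IdealSheafData.ker_subschemeι, pow_two]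
  refine ⟨⟨⟨hcl, hsurj⟩, hker⟩, ?_, ?_⟩
  · rw [← Category.assoc, hcomp]
  · intro T T' t b a ht hw
    obtain ⟨⟨htcl, hts⟩, htk⟩ := ht
    haveI := htcl
    have hrange : Set.range b.base ⊆ Set.range U.ι.base := by
      rintro _ ⟨y, rfl⟩
      obtain ⟨x, rfl⟩ := hts.surj y
      have h1 : b.base (t.base x) = U.ι.base (I.subschemeι.base (a.base x)) := by
        have := congrArg (fun g => g.base x) hw
        exact this
      rw [h1]
      exact ⟨_, rfl⟩
    have hb₀ : IsOpenImmersion.lift U.ι b hrange ≫ U.ι = b := IsOpenImmersion.lift_fac _ _ _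
    have hw₀ : t ≫ IsOpenImmersion.lift U.ι b hrange = a ≫ I.subschemeι := by
      rw [← cancel_mono U.ι, Category.assoc, hb₀, hw, Category.assoc]
    have hle : (I ^ 2).subschemeι.ker ≤ (IsOpenImmersion.lift U.ι b hrange).ker := by
      rw [Scheme.IdealSheafData.ker_subschemeι, pow_two]
      apply mul_le_ker_of_le_ker_comp t htk
      rw [hw₀]
      calc I = I.subschemeι.ker := (Scheme.IdealSheafData.ker_subschemeι I).symm
        _ ≤ (a ≫ I.subschemeι).ker := Scheme.Hom.le_ker_comp a I.subschemeι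
    refine ⟨IsClosedImmersion.lift (I ^ 2).subschemeι _ hle, ⟨?_, ?_⟩, ?_⟩
    · rw [← cancel_mono (I ^ 2).subschemeι, Category.assoc, IsClosedImmersion.lift_fac, hw₀,
        Category.assoc, hcomp]
    · rw [← Category.assoc, IsClosedImmersion.lift_fac, hb₀]
    · rintro a'' ⟨h1, h2⟩
      rw [← cancel_mono (I ^ 2).subschemeι, IsClosedImmersion.lift_fac, ← cancel_mono U.ι,
        Category.assoc, h2, hb₀]

end Groth.Agent.Helper7.UnivThick
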