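import Mathlib
import Groth.Prelude.Def_HTop
import Groth.Agent.Lib.Helper7.VCov10

/-! helper7: Zariski refinements of affine schemes as standard V coverings -/

set_option autoImplicit false
universe w u

namespace Groth.Agent.Helper7.VCov
open CategoryTheory CategoryTheory.Limits AlgebraicGeometry HTop

theorem isExtVal_id (V : CommRingCat.{u}) [IsDomain V] [ValuationRing V] : IsExtVal V V (𝟙 V) := by
  refine ⟨?_, ?_⟩
  · rw [CommRingCat.hom_id]
    exact Function.injective_id
  · rw [CommRingCat.hom_id]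
    infer_instance

/-- an open covering of an affine scheme is refined by a standard V covering by affine opens -/
theorem exists_standardV_affineOpens {Z : Scheme.{u}} [IsAffine Z] {A : Type*} (O : A → Z.Opens)
    (hO : ∀ z : Z, ∃ a, z ∈ O a) :
    ∃ (n : ℕ) (W : Fin n → Z.Opens) (a : Fin n → A), (∀ k, W k ≤ O (a k)) ∧
      IsStandardV (PreZeroHypercover.mk (Fin n) (fun k => ((W k : Z.Opens) : Scheme.{u}))
        (fun k => (W k).ι) : PreZeroHypercover.{0} Z) := by
  classical
  have hpt : ∀ z : Z, ∃ (a : A) (W : Z.Opens), IsAffineOpen W ∧ z ∈ W ∧ W ≤ O a := by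
    intro z
    obtain ⟨a, ha⟩ := hO z
    obtain ⟨W, hW, hzW, hWO⟩ := TopologicalSpace.Opens.isBasis_iff_nbhd.mp Z.isBasis_affineOpens ha
    exact ⟨a, W, hW, hzW, hWO⟩
  choose a W hWaff hzW hWO using hpt
  obtain ⟨t, ht⟩ := isCompact_univ.elim_finite_subcover (fun z => (W z : Set Z))
    (fun z => (W z).isOpen) (fun z _ => Set.mem_iUnion.mpr ⟨z, hzW z⟩)
  let e : Fin t.card ≃ t := t.equivFin.symm
  let pt : Fin t.card → Z := fun k => (e k : Z)
  refine ⟨t.card, fun k => W (pt k), fun k => a (pt k), fun k => hWO (pt k), inferInstance,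
    inferInstanceAs (Finite (Fin t.card)), fun k => hWaff (pt k), ?_⟩
  intro V _ _ g
  obtain ⟨z, hz, hmem⟩ : ∃ z ∈ t, g (IsLocalRing.closedPoint V) ∈ W z := by
    have := ht (Set.mem_univ (g (IsLocalRing.closedPoint V)))
    simpa using this
  obtain ⟨k, rfl⟩ : ∃ k, pt k = z := ⟨e.symm ⟨z, hz⟩, by simp [pt]⟩
  obtain ⟨g', hg'⟩ := exists_lift_of_closedPoint_mem V g (W (pt k)) hmem
  refine ⟨V, inferInstance, inferInstance, 𝟙 V, isExtVal_id V, k, g', ?_⟩
  change g' ≫ (W (pt k)).ι = Spec.map (𝟙 V) ≫ g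
  rw [hg', Spec.map_id, Category.id_comp]

end Groth.Agent.Helper7.VCov
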