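import Mathlib
import Groth.Prelude.Def_HTop
import Groth.Agent.Lib.Helper7.VCov11

/-! helper7: h coverings and coproducts -/

set_option autoImplicit false
universe w u

namespace Groth.Agent.Helper7.VCov
open CategoryTheory CategoryTheory.Limits AlgebraicGeometry HTop

theorem isVCover_singleton_sigmaDesc_of_isVCover {T : Scheme.{u}} (E : PreZeroHypercover.{u} T)
    (hV : IsVCover E) : IsVCover (PreZeroHypercover.singleton.{w} (Sigma.desc E.f)) := by
  intro U
  obtain ⟨F, hF, hFref⟩ := hV U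
  refine ⟨F, hF, fun j => ?_⟩
  obtain ⟨i, m, hm⟩ := hFref j
  refine ⟨PUnit.unit, m ≫ Sigma.ι E.X i, ?_⟩
  change (m ≫ Sigma.ι E.X i) ≫ Sigma.desc E.f = _
  rw [Category.assoc, Sigma.ι_desc, hm]

theorem isVCover_of_isVCover_singleton_sigmaDesc {T : Scheme.{u}} (E : PreZeroHypercover.{u} T)
    (hV : IsVCover (PreZeroHypercover.singleton.{w} (Sigma.desc E.f))) : IsVCover E := by
  intro U
  obtain ⟨F, hF, hFref⟩ := hV U
  have hj : ∀ j : F.I₀, ∃ m : F.X j ⟶ ∐ E.X,
      m ≫ Sigma.desc E.f = F.f j ≫ (U : T.Opens).ι := by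
    intro j
    obtain ⟨_, m, hm⟩ := hFref j
    exact ⟨m, hm⟩
  choose m hm using hj
  have hG : ∀ j, ∃ (n : ℕ) (W : Fin n → (F.X j).Opens) (a : Fin n → E.I₀),
      (∀ k, W k ≤ (m j) ⁻¹ᵁ (Sigma.ι E.X (a k)).opensRange) ∧
      IsStandardV (PreZeroHypercover.mk (Fin n) (fun k => ((W k : (F.X j).Opens) : Scheme.{u}))
        (fun k => (W k).ι) : PreZeroHypercover.{0} (F.X j)) := by
    intro j
    have := hF.isAffine_obj j
    apply exists_standardV_affineOpens (fun i : E.I₀ => (m j) ⁻¹ᵁ (Sigma.ι E.X i).opensRange)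
    intro z
    obtain ⟨i, y, hy⟩ := (sigmaOpenCover E.X).exists_eq (m j z)
    exact ⟨i, y, hy⟩
  choose n W a hWle hGstd using hG
  let G : ∀ j, PreZeroHypercover.{0} (F.X j) := fun j =>
    PreZeroHypercover.mk (Fin (n j)) (fun k => ((W j k : (F.X j).Opens) : Scheme.{u}))
      (fun k => (W j k).ι)
  refine ⟨F.bind G, isStandardV_bind F hF G hGstd, ?_⟩
  rintro ⟨j, k⟩
  let k' : Fin (n j) := k
  have hrange : Set.range ((W j k').ι ≫ m j) ⊆ Set.range (Sigma.ι E.X (a j k')) := by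
    rintro _ ⟨x, rfl⟩
    exact hWle j k' x.2
  let l : ((W j k' : (F.X j).Opens) : Scheme.{u}) ⟶ E.X (a j k') :=
    IsOpenImmersion.lift (Sigma.ι E.X (a j k')) ((W j k').ι ≫ m j) hrange
  have hl : l ≫ E.f (a j k') = ((W j k').ι ≫ F.f j) ≫ (U : T.Opens).ι := by
    rw [← Sigma.ι_desc E.f (a j k'), ← Category.assoc, IsOpenImmersion.lift_fac, Category.assoc,
      hm, Category.assoc]
  exact ⟨a j k', l, hl⟩

theorem isHCover_iff_sigmaDesc {T : Scheme.{u}} (E : PreZeroHypercover.{u} T)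
    (hE : ∀ i, LocallyOfFinitePresentation (E.f i)) :
    HTop.IsHCover E ↔ HTop.IsHCover (PreZeroHypercover.singleton.{w} (Sigma.desc E.f)) := by
  constructor
  · rintro ⟨_, hV⟩
    exact ⟨fun _ => IsZariskiLocalAtSource.sigmaDesc hE,
      isVCover_singleton_sigmaDesc_of_isVCover E hV⟩
  · rintro ⟨_, hV⟩
    exact ⟨hE, isVCover_of_isVCover_singleton_sigmaDesc E hV⟩

end Groth.Agent.Helper7.VCov
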