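import Mathlib
import Groth.Prelude.Def_HTop
import Groth.Prelude.Def_SGA1
import Groth.Agent.Lib.Helper7.VCov4
import Groth.Agent.Lib.Helper7.QuasiFlat.Closure

/-! helper7: standard V coverings are jointly submersive -/

set_option autoImplicit false
universe w u

namespace Groth.Agent.Helper7.VCov
open CategoryTheory CategoryTheory.Limits AlgebraicGeometry HTop

/-- lifting a specialization along a family with the valuation ring lifting property -/
theorem exists_specializes_lift_of_hasValLift {U : Scheme.{u}} (F : PreZeroHypercover.{w} U)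
    (hF : HasValLift F) {t' t : U} (ht : t' ⤳ t) :
    ∃ (j : F.I₀) (y' y : F.X j), y' ⤳ y ∧ F.f j y' = t' ∧ F.f j y = t := by
  obtain ⟨V, hVd, hVv, k, hk1, hk2⟩ := exists_valuationRing_of_specializes ht
  obtain ⟨W, hWd, hWv, φ, hφ, j, g', hg'⟩ := hF V k
  let η : PrimeSpectrum W := ⟨⊥, Ideal.isPrime_bot⟩
  refine ⟨j, g' η, g' (IsLocalRing.closedPoint W), ?_, ?_, ?_⟩
  · exact (IsLocalRing.specializes_closedPoint η).map g'.continuous
  · rw [← Scheme.Hom.comp_apply, hg', Scheme.Hom.comp_apply]
    have h1 : Spec.map φ η = (⟨⊥, Ideal.isPrime_bot⟩ : PrimeSpectrum V) := by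
      apply PrimeSpectrum.ext
      change Ideal.comap φ.hom ⊥ = ⊥
      exact Ideal.comap_bot_of_injective _ hφ.1
    rw [h1]
    exact hk1
  · rw [← Scheme.Hom.comp_apply, hg', Scheme.Hom.comp_apply]
    have hloc : IsLocalHom φ.hom := hφ.2
    have h1 : Spec.map φ (IsLocalRing.closedPoint W) = IsLocalRing.closedPoint V :=
      IsLocalRing.comap_closedPoint φ.hom
    rw [h1]
    exact hk2

open Groth.Agent.Helper7.ProConsLib Groth.Agent.Helper7.QuasiFlat in
/-- a standard V covering is jointly submersive -/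
theorem isClosed_of_isStandardV {U : Scheme.{u}} (F : PreZeroHypercover.{w} U)
    (hF : IsStandardV F) (T : Set U) (hT : ∀ j, IsClosed ((F.f j) ⁻¹' T)) : IsClosed T := by
  have hstab : ∀ t' t : U, t' ⤳ t → t' ∈ T → t ∈ T := by
    intro t' t ht ht'
    obtain ⟨j, y', y, hy, hy't', hyt⟩ := exists_specializes_lift_of_hasValLift F hF.lift ht
    have h1 : y' ∈ (F.f j) ⁻¹' T := by
      change F.f j y' ∈ T
      rw [hy't']; exact ht'
    have h2 : y ∈ (F.f j) ⁻¹' T := hy.mem_closed (hT j) h1
    rw [← hyt]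
    exact h2
  have hcov : T ⊆ ⋃ j, (F.f j) '' ((F.f j) ⁻¹' T) := by
    intro t ht
    obtain ⟨j, y', y, hy, hy't', hyt⟩ :=
      exists_specializes_lift_of_hasValLift F hF.lift (specializes_rfl (x := t))
    refine Set.mem_iUnion.mpr ⟨j, y, ?_, hyt⟩
    change F.f j y ∈ T
    rw [hyt]; exact ht
  have hfin : Finite F.I₀ := hF.finite_index
  rw [← closure_subset_iff_isClosed]
  intro t ht
  have h1 : t ∈ closure (⋃ j, (F.f j) '' ((F.f j) ⁻¹' T)) := closure_mono hcov ht
  rw [closure_iUnion_of_finite] at h1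
  obtain ⟨j, hj⟩ := Set.mem_iUnion.mp h1
  have hUaff : IsAffine U := hF.isAffine
  have hXaff : IsAffine (F.X j) := hF.isAffine_obj j
  have hqc : QuasiCompact (F.f j) := inferInstance
  have hpro : ProCons.IsProConstructible ((F.f j) '' ((F.f j) ⁻¹' T)) :=
    isProConstructible_image (F.f j) (isProConstructible_of_isClosed (F.X j) (hT j))
  obtain ⟨z, ⟨y, hy, rfl⟩, hz⟩ := exists_specializes_of_mem_closure_of_isProConstructible U hpro hj
  exact hstab _ t hz hy

end Groth.Agent.Helper7.VCov
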