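import Mathlib
import Groth.Prelude.Def_HTop
import Groth.Prelude.Def_SGA1
import Groth.Agent.Lib.Helper7.VCov5

/-! helper7: V coverings are universally submersive -/

set_option autoImplicit false
universe w u

namespace Groth.Agent.Helper7.VCov
open CategoryTheory CategoryTheory.Limits AlgebraicGeometry HTop

theorem univSubmersive_sigmaDesc {X : Scheme.{u}} (E : PreZeroHypercover.{u} X)
    (hE : IsVCover E) : SGA1.UnivSubmersive (Sigma.desc E.f) := by
  intro P Y' i₁ i₂ f' hP
  change Topology.IsQuotientMap _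
  rw [Topology.isQuotientMap_iff_isClosed]
  have hlift : HasValLift E := hasValLift_of_isVCover E hE
  refine ⟨?_, fun S => ⟨fun hS => hS.preimage f'.continuous, fun hS => ?_⟩⟩
  · intro t
    obtain ⟨V, hVd, hVv, k, -, hk2⟩ :=
      exists_valuationRing_of_specializes (specializes_rfl (x := t))
    obtain ⟨W, hWd, hWv, φ, hφ, i, g', hg'⟩ := hlift V (k ≫ i₂)
    let l : Spec W ⟶ P := hP.lift (Spec.map φ ≫ k) (g' ≫ Sigma.ι E.X i) (by
      rw [Category.assoc, Category.assoc, Sigma.ι_desc]; exact hg'.symm)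
    have hl : l ≫ f' = Spec.map φ ≫ k := hP.lift_fst _ _ _
    refine ⟨l (IsLocalRing.closedPoint W), ?_⟩
    rw [← Scheme.Hom.comp_apply, hl, Scheme.Hom.comp_apply]
    have hloc : IsLocalHom φ.hom := hφ.2
    have h1 : Spec.map φ (IsLocalRing.closedPoint W) = IsLocalRing.closedPoint V :=
      IsLocalRing.comap_closedPoint φ.hom
    rw [h1]
    exact hk2
  · rw [TopologicalSpace.IsOpenCover.isClosed_iff_coe_preimage (iSup_affineOpens_eq_top Y')]
    intro U'
    have hU'aff : IsAffine ((U' : Y'.Opens) : Scheme.{u}) := U'.2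
    obtain ⟨G, hG, hGref⟩ := exists_standardV_refinesOver E hE ((U' : Y'.Opens).ι ≫ i₂)
    have key : IsClosed ((U' : Y'.Opens).ι ⁻¹' S) := by
      apply isClosed_of_isStandardV G hG
      intro j
      obtain ⟨i, m, hm⟩ := hGref j
      let n : G.X j ⟶ P := hP.lift (G.f j ≫ (U' : Y'.Opens).ι) (m ≫ Sigma.ι E.X i) (by
        rw [Category.assoc, Category.assoc, Sigma.ι_desc]; exact hm.symm)
      have hn : n ≫ f' = G.f j ≫ (U' : Y'.Opens).ι := hP.lift_fst _ _ _
      have : (G.f j) ⁻¹' ((U' : Y'.Opens).ι ⁻¹' S) = n ⁻¹' (f' ⁻¹' S) := by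
        ext y
        change (U' : Y'.Opens).ι (G.f j y) ∈ S ↔ f' (n y) ∈ S
        rw [← Scheme.Hom.comp_apply, ← Scheme.Hom.comp_apply, hn]
      rw [this]
      exact hS.preimage n.continuous
    exact key

end Groth.Agent.Helper7.VCov
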