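import Mathlib
import Groth.Prelude.Def_HTop
import Groth.Agent.Lib.Helper7.VCov12

/-! helper7: sheaf criteria for the V topology: Zariski sheaf plus standard V coverings -/

set_option autoImplicit false
universe w w' w'' u

namespace Groth.Agent.Helper7.VSheaf
open CategoryTheory CategoryTheory.Limits AlgebraicGeometry HTop Opposite

/-- separatedness of a presheaf for a family of morphisms -/
def SepFor {X : Scheme.{u}} (F : Scheme.{u}ᵒᵖ ⥤ Type w) (E : PreZeroHypercover.{w'} X) : Prop :=
  ∀ t₁ t₂ : F.obj (op X), (∀ i, F.map (E.f i).op t₁ = F.map (E.f i).op t₂) → t₁ = t₂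

theorem sepFor_of_isSheafFor {X : Scheme.{u}} (F : Scheme.{u}ᵒᵖ ⥤ Type w)
    (E : PreZeroHypercover.{w'} X) (h : Presieve.IsSheafFor F E.presieve₀) : SepFor F E := by
  intro t₁ t₂ h12
  have h' : Presieve.IsSheafFor F (Presieve.ofArrows E.X E.f) := h
  rw [Presieve.isSheafFor_arrows_iff] at h'
  obtain ⟨t, _, ht⟩ := h' _ (Presieve.Arrows.toCompatible F E.f t₁).property
  rw [ht t₁ (fun i => rfl), ht t₂ (fun i => (h12 i).symm)]

/-- reindexing preserves standard V coverings -/
theorem isStandardV_reindex {T : Scheme.{u}} (E : PreZeroHypercover.{w} T) {ι : Type w'}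
    (e : ι ≃ E.I₀) (hE : IsStandardV E) : IsStandardV (E.reindex e) := by
  refine ⟨hE.isAffine, ?_, fun k => hE.isAffine_obj (e k), ?_⟩
  · have := hE.finite_index
    exact Finite.of_equiv _ e.symm
  · intro V _ _ g
    obtain ⟨W, hW1, hW2, φ, hφ, j, g', hg'⟩ := hE.lift V g
    obtain ⟨k, rfl⟩ := e.surjective j
    exact ⟨W, hW1, hW2, φ, hφ, k, g', hg'⟩

/-- a standard V covering is a V covering -/
theorem isVCover_of_isStandardV {T : Scheme.{u}} (E : PreZeroHypercover.{w} T)
    (hE : IsStandardV E) : IsVCover E := by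
  intro U
  have hUaff : IsAffine ((U : T.Opens) : Scheme.{u}) := U.2
  have hfin : Finite E.I₀ := hE.finite_index
  obtain ⟨n, ⟨e⟩⟩ := Finite.exists_equiv_fin E.I₀
  have h1 : IsStandardV (E.pullback₁ (U : T.Opens).ι) :=
    Groth.Agent.Helper7.VCov.isStandardV_pullback₁ (U : T.Opens).ι E hE
  refine ⟨(E.pullback₁ (U : T.Opens).ι).reindex e.symm, isStandardV_reindex _ _ h1, ?_⟩
  intro k
  exact ⟨e.symm k, pullback.snd (U : T.Opens).ι (E.f (e.symm k)), pullback.condition.symm⟩

/-- the sheaf property for standard V coverings indexed in the universe of the schemes gives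
it for those indexed in any universe -/
theorem isSheafFor_of_isStandardV (F : Scheme.{u}ᵒᵖ ⥤ Type w)
    (hstd : ∀ (T : Scheme.{u}) (E : PreZeroHypercover.{u} T), IsStandardV E →
      Presieve.IsSheafFor F E.presieve₀)
    {T : Scheme.{u}} (G : PreZeroHypercover.{w'} T) (hG : IsStandardV G) :
    Presieve.IsSheafFor F G.presieve₀ := by
  have hfin : Finite G.I₀ := hG.finite_index
  obtain ⟨n, ⟨e⟩⟩ := Finite.exists_equiv_fin G.I₀
  let e' : ULift.{u} (Fin n) ≃ G.I₀ := Equiv.ulift.trans e.symm
  have := hstd T (G.reindex e') (isStandardV_reindex G e' hG)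
  rwa [PreZeroHypercover.presieve₀_reindex] at this

theorem map_map {F : Scheme.{u}ᵒᵖ ⥤ Type w} {A B C : Scheme.{u}} (a : A ⟶ B) (b : B ⟶ C)
    (t : F.obj (op C)) : F.map a.op (F.map b.op t) = F.map (a ≫ b).op t := by
  rw [op_comp, Functor.map_comp_apply]

/-- a Zariski sheaf has the sheaf property for every open covering -/
theorem isSheafFor_openCover (F : Scheme.{u}ᵒᵖ ⥤ Type w)
    (hZ : Presieve.IsSheaf Scheme.zariskiTopology F) {Y : Scheme.{u}} (𝒰 : Y.OpenCover) :
    Presieve.IsSheafFor F 𝒰.toPreZeroHypercover.presieve₀ := by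
  rw [Presieve.isSheafFor_iff_generate]
  exact hZ _ 𝒰.mem_grothendieckTopology

/-- the affine open covering of a scheme -/
noncomputable abbrev affCov (Y : Scheme.{u}) : Y.OpenCover :=
  Y.openCoverOfIsOpenCover (fun U : Y.affineOpens => (U : Y.Opens)) (iSup_affineOpens_eq_top Y)

/-- a Zariski sheaf with the sheaf property for standard V coverings is separated for all
V coverings -/
theorem sepFor_of_isVCover (F : Scheme.{u}ᵒᵖ ⥤ Type w)
    (hZ : Presieve.IsSheaf Scheme.zariskiTopology F)
    (hstd : ∀ (T : Scheme.{u}) (E : PreZeroHypercover.{u} T), IsStandardV E →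
      Presieve.IsSheafFor F E.presieve₀)
    {Y : Scheme.{u}} (E : PreZeroHypercover.{w'} Y) (hE : IsVCover E) : SepFor F E := by
  intro t₁ t₂ h12
  apply sepFor_of_isSheafFor F (affCov Y).toPreZeroHypercover (isSheafFor_openCover F hZ _) t₁ t₂
  intro (U : Y.affineOpens)
  obtain ⟨G, hG, hGref⟩ := hE U
  apply sepFor_of_isSheafFor F G (isSheafFor_of_isStandardV F hstd G hG)
  intro j
  obtain ⟨i, h, hh⟩ := hGref j
  change F.map (G.f j).op (F.map (U : Y.Opens).ι.op t₁) =
    F.map (G.f j).op (F.map (U : Y.Opens).ι.op t₂)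
  rw [map_map, map_map, ← hh, ← map_map, ← map_map, h12 i]

/-- a Zariski sheaf with the sheaf property for standard V coverings has the sheaf property for
every V covering -/
theorem isSheafFor_of_isVCover (F : Scheme.{u}ᵒᵖ ⥤ Type w)
    (hZ : Presieve.IsSheaf Scheme.zariskiTopology F)
    (hstd : ∀ (T : Scheme.{u}) (E : PreZeroHypercover.{u} T), IsStandardV E →
      Presieve.IsSheafFor F E.presieve₀)
    {X : Scheme.{u}} (E : PreZeroHypercover.{w'} X) (hE : IsVCover E) :
    Presieve.IsSheafFor F E.presieve₀ := by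
  have hsepV : ∀ {Y : Scheme.{u}} (E' : PreZeroHypercover.{w'} Y), IsVCover E' → SepFor F E' :=
    fun E' hE' => sepFor_of_isVCover F hZ hstd E' hE'
  have hsepV0 : ∀ {Y : Scheme.{u}} (E' : PreZeroHypercover.{0} Y), IsVCover E' → SepFor F E' :=
    fun E' hE' => sepFor_of_isVCover F hZ hstd E' hE'
  change Presieve.IsSheafFor F (Presieve.ofArrows E.X E.f)
  rw [Presieve.isSheafFor_arrows_iff]
  intro x hx
  suffices hex : ∃ t : F.obj (op X), ∀ i, F.map (E.f i).op t = x i by
    obtain ⟨t, ht⟩ := hex
    refine ⟨t, ht, fun t' ht' => hsepV E hE t' t (fun i => by rw [ht, ht'])⟩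
  -- choose standard V coverings of the affine opens refining E
  have hE' : IsVCover E := hE
  choose G hG href using hE
  have href' : ∀ (U : X.affineOpens) (j : (G U).I₀), ∃ (i : E.I₀) (h : (G U).X j ⟶ E.X i),
      h ≫ E.f i = (G U).f j ≫ (U : X.Opens).ι := href
  choose idx hmap hcomm using href'
  -- the induced compatible families on the G U
  have hy : ∀ U : X.affineOpens, Presieve.Arrows.Compatible F (G U).f
      (fun j => F.map (hmap U j).op (x (idx U j))) := by
    intro U j j' Z gj gj' hgg
    rw [map_map, map_map]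
    apply hx
    rw [Category.assoc, Category.assoc, hcomm, hcomm, ← Category.assoc, ← Category.assoc, hgg]
  have htU : ∀ U : X.affineOpens, ∃ tU : F.obj (op ((U : X.Opens) : Scheme.{u})),
      ∀ j, F.map ((G U).f j).op tU = F.map (hmap U j).op (x (idx U j)) := by
    intro U
    have h1 : Presieve.IsSheafFor F (Presieve.ofArrows (G U).X (G U).f) :=
      isSheafFor_of_isStandardV F hstd (G U) (hG U)
    rw [Presieve.isSheafFor_arrows_iff] at h1
    obtain ⟨t, ht, -⟩ := h1 _ (hy U)
    exact ⟨t, ht⟩
  choose tU htU using htU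
  -- key compatibility between the local sections and the given family
  have claim : ∀ (U : X.affineOpens) (W : Scheme.{u}) (a : W ⟶ ((U : X.Opens) : Scheme.{u}))
      (i : E.I₀) (b : W ⟶ E.X i), a ≫ (U : X.Opens).ι = b ≫ E.f i →
      F.map a.op (tU U) = F.map b.op (x i) := by
    intro U W a i b hab
    apply hsepV0 ((G U).pullback₁ a)
      (Groth.Agent.Helper7.VCov.isVCover_pullback₁ a (G U) (isVCover_of_isStandardV _ (hG U)))
    intro (j : (G U).I₀)
    change F.map (pullback.fst a ((G U).f j)).op (F.map a.op (tU U)) =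
      F.map (pullback.fst a ((G U).f j)).op (F.map b.op (x i))
    rw [map_map, map_map, pullback.condition, ← map_map, htU, map_map]
    apply hx
    rw [Category.assoc, Category.assoc, hcomm, ← hab, ← Category.assoc, ← Category.assoc,
      pullback.condition]
  -- the local sections form a compatible family for the affine open covering
  have hcompat : Presieve.Arrows.Compatible F (affCov X).f tU := by
    intro (U : X.affineOpens) (U' : X.affineOpens) W a₀ a₀' haa'
    let a : W ⟶ ((U : X.Opens) : Scheme.{u}) := a₀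
    let a' : W ⟶ ((U' : X.Opens) : Scheme.{u}) := a₀'
    have haa'' : a ≫ (U : X.Opens).ι = a' ≫ (U' : X.Opens).ι := haa'
    change F.map a.op (tU U) = F.map a'.op (tU U')
    apply hsepV (E.pullback₁ (a ≫ (U : X.Opens).ι))
      (Groth.Agent.Helper7.VCov.isVCover_pullback₁ _ E hE')
    intro (i : E.I₀)
    change F.map (pullback.fst (a ≫ (U : X.Opens).ι) (E.f i)).op (F.map a.op (tU U)) =
      F.map (pullback.fst (a ≫ (U : X.Opens).ι) (E.f i)).op (F.map a'.op (tU U'))
    rw [map_map, map_map]
    rw [claim U _ (pullback.fst (a ≫ (U : X.Opens).ι) (E.f i) ≫ a) i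
      (pullback.snd (a ≫ (U : X.Opens).ι) (E.f i))
      (by rw [Category.assoc]; exact pullback.condition)]
    rw [claim U' _ (pullback.fst (a ≫ (U : X.Opens).ι) (E.f i) ≫ a') i
      (pullback.snd (a ≫ (U : X.Opens).ι) (E.f i))
      (by rw [Category.assoc, ← haa'']; exact pullback.condition)]
  have hZc : Presieve.IsSheafFor F (Presieve.ofArrows (affCov X).X (affCov X).f) :=
    isSheafFor_openCover F hZ (affCov X)
  rw [Presieve.isSheafFor_arrows_iff] at hZc
  obtain ⟨t, ht, -⟩ := hZc tU hcompat
  refine ⟨t, fun i => ?_⟩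
  -- check on the open covering of E.X i pulled back from the affine open covering
  apply sepFor_of_isSheafFor F ((affCov X).pullback₁ (E.f i)).toPreZeroHypercover
    (isSheafFor_openCover F hZ _)
  intro (U : X.affineOpens)
  change F.map (pullback.fst (E.f i) (U : X.Opens).ι).op (F.map (E.f i).op t) =
    F.map (pullback.fst (E.f i) (U : X.Opens).ι).op (x i)
  rw [map_map, pullback.condition, ← map_map]
  have htU' : F.map (U : X.Opens).ι.op t = tU U := ht U
  rw [htU']
  exact claim U _ (pullback.snd (E.f i) (U : X.Opens).ι) i (pullback.fst (E.f i) (U : X.Opens).ι)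
    pullback.condition.symm

/-- for a Zariski sheaf the sheaf property for one-member standard V coverings gives it for all
standard V coverings -/
theorem isSheafFor_of_singleton (F : Scheme.{u}ᵒᵖ ⥤ Type w)
    (hZ : Presieve.IsSheaf Scheme.zariskiTopology F)
    (hstd1 : ∀ (U V : Scheme.{u}) (f : V ⟶ U),
      IsStandardV (PreZeroHypercover.singleton.{w''} f) →
        Presieve.IsSheafFor F (Presieve.singleton f))
    (T : Scheme.{u}) (E : PreZeroHypercover.{u} T) (hE : IsStandardV E) :
    Presieve.IsSheafFor F E.presieve₀ := by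
  have hfin : Finite E.I₀ := hE.finite_index
  have haff : ∀ j, IsAffine (E.X j) := hE.isAffine_obj
  have : PreservesLimitsOfShape (Discrete (E.I₀ × E.I₀)) F :=
    preservesLimitsOfShape_discrete_of_isSheaf_zariskiTopology hZ
  have : PreservesLimitsOfShape (Discrete E.I₀) F :=
    preservesLimitsOfShape_discrete_of_isSheaf_zariskiTopology hZ
  change Presieve.IsSheafFor F (Presieve.ofArrows E.X E.f)
  rw [← Presieve.isSheafFor_sigmaDesc_iff E.f (coproductIsCoproduct _)
    (FinitaryExtensive.isVanKampen_finiteCoproducts (coproductIsCoproduct _)).isUniversal]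
  apply hstd1
  refine ⟨hE.isAffine, inferInstanceAs (Finite PUnit), fun _ => ?_, ?_⟩
  · exact inferInstanceAs (IsAffine (∐ E.X))
  · intro V _ _ g
    obtain ⟨W, hW1, hW2, φ, hφ, j, g', hg'⟩ := hE.lift V g
    refine ⟨W, hW1, hW2, φ, hφ, PUnit.unit, g' ≫ Sigma.ι E.X j, ?_⟩
    change (g' ≫ Sigma.ι E.X j) ≫ Cofan.IsColimit.desc (coproductIsCoproduct E.X) E.f = _
    rw [Category.assoc]
    have : Sigma.ι E.X j ≫ Cofan.IsColimit.desc (coproductIsCoproduct E.X) E.f = E.f j :=
      Cofan.IsColimit.fac (coproductIsCoproduct E.X) E.f j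
    rw [this]
    exact hg'

end Groth.Agent.Helper7.VSheaf
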