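import Mathlib
import Groth.Agent.Lib.Helper7.AWN3
import Groth.Agent.Lib.Helper7.UHSub

/-! helper7: the largest subalgebra of an integral extension whose spectrum maps by a universal
homeomorphism is the equalizer of the two maps to the reduced tensor square. -/

namespace Groth.Agent.Helper7.WSub
open AlgebraicGeometry CategoryTheory TensorProduct
open Groth.Agent.Helper7.FPColim Groth.Agent.Helper7.AWN Groth.Agent.Helper7.UHSub
universe u

section ws
variable (A B : Type u) [CommRing A] [CommRing B] [Algebra A B]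

/-- the two maps to the reduction of the tensor square -/
noncomputable def fL : B →ₐ[A] (B ⊗[A] B) ⧸ nilradical (B ⊗[A] B) :=
  (Ideal.Quotient.mkₐ A (nilradical (B ⊗[A] B))).comp Algebra.TensorProduct.includeLeft

noncomputable def fR : B →ₐ[A] (B ⊗[A] B) ⧸ nilradical (B ⊗[A] B) :=
  (Ideal.Quotient.mkₐ A (nilradical (B ⊗[A] B))).comp Algebra.TensorProduct.includeRight

/-- the equalizer -/
noncomputable def E : Subalgebra A B := AlgHom.equalizer (fL A B) (fR A B)

lemma mem_E (b : B) : b ∈ E A B ↔ IsNilpotent (b ⊗ₜ[A] (1 : B) - (1 : B) ⊗ₜ[A] b) := by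
  unfold E
  rw [AlgHom.mem_equalizer]
  show Ideal.Quotient.mk _ (b ⊗ₜ[A] (1 : B)) = Ideal.Quotient.mk _ ((1 : B) ⊗ₜ[A] b) ↔ _
  rw [Ideal.Quotient.eq, mem_nilradical]

variable {A B}

/-- a universal homeomorphism subalgebra lies in the equalizer -/
theorem le_E (C : Subalgebra A B) (hC : Crit (algebraMap A C)) : C ≤ E A B := by
  intro c hc
  rw [mem_E]
  let z : C ⊗[A] C := (⟨c, hc⟩ : C) ⊗ₜ[A] (1 : C) - (1 : C) ⊗ₜ[A] (⟨c, hc⟩ : C)
  have hz : IsNilpotent z := by
    rw [← mem_nilradical, nilradical_eq_sInf, Ideal.mem_sInf]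
    intro P hP
    have : P.IsPrime := hP
    obtain ⟨K, _, _, j, hj⟩ := exists_algClosed_point P
    rw [← hj, RingHom.mem_ker]
    have h1 : (j.comp (Algebra.TensorProduct.includeLeft : C →ₐ[A] C ⊗[A] C).toRingHom) =
        (j.comp (Algebra.TensorProduct.includeRight : C →ₐ[A] C ⊗[A] C).toRingHom) := by
      apply hC.2
      ext a
      show j ((algebraMap A C a) ⊗ₜ[A] (1 : C)) = j ((1 : C) ⊗ₜ[A] (algebraMap A C a))
      rw [Algebra.algebraMap_eq_smul_one, TensorProduct.smul_tmul]
    have h2 := congrArg (fun k => k (⟨c, hc⟩ : C)) h1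
    show j z = 0
    rw [map_sub, sub_eq_zero]
    exact h2
  have := hz.map (Algebra.TensorProduct.map C.val C.val)
  simpa [z] using this

/-- the equalizer is a universal homeomorphism subalgebra -/
theorem crit_E [Algebra.IsIntegral A B] : Crit (algebraMap A (E A B)) := by
  constructor
  · intro e
    have h1 : IsIntegral A (e : B) := Algebra.IsIntegral.isIntegral _
    exact (isIntegral_algHom_iff (E A B).val Subtype.val_injective).mp h1
  · intro K _ ψ₁ ψ₂ h
    let K' := AlgebraicClosure K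
    let ι : K →+* K' := algebraMap K K'
    have hint : (E A B).val.toRingHom.IsIntegral := by
      intro b
      have h1 : IsIntegral A b := Algebra.IsIntegral.isIntegral _
      exact h1.tower_top
    -- extensions to `B`
    have hext : ∀ ψ : E A B →+* K, ∃ θ : B →+* K', θ.comp (E A B).val.toRingHom = ι.comp ψ := by
      intro ψ
      have hker : (RingHom.ker (ι.comp ψ)).IsPrime := RingHom.ker_isPrime _
      have : Algebra.IsIntegral (E A B) B := ⟨hint⟩
      obtain ⟨Q, -, hQ1, hQ2⟩ := Ideal.exists_ideal_over_prime_of_isIntegral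
        (S := B) (RingHom.ker (ι.comp ψ)) ⊥ (by
          intro x hx
          have hx' : ((x : E A B) : B) = 0 := hx
          have : x = 0 := Subtype.ext hx'
          rw [this]
          exact zero_mem _)
      exact exists_extension (E A B).val.toRingHom hint (ι.comp ψ) Q hQ2.symm
    obtain ⟨θ₁, hθ₁⟩ := hext ψ₁
    obtain ⟨θ₂, hθ₂⟩ := hext ψ₂
    have hθ : θ₁.comp (algebraMap A B) = θ₂.comp (algebraMap A B) := by
      have e1 : θ₁.comp (algebraMap A B) = (ι.comp ψ₁).comp (algebraMap A (E A B)) := by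
        rw [← hθ₁]; rfl
      have e2 : θ₂.comp (algebraMap A B) = (ι.comp ψ₂).comp (algebraMap A (E A B)) := by
        rw [← hθ₂]; rfl
      rw [e1, e2, RingHom.comp_assoc, RingHom.comp_assoc, h]
    let _ : Algebra A K' := (θ₁.comp (algebraMap A B)).toAlgebra
    let Θ₁ : B →ₐ[A] K' := { θ₁ with commutes' := fun a => rfl }
    let Θ₂ : B →ₐ[A] K' := { θ₂ with commutes' := fun a => (congrArg (fun k => k a) hθ).symm }
    let Θ : B ⊗[A] B →ₐ[A] K' := Algebra.TensorProduct.productMap Θ₁ Θ₂
    ext e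
    have hnil : IsNilpotent ((e : B) ⊗ₜ[A] (1 : B) - (1 : B) ⊗ₜ[A] (e : B)) := (mem_E A B e).mp e.2
    have h0 : Θ ((e : B) ⊗ₜ[A] (1 : B) - (1 : B) ⊗ₜ[A] (e : B)) = 0 := (hnil.map Θ).eq_zero
    rw [map_sub, Algebra.TensorProduct.productMap_apply_tmul,
      Algebra.TensorProduct.productMap_apply_tmul, map_one, map_one, mul_one, one_mul,
      sub_eq_zero] at h0
    have h1 : ι (ψ₁ e) = ι (ψ₂ e) := by
      have e1 := congrArg (fun k => k e) hθ₁
      have e2 := congrArg (fun k => k e) hθ₂
      exact e1.symm.trans (h0.trans e2)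
    exact ι.injective h1

theorem main13837 (hinj : Function.Injective (algebraMap A B)) [Algebra.IsIntegral A B] :
    ∃ E : Subalgebra A B, (∀ b : B, b ∈ E ↔ IsNilpotent (b ⊗ₜ[A] (1 : B) - (1 : B) ⊗ₜ[A] b)) ∧
      FlatMor.IsUnivHomeo (Spec.map (CommRingCat.ofHom (algebraMap A E))) ∧
      ∀ C : Subalgebra A B, FlatMor.IsUnivHomeo (Spec.map (CommRingCat.ofHom (algebraMap A C))) →
        C ≤ E := by
  refine ⟨E A B, mem_E A B, ?_, ?_⟩
  · rw [uh_iff_crit]
    refine ⟨crit_E, ?_⟩
    rw [ker_sub, (RingHom.injective_iff_ker_eq_bot _).mp hinj]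
    exact bot_le
  · intro C hC
    exact le_E C ((uh_iff_crit _).mp hC).1

end ws

end Groth.Agent.Helper7.WSub
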